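import Mathlib
import Cfsg.Prelude.Def_OddOrderLocal
import Cfsg.Agent.Lib.helper65.Fitting
import Cfsg.Agent.Lib.helper54.UniqA
import Cfsg.Agent.Lib.helper26.PRank
import Cfsg.Agent.Lib.helper30.RankTwoB
import Cfsg.Agent.Lib.helper30.NarrowIso
import Cfsg.Agent.S1242
import Cfsg.Agent.S1451

/-!
Bender–Glauberman, Section 10 (first part): `α(M) ⊆ σ(M)`, `M_α` is a Hall subgroup (Theorem 10.2).
The uniqueness theorem (B-G 9.6) and the fusion lemma (B-G 10.1) enter as hypotheses
`BGUniqHyp`, `BGFusHyp`.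
-/

set_option autoImplicit false
open Cfsg

namespace Cfsg.Agent.Lib.helper8

/-- The Uniqueness Theorem (B-G 9.6), as a hypothesis. -/
def BGUniqHyp (G : Type*) [Group G] : Prop :=
  ∀ K : Subgroup G, K ≠ ⊤ → ¬ RankLE 1 K →
    (¬ RankLE 2 K ∨ ¬ RankLE 2 (Subgroup.centralizer (K : Set G))) → InUniqueMaximal K

/-- The fusion lemma for `σ(M)`-subgroups (B-G 10.1(a)), as a hypothesis. -/
def BGFusHyp (G : Type*) [Group G] : Prop :=
  ∀ M : Subgroup G, IsCoatom M → ∀ p : ℕ, p ∈ sigma M → ∀ X : Subgroup G, IsPGroup p X → X ≠ ⊥ →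
    X ≤ M → ∀ g : G, X.map (MulAut.conj g).toMonoidHom ≤ M →
      ∃ m ∈ M, ∃ c ∈ Subgroup.centralizer (X : Set G), g = m * c

section general

variable {X : Type*} [Group X]

/-- a nilpotent normal subgroup of order divisible by `q` gives a nontrivial normal `q`-subgroup -/
theorem bg_exists_normal_pgroup [Finite X] (Y : Subgroup X) [Y.Normal] (hY : Group.IsNilpotent Y)
    (q : ℕ) [Fact q.Prime] (hq : q ∣ Nat.card Y) :
    ∃ K : Subgroup X, K.Normal ∧ IsPGroup q K ∧ K ≠ ⊥ := by
  obtain ⟨S⟩ : Nonempty (Sylow q Y) := inferInstance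
  have htfae : Group.IsNilpotent Y ↔ ∀ (p : ℕ) (_hp : Fact p.Prime) (P : Sylow p Y),
      (↑P : Subgroup Y).Normal := (Group.isNilpotent_of_finite_tfae (G := Y)).out 0 3
  have hSn : (S : Subgroup Y).Normal := htfae.mp hY q inferInstance S
  have hSc : (S : Subgroup Y).Characteristic := Sylow.characteristic_of_normal S hSn
  refine ⟨(S : Subgroup Y).map Y.subtype, ConjAct.normal_of_characteristic_of_normal,
    S.isPGroup'.map _, ?_⟩
  intro h
  have h1 : (S : Subgroup Y) = ⊥ := by
    rw [eq_bot_iff]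
    intro y hy
    have : (Y.subtype y) ∈ (S : Subgroup Y).map Y.subtype := ⟨y, hy, rfl⟩
    rw [h, Subgroup.mem_bot] at this
    rw [Subgroup.mem_bot]
    exact Y.subtype_injective (by simpa using this)
  exact S.ne_bot_of_dvd_card hq h1

/-- if `X` is generated by its `p'`-elements and commutators, no abelian quotient has order
divisible by `p` -/
theorem bg_not_dvd_index_of_comm [Finite X] {p : ℕ} [Fact p.Prime]
    (h : Cfsg.pResidual p X ⊔ commutator X = ⊤) (N : Subgroup X) [N.Normal]
    (hN : commutator X ≤ N) : ¬ p ∣ N.index := by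
  intro hdvd
  have hp : p.Prime := Fact.out
  have hcard : Nat.card (X ⧸ N) ≠ 0 := Nat.card_pos.ne'
  obtain ⟨e, m, hm, hcm⟩ := Nat.exists_eq_pow_mul_and_not_dvd hcard p hp.ne_one
  have hcomm : ∀ a b : X ⧸ N, Commute a b := by
    intro a b
    induction a using QuotientGroup.induction_on with
    | H x =>
      induction b using QuotientGroup.induction_on with
      | H y =>
        show (x : X ⧸ N) * (y : X ⧸ N) = (y : X ⧸ N) * (x : X ⧸ N)
        rw [← QuotientGroup.mk_mul, ← QuotientGroup.mk_mul, QuotientGroup.eq]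
        apply hN
        have hc := Subgroup.commutator_mem_commutator (Subgroup.mem_top y⁻¹) (Subgroup.mem_top x⁻¹)
        rw [commutatorElement_def, ← commutator_def] at hc
        have he : (x * y)⁻¹ * (y * x) = y⁻¹ * x⁻¹ * y⁻¹⁻¹ * x⁻¹⁻¹ := by
          simp [mul_assoc]
        rw [he]
        exact hc
  let T : Subgroup X :=
    { carrier := {x | ((x : X ⧸ N)) ^ m = 1}
      mul_mem' := by
        intro a b ha hb
        simp only [Set.mem_ofPred_eq] at ha hb ⊢
        rw [QuotientGroup.mk_mul, (hcomm _ _).mul_pow, ha, hb, one_mul]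
      one_mem' := by simp
      inv_mem' := by
        intro a ha
        simp only [Set.mem_ofPred_eq] at ha ⊢
        rw [QuotientGroup.mk_inv, inv_pow, ha, inv_one] }
  have h1 : Cfsg.pResidual p X ≤ T := by
    unfold Cfsg.pResidual
    rw [Subgroup.closure_le]
    intro g hg
    show ((g : X ⧸ N)) ^ m = 1
    have ho : orderOf (g : X ⧸ N) ∣ orderOf g := by
      apply orderOf_dvd_of_pow_eq_one
      rw [← QuotientGroup.mk_pow, pow_orderOf_eq_one]
      rfl
    have hco : (orderOf (g : X ⧸ N)).Coprime p := Nat.Coprime.coprime_dvd_left ho hg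
    have hd : orderOf (g : X ⧸ N) ∣ p ^ e * m := by
      rw [← hcm]
      exact orderOf_dvd_natCard _
    have hd2 : orderOf (g : X ⧸ N) ∣ m :=
      (Nat.Coprime.pow_right e hco).dvd_of_dvd_mul_left hd
    exact orderOf_dvd_iff_pow_eq_one.mp hd2
  have h2 : commutator X ≤ T := by
    intro x hx
    show ((x : X ⧸ N)) ^ m = 1
    rw [(QuotientGroup.eq_one_iff x).mpr (hN hx), one_pow]
  have h3 : ∀ x : X, ((x : X ⧸ N)) ^ m = 1 := by
    intro x
    have : x ∈ T := (sup_le h1 h2) (h ▸ Subgroup.mem_top x)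
    exact this
  rw [Subgroup.index_eq_card] at hdvd
  obtain ⟨y, hy⟩ := exists_prime_orderOf_dvd_card' (G := X ⧸ N) p hdvd
  induction y using QuotientGroup.induction_on with
  | H x =>
    have := orderOf_dvd_of_pow_eq_one (h3 x)
    rw [hy] at this
    exact hm this

end general

section minsimple

variable {G : Type*} [Group G]

theorem bg_normalizer_le_of_uniq [Finite G] (hG : IsMinSimpleOddOrder G) {K M : Subgroup G}
    (hM : IsCoatom M) (hKM : K ≤ M) (hK1 : K ≠ ⊥) (hU : InUniqueMaximal K) :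
    Subgroup.normalizer (K : Set G) ≤ M := by
  obtain ⟨-, hsimple, -, -⟩ := id hG
  have := hsimple
  have hNtop : Subgroup.normalizer (K : Set G) ≠ ⊤ := by
    intro h
    have hKn : K.Normal := Subgroup.normalizer_eq_top_iff.mp h
    rcases hKn.eq_bot_or_eq_top with h1 | h1
    · exact hK1 h1
    · exact hM.1 (top_le_iff.mp (h1 ▸ hKM))
  obtain ⟨L, hL, hNL⟩ := (eq_top_or_exists_le_coatom (Subgroup.normalizer (K : Set G))).resolve_left hNtop
  have hKL : K ≤ L := Subgroup.le_normalizer.trans hNL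
  have : L = M := hU.unique ⟨hL, hKL⟩ ⟨hM, hKM⟩
  exact this ▸ hNL

/-- B-G 10.1: for `p ∈ α(M)`, the normalizer of a Sylow `p`-subgroup of `M` lies in `M`. -/
theorem bg_alpha_norm [Finite G] (hG : IsMinSimpleOddOrder G) (hU : BGUniqHyp G) (M : Subgroup G)
    (hM : IsCoatom M) {p : ℕ} [Fact p.Prime] (hp : p ∈ alpha M) (P : Sylow p M) :
    Subgroup.normalizer ((((P : Subgroup M).map M.subtype : Subgroup G)) : Set G) ≤ M := by
  have hpp : p.Prime := Fact.out
  set K : Subgroup G := (P : Subgroup M).map M.subtype with hK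
  have hKM : K ≤ M := Subgroup.map_subtype_le _
  have hr2 : ¬ PRankLE p 2 K := by
    intro h
    apply hp.2
    apply Cfsg.Agent.Lib.helper30.prankLE_of_sylow p 2 P
    exact (Cfsg.Agent.Lib.helper26.prankLE_map_iff M.subtype M.subtype_injective
      (P : Subgroup M)).mp h
  have hr1 : ¬ PRankLE p 1 K := by
    intro h
    apply hr2
    intro A hA hexp
    exact (h A hA hexp).trans (Nat.pow_le_pow_right hpp.pos (by norm_num))
  have hK1 : K ≠ ⊥ := by
    intro h
    apply hr2
    intro A _ _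
    have : Nat.card A = 1 := by
      have : Subsingleton K := by
        rw [h]; infer_instance
      have : Subsingleton A := by
        constructor
        intro a b
        exact Subtype.ext (Subsingleton.elim _ _)
      exact Nat.card_unique
    rw [this]
    exact Nat.one_le_pow _ _ hpp.pos
  have hKtop : K ≠ ⊤ := by
    intro h
    exact hM.1 (top_le_iff.mp (h ▸ hKM))
  have hUK : InUniqueMaximal K :=
    hU K hKtop (fun h => hr1 (h p hpp)) (Or.inl (fun h => hr2 (h p hpp)))
  exact bg_normalizer_le_of_uniq hG hM hKM hK1 hUK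

theorem bg_dvd_card_of_alpha [Finite G] (M : Subgroup G) {p : ℕ} (hp : p ∈ alpha M) :
    p ∣ Nat.card M := by
  have hpp := hp.1
  have h := hp.2
  unfold PRankLE at h
  push Not at h
  obtain ⟨A, -, hexp, hcard⟩ := h
  have hne : ∃ a ∈ A, a ≠ 1 := by
    by_contra hcon
    push Not at hcon
    have : A = ⊥ := by
      rw [eq_bot_iff]
      intro a ha
      exact Subgroup.mem_bot.mpr (hcon a ha)
    rw [this, Subgroup.card_bot] at hcard
    have := Nat.one_le_pow 2 p hpp.pos
    omega
  obtain ⟨a, ha, ha1⟩ := hne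
  have : Fact p.Prime := ⟨hpp⟩
  have : orderOf a = p := orderOf_eq_prime (hexp a ha) ha1
  rw [← this]
  exact orderOf_dvd_natCard a

/-- `α(M) ⊆ σ(M)` -/
theorem bg_alpha_sub_sigma [Finite G] (hG : IsMinSimpleOddOrder G) (hU : BGUniqHyp G)
    (M : Subgroup G) (hM : IsCoatom M) {p : ℕ} (hp : p ∈ alpha M) : p ∈ sigma M := by
  have : Fact p.Prime := ⟨hp.1⟩
  obtain ⟨P⟩ : Nonempty (Sylow p M) := inferInstance
  exact ⟨hp.1, bg_dvd_card_of_alpha M hp, P, bg_alpha_norm hG hU M hM hp P⟩

/-- for `p ∈ σ(M)`, `p` does not divide the index of `M` -/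
theorem bg_sigma_not_dvd_index [Finite G] (M : Subgroup G) {p : ℕ} (hp : p ∈ sigma M) :
    ¬ p ∣ M.index := by
  have : Fact p.Prime := ⟨hp.1⟩
  obtain ⟨-, -, P, hN⟩ := hp
  have hmax := Cfsg.Agent.Lib.helper54.ua_sylow_max M P hN
  have hidx := Cfsg.Agent.Lib.helper54.ua_not_dvd_index_of_max (P.isPGroup'.map M.subtype) hmax
  intro h
  exact hidx (h.trans (Subgroup.index_dvd_of_le (Subgroup.map_subtype_le _)))

/-- B-G 10.2(d)-type: for `p ∈ σ(M)`, `M` is generated by its `p'`-elements and commutators. -/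
theorem bg_sigma_residual [Finite G] (hG : IsMinSimpleOddOrder G) (hF : BGFusHyp G)
    (M : Subgroup G) (hM : IsCoatom M) {p : ℕ} (hp : p ∈ sigma M) :
    Cfsg.pResidual p ↥M ⊔ commutator ↥M = ⊤ := by
  have : Fact p.Prime := ⟨hp.1⟩
  have hpp : p.Prime := hp.1
  obtain ⟨-, hsimple, hna, -⟩ := id hG
  have := hsimple
  have hperf : commutator G = ⊤ := by
    have hn : (commutator G).Normal := inferInstance
    rcases hn.eq_bot_or_eq_top with h | h
    · exfalso
      apply hna
      rw [isMulCommutative_iff]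
      intro a b
      have hc := Subgroup.commutator_mem_commutator (Subgroup.mem_top a) (Subgroup.mem_top b)
      rw [commutatorElement_def, ← commutator_def, h, Subgroup.mem_bot] at hc
      exact mul_inv_eq_iff_eq_mul.mp (mul_inv_eq_one.mp hc)
    · exact h
  have hidx : Nat.Coprime p M.index :=
    (Nat.Prime.coprime_iff_not_dvd hpp).mpr (bg_sigma_not_dvd_index M hp)
  have hfus : ∀ g ∈ M, (∃ k : ℕ, orderOf g = p ^ k) → ∀ a : G, a * g * a⁻¹ ∈ M →
      ∃ h ∈ M, h * g * h⁻¹ = a * g * a⁻¹ := by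
    intro g hg ⟨k, hk⟩ a ha
    by_cases hg1 : g = 1
    · exact ⟨1, M.one_mem, by simp [hg1]⟩
    have hXp : IsPGroup p (Subgroup.zpowers g) := by
      apply IsPGroup.of_card (n := k)
      rw [Nat.card_zpowers, hk]
    have hX1 : Subgroup.zpowers g ≠ ⊥ := by
      rw [Ne, Subgroup.zpowers_eq_bot]
      exact hg1
    have hXM : Subgroup.zpowers g ≤ M := (Subgroup.zpowers_le).mpr hg
    have hmap : (Subgroup.zpowers g).map (MulAut.conj a).toMonoidHom ≤ M := by
      rw [MonoidHom.map_zpowers, Subgroup.zpowers_le]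
      simpa using ha
    obtain ⟨m, hm, c, hc, rfl⟩ := hF M hM p hp _ hXp hX1 hXM a hmap
    refine ⟨m, hm, ?_⟩
    have hcg : g * c = c * g := Subgroup.mem_centralizer_iff.mp hc g (Subgroup.mem_zpowers g)
    have : c * g * c⁻¹ = g := by rw [← hcg, mul_inv_cancel_right]
    calc m * g * m⁻¹ = m * (c * g * c⁻¹) * m⁻¹ := by rw [this]
      _ = m * c * g * (m * c)⁻¹ := by simp [mul_assoc]
  have key := Cfsg.Agent.S1242.result M hidx hfus
  rw [hperf, sup_top_eq, top_inf_eq] at key
  rw [eq_top_iff]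
  intro x _
  have hx : (x : G) ∈ Subgroup.map M.subtype (Cfsg.pResidual p ↥M ⊔ commutator ↥M) := by
    rw [← key]; exact x.2
  obtain ⟨y, hy, hyx⟩ := hx
  have : y = x := Subtype.ext hyx
  exact this ▸ hy

end minsimple

end Cfsg.Agent.Lib.helper8
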