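import Mathlib
import Cfsg.Agent.Lib.helper8.BGTen1

/-!
Bender–Glauberman Theorem 10.2 (the `α`-part): `M_α` is a Hall `α(M)`-subgroup of `M`,
`M / M_α` has rank at most two and nilpotent derived subgroup.
-/

set_option autoImplicit false
open Cfsg

namespace Cfsg.Agent.Lib.helper8

theorem bg_prankLE_of_not_dvd {X : Type*} [Group X] [Finite X] {q k : ℕ} (hq : q.Prime)
    (h : ¬ q ∣ Nat.card X) : PRankLE q k X := by
  intro A _ hexp
  have : Fact q.Prime := ⟨hq⟩
  have hA : IsPGroup q A := by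
    intro a
    refine ⟨1, ?_⟩
    rw [pow_one]
    exact Subtype.ext (by simpa using hexp a a.2)
  obtain ⟨n, hn⟩ := IsPGroup.iff_card.mp hA
  have hn0 : n = 0 := by
    by_contra h0
    apply h
    have : q ∣ Nat.card A := by rw [hn]; exact dvd_pow_self q h0
    exact this.trans (Subgroup.card_subgroup_dvd_card A)
  rw [hn, hn0, pow_zero]
  exact Nat.one_le_pow _ _ hq.pos

/-- a normal `q`-subgroup of `X ⧸ O_π(X)` is trivial when `q ∈ π` -/
theorem bg_quot_piCore_pgroup_trivial {X : Type*} [Group X] [Finite X] (π : Set ℕ) {q : ℕ}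
    (hq : q ∈ π) (hqp : q.Prime) (K : Subgroup (X ⧸ piCore π X)) [K.Normal] (hK : IsPGroup q K) :
    K = ⊥ := by
  have : Fact q.Prime := ⟨hqp⟩
  set N := piCore π X with hN
  set L : Subgroup X := K.comap (QuotientGroup.mk' N) with hL
  have hLn : L.Normal := Subgroup.normal_comap _
  have hcard : Nat.card L = Nat.card K * Nat.card N := by
    have h1 : L.index = K.index :=
      Subgroup.index_comap_of_surjective K (QuotientGroup.mk'_surjective N)
    have h2 : L.index * Nat.card L = Nat.card X := Subgroup.index_mul_card L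
    have h3 : K.index * Nat.card K = Nat.card (X ⧸ N) := Subgroup.index_mul_card K
    have h4 : Nat.card X = Nat.card (X ⧸ N) * Nat.card N :=
      Subgroup.card_eq_card_quotient_mul_card_subgroup N
    have h5 : K.index ≠ 0 := Subgroup.index_ne_zero_of_finite
    have h6 : K.index * Nat.card L = K.index * (Nat.card K * Nat.card N) := by
      rw [← h1, h2, h4, ← h3, h1, mul_assoc]
    exact Nat.eq_of_mul_eq_mul_left (Nat.pos_of_ne_zero h5) h6
  have hLπ : ∀ p : ℕ, p.Prime → p ∣ Nat.card L → p ∈ π := by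
    intro p hp hdvd
    rw [hcard] at hdvd
    rcases (Nat.Prime.dvd_mul hp).mp hdvd with h | h
    · obtain ⟨n, hn⟩ := IsPGroup.iff_card.mp hK
      rw [hn] at h
      have := (Nat.prime_dvd_prime_iff_eq hp hqp).mp (hp.dvd_of_dvd_pow h)
      exact this ▸ hq
    · exact Cfsg.Agent.Lib.helper65.piCore_isPiGrp π p hp h
  have hLN : L ≤ N := le_sSup ⟨hLn, hLπ⟩
  rw [eq_bot_iff]
  intro y hy
  induction y using QuotientGroup.induction_on with
  | H x =>
    have hx : x ∈ L := hy
    rw [Subgroup.mem_bot]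
    exact (QuotientGroup.eq_one_iff x).mpr (hLN hx)

variable {G : Type*} [Group G]

theorem bg_alpha_core_main [Finite G] (hG : IsMinSimpleOddOrder G) (hU : BGUniqHyp G)
    (hF : BGFusHyp G) (M : Subgroup G) (hM : IsCoatom M) :
    (∀ p : ℕ, p ∈ alpha M → ¬ p ∣ (piCore (alpha M) ↥M).index) ∧
      RankLE 2 (↥M ⧸ piCore (alpha M) ↥M) ∧
      Group.IsNilpotent ↥(commutator (↥M ⧸ piCore (alpha M) ↥M)) := by
  obtain ⟨hodd, hsimple, hna, hsolv⟩ := id hG
  have : Group.IsSolvable M := hsolv M hM.1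
  have hNπ := Cfsg.Agent.Lib.helper65.piCore_isPiGrp (G := M) (alpha M)
  have hrank_out : ∀ q : ℕ, q.Prime → q ∉ alpha M →
      PRankLE q 2 (↥M ⧸ piCore (alpha M) ↥M) := by
    intro q hq hqπ
    have : Fact q.Prime := ⟨hq⟩
    have hr : PRankLE q 2 M := by
      by_contra h
      exact hqπ ⟨hq, h⟩
    have hco : (Nat.card (piCore (alpha M) ↥M)).Coprime q := by
      rw [Nat.coprime_comm, Nat.Prime.coprime_iff_not_dvd hq]
      intro h
      exact hqπ (hNπ q hq h)
    exact Cfsg.Agent.Lib.helper30.prankLE_quotient q 2 (piCore (alpha M) ↥M) hco hr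
  have htriv : ∀ q : ℕ, q ∈ alpha M → ∀ K : Subgroup (↥M ⧸ piCore (alpha M) ↥M), K.Normal →
      IsPGroup q K → K = ⊥ := by
    intro q hq K hKn hKp
    exact bg_quot_piCore_pgroup_trivial (alpha M) hq hq.1 K hKp
  have hFrank : RankLE 2 ↥(fittingSubgroup (↥M ⧸ piCore (alpha M) ↥M)) := by
    intro q hq
    by_cases hqπ : q ∈ alpha M
    · have : Fact q.Prime := ⟨hq⟩
      apply bg_prankLE_of_not_dvd hq
      intro hd
      obtain ⟨K, hKn, hKp, hK1⟩ := bg_exists_normal_pgroup
        (fittingSubgroup (↥M ⧸ piCore (alpha M) ↥M))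
        Cfsg.Agent.Lib.helper65.fittingSubgroup_isNilpotent q hd
      exact hK1 (htriv q hqπ K hKn hKp)
    · exact Cfsg.Agent.Lib.helper26.prankLE_subgroup _ (hrank_out q hq hqπ)
  have : Group.IsSolvable (↥M ⧸ piCore (alpha M) ↥M) := inferInstance
  have hoddM : Odd (Nat.card (↥M ⧸ piCore (alpha M) ↥M)) := by
    have h1 : Nat.card (↥M ⧸ piCore (alpha M) ↥M) ∣ Nat.card M :=
      Subgroup.card_quotient_dvd_card _
    have h2 : Nat.card M ∣ Nat.card G := Subgroup.card_subgroup_dvd_card M
    exact Odd.of_dvd_nat hodd (h1.trans h2)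
  have hnil : Group.IsNilpotent ↥(commutator (↥M ⧸ piCore (alpha M) ↥M)) :=
    (Cfsg.Agent.S1451.result hoddM (Or.inr hFrank)).1
  have hHall : ∀ p : ℕ, p ∈ alpha M → ¬ p ∣ (piCore (alpha M) ↥M).index := by
    intro p hp hdvd
    have : Fact p.Prime := ⟨hp.1⟩
    have hσ : p ∈ sigma M := bg_alpha_sub_sigma hG hU M hM hp
    have hres := bg_sigma_residual hG hF M hM hσ
    have hmapc : (commutator ↥M).map (QuotientGroup.mk' (piCore (alpha M) ↥M)) =
        commutator (↥M ⧸ piCore (alpha M) ↥M) := by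
      rw [commutator_def, commutator_def, Subgroup.map_commutator,
        Subgroup.map_top_of_surjective _ (QuotientGroup.mk'_surjective _)]
    have hcomm : commutator ↥M ≤
        (commutator (↥M ⧸ piCore (alpha M) ↥M)).comap (QuotientGroup.mk' (piCore (alpha M) ↥M)) := by
      rw [← Subgroup.map_le_iff_le_comap, hmapc]
    have h1 := bg_not_dvd_index_of_comm hres _ hcomm
    have h2 : ((commutator (↥M ⧸ piCore (alpha M) ↥M)).comap
        (QuotientGroup.mk' (piCore (alpha M) ↥M))).index =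
        (commutator (↥M ⧸ piCore (alpha M) ↥M)).index :=
      Subgroup.index_comap_of_surjective _ (QuotientGroup.mk'_surjective _)
    have h3 : p ∣ Nat.card ↥(commutator (↥M ⧸ piCore (alpha M) ↥M)) := by
      have h4 := Subgroup.index_mul_card (commutator (↥M ⧸ piCore (alpha M) ↥M))
      rw [Subgroup.index_eq_card, ← h4] at hdvd
      rcases (Nat.Prime.dvd_mul hp.1).mp hdvd with h | h
      · exact absurd (h2 ▸ h) h1
      · exact h
    obtain ⟨K, hKn, hKp, hK1⟩ := bg_exists_normal_pgroup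
      (commutator (↥M ⧸ piCore (alpha M) ↥M)) hnil p h3
    exact hK1 (htriv p hp K hKn hKp)
  refine ⟨hHall, ?_, hnil⟩
  intro q hq
  by_cases hqπ : q ∈ alpha M
  · apply bg_prankLE_of_not_dvd hq
    rw [← Subgroup.index_eq_card]
    exact hHall q hqπ
  · exact hrank_out q hq hqπ

/-- B-G Theorem 10.2, `α`-part, in the form of statement S1405. -/
theorem bg_alpha_core_statement [Finite G] (hG : IsMinSimpleOddOrder G) (hU : BGUniqHyp G)
    (hF : BGFusHyp G) (M : Subgroup G) (hM : IsCoatom M) :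
    IsPiHallOf (alpha M) (alphaCore M) M ∧ IsPiHall (alpha M) (alphaCore M) ∧
      alphaCore M ≤ sigmaCore M ∧ RankLE 2 (↥M ⧸ piCore (alpha M) ↥M) ∧
      Group.IsNilpotent ↥((commutator ↥M).map (QuotientGroup.mk' (piCore (alpha M) ↥M))) := by
  obtain ⟨hHall, hrank, hnil⟩ := bg_alpha_core_main hG hU hF M hM
  have hNπ := Cfsg.Agent.Lib.helper65.piCore_isPiGrp (G := M) (alpha M)
  have hle : alphaCore M ≤ M := Subgroup.map_subtype_le _
  have hcardα : Nat.card (alphaCore M) = Nat.card (piCore (alpha M) ↥M) := by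
    unfold alphaCore
    exact Subgroup.card_map_of_injective M.subtype_injective
  have hπ : ∀ p : ℕ, p.Prime → p ∣ Nat.card (alphaCore M) → p ∈ alpha M := by
    intro p hp hd
    rw [hcardα] at hd
    exact hNπ p hp hd
  have hrel : (alphaCore M).relIndex M = (piCore (alpha M) ↥M).index := by
    unfold alphaCore Subgroup.relIndex
    have : (Subgroup.map M.subtype (piCore (alpha M) ↥M)).subgroupOf M = piCore (alpha M) ↥M := by
      ext x
      simp [Subgroup.mem_subgroupOf]
    rw [this]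
  have hrel' : ∀ p : ℕ, p.Prime → p ∈ alpha M → ¬ p ∣ (alphaCore M).relIndex M := by
    intro p _ hp
    rw [hrel]
    exact hHall p hp
  refine ⟨⟨hle, hπ, hrel'⟩, ⟨hπ, ?_⟩, ?_, hrank, ?_⟩
  · intro p hpp hp hd
    rw [← Subgroup.relIndex_mul_index hle] at hd
    rcases (Nat.Prime.dvd_mul hpp).mp hd with h | h
    · exact hrel' p hpp hp h
    · exact bg_sigma_not_dvd_index M (bg_alpha_sub_sigma hG hU M hM hp) h
  · unfold alphaCore sigmaCore
    apply Subgroup.map_mono
    apply sSup_le_sSup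
    rintro K ⟨hKn, hK⟩
    exact ⟨hKn, fun p hp hd => bg_alpha_sub_sigma hG hU M hM (hK p hp hd)⟩
  · have hmapc : (commutator ↥M).map (QuotientGroup.mk' (piCore (alpha M) ↥M)) =
        commutator (↥M ⧸ piCore (alpha M) ↥M) := by
      rw [commutator_def, commutator_def, Subgroup.map_commutator,
        Subgroup.map_top_of_surjective _ (QuotientGroup.mk'_surjective _)]
    rw [hmapc]
    exact hnil

end Cfsg.Agent.Lib.helper8
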