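import Mathlib
import Cfsg.Agent.Lib.helper8.BGTen2
import Cfsg.Agent.Lib.helper1.Coprime
import Cfsg.Agent.Lib.helper29.Trans2
import Cfsg.Agent.S1452
import Cfsg.Agent.S1453

/-!
Bender–Glauberman Lemma 10.3: for an `α(M)'`-subgroup `X` of `M` with `r(C_{M_α}(X)) ≥ 2`,
`C_M(X)` is a uniqueness subgroup.
-/

set_option autoImplicit false
open Cfsg

namespace Cfsg.Agent.Lib.helper8

section pgroup

variable {R : Type*} [Group R]

/-- In a `p`-group `R` of rank at least three in which `E` is a maximal elementary abelian subgroup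
of order `p²`, the subgroup `W = Ω₁(Z₂(R))` is characteristic, elementary abelian of order `p²`,
its centralizer has rank at least three, and every automorphism of order prime to `p` fixing `E`
pointwise fixes `W` pointwise. -/
theorem bg_narrow_key [Finite R] (p : ℕ) [Fact p.Prime] (hp2 : p ≠ 2) (hR : IsPGroup p R)
    (hr : ¬ PRankLE p 2 R) (E : Subgroup R) (hE : IsElementaryAbelian p E)
    (hE2 : Nat.card E = p ^ 2)
    (hEmax : ∀ B : Subgroup R, IsElementaryAbelian p B → E ≤ B → B = E) :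
    ∃ W : Subgroup R, W.Characteristic ∧ IsElementaryAbelian p W ∧ Nat.card W = p ^ 2 ∧
      ¬ PRankLE p 2 ↥(Subgroup.centralizer (W : Set R)) ∧
      ∀ φ : MulAut R, (∀ e ∈ E, φ e = e) → ∀ k : ℕ, k.Coprime p → φ ^ k = 1 →
        ∀ w ∈ W, φ w = w := by
  have hpp : p.Prime := Fact.out
  obtain ⟨h1, h2, ⟨h3e, h3c⟩, -, -⟩ := Cfsg.Agent.S1453.result p hp2 hR hr E hE hE2 hEmax
  set W : Subgroup R :=
    Subgroup.closure {x : R | x ∈ Subgroup.upperCentralSeries R 2 ∧ x ^ p = 1} with hW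
  set Z : Subgroup R := Subgroup.closure {x : R | x ∈ Subgroup.center R ∧ x ^ p = 1} with hZ
  have hWchar : W.Characteristic := by
    rw [Subgroup.characteristic_iff_map_le]
    intro φ
    rw [hW, MonoidHom.map_closure]
    apply Subgroup.closure_mono
    rintro _ ⟨x, ⟨hx1, hx2⟩, rfl⟩
    refine ⟨?_, ?_⟩
    · have hc : (Subgroup.upperCentralSeries R 2).Characteristic := inferInstance
      have := (Subgroup.characteristic_iff_map_le.mp hc) φ
      exact this ⟨x, hx1, rfl⟩
    · show (φ x) ^ p = 1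
      rw [← map_pow, hx2, map_one]
  have hWn : W.Normal := Subgroup.normal_of_characteristic W
  have hWZ2 : W ≤ Subgroup.upperCentralSeries R 2 := by
    rw [hW, Subgroup.closure_le]
    intro x hx
    exact hx.1
  have hWexp : ∀ w ∈ W, w ^ p = 1 := h3e.2
  have hWcomm : ∀ a ∈ W, ∀ b ∈ W, a * b = b * a := by
    intro a ha b hb
    exact congrArg Subtype.val (h3e.1.is_comm.comm ⟨a, ha⟩ ⟨b, hb⟩)
  -- rank of the centralizer of `W`
  have hCW : ¬ PRankLE p 2 ↥(Subgroup.centralizer (W : Set R)) := by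
    obtain ⟨A', hWA', -, hA'c, hA'r⟩ := Cfsg.Agent.S1452.result p hp2 hR hr W h3e h3c
    intro h
    apply hA'r
    have hle : A' ≤ Subgroup.centralizer (W : Set R) := by
      intro a ha
      have ha' : a ∈ Subgroup.centralizer (A' : Set R) := by rw [hA'c]; exact ha
      exact Subgroup.centralizer_le hWA' ha'
    exact Cfsg.Agent.Lib.helper26.prankLE_mono hle h
  have hZcenter : Z ≤ Subgroup.center R := by
    rw [hZ, Subgroup.closure_le]
    intro x hx
    exact hx.1
  have hZW : Z ≤ W := by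
    rw [hZ, hW]
    apply Subgroup.closure_mono
    intro x hx
    refine ⟨?_, hx.2⟩
    have := Subgroup.upperCentralSeries_mono R (show 1 ≤ 2 by norm_num)
    rw [Subgroup.upperCentralSeries_one] at this
    exact this hx.1
  have hZexp : ∀ z ∈ Z, z ^ p = 1 := fun z hz => hWexp z (hZW hz)
  have hEexp : ∀ e ∈ E, e ^ p = 1 := hE.2
  have hEcomm : ∀ a ∈ E, ∀ b ∈ E, a * b = b * a := by
    intro a ha b hb
    exact congrArg Subtype.val (hE.1.is_comm.comm ⟨a, ha⟩ ⟨b, hb⟩)
  -- `Z ≤ E`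
  have hZE : Z ≤ E := by
    have hZn : Z.Normal := by
      constructor
      intro z hz g
      have := Subgroup.mem_center_iff.mp (hZcenter hz) g
      have h' : g * z * g⁻¹ = z := by rw [this, mul_inv_cancel_right]
      rw [h']; exact hz
    have hB : IsElementaryAbelian p (E ⊔ Z) := by
      refine ⟨?_, ?_⟩
      · rw [isMulCommutative_iff]
        rintro ⟨x, hx⟩ ⟨y, hy⟩
        apply Subtype.ext
        show x * y = y * x
        obtain ⟨e, he, z, hz, rfl⟩ := Subgroup.mem_sup_of_normal_right.mp hx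
        obtain ⟨e', he', z', hz', rfl⟩ := Subgroup.mem_sup_of_normal_right.mp hy
        have c1 := Subgroup.mem_center_iff.mp (hZcenter hz)
        have c2 := Subgroup.mem_center_iff.mp (hZcenter hz')
        have c3 := hEcomm e he e' he'
        calc e * z * (e' * z') = e * (z * e') * z' := by simp [mul_assoc]
          _ = e * (e' * z) * z' := by rw [← c1 e']
          _ = (e * e') * (z * z') := by simp [mul_assoc]
          _ = (e' * e) * (z' * z) := by rw [c3, c2 z]
          _ = e' * (e * z') * z := by simp [mul_assoc]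
          _ = e' * (z' * e) * z := by rw [c2 e]
          _ = e' * z' * (e * z) := by simp [mul_assoc]
      · intro x hx
        obtain ⟨e, he, z, hz, rfl⟩ := Subgroup.mem_sup_of_normal_right.mp hx
        have c1 : Commute e z := Subgroup.mem_center_iff.mp (hZcenter hz) e
        rw [c1.mul_pow, hEexp e he, hZexp z hz, one_mul]
    have := hEmax (E ⊔ Z) hB le_sup_left
    rw [← this]
    exact le_sup_right
  refine ⟨W, hWchar, h3e, h3c, hCW, ?_⟩
  intro φ hφE k hk hφk w hw
  -- an element of `E` not centralizing `W`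
  have hex : ∃ a ∈ E, ∃ w₀ ∈ W, w₀ * a ≠ a * w₀ := by
    by_contra hcon
    push Not at hcon
    apply h1
    intro a ha
    rw [Subgroup.mem_centralizer_iff]
    intro w₀ hw₀
    exact hcon a ha w₀ hw₀
  obtain ⟨a, haE, w₀, hw₀, hne⟩ := hex
  set C : Subgroup R := W ⊓ Subgroup.centralizer ({a} : Set R) with hC
  have hZC : Z ≤ C := by
    intro z hz
    refine ⟨hZW hz, ?_⟩
    show z ∈ Subgroup.centralizer ({a} : Set R)
    rw [Subgroup.mem_centralizer_iff]
    intro b hb
    rw [Set.mem_singleton_iff] at hb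
    rw [hb]
    exact Subgroup.mem_center_iff.mp (hZcenter hz) a
  have hCW' : C ≤ W := inf_le_left
  have hCne : C ≠ W := by
    intro h
    have : w₀ ∈ C := h ▸ hw₀
    have := Subgroup.mem_centralizer_iff.mp this.2 a rfl
    exact hne this.symm
  have hCcard : Nat.card C = p := by
    have hd : Nat.card C ∣ p ^ 2 := h3c ▸ Subgroup.card_dvd_of_le hCW'
    obtain ⟨m, hm, hmc⟩ := (Nat.dvd_prime_pow hpp).mp hd
    have hZd : p ∣ Nat.card C := h2 ▸ Subgroup.card_dvd_of_le hZC
    have hm0 : m ≠ 0 := by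
      rintro rfl
      rw [hmc, pow_zero] at hZd
      exact hpp.one_lt.ne' (Nat.dvd_one.mp hZd)
    have hm2 : m ≠ 2 := by
      rintro rfl
      apply hCne
      exact Subgroup.eq_of_le_of_card_ge hCW' (by rw [h3c, hmc])
    have : m = 1 := by omega
    rw [hmc, this, pow_one]
  have hCZ : Z = C := Subgroup.eq_of_le_of_card_ge hZC (by rw [h2, hCcard])
  -- `φ` stabilizes `W`
  have hφW : ∀ w ∈ W, φ w ∈ W := by
    intro w hw
    have := (Subgroup.characteristic_iff_map_le.mp hWchar) φ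
    exact this ⟨w, hw, rfl⟩
  -- the commutator of `w` with `a` lies in `Z`
  have hcomZ : ∀ w ∈ W, w * a * w⁻¹ * a⁻¹ ∈ Z := by
    intro w hw
    have hc : w * a * w⁻¹ * a⁻¹ ∈ Subgroup.center R := by
      have := Subgroup.mem_upperCentralSeries_succ_iff.mp (hWZ2 hw) a
      rw [Subgroup.upperCentralSeries_one, commutatorElement_def] at this
      exact this
    have hcW : w * a * w⁻¹ * a⁻¹ ∈ W := by
      have h' : a * w⁻¹ * a⁻¹ ∈ W := hWn.conj_mem _ (W.inv_mem hw) a
      have e : w * a * w⁻¹ * a⁻¹ = w * (a * w⁻¹ * a⁻¹) := by simp [mul_assoc]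
      rw [e]
      exact W.mul_mem hw h'
    rw [hZ]
    exact Subgroup.subset_closure ⟨hc, hWexp _ hcW⟩
  -- `w⁻¹ φ(w) ∈ Z`
  have hz₁ : w⁻¹ * φ w ∈ Z := by
    rw [hCZ]
    refine ⟨W.mul_mem (W.inv_mem hw) (hφW w hw), ?_⟩
    show w⁻¹ * φ w ∈ Subgroup.centralizer ({a} : Set R)
    rw [Subgroup.mem_centralizer_iff]
    intro b hb
    rw [Set.mem_singleton_iff] at hb
    rw [hb]
    have hfix : φ (w * a * w⁻¹ * a⁻¹) = w * a * w⁻¹ * a⁻¹ := hφE _ (hZE (hcomZ w hw))
    rw [map_mul, map_mul, map_mul, map_inv, map_inv, hφE a haE] at hfix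
    -- hfix : φ w * a * (φ w)⁻¹ * a⁻¹ = w * a * w⁻¹ * a⁻¹
    have e1 : φ w * a * (φ w)⁻¹ = w * a * w⁻¹ := mul_right_cancel hfix
    have e2 : a * (w⁻¹ * φ w) = w⁻¹ * (w * a * w⁻¹) * φ w := by simp [mul_assoc]
    rw [e2, ← e1]
    simp [mul_assoc]
  set z₁ := w⁻¹ * φ w with hz₁def
  have hφz : φ z₁ = z₁ := hφE z₁ (hZE hz₁)
  have hφw : φ w = w * z₁ := by rw [hz₁def, mul_inv_cancel_left]
  have hpowz : ∀ n : ℕ, (φ ^ n) z₁ = z₁ := by
    intro n
    induction n with
    | zero => simp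
    | succ n ih => rw [pow_succ, MulAut.mul_apply, hφz, ih]
  have hpow : ∀ n : ℕ, (φ ^ n) w = w * z₁ ^ n := by
    intro n
    induction n with
    | zero => simp
    | succ n ih =>
      rw [pow_succ, MulAut.mul_apply, hφw, map_mul, ih, hpowz, pow_succ, mul_assoc]
  have hk1 : z₁ ^ k = 1 := by
    have := hpow k
    rw [hφk] at this
    have h' : w = w * z₁ ^ k := this
    exact (mul_eq_left).mp h'.symm
  have hp1 : z₁ ^ p = 1 := hZexp z₁ hz₁
  have ho : orderOf z₁ ∣ Nat.gcd k p :=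
    Nat.dvd_gcd (orderOf_dvd_of_pow_eq_one hk1) (orderOf_dvd_of_pow_eq_one hp1)
  rw [Nat.Coprime.gcd_eq_one hk, Nat.dvd_one, orderOf_eq_one_iff] at ho
  rw [hφw, ho, mul_one]

end pgroup

section main

variable {G : Type*} [Group G]

theorem bg_elemAb_iff {p : ℕ} (A : Subgroup G) :
    IsElementaryAbelian p A ↔ (∀ a ∈ A, ∀ b ∈ A, a * b = b * a) ∧ ∀ a ∈ A, a ^ p = 1 := by
  unfold IsElementaryAbelian
  rw [isMulCommutative_iff]
  constructor
  · rintro ⟨h1, h2⟩
    exact ⟨fun a ha b hb => congrArg Subtype.val (h1 ⟨a, ha⟩ ⟨b, hb⟩), h2⟩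
  · rintro ⟨h1, h2⟩
    exact ⟨fun a b => Subtype.ext (h1 a a.2 b b.2), h2⟩

theorem bg_elemAb_map {p : ℕ} {H : Subgroup G} (B : Subgroup ↥H) (hB : IsElementaryAbelian p B) :
    IsElementaryAbelian p (B.map H.subtype) := by
  rw [bg_elemAb_iff] at hB ⊢
  refine ⟨?_, ?_⟩
  · rintro _ ⟨a, ha, rfl⟩ _ ⟨b, hb, rfl⟩
    have := hB.1 a ha b hb
    exact congrArg Subtype.val this
  · rintro _ ⟨a, ha, rfl⟩
    have := hB.2 a ha
    simpa using congrArg Subtype.val this

theorem bg_elemAb_subgroupOf {p : ℕ} {A : Subgroup G} (H : Subgroup G)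
    (hA : IsElementaryAbelian p A) : IsElementaryAbelian p (A.subgroupOf H) := by
  rw [bg_elemAb_iff] at hA ⊢
  refine ⟨?_, ?_⟩
  · intro a ha b hb
    exact Subtype.ext (hA.1 a ha b hb)
  · intro a ha
    exact Subtype.ext (by simpa using hA.2 a ha)

theorem bg_not_rankLE_of_elemAb {p k : ℕ} (hp : p.Prime) {B : Subgroup G}
    (hB : IsElementaryAbelian p B) (hcard : p ^ k < Nat.card B) : ¬ RankLE k ↥B := by
  intro h
  exact Cfsg.Agent.Lib.helper26.not_prankLE_self hB.1
    (fun a => Subtype.ext (by simpa using hB.2 a a.2)) hcard (h p hp)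

theorem bg_uniq_of_le {B K M : Subgroup G} (hM : IsCoatom M) (hKM : K ≤ M) (hBK : B ≤ K)
    (hB : InUniqueMaximal B) : InUniqueMaximal K := by
  refine ⟨M, ⟨hM, hKM⟩, ?_⟩
  rintro L ⟨hL, hKL⟩
  exact hB.unique ⟨hL, hBK.trans hKL⟩ ⟨hM, hBK.trans hKM⟩

/-- conjugation by an element normalizing `P`, as an automorphism of `P` -/
def bgConjAut (P : Subgroup G) (x : G) (hx : x ∈ Subgroup.normalizer (P : Set G)) : MulAut ↥P where
  toFun y := ⟨x * y * x⁻¹, (Subgroup.mem_normalizer_iff.mp hx y).mp y.2⟩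
  invFun y := ⟨x⁻¹ * y * x, (Subgroup.mem_normalizer_iff.mp hx _).mpr (by
    have e : x * (x⁻¹ * (y : G) * x) * x⁻¹ = y := by simp [mul_assoc]
    rw [e]; exact y.2)⟩
  left_inv y := Subtype.ext (by simp [mul_assoc])
  right_inv y := Subtype.ext (by simp [mul_assoc])
  map_mul' a b := Subtype.ext (by simp [mul_assoc])

theorem bgConjAut_apply (P : Subgroup G) (x : G) (hx : x ∈ Subgroup.normalizer (P : Set G))
    (y : ↥P) : ((bgConjAut P x hx y : ↥P) : G) = x * y * x⁻¹ := rfl

theorem bgConjAut_pow (P : Subgroup G) (x : G) (hx : x ∈ Subgroup.normalizer (P : Set G))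
    (n : ℕ) (y : ↥P) : (((bgConjAut P x hx) ^ n) y : G) = x ^ n * y * (x ^ n)⁻¹ := by
  induction n generalizing y with
  | zero => simp
  | succ n ih =>
    rw [pow_succ, MulAut.mul_apply, ih, bgConjAut_apply, pow_succ]
    simp [mul_assoc]

/-- B-G Lemma 10.3. -/
theorem bg_cent_alpha_uniq [Finite G] (hG : IsMinSimpleOddOrder G) (hU : BGUniqHyp G)
    (hF : BGFusHyp G) (M : Subgroup G) (hM : IsCoatom M) (X : Subgroup G) (hXM : X ≤ M)
    (hXα : ∀ p : ℕ, p.Prime → p ∣ Nat.card X → p ∉ alpha M)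
    (hr : ¬ RankLE 1 ↥(alphaCore M ⊓ Subgroup.centralizer (X : Set G))) :
    InUniqueMaximal (M ⊓ Subgroup.centralizer (X : Set G)) := by
  obtain ⟨hodd, hsimple, hna, hsolv⟩ := id hG
  obtain ⟨p, hpp, A₁, hA₁le, hA₁c, hA₁e, hA₁card⟩ :=
    Cfsg.Agent.Lib.helper29.exists_elemAb_of_not_rankLE hr
  have : Fact p.Prime := ⟨hpp⟩
  have hA₁p : IsPGroup p A₁ := by
    intro a
    refine ⟨1, ?_⟩
    rw [pow_one]
    exact Subtype.ext (by simpa using hA₁e a a.2)
  obtain ⟨n, hn⟩ := IsPGroup.iff_card.mp hA₁p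
  have hn2 : 2 ≤ n := by
    rw [hn] at hA₁card
    have := (Nat.pow_lt_pow_iff_right hpp.one_lt).mp hA₁card
    omega
  obtain ⟨A₂, hA₂⟩ := Sylow.exists_subgroup_card_pow_prime p (G := A₁) (n := 2)
    (by rw [hn]; exact pow_dvd_pow p hn2)
  set A : Subgroup G := A₂.map A₁.subtype with hA
  have hAA₁ : A ≤ A₁ := Subgroup.map_subtype_le _
  have hAcard : Nat.card A = p ^ 2 := by rw [hA, Subgroup.card_subtype, hA₂]
  have hAe : IsElementaryAbelian p A := by
    rw [bg_elemAb_iff]
    exact ⟨fun a ha b hb => hA₁c a (hAA₁ ha) b (hAA₁ hb), fun a ha => hA₁e a (hAA₁ ha)⟩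
  have hAe' := (bg_elemAb_iff A).mp hAe
  have hAp : IsPGroup p A := hA₁p.to_le hAA₁
  have hAα : A ≤ alphaCore M := hAA₁.trans (hA₁le.trans inf_le_left)
  have hAX : A ≤ Subgroup.centralizer (X : Set G) := hAA₁.trans (hA₁le.trans inf_le_right)
  have hαM : alphaCore M ≤ M := Subgroup.map_subtype_le _
  have hAM : A ≤ M := hAα.trans hαM
  have hpA : p ∣ Nat.card A := by rw [hAcard]; exact dvd_pow_self p (by norm_num)
  have hcardα : Nat.card (alphaCore M) = Nat.card (piCore (alpha M) ↥M) := by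
    unfold alphaCore
    exact Subgroup.card_subtype _ _
  have hNπ := Cfsg.Agent.Lib.helper65.piCore_isPiGrp (G := M) (alpha M)
  have hpα : p ∈ alpha M := by
    apply hNπ p hpp
    rw [← hcardα]
    exact hpA.trans (Subgroup.card_dvd_of_le hAα)
  have hAtop : A ≠ ⊤ := by
    intro h
    exact hM.1 (top_le_iff.mp (h ▸ hAM))
  have hA1 : ¬ RankLE 1 ↥A := by
    apply bg_not_rankLE_of_elemAb hpp hAe
    rw [hAcard]
    exact Nat.pow_lt_pow_right hpp.one_lt (by norm_num)
  suffices h : ∃ B : Subgroup G, B ≤ M ⊓ Subgroup.centralizer (X : Set G) ∧ InUniqueMaximal B by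
    obtain ⟨B, hB, hBU⟩ := h
    exact bg_uniq_of_le hM inf_le_left hB hBU
  by_cases hcase : PRankLE p 2 ↥(Subgroup.centralizer (A : Set G))
  swap
  · exact ⟨A, le_inf hAM hAX, hU A hAtop hA1 (Or.inr (fun h => hcase (h p hpp)))⟩
  -- an `X`-invariant Sylow `p`-subgroup of `M_α` containing `A`
  have hXN : X ≤ Subgroup.normalizer ((alphaCore M : Subgroup G) : Set G) :=
    hXM.trans (Cfsg.Agent.Lib.helper29.le_normalizer_piCoreOf (alpha M) M)
  have hcop : (Nat.card X).Coprime (Nat.card (alphaCore M)) := by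
    apply Nat.coprime_of_dvd
    intro q hq hqX hqα
    rw [hcardα] at hqα
    exact hXα q hq hqX (hNπ q hq hqα)
  have hαtop : alphaCore M ≠ ⊤ := by
    intro h
    exact hM.1 (top_le_iff.mp (h ▸ hαM))
  have hsolvα : Group.IsSolvable ↥(alphaCore M) := hsolv _ hαtop
  have hXA : X ≤ Subgroup.normalizer (A : Set G) := by
    refine le_trans ?_ (Subgroup.centralizer_le_normalizer (A : Set G))
    intro x hx
    rw [Subgroup.mem_centralizer_iff]
    intro a ha
    exact (Subgroup.mem_centralizer_iff.mp (hAX ha) x hx).symm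
  obtain ⟨P, hAP, hXP⟩ := Cfsg.Agent.Lib.helper1.exists_invariant_sylow_ge (p := p) X
    (alphaCore M) hXN hcop (Or.inr hsolvα) A hAα hAp hXA
  set PG : Subgroup G := (P : Subgroup ↥(alphaCore M)).map (alphaCore M).subtype with hPG
  have hPGp : IsPGroup p PG := P.isPGroup'.map _
  have hPGα : PG ≤ alphaCore M := Subgroup.map_subtype_le _
  have hPGM : PG ≤ M := hPGα.trans hαM
  -- the rank of `PG` is at least three
  obtain ⟨hHall, -, -⟩ := bg_alpha_core_main hG hU hF M hM
  have hPGr : ¬ PRankLE p 2 ↥PG := by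
    have hc1 : Nat.card PG = p ^ (Nat.card (alphaCore M)).factorization p := by
      rw [hPG, Subgroup.card_subtype]
      exact P.card_eq_multiplicity
    have hc2 : (Nat.card (alphaCore M)).factorization p = (Nat.card M).factorization p := by
      have h1 := Subgroup.card_mul_index (piCore (alpha M) ↥M)
      rw [hcardα, ← h1, Nat.factorization_mul Nat.card_pos.ne' Subgroup.index_ne_zero_of_finite]
      simp [Nat.factorization_eq_zero_of_not_dvd (hHall p hpα)]
    have hc3 : Nat.card ↥(PG.subgroupOf M) = p ^ (Nat.card M).factorization p := by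
      rw [Nat.card_congr (Subgroup.subgroupOfEquivOfLe hPGM).toEquiv, hc1, hc2]
    intro h
    apply hpα.2
    apply Cfsg.Agent.Lib.helper30.prankLE_of_sylow p 2 (Sylow.ofCard (PG.subgroupOf M) hc3)
    rw [Sylow.coe_ofCard]
    exact (Cfsg.Agent.Lib.helper26.prankLE_congr (Subgroup.subgroupOfEquivOfLe hPGM)).mpr h
  have hp2 : p ≠ 2 := by
    rintro rfl
    have h2 : 2 ∣ Nat.card G := hpA.trans (Subgroup.card_subgroup_dvd_card A)
    exact (Nat.not_even_iff_odd.mpr hodd) (even_iff_two_dvd.mpr h2)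
  -- `A` is a maximal elementary abelian subgroup of `PG`
  have hEmax : ∀ B : Subgroup ↥PG, IsElementaryAbelian p B → A.subgroupOf PG ≤ B →
      B = A.subgroupOf PG := by
    intro B hB hle
    have hB' := bg_elemAb_map B hB
    have hB'' := (bg_elemAb_iff _).mp hB'
    have hAB' : A ≤ B.map PG.subtype := by
      intro a ha
      exact ⟨⟨a, hAP ha⟩, hle (Subgroup.mem_subgroupOf.mpr ha), rfl⟩
    have hB'C : B.map PG.subtype ≤ Subgroup.centralizer (A : Set G) := by
      intro b hb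
      rw [Subgroup.mem_centralizer_iff]
      intro a ha
      exact hB''.1 a (hAB' ha) b hb
    have hcard := hcase ((B.map PG.subtype).subgroupOf (Subgroup.centralizer (A : Set G)))
      (bg_elemAb_subgroupOf _ hB').1 (bg_elemAb_subgroupOf _ hB').2
    rw [Nat.card_congr (Subgroup.subgroupOfEquivOfLe hB'C).toEquiv, Subgroup.card_subtype] at hcard
    symm
    apply Subgroup.eq_of_le_of_card_ge hle
    rw [Nat.card_congr (Subgroup.subgroupOfEquivOfLe hAP).toEquiv, hAcard]
    exact hcard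
  obtain ⟨W, hWchar, hWe, hWc, hWr, hWφ⟩ := bg_narrow_key p hp2 hPGp hPGr (A.subgroupOf PG)
    (bg_elemAb_subgroupOf PG hAe)
    (by rw [Nat.card_congr (Subgroup.subgroupOfEquivOfLe hAP).toEquiv, hAcard]) hEmax
  set WG : Subgroup G := W.map PG.subtype with hWG
  have hWGe : IsElementaryAbelian p WG := bg_elemAb_map W hWe
  have hWGcard : Nat.card WG = p ^ 2 := by rw [hWG, Subgroup.card_subtype, hWc]
  have hWGM : WG ≤ M := (Subgroup.map_subtype_le _).trans hPGM
  have hWGtop : WG ≠ ⊤ := by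
    intro h
    exact hM.1 (top_le_iff.mp (h ▸ hWGM))
  have hWG1 : ¬ RankLE 1 ↥WG := by
    apply bg_not_rankLE_of_elemAb hpp hWGe
    rw [hWGcard]
    exact Nat.pow_lt_pow_right hpp.one_lt (by norm_num)
  have hWG2 : ¬ RankLE 2 ↥(Subgroup.centralizer (WG : Set G)) := by
    intro h
    apply hWr
    have hle : (Subgroup.centralizer (W : Set ↥PG)).map PG.subtype ≤
        Subgroup.centralizer (WG : Set G) := by
      rintro _ ⟨c, hc, rfl⟩
      rw [Subgroup.mem_centralizer_iff]
      rintro _ ⟨w, hw, rfl⟩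
      have := Subgroup.mem_centralizer_iff.mp hc w hw
      exact congrArg Subtype.val this
    have h1 := Cfsg.Agent.Lib.helper26.prankLE_mono hle (h p hpp)
    exact (Cfsg.Agent.Lib.helper26.prankLE_map_iff PG.subtype PG.subtype_injective _).mp h1
  have hWGX : WG ≤ Subgroup.centralizer (X : Set G) := by
    rintro _ ⟨w, hw, rfl⟩
    rw [Subgroup.mem_centralizer_iff]
    intro x hx
    have hxN : x ∈ Subgroup.normalizer (PG : Set G) := hXP hx
    have hφE : ∀ e ∈ A.subgroupOf PG, bgConjAut PG x hxN e = e := by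
      intro e he
      apply Subtype.ext
      rw [bgConjAut_apply]
      have hcomm := Subgroup.mem_centralizer_iff.mp (hAX (Subgroup.mem_subgroupOf.mp he)) x hx
      rw [hcomm, mul_inv_cancel_right]
    have hk : (orderOf x).Coprime p := by
      have h1 : orderOf x ∣ Nat.card X := by
        rw [← Subgroup.orderOf_mk x hx]
        exact orderOf_dvd_natCard _
      have h2 : ¬ p ∣ Nat.card X := fun h => hXα p hpp h hpα
      exact Nat.Coprime.coprime_dvd_left h1
        ((Nat.Prime.coprime_iff_not_dvd hpp).mpr h2).symm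
    have hφk : (bgConjAut PG x hxN) ^ (orderOf x) = 1 := by
      ext y
      rw [bgConjAut_pow, pow_orderOf_eq_one]
      simp
    have := hWφ (bgConjAut PG x hxN) hφE (orderOf x) hk hφk w hw
    have h3 := congrArg Subtype.val this
    rw [bgConjAut_apply] at h3
    -- h3 : x * w * x⁻¹ = w
    calc x * (PG.subtype w) = x * (w : G) * x⁻¹ * x := by simp [mul_assoc]
      _ = (PG.subtype w) * x := by rw [h3]; rfl
  exact ⟨WG, le_inf hWGM hWGX, hU WG hWGtop hWG1 (Or.inr hWG2)⟩

end main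

end Cfsg.Agent.Lib.helper8
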