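import Mathlib
import Cfsg.Agent.Lib.helper8.BGTen3

/-!
Bender–Glauberman, Section 10: Lemmas 10.5 and 10.6 (primes of `τ₂(M)`), on top of the
uniqueness theorem as hypothesis `BGUniqHyp`.
-/

set_option autoImplicit false
open Cfsg

namespace Cfsg.Agent.Lib.helper8

variable {G : Type*} [Group G]

/-- B-G 10.5, second part: if `r_p(M) ≤ 2` then every `E_{p²}` of `M` is a maximal elementary
abelian subgroup of `G`. -/
theorem bg_rank_two_max_elemAb [Finite G] (hG : IsMinSimpleOddOrder G) (hU : BGUniqHyp G)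
    (M : Subgroup G) (hM : IsCoatom M) (p : ℕ) [Fact p.Prime] (hr2 : PRankLE p 2 M)
    (A : Subgroup G) (hAM : A ≤ M) (hA : IsElementaryAbelian p A) (hA2 : Nat.card A = p ^ 2)
    (B : Subgroup G) (hB : IsElementaryAbelian p B) (hAB : A ≤ B) : B = A := by
  have hpp : p.Prime := Fact.out
  obtain ⟨-, -, hna, -⟩ := id hG
  by_contra hne
  have hlt : p ^ 2 < Nat.card B := by
    rw [← hA2]
    by_contra h
    exact hne (Subgroup.eq_of_le_of_card_ge hAB (not_lt.mp h)).symm
  have hAtop : A ≠ ⊤ := fun h => hM.1 (top_le_iff.mp (h ▸ hAM))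
  have h1 : ¬ RankLE 1 ↥A :=
    bg_not_rankLE_of_elemAb hpp hA (by rw [hA2]; exact Nat.pow_lt_pow_right hpp.one_lt (by norm_num))
  have hB' := (bg_elemAb_iff B).mp hB
  have hBC : B ≤ Subgroup.centralizer (A : Set G) := by
    intro b hb
    rw [Subgroup.mem_centralizer_iff]
    intro a ha
    exact hB'.1 a (hAB ha) b hb
  have h2 : ¬ RankLE 2 ↥(Subgroup.centralizer (A : Set G)) := by
    intro h
    have h3 := h p hpp (B.subgroupOf _) (bg_elemAb_subgroupOf _ hB).1 (bg_elemAb_subgroupOf _ hB).2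
    rw [Nat.card_congr (Subgroup.subgroupOfEquivOfLe hBC).toEquiv] at h3
    omega
  have hAU := hU A hAtop h1 (Or.inr h2)
  have hBtop : B ≠ ⊤ := by
    intro h
    apply hna
    rw [isMulCommutative_iff]
    intro a b
    exact hB'.1 a (h ▸ Subgroup.mem_top a) b (h ▸ Subgroup.mem_top b)
  obtain ⟨L, hL, hBL⟩ := (eq_top_or_exists_le_coatom B).resolve_left hBtop
  have hLM : L = M := hAU.unique ⟨hL, hAB.trans hBL⟩ ⟨hM, hAM⟩
  have hBM : B ≤ M := hLM ▸ hBL
  have h3 := hr2 (B.subgroupOf M) (bg_elemAb_subgroupOf _ hB).1 (bg_elemAb_subgroupOf _ hB).2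
  rw [Nat.card_congr (Subgroup.subgroupOfEquivOfLe hBM).toEquiv] at h3
  omega

/-- An elementary abelian subgroup of order `p²` in a subgroup of `p`-rank exactly `2`. -/
theorem bg_exists_elemAb_sq (M : Subgroup G) (p : ℕ) [Fact p.Prime] [Finite G]
    (hr2 : PRankLE p 2 M) (hr1 : ¬ PRankLE p 1 M) :
    ∃ A : Subgroup G, A ≤ M ∧ IsElementaryAbelian p A ∧ Nat.card A = p ^ 2 := by
  have hpp : p.Prime := Fact.out
  unfold PRankLE at hr1
  push Not at hr1
  obtain ⟨A₀, hc, he, hcard⟩ := hr1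
  have h2 := hr2 A₀ hc he
  have hA₀p : IsPGroup p A₀ := by
    intro a
    exact ⟨1, by rw [pow_one]; exact Subtype.ext (by simpa using he a a.2)⟩
  obtain ⟨n, hn⟩ := IsPGroup.iff_card.mp hA₀p
  have hn2 : n = 2 := by
    rw [hn] at hcard h2
    have h3 := (Nat.pow_lt_pow_iff_right hpp.one_lt).mp hcard
    have h4 := (Nat.pow_le_pow_iff_right hpp.one_lt).mp h2
    omega
  refine ⟨A₀.map M.subtype, Subgroup.map_subtype_le _, bg_elemAb_map A₀ ⟨hc, he⟩, ?_⟩
  rw [Subgroup.card_subtype, hn, hn2]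

/-- B-G 10.5, first part: if `r_p(M) = 2` then `p` is not an ideal prime. -/
theorem bg_rank_two_not_ideal [Finite G] (hG : IsMinSimpleOddOrder G) (hU : BGUniqHyp G)
    (M : Subgroup G) (hM : IsCoatom M) (p : ℕ) [Fact p.Prime] (hr2 : PRankLE p 2 M)
    (hr1 : ¬ PRankLE p 1 M) : ¬ IsIdealPrime p G := by
  rintro ⟨-, -, hideal⟩
  obtain ⟨A, hAM, hA, hA2⟩ := bg_exists_elemAb_sq M p hr2 hr1
  have hAp : IsPGroup p A := by
    intro a
    exact ⟨1, by rw [pow_one]; exact Subtype.ext (by simpa using hA.2 a a.2)⟩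
  obtain ⟨P, hAP⟩ := hAp.exists_le_sylow
  obtain ⟨B, -, hB, hAB⟩ := hideal P A hAP hA hA2
  exact hAB.ne (bg_rank_two_max_elemAb hG hU M hM p hr2 A hAM hA hA2 B hB hAB.le).symm

/-- B-G Lemma 10.5 (the statement S1408). -/
theorem bg_tau2_statement [Finite G] (hG : IsMinSimpleOddOrder G) (hU : BGUniqHyp G)
    (M : Subgroup G) (hM : IsCoatom M) (p : ℕ) [Fact p.Prime] (hr2 : PRankLE p 2 M)
    (hr1 : ¬ PRankLE p 1 M) :
    ¬ IsIdealPrime p G ∧ ∀ A : Subgroup G, A ≤ M → IsElementaryAbelian p A → Nat.card A = p ^ 2 →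
        ∀ B : Subgroup G, IsElementaryAbelian p B → A ≤ B → B = A :=
  ⟨bg_rank_two_not_ideal hG hU M hM p hr2 hr1,
    fun A hAM hA hA2 B hB hAB => bg_rank_two_max_elemAb hG hU M hM p hr2 A hAM hA hA2 B hB hAB⟩

/-- The join of two commuting elementary abelian subgroups is elementary abelian. -/
theorem bg_elemAb_sup {p : ℕ} (X Y : Subgroup G) (hX : IsElementaryAbelian p X)
    (hY : IsElementaryAbelian p Y) (hc : ∀ x ∈ X, ∀ y ∈ Y, x * y = y * x) :
    IsElementaryAbelian p (X ⊔ Y) := by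
  have hX' := (bg_elemAb_iff X).mp hX
  have hY' := (bg_elemAb_iff Y).mp hY
  have hXX : X ≤ Subgroup.centralizer (X : Set G) := by
    intro a ha
    rw [Subgroup.mem_centralizer_iff]
    intro b hb
    exact hX'.1 b hb a ha
  have hYY : Y ≤ Subgroup.centralizer (Y : Set G) := by
    intro a ha
    rw [Subgroup.mem_centralizer_iff]
    intro b hb
    exact hY'.1 b hb a ha
  have hYX : Y ≤ Subgroup.centralizer (X : Set G) := by
    intro a ha
    rw [Subgroup.mem_centralizer_iff]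
    intro b hb
    exact hc b hb a ha
  have hXY : X ≤ Subgroup.centralizer (Y : Set G) := by
    intro a ha
    rw [Subgroup.mem_centralizer_iff]
    intro b hb
    exact (hc a ha b hb).symm
  have hcomm : X ⊔ Y ≤ Subgroup.centralizer ((X ⊔ Y : Subgroup G) : Set G) :=
    sup_le (Subgroup.le_centralizer_iff.mpr (sup_le hXX hYX))
      (Subgroup.le_centralizer_iff.mpr (sup_le hXY hYY))
  have hcomm' : ∀ a ∈ X ⊔ Y, ∀ b ∈ X ⊔ Y, a * b = b * a := by
    intro a ha b hb
    exact (Subgroup.mem_centralizer_iff.mp (hcomm ha) b hb).symm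
  rw [bg_elemAb_iff]
  refine ⟨hcomm', ?_⟩
  have hcl : X ⊔ Y = Subgroup.closure ((X : Set G) ∪ Y) := by
    rw [Subgroup.closure_union, Subgroup.closure_eq, Subgroup.closure_eq]
  intro a ha
  rw [hcl] at ha
  induction ha using Subgroup.closure_induction with
  | mem x hx =>
    rcases hx with hx | hx
    · exact hX'.2 x hx
    · exact hY'.2 x hx
  | one => exact one_pow p
  | mul x y hx hy ihx ihy =>
    rw [← hcl] at hx hy
    have hxy : Commute x y := hcomm' x hx y hy
    rw [hxy.mul_pow, ihx, ihy, one_mul]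
  | inv x hx ihx => rw [inv_pow, ihx, inv_one]

/-- B-G Lemma 10.6 (the statement S1409). -/
theorem bg_ord_p_statement [Finite G] (hG : IsMinSimpleOddOrder G) (hU : BGUniqHyp G)
    (M : Subgroup G) (hM : IsCoatom M) (p : ℕ) [Fact p.Prime] (hp : p ∉ sigma M) (X : Subgroup G)
    (hX : Nat.card X = p) (hNX : Subgroup.normalizer (X : Set G) ≤ M) :
    (PRankLE p 2 M ∧ ¬ PRankLE p 1 M) ∧ ¬ IsIdealPrime p G ∧
      ∃ A : Subgroup G, IsElementaryAbelian p A ∧ Nat.card A = p ^ 2 ∧ X ≤ A := by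
  have hpp : p.Prime := Fact.out
  have hXM : X ≤ M := Subgroup.le_normalizer.trans hNX
  have hr2 : PRankLE p 2 M := by
    by_contra h
    exact hp (bg_alpha_sub_sigma hG hU M hM ⟨hpp, h⟩)
  have hXp : IsPGroup p X := IsPGroup.of_card (n := 1) (by rw [hX, pow_one])
  have hX'p : IsPGroup p (X.subgroupOf M) := hXp.comap_subtype
  obtain ⟨P, hXP⟩ := hX'p.exists_le_sylow
  set K : Subgroup G := (P : Subgroup M).map M.subtype with hK
  have hXK : X ≤ K := by
    intro x hx
    exact ⟨⟨x, hXM hx⟩, hXP (Subgroup.mem_subgroupOf.mpr hx), rfl⟩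
  have hKM : K ≤ M := Subgroup.map_subtype_le _
  have hKp : IsPGroup p K := P.isPGroup'.map _
  have hNK : ¬ Subgroup.normalizer (K : Set G) ≤ M := by
    intro h
    exact hp ⟨hpp, hX ▸ Subgroup.card_dvd_of_le hXM, P, h⟩
  have hXc : IsCyclic X := isCyclic_of_prime_card hX
  have hXcomm : IsMulCommutative X := IsCyclic.isMulCommutative
  have hXe : IsElementaryAbelian p X := by
    refine ⟨hXcomm, ?_⟩
    intro a ha
    have h1 : (⟨a, ha⟩ : X) ^ Nat.card X = 1 := pow_card_eq_one'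
    rw [hX] at h1
    exact congrArg Subtype.val h1
  -- a central element of order `p` outside `X`
  have hex : ∃ z ∈ K, (∀ k ∈ K, z * k = k * z) ∧ z ^ p = 1 ∧ z ∉ X := by
    by_contra hall
    push Not at hall
    apply hNK
    refine le_trans ?_ hNX
    -- `X` is central in `K`
    have hXne : Nontrivial X := by
      rw [← Finite.one_lt_card_iff_nontrivial, hX]; exact hpp.one_lt
    have hKne : Nontrivial K := by
      obtain ⟨a, b, hab⟩ := hXne
      exact ⟨⟨a.1, hXK a.2⟩, ⟨b.1, hXK b.2⟩, fun h => hab (Subtype.ext (Subtype.mk_eq_mk.mp h))⟩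
    have hZ := hKp.center_nontrivial
    have hZp : IsPGroup p (Subgroup.center K) := hKp.to_subgroup _
    obtain ⟨z, hz⟩ : ∃ z : Subgroup.center K, orderOf z = p := by
      apply exists_prime_orderOf_dvd_card' p
      obtain ⟨n, hn0, hn⟩ := (hZp.nontrivial_iff_card).mp hZ
      rw [hn]; exact dvd_pow_self p hn0.ne'
    have hzK : ((z : K) : G) ∈ K := (z : K).2
    have hzc : ∀ k ∈ K, ((z : K) : G) * k = k * ((z : K) : G) := by
      intro k hk
      have h1 := Subgroup.mem_center_iff.mp z.2 ⟨k, hk⟩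
      exact (congrArg Subtype.val h1).symm
    have hzp : ((z : K) : G) ^ p = 1 := by
      have h1 := pow_orderOf_eq_one z
      rw [hz] at h1
      have h2 := congrArg (fun t : Subgroup.center K => ((t : K) : G)) h1
      simpa using h2
    have hz1 : ((z : K) : G) ≠ 1 := by
      intro h
      have h1 : z = 1 := Subtype.ext (Subtype.ext h)
      rw [h1, orderOf_one] at hz
      exact hpp.one_lt.ne hz
    have hzX : ((z : K) : G) ∈ X := hall _ hzK hzc hzp
    have hXz : X = Subgroup.zpowers ((z : K) : G) := by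
      symm
      apply Subgroup.eq_of_le_of_card_ge ((Subgroup.zpowers_le).mpr hzX)
      rw [hX, Nat.card_zpowers, orderOf_eq_prime hzp hz1]
    have hXcent : ∀ x ∈ X, ∀ k ∈ K, x * k = k * x := by
      intro x hx k hk
      rw [hXz] at hx
      obtain ⟨n, rfl⟩ := Subgroup.mem_zpowers_iff.mp hx
      exact ((Commute.zpow_left (hzc k hk) n)).eq
    intro g hg
    have hconj : ∀ g ∈ Subgroup.normalizer (K : Set G), ∀ x ∈ X, g * x * g⁻¹ ∈ X := by
      intro g hg x hx
      have hgK : ∀ k, k ∈ K ↔ g * k * g⁻¹ ∈ K := fun k => Subgroup.mem_normalizer_iff.mp hg k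
      apply hall
      · exact (hgK x).mp (hXK hx)
      · intro k hk
        have hk' : g⁻¹ * k * g ∈ K := by
          rw [hgK]; simpa [mul_assoc] using hk
        have h1 := hXcent x hx _ hk'
        calc g * x * g⁻¹ * k = g * (x * (g⁻¹ * k * g)) * g⁻¹ := by group
          _ = g * ((g⁻¹ * k * g) * x) * g⁻¹ := by rw [h1]
          _ = k * (g * x * g⁻¹) := by group
      · rw [conj_pow, hXe.2 x hx, mul_one, mul_inv_cancel]
    rw [Subgroup.mem_normalizer_iff]
    intro x
    constructor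
    · exact hconj g hg x
    · intro hx
      have h1 := hconj g⁻¹ (inv_mem hg) _ hx
      simpa [mul_assoc] using h1
  obtain ⟨z, hzK, hzc, hzp, hzX⟩ := hex
  have hz1 : z ≠ 1 := fun h => hzX (h ▸ one_mem X)
  set Y : Subgroup G := Subgroup.zpowers z with hY
  have hYe : IsElementaryAbelian p Y := by
    rw [bg_elemAb_iff]
    refine ⟨?_, ?_⟩
    · intro a ha b hb
      obtain ⟨m, rfl⟩ := Subgroup.mem_zpowers_iff.mp ha
      obtain ⟨n, rfl⟩ := Subgroup.mem_zpowers_iff.mp hb
      exact (zpow_mul_comm z m n)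
    · intro a ha
      obtain ⟨m, rfl⟩ := Subgroup.mem_zpowers_iff.mp ha
      rw [← zpow_natCast, ← zpow_mul, mul_comm, zpow_mul, zpow_natCast, hzp, one_zpow]
  have hYK : Y ≤ K := (Subgroup.zpowers_le).mpr hzK
  have hXY : ∀ x ∈ X, ∀ y ∈ Y, x * y = y * x := by
    intro x hx y hy
    obtain ⟨m, rfl⟩ := Subgroup.mem_zpowers_iff.mp hy
    exact ((Commute.zpow_left (hzc x (hXK hx)) m).eq).symm
  set A : Subgroup G := X ⊔ Y with hA
  have hAe : IsElementaryAbelian p A := bg_elemAb_sup X Y hXe hYe hXY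
  have hAK : A ≤ K := sup_le hXK hYK
  have hAM : A ≤ M := hAK.trans hKM
  have hXA : X ≤ A := le_sup_left
  have hzA : z ∈ A := (le_sup_right : Y ≤ A) (Subgroup.mem_zpowers z)
  have hAp : IsPGroup p A := by
    intro a
    exact ⟨1, by rw [pow_one]; exact Subtype.ext (by simpa using hAe.2 a a.2)⟩
  obtain ⟨n, hn⟩ := IsPGroup.iff_card.mp hAp
  have hlt : p < Nat.card A := by
    rw [← hX]
    by_contra h
    have h1 := Subgroup.eq_of_le_of_card_ge hXA (not_lt.mp h)
    exact hzX (h1 ▸ hzA)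
  have hle : Nat.card A ≤ p ^ 2 := by
    have h3 := hr2 (A.subgroupOf M) (bg_elemAb_subgroupOf _ hAe).1 (bg_elemAb_subgroupOf _ hAe).2
    rwa [Nat.card_congr (Subgroup.subgroupOfEquivOfLe hAM).toEquiv] at h3
  have hn2 : n = 2 := by
    rw [hn] at hlt hle
    have h3 := (Nat.pow_lt_pow_iff_right hpp.one_lt).mp (by rw [pow_one]; exact hlt : p ^ 1 < p ^ n)
    have h4 := (Nat.pow_le_pow_iff_right hpp.one_lt).mp hle
    omega
  have hA2 : Nat.card A = p ^ 2 := by rw [hn, hn2]
  have hr1 : ¬ PRankLE p 1 M := by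
    intro h
    have h3 := h (A.subgroupOf M) (bg_elemAb_subgroupOf _ hAe).1 (bg_elemAb_subgroupOf _ hAe).2
    rw [Nat.card_congr (Subgroup.subgroupOfEquivOfLe hAM).toEquiv, pow_one] at h3
    omega
  exact ⟨⟨hr2, hr1⟩, bg_rank_two_not_ideal hG hU M hM p hr2 hr1, A, hAe, hA2, hXA⟩

end Cfsg.Agent.Lib.helper8
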