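import Mathlib
import Cfsg.Agent.Lib.helper8.BGTen4
import Cfsg.Agent.Lib.helper71.BGTenB

/-!
Bender–Glauberman, Section 10: a complement `E` of `M_σ` in `M` (B-G 10.9 / 10.10):
`E'` is nilpotent, a Hall `τ₁(M)`-subgroup of `E` is cyclic, a Hall `τ₃(M)`-subgroup of `E` is
cyclic, lies in `E'` and is normal in `E`.  (On top of `BGUniqHyp`, `BGFusHyp`.)
-/

set_option autoImplicit false
open Cfsg

namespace Cfsg.Agent.Lib.helper8

variable {G : Type*} [Group G]

theorem bg_isNilpotent_of_injective {H K : Type*} [Group H] [Group K] (f : H →* K)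
    (hf : Function.Injective f) (hK : Group.IsNilpotent K) : Group.IsNilpotent H := by
  have := hK
  exact Subgroup.isNilpotent_of_ker_le_center f
    (by rw [(MonoidHom.ker_eq_bot_iff f).mpr hf]; exact bot_le)

/-- A normal subgroup of index prime to `p` contains every `p`-subgroup. -/
theorem bg_le_of_not_dvd_index {X : Type*} [Group X] [Finite X] {p : ℕ} [Fact p.Prime]
    (N : Subgroup X) [N.Normal] (h : ¬ p ∣ N.index) (Q : Subgroup X) (hQ : IsPGroup p Q) :
    Q ≤ N := by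
  intro x hx
  obtain ⟨k, hk⟩ := hQ ⟨x, hx⟩
  have hk' : x ^ (p ^ k) = 1 := congrArg Subtype.val hk
  have h1 : (QuotientGroup.mk' N x) ^ (p ^ k) = 1 := by rw [← map_pow, hk', map_one]
  have h2 : (QuotientGroup.mk' N x) ^ N.index = 1 := by
    rw [Subgroup.index_eq_card]; exact pow_card_eq_one'
  have h3 := (pow_gcd_eq_one (a := QuotientGroup.mk' N x)).mpr ⟨h1, h2⟩
  have hcop : Nat.gcd (p ^ k) N.index = 1 :=
    Nat.Coprime.pow_left k ((Nat.Prime.coprime_iff_not_dvd Fact.out).mpr h)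
  rw [hcop, pow_one] at h3
  exact (QuotientGroup.eq_one_iff x).mp h3

/-- A `p`-subgroup whose index is prime to `p` contains every `p`-subgroup containing it. -/
theorem bg_pgroup_max_of_not_dvd {X : Type*} [Group X] [Finite X] {p : ℕ} [Fact p.Prime]
    {Q R : Subgroup X} (hQR : Q ≤ R) (hR : IsPGroup p R) (h : ¬ p ∣ Q.index) : R ≤ Q := by
  rw [← Subgroup.relIndex_eq_one]
  by_contra hne
  obtain ⟨q, hq, hqd⟩ := Nat.exists_prime_and_dvd hne
  have h1 : q ∣ Nat.card R := hqd.trans (Subgroup.relIndex_dvd_card Q R)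
  obtain ⟨n, hn⟩ := IsPGroup.iff_card.mp hR
  rw [hn] at h1
  have h2 : q = p := (Nat.prime_dvd_prime_iff_eq hq Fact.out).mp (hq.dvd_of_dvd_pow h1)
  subst h2
  exact h (hqd.trans (Subgroup.relIndex_dvd_index_of_le hQR))

/-- `E' ` is nilpotent for a complement `E` of `M_σ`. -/
theorem bg_compl_comm_nilpotent [Finite G] (hG : IsMinSimpleOddOrder G) (hU : BGUniqHyp G)
    (hF : BGFusHyp G) (M : Subgroup G) (hM : IsCoatom M) (E : Subgroup G)
    (hE : IsComplIn E (sigmaCore M) M) : Group.IsNilpotent ↥⁅E, E⁆ := by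
  obtain ⟨hEM, hσM, hdisj, hprod⟩ := hE
  obtain ⟨-, hrank, hnil⟩ := bg_alpha_core_main hG hU hF M hM
  obtain ⟨-, -, hασ, -, -⟩ := bg_alpha_core_statement hG hU hF M hM
  let ψ : ↥E →* (↥M ⧸ piCore (alpha M) ↥M) :=
    (QuotientGroup.mk' _).comp (Subgroup.inclusion hEM)
  have hψ : Function.Injective ψ := by
    rw [injective_iff_map_eq_one]
    intro e he
    have h1 : Subgroup.inclusion hEM e ∈ piCore (alpha M) ↥M := (QuotientGroup.eq_one_iff _).mp he
    have h2 : (e : G) ∈ alphaCore M := ⟨_, h1, rfl⟩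
    have h3 : (e : G) ∈ E ⊓ sigmaCore M := ⟨e.2, hασ h2⟩
    rw [hdisj, Subgroup.mem_bot] at h3
    exact Subtype.ext h3
  have hc : ∀ x : ↥(commutator ↥E), ψ x ∈ commutator (↥M ⧸ piCore (alpha M) ↥M) := by
    intro x
    have h1 : ψ x ∈ Subgroup.map ψ ⁅(⊤ : Subgroup ↥E), (⊤ : Subgroup ↥E)⁆ := ⟨x, x.2, rfl⟩
    rw [Subgroup.map_commutator] at h1
    rw [commutator_def]
    exact Subgroup.commutator_mono le_top le_top h1
  let f : ↥(commutator ↥E) →* ↥(commutator (↥M ⧸ piCore (alpha M) ↥M)) :=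
    (ψ.comp (commutator ↥E).subtype).codRestrict _ hc
  have hf : Function.Injective f := by
    intro a b hab
    have := congrArg Subtype.val hab
    exact Subtype.ext (hψ this)
  have h1 : Group.IsNilpotent ↥(commutator ↥E) := bg_isNilpotent_of_injective f hf hnil
  have h2 : Group.IsNilpotent ↥((commutator ↥E).map E.subtype) :=
    Group.nilpotent_of_mulEquiv ((commutator ↥E).equivMapOfInjective E.subtype E.subtype_injective)
  rwa [Subgroup.map_subtype_commutator] at h2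

/-- Sylow subgroups of rank one are cyclic (odd order). -/
theorem bg_sylow_cyclic_of_prank_one [Finite G] (hodd : Odd (Nat.card G)) {X M : Subgroup G}
    (hXM : X ≤ M) (p : ℕ) [Fact p.Prime] (hr : PRankLE p 1 M) (P : Sylow p X) :
    IsCyclic P := by
  have hpp : p.Prime := Fact.out
  by_cases hp2 : p = 2
  · have h1 : Nat.card P ∣ Nat.card G :=
      (Subgroup.card_subgroup_dvd_card (P : Subgroup X)).trans (Subgroup.card_subgroup_dvd_card X)
    obtain ⟨n, hn⟩ := IsPGroup.iff_card.mp P.isPGroup'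
    have h2 : Nat.card P = 1 := by
      rcases Nat.eq_zero_or_pos n with h0 | h0
      · rw [hn, h0, pow_zero]
      · exfalso
        have h3 : 2 ∣ Nat.card G := by
          refine Dvd.dvd.trans ?_ h1
          rw [hn, hp2]
          exact dvd_pow_self 2 h0.ne'
        exact (Nat.not_even_iff_odd.mpr hodd) (even_iff_two_dvd.mpr h3)
    have : Subsingleton P := (Nat.card_eq_one_iff_unique.mp h2).1
    exact isCyclic_of_subsingleton
  · refine Cfsg.Agent.Lib.helper71.BGA.isCyclic_of_prankLE_one p hp2 P.isPGroup' ?_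
    exact Cfsg.Agent.Lib.helper26.prankLE_of_injective
      ((Subgroup.inclusion hXM).comp (P : Subgroup X).subtype)
      ((Subgroup.inclusion_injective hXM).comp (Subgroup.subtype_injective _)) hr

theorem bg_sylow_cyclic_of_not_dvd {X : Type*} [Group X] [Finite X] {p : ℕ} [Fact p.Prime]
    (h : ¬ p ∣ Nat.card X) (P : Sylow p X) : IsCyclic P := by
  obtain ⟨n, hn⟩ := IsPGroup.iff_card.mp P.isPGroup'
  have h2 : Nat.card P = 1 := by
    rcases Nat.eq_zero_or_pos n with h0 | h0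
    · rw [hn, h0, pow_zero]
    · exfalso
      apply h
      refine Dvd.dvd.trans ?_ (Subgroup.card_subgroup_dvd_card (P : Subgroup X))
      rw [hn]
      exact dvd_pow_self p h0.ne'
  have : Subsingleton P := (Nat.card_eq_one_iff_unique.mp h2).1
  exact isCyclic_of_subsingleton

/-- For `p ∉ σ(M)` dividing `|M'|`, `p` divides `|E'|`. -/
theorem bg_dvd_card_comm_compl [Finite G] (M E : Subgroup G) (hE : IsComplIn E (sigmaCore M) M)
    {p : ℕ} (hp : p.Prime) (hσ : p ∉ sigma M) (hd : p ∣ Nat.card ↥⁅M, M⁆) :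
    p ∣ Nat.card ↥(commutator ↥E) := by
  have : Fact p.Prime := ⟨hp⟩
  obtain ⟨hEM, hσM, hdisj, hprod⟩ := hE
  set N := piCore (sigma M) ↥M with hN
  let ψ : ↥E →* (↥M ⧸ N) := (QuotientGroup.mk' N).comp (Subgroup.inclusion hEM)
  have hψi : Function.Injective ψ := by
    rw [injective_iff_map_eq_one]
    intro e he
    have h1 : Subgroup.inclusion hEM e ∈ N := (QuotientGroup.eq_one_iff _).mp he
    have h2 : (e : G) ∈ sigmaCore M := ⟨_, h1, rfl⟩
    have h3 : (e : G) ∈ E ⊓ sigmaCore M := ⟨e.2, h2⟩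
    rw [hdisj, Subgroup.mem_bot] at h3
    exact Subtype.ext h3
  have hψs : Function.Surjective ψ := by
    intro q
    obtain ⟨m, rfl⟩ := QuotientGroup.mk'_surjective N q
    obtain ⟨a, ha, b, hb, hab⟩ := hprod m m.2
    obtain ⟨b', hb'N, hb'⟩ := hb
    refine ⟨⟨a, ha⟩, ?_⟩
    show QuotientGroup.mk' N (Subgroup.inclusion hEM ⟨a, ha⟩) = QuotientGroup.mk' N m
    have hm : m = Subgroup.inclusion hEM ⟨a, ha⟩ * b' := Subtype.ext (by rw [hab, ← hb']; rfl)
    have hb1 : QuotientGroup.mk' N b' = 1 := (QuotientGroup.eq_one_iff b').mpr hb'N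
    rw [hm, map_mul, hb1, mul_one]
  have hcard : Nat.card ↥⁅M, M⁆ = Nat.card ↥(commutator ↥M) := by
    rw [← Subgroup.map_subtype_commutator, Subgroup.card_subtype]
  rw [hcard] at hd
  obtain ⟨y, hy⟩ := exists_prime_orderOf_dvd_card' p hd
  have hyp : (y : ↥M) ^ p = 1 := by
    have h1 := pow_orderOf_eq_one y
    rw [hy] at h1
    exact congrArg Subtype.val h1
  have hy1 : (y : ↥M) ≠ 1 := by
    intro h
    have h1 : y = 1 := Subtype.ext h
    rw [h1, orderOf_one] at hy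
    exact hp.one_lt.ne hy
  have hyN : (y : ↥M) ∉ N := by
    intro h
    apply hσ
    apply Cfsg.Agent.Lib.helper65.piCore_isPiGrp (G := M) (sigma M) p hp
    have h1 : orderOf (⟨(y : ↥M), h⟩ : N) = p :=
      orderOf_eq_prime (Subtype.ext hyp) (fun h2 => hy1 (congrArg Subtype.val h2))
    rw [← h1]
    exact orderOf_dvd_natCard _
  have hmem : QuotientGroup.mk' N (y : ↥M) ∈
      Subgroup.map ψ ⁅(⊤ : Subgroup ↥E), (⊤ : Subgroup ↥E)⁆ := by
    rw [Subgroup.map_commutator, ← MonoidHom.range_eq_map, MonoidHom.range_eq_top.mpr hψs]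
    have h1 : QuotientGroup.mk' N (y : ↥M) ∈
        Subgroup.map (QuotientGroup.mk' N) ⁅(⊤ : Subgroup ↥M), (⊤ : Subgroup ↥M)⁆ := ⟨y, y.2, rfl⟩
    rw [Subgroup.map_commutator] at h1
    exact Subgroup.commutator_mono le_top le_top h1
  obtain ⟨e, he, hey⟩ := hmem
  have he1 : e ≠ 1 := by
    rintro rfl
    rw [map_one] at hey
    exact hyN ((QuotientGroup.eq_one_iff _).mp hey.symm)
  have hep : e ^ p = 1 := by
    apply hψi
    rw [map_pow, hey, ← map_pow, hyp, map_one, map_one]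
  have hord : orderOf (⟨e, he⟩ : ↥(commutator ↥E)) = p :=
    orderOf_eq_prime (Subtype.ext hep) (fun h2 => he1 (congrArg Subtype.val h2))
  rw [← hord]
  exact orderOf_dvd_natCard _

/-- If the Sylow `p`-subgroups of `E` are cyclic and `p ∣ |E'|`, every `p`-subgroup of `E`
lies in `E'`. -/
theorem bg_pgroup_le_comm [Finite G] {E : Subgroup G} {p : ℕ} [Fact p.Prime]
    (hcyc : ∀ P : Sylow p E, IsCyclic P) (hd : p ∣ Nat.card ↥(commutator ↥E))
    (Q : Subgroup G) (hQE : Q ≤ E) (hQ : IsPGroup p Q) : Q ≤ ⁅E, E⁆ := by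
  obtain ⟨P⟩ : Nonempty (Sylow p E) := inferInstance
  have := hcyc P
  have h1 : ¬ p ∣ (commutator ↥E).index :=
    (Sylow.not_dvd_card_commutator_or_not_dvd_index_commutator P).resolve_left (fun h => h hd)
  have h2 : Q.subgroupOf E ≤ commutator ↥E := bg_le_of_not_dvd_index _ h1 _ hQ.comap_subtype
  intro x hx
  rw [← Subgroup.map_subtype_commutator]
  exact ⟨⟨x, hQE hx⟩, h2 (Subgroup.mem_subgroupOf.mpr hx), rfl⟩

/-- A Hall `τ₁(M)`-subgroup of `E ≤ M` is cyclic. -/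
theorem bg_tau1_hall_cyclic [Finite G] (hG : IsMinSimpleOddOrder G) (M E : Subgroup G)
    (hEM : E ≤ M) (E₁ : Subgroup G) (hE₁ : IsPiHallOf (tau1 M) E₁ E) : IsCyclic E₁ := by
  obtain ⟨hodd, -, -, -⟩ := id hG
  obtain ⟨hE₁E, hπ, -⟩ := hE₁
  have hdisj : E₁ ⊓ ⁅E, E⁆ = ⊥ := by
    by_contra hne
    have hcard : Nat.card ↥(E₁ ⊓ ⁅E, E⁆) ≠ 1 := fun h => hne (Subgroup.card_eq_one.mp h)
    obtain ⟨q, hq, hqd⟩ := Nat.exists_prime_and_dvd hcard
    have h1 : q ∈ tau1 M := hπ q hq (hqd.trans (Subgroup.card_dvd_of_le inf_le_left))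
    have h2 : q ∣ Nat.card ↥⁅M, M⁆ :=
      hqd.trans (Subgroup.card_dvd_of_le (inf_le_right.trans (Subgroup.commutator_mono hEM hEM)))
    exact h1.2.2.2.1 h2
  have hcomm : ∀ a ∈ E₁, ∀ b ∈ E₁, a * b = b * a := by
    intro a ha b hb
    have hc := Subgroup.commutator_mem_commutator (hE₁E ha) (hE₁E hb)
    rw [commutatorElement_def] at hc
    have hc' : a * b * a⁻¹ * b⁻¹ ∈ E₁ ⊓ ⁅E, E⁆ :=
      ⟨E₁.mul_mem (E₁.mul_mem (E₁.mul_mem ha hb) (E₁.inv_mem ha)) (E₁.inv_mem hb), hc⟩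
    rw [hdisj, Subgroup.mem_bot] at hc'
    exact mul_inv_eq_iff_eq_mul.mp (mul_inv_eq_one.mp hc')
  let _ : CommGroup ↥E₁ :=
    { (inferInstance : Group ↥E₁) with mul_comm := fun a b => Subtype.ext (hcomm a a.2 b b.2) }
  have hnil : Group.IsNilpotent ↥E₁ := CommGroup.isNilpotent
  have hZ : IsZGroup ↥E₁ := ⟨fun p hpp P => by
    have : Fact p.Prime := ⟨hpp⟩
    by_cases hp : p ∣ Nat.card E₁
    · exact bg_sylow_cyclic_of_prank_one hodd (hE₁E.trans hEM) p (hπ p hpp hp).2.2.2.2 P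
    · exact bg_sylow_cyclic_of_not_dvd hp P⟩
  infer_instance

/-- A Hall `τ₃(M)`-subgroup of a complement `E` of `M_σ` is cyclic, lies in `E'`, and is normal
in `E`. -/
theorem bg_tau3_hall [Finite G] (hG : IsMinSimpleOddOrder G) (hU : BGUniqHyp G)
    (hF : BGFusHyp G) (M : Subgroup G) (hM : IsCoatom M) (E : Subgroup G)
    (hE : IsComplIn E (sigmaCore M) M) (E₃ : Subgroup G) (hE₃ : IsPiHallOf (tau3 M) E₃ E) :
    IsCyclic E₃ ∧ E₃ ≤ ⁅E, E⁆ ∧ E ≤ Subgroup.normalizer (E₃ : Set G) := by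
  obtain ⟨hodd, -, -, -⟩ := id hG
  have hnilD := bg_compl_comm_nilpotent hG hU hF M hM E hE
  have hEM : E ≤ M := hE.1
  obtain ⟨hE₃E, hπ, hHall⟩ := hE₃
  have hDE : ⁅E, E⁆ ≤ E := by
    rw [← Subgroup.map_subtype_commutator]
    exact Subgroup.map_subtype_le _
  have hprime : ∀ p : ℕ, p.Prime → p ∣ Nat.card E₃ → ∀ Q : Subgroup G, Q ≤ E → IsPGroup p Q →
      Q ≤ ⁅E, E⁆ := by
    intro p hp hpd Q hQE hQ
    have : Fact p.Prime := ⟨hp⟩
    have hτ := hπ p hp hpd
    exact bg_pgroup_le_comm (fun P => bg_sylow_cyclic_of_prank_one hodd hEM p hτ.2.2.2 P)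
      (bg_dvd_card_comm_compl M E hE hp hτ.2.1 hτ.2.2.1) Q hQE hQ
  have h3a : E₃ ≤ ⁅E, E⁆ := by
    rw [← Subgroup.relIndex_eq_one]
    by_contra hne
    obtain ⟨p, hp, hpd⟩ := Nat.exists_prime_and_dvd hne
    have : Fact p.Prime := ⟨hp⟩
    have hpE₃ : p ∣ Nat.card E₃ := hpd.trans (Subgroup.relIndex_dvd_card _ _)
    obtain ⟨Q⟩ : Nonempty (Sylow p E₃) := inferInstance
    have h1 : (Q : Subgroup E₃).map E₃.subtype ≤ ⁅E, E⁆ :=
      hprime p hp hpE₃ _ ((Subgroup.map_subtype_le _).trans hE₃E) (Q.isPGroup'.map _)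
    have h2 : (Q : Subgroup E₃) ≤ (⁅E, E⁆).subgroupOf E₃ := by
      intro x hx
      exact Subgroup.mem_subgroupOf.mpr (h1 ⟨x, hx, rfl⟩)
    exact Q.not_dvd_index (hpd.trans (Subgroup.index_dvd_of_le h2))
  have hnil₃ : Group.IsNilpotent ↥E₃ :=
    bg_isNilpotent_of_injective (Subgroup.inclusion h3a) (Subgroup.inclusion_injective h3a) hnilD
  have hZ : IsZGroup ↥E₃ := ⟨fun p hpp P => by
    have : Fact p.Prime := ⟨hpp⟩
    by_cases hp : p ∣ Nat.card E₃
    · exact bg_sylow_cyclic_of_prank_one hodd (hE₃E.trans hEM) p (hπ p hpp hp).2.2.2 P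
    · exact bg_sylow_cyclic_of_not_dvd hp P⟩
  have hcyc : IsCyclic ↥E₃ := inferInstance
  refine ⟨hcyc, h3a, ?_⟩
  -- every `p`-subgroup of `E` lies in a given Sylow `p`-subgroup of `E₃`
  have hkey : ∀ p : ℕ, [Fact p.Prime] → p ∣ Nat.card E₃ → ∀ (Q : Sylow p E₃) (R : Subgroup G),
      R ≤ E → IsPGroup p R → R ≤ (Q : Subgroup E₃).map E₃.subtype := by
    intro p _ hpd Q R hRE hR
    have hp : p.Prime := Fact.out
    set Q' := (Q : Subgroup E₃).map E₃.subtype with hQ'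
    have hQ'E₃ : Q' ≤ E₃ := Subgroup.map_subtype_le _
    have hQ'p : IsPGroup p Q' := Q.isPGroup'.map _
    have hQ'D : Q' ≤ ⁅E, E⁆ := hprime p hp hpd Q' (hQ'E₃.trans hE₃E) hQ'p
    have hRD : R ≤ ⁅E, E⁆ := hprime p hp hpd R hRE hR
    obtain ⟨S, hS⟩ := (hQ'p.comap_subtype (K := ⁅E, E⁆)).exists_le_sylow
    have htfae : Group.IsNilpotent ↥⁅E, E⁆ ↔ ∀ (p : ℕ) (_hp : Fact p.Prime)
        (P : Sylow p ↥⁅E, E⁆), (↑P : Subgroup ↥⁅E, E⁆).Normal :=
      (Group.isNilpotent_of_finite_tfae (G := ↥⁅E, E⁆)).out 0 3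
    have hSn : (S : Subgroup ↥⁅E, E⁆).Normal := htfae.mp hnilD p inferInstance S
    have hRS : R.subgroupOf ⁅E, E⁆ ≤ S := by
      have h1 : IsPGroup p ↥(R.subgroupOf ⁅E, E⁆ ⊔ S) :=
        IsPGroup.to_sup_of_normal_right hR.comap_subtype S.isPGroup'
      have h2 := S.is_maximal' h1 le_sup_right
      rw [← h2]
      exact le_sup_left
    set S' := (S : Subgroup ↥⁅E, E⁆).map (⁅E, E⁆).subtype with hS'
    have hQ'S' : Q' ≤ S' := by
      intro x hx
      exact ⟨⟨x, hQ'D hx⟩, hS (Subgroup.mem_subgroupOf.mpr hx), rfl⟩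
    have hS'E : S' ≤ E := (Subgroup.map_subtype_le _).trans hDE
    have hS'p : IsPGroup p S' := S.isPGroup'.map _
    have hidx : ¬ p ∣ (Q'.subgroupOf E).index := by
      have h1 : Q'.relIndex E₃ * E₃.relIndex E = Q'.relIndex E :=
        Subgroup.relIndex_mul_relIndex Q' E₃ E hQ'E₃ hE₃E
      have h2 : Q'.relIndex E₃ = (Q : Subgroup E₃).index :=
        Cfsg.Agent.Lib.helper71.BGA.relIndex_map_subtype _
      intro h
      have h3 : p ∣ Q'.relIndex E₃ * E₃.relIndex E := by rw [h1]; exact h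
      rcases (Nat.Prime.dvd_mul hp).mp h3 with h4 | h4
      · rw [h2] at h4
        exact Q.not_dvd_index h4
      · exact hHall p hp (hπ p hp hpd) h4
    have hS'Q' : S'.subgroupOf E ≤ Q'.subgroupOf E :=
      bg_pgroup_max_of_not_dvd (fun x hx => Subgroup.mem_subgroupOf.mpr
        (hQ'S' (Subgroup.mem_subgroupOf.mp hx))) hS'p.comap_subtype hidx
    intro x hx
    have hxS' : x ∈ S' := ⟨⟨x, hRD hx⟩, hRS (Subgroup.mem_subgroupOf.mpr hx), rfl⟩
    exact Subgroup.mem_subgroupOf.mp (hS'Q' (Subgroup.mem_subgroupOf.mpr hxS' :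
      (⟨x, hS'E hxS'⟩ : E) ∈ S'.subgroupOf E))
  have hclaim : ∀ g ∈ E, E₃ ≤ E₃.map (MulAut.conj g).toMonoidHom := by
    intro g hg
    rw [← Subgroup.relIndex_eq_one]
    by_contra hne
    obtain ⟨p, hp, hpd⟩ := Nat.exists_prime_and_dvd hne
    have : Fact p.Prime := ⟨hp⟩
    have hpE₃ : p ∣ Nat.card E₃ := hpd.trans (Subgroup.relIndex_dvd_card _ _)
    obtain ⟨Q⟩ : Nonempty (Sylow p E₃) := inferInstance
    have h2 : (Q : Subgroup E₃) ≤ (E₃.map (MulAut.conj g).toMonoidHom).subgroupOf E₃ := by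
      intro x hx
      rw [Subgroup.mem_subgroupOf]
      have hx' : (x : G) ∈ (Q : Subgroup E₃).map E₃.subtype := ⟨x, hx, rfl⟩
      have hR : ((Q : Subgroup E₃).map E₃.subtype).map (MulAut.conj g⁻¹).toMonoidHom ≤
          (Q : Subgroup E₃).map E₃.subtype := by
        apply hkey p hpE₃ Q
        · rintro _ ⟨y, hy, rfl⟩
          have hyE : y ∈ E := hE₃E ((Subgroup.map_subtype_le _) hy)
          have h5 : (MulAut.conj g⁻¹).toMonoidHom y = g⁻¹ * y * g := by simp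
          rw [h5]
          exact E.mul_mem (E.mul_mem (E.inv_mem hg) hyE) hg
        · exact (Q.isPGroup'.map _).map _
      have h3 : g⁻¹ * (x : G) * g ∈ E₃ := by
        have h4 := hR ⟨(x : G), hx', rfl⟩
        have h5 : (MulAut.conj g⁻¹).toMonoidHom (x : G) = g⁻¹ * x * g := by
          simp
        rw [h5] at h4
        exact (Subgroup.map_subtype_le _) h4
      exact ⟨g⁻¹ * (x : G) * g, h3, by simp [mul_assoc]⟩
    exact Q.not_dvd_index (hpd.trans (Subgroup.index_dvd_of_le h2))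
  intro g hg
  rw [Subgroup.mem_normalizer_iff]
  intro h
  constructor
  · intro hh
    obtain ⟨k, hk, hkh⟩ := hclaim g⁻¹ (E.inv_mem hg) hh
    have h5 : g * h * g⁻¹ = k := by
      rw [← hkh]
      simp [mul_assoc]
    rw [h5]
    exact hk
  · intro hh
    obtain ⟨k, hk, hkh⟩ := hclaim g hg hh
    have h5 : g * k * g⁻¹ = g * h * g⁻¹ := by
      rw [← hkh]
      simp
    have h6 : h = k := (mul_left_cancel (mul_right_cancel h5)).symm
    rw [h6]
    exact hk

/-- B-G 10.9 / 10.10 (the statement S1415). -/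
theorem bg_compl_statement [Finite G] (hG : IsMinSimpleOddOrder G) (hU : BGUniqHyp G)
    (hF : BGFusHyp G) (M : Subgroup G) (hM : IsCoatom M) (E : Subgroup G)
    (hE : IsComplIn E (sigmaCore M) M) :
    Group.IsNilpotent ↥⁅E, E⁆ ∧
      (∀ E₁ : Subgroup G, IsPiHallOf (tau1 M) E₁ E → IsCyclic E₁) ∧
      ∀ E₃ : Subgroup G, IsPiHallOf (tau3 M) E₃ E →
        IsCyclic E₃ ∧ E₃ ≤ ⁅E, E⁆ ∧ E ≤ Subgroup.normalizer (E₃ : Set G) :=
  ⟨bg_compl_comm_nilpotent hG hU hF M hM E hE,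
    fun E₁ hE₁ => bg_tau1_hall_cyclic hG M E hE.1 E₁ hE₁,
    fun E₃ hE₃ => bg_tau3_hall hG hU hF M hM E hE E₃ hE₃⟩

end Cfsg.Agent.Lib.helper8
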