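import Mathlib
import Cfsg.Agent.Lib.helper8.BGTen5
import Cfsg.Agent.S1459
import Cfsg.Agent.S1461

/-!
Bender–Glauberman, Corollary 10.7 (b), (d)-(f), on top of 10.1(a) (`BGFusHyp`) and
Corollary 10.7(a) (`BGPLenHyp`: every proper subgroup has `p`-length one).
-/

set_option autoImplicit false
open Cfsg

namespace Cfsg.Agent.Lib.helper8

variable {G : Type*} [Group G]

/-- B-G Corollary 10.7(a) (every proper subgroup has `p`-length one), as a hypothesis. -/
def BGPLenHyp (G : Type*) [Group G] : Prop :=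
  ∀ p : ℕ, p.Prime → ∀ H : Subgroup G, H ≠ ⊤ → PLengthLE p 1 H

theorem bg_not_pgroup_top [Finite G] (hG : IsMinSimpleOddOrder G) (p : ℕ) [Fact p.Prime] :
    ¬ IsPGroup p G := by
  obtain ⟨-, hsimple, hna, -⟩ := id hG
  have := hsimple
  intro h
  have hZ := h.center_nontrivial
  have hZn : (Subgroup.center G).Normal := inferInstance
  rcases hZn.eq_bot_or_eq_top with h1 | h1
  · exact (Subgroup.nontrivial_iff_ne_bot _).mp hZ h1
  · apply hna
    rw [isMulCommutative_iff]
    intro a b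
    have ha : a ∈ Subgroup.center G := h1 ▸ Subgroup.mem_top a
    exact (Subgroup.mem_center_iff.mp ha b).symm

/-- A nontrivial Sylow subgroup of `G`: its normalizer lies in a maximal subgroup `M` with
`p ∈ σ(M)`. -/
theorem bg_sylow_setup [Finite G] (hG : IsMinSimpleOddOrder G) (p : ℕ) [Fact p.Prime]
    (P : Sylow p G) (hP : (P : Subgroup G) ≠ ⊥) :
    ∃ M : Subgroup G, IsCoatom M ∧ Subgroup.normalizer ((P : Subgroup G) : Set G) ≤ M ∧
      p ∈ sigma M := by
  obtain ⟨-, hsimple, hna, -⟩ := id hG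
  have := hsimple
  have hpp : p.Prime := Fact.out
  have hNtop : Subgroup.normalizer ((P : Subgroup G) : Set G) ≠ ⊤ := by
    intro h
    have hn : (P : Subgroup G).Normal := Subgroup.normalizer_eq_top_iff.mp h
    rcases hn.eq_bot_or_eq_top with h1 | h1
    · exact hP h1
    · apply bg_not_pgroup_top hG p
      intro g
      obtain ⟨k, hk⟩ := P.isPGroup' ⟨g, h1 ▸ Subgroup.mem_top g⟩
      exact ⟨k, congrArg Subtype.val hk⟩
  obtain ⟨M, hM, hNM⟩ := (eq_top_or_exists_le_coatom _).resolve_left hNtop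
  have hPM : (P : Subgroup G) ≤ M := Subgroup.le_normalizer.trans hNM
  refine ⟨M, hM, hNM, hpp, ?_, P.subtype hPM, ?_⟩
  · have hnt : Nontrivial (P : Subgroup G) := (Subgroup.nontrivial_iff_ne_bot _).mpr hP
    obtain ⟨n, hn0, hn⟩ := (P.isPGroup'.nontrivial_iff_card).mp hnt
    have h1 : p ∣ Nat.card (P : Subgroup G) := by rw [hn]; exact dvd_pow_self p hn0.ne'
    exact h1.trans (Subgroup.card_dvd_of_le hPM)
  · rw [Sylow.coe_subtype, Subgroup.map_subgroupOf_eq_of_le hPM]
    exact hNM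

/-- For `p ∈ σ(M)`, every `p`-subgroup of `M` lies in `M'` (transfer). -/
theorem bg_sylow_le_commutator [Finite G] (hG : IsMinSimpleOddOrder G) (hF : BGFusHyp G)
    (M : Subgroup G) (hM : IsCoatom M) {p : ℕ} [Fact p.Prime] (hp : p ∈ sigma M)
    (Q : Subgroup M) (hQ : IsPGroup p Q) : Q ≤ commutator M := by
  have h1 := bg_sigma_residual hG hF M hM hp
  have h2 : ¬ p ∣ (commutator ↥M).index := bg_not_dvd_index_of_comm h1 (commutator M) le_rfl
  exact bg_le_of_not_dvd_index _ h2 Q hQ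

/-- B-G Corollary 10.7(b) (the statement S1411). -/
theorem bg_sylow_comm_statement [Finite G] (hG : IsMinSimpleOddOrder G) (hF : BGFusHyp G)
    (hL : BGPLenHyp G) (p : ℕ) [Fact p.Prime] (P : Sylow p G) (V : Subgroup G)
    (hV : IsComplIn (P : Subgroup G) V (Subgroup.normalizer ((P : Subgroup G) : Set G))) :
    (P : Subgroup G) = ⁅(P : Subgroup G), V⁆ ∧
      (P : Subgroup G) ≤ ⁅Subgroup.normalizer ((P : Subgroup G) : Set G),
        Subgroup.normalizer ((P : Subgroup G) : Set G)⁆ := by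
  obtain ⟨hodd, hsimple, hna, hsolv⟩ := id hG
  have hpp : p.Prime := Fact.out
  by_cases hP : (P : Subgroup G) = ⊥
  · constructor
    · rw [hP, Subgroup.commutator_bot_left]
    · rw [hP]; exact bot_le
  obtain ⟨M, hM, hNM, hσ⟩ := bg_sylow_setup hG p P hP
  have hPM : (P : Subgroup G) ≤ M := Subgroup.le_normalizer.trans hNM
  have hsolvM : Group.IsSolvable M := hsolv M hM.1
  set S : Sylow p M := P.subtype hPM with hS
  have hmemS : ∀ x : M, x ∈ (S : Subgroup M) ↔ (x : G) ∈ (P : Subgroup G) := by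
    intro x
    rw [hS, Sylow.coe_subtype]
    exact Subgroup.mem_subgroupOf
  have hSP : (S : Subgroup M).map M.subtype = (P : Subgroup G) := by
    rw [hS, Sylow.coe_subtype, Subgroup.map_subgroupOf_eq_of_le hPM]
  have hSc : (S : Subgroup M) ≤ commutator M :=
    bg_sylow_le_commutator hG hF M hM hσ _ S.isPGroup'
  have h461 := (Cfsg.Agent.S1461.result (G := M) p (hL p hpp M hM.1) S).1 hSc
  set N := Subgroup.normalizer ((P : Subgroup G) : Set G) with hN
  have hPN : (P : Subgroup G) ≤ N := Subgroup.le_normalizer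
  have hsecond : (P : Subgroup G) ≤ ⁅N, N⁆ := by
    rw [← hSP]
    refine (Subgroup.map_mono h461).trans ?_
    rw [Subgroup.map_commutator]
    have h1 : (Subgroup.normalizer ((S : Subgroup M) : Set M)).map M.subtype ≤ N := by
      rintro _ ⟨g, hg, rfl⟩
      have hg' : g ∈ Subgroup.normalizer ((S : Subgroup M) : Set M) := hg
      rw [Subgroup.mem_normalizer_iff] at hg'
      show (g : G) ∈ N
      rw [hN, Subgroup.mem_normalizer_iff]
      intro z
      constructor
      · intro hz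
        have h2 := (hg' ⟨z, hPM hz⟩).mp ((hmemS _).mpr hz)
        exact (hmemS _).mp h2
      · intro hz
        have hzM : z ∈ M := by
          have h3 : z = (g : G)⁻¹ * ((g : G) * z * (g : G)⁻¹) * (g : G) := by group
          rw [h3]
          exact M.mul_mem (M.mul_mem (M.inv_mem g.2) (hPM hz)) g.2
        have h2 := (hg' ⟨z, hzM⟩).mpr ((hmemS _).mpr hz)
        exact (hmemS _).mp h2
    exact Subgroup.commutator_mono h1 h1
  refine ⟨?_, hsecond⟩
  -- first claim, via S1459 inside `N`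
  have hNtop : N ≠ ⊤ := fun h => hM.1 (top_le_iff.mp (h ▸ hNM))
  have hsolvN : Group.IsSolvable N := hsolv N hNtop
  obtain ⟨hPN', hVN, hPV, hprod⟩ := hV
  set H : Subgroup N := (P : Subgroup G).subgroupOf N with hH
  set K : Subgroup N := V.subgroupOf N with hK
  have hHn : H.Normal := Subgroup.normal_in_normalizer
  have hcardH : Nat.card H = Nat.card (P : Subgroup G) :=
    Nat.card_congr (Subgroup.subgroupOfEquivOfLe hPN).toEquiv
  have hidx : ¬ p ∣ H.index := by
    intro h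
    exact P.not_dvd_index (h.trans (Subgroup.relIndex_dvd_index_of_le hPN))
  have hcop : (Nat.card H).Coprime H.index := by
    obtain ⟨n, hn⟩ := IsPGroup.iff_card.mp P.isPGroup'
    rw [hcardH, hn]
    exact Nat.Coprime.pow_left n ((Nat.Prime.coprime_iff_not_dvd hpp).mpr hidx)
  have hcompl : Subgroup.IsComplement' H K := by
    apply Subgroup.isComplement'_of_disjoint_and_mul_eq_univ
    · rw [Subgroup.disjoint_def]
      intro x hx1 hx2
      have h3 : (x : G) ∈ (P : Subgroup G) ⊓ V :=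
        ⟨Subgroup.mem_subgroupOf.mp hx1, Subgroup.mem_subgroupOf.mp hx2⟩
      rw [hPV, Subgroup.mem_bot] at h3
      exact Subtype.ext h3
    · rw [Set.eq_univ_iff_forall]
      intro n
      obtain ⟨a, ha, b, hb, hab⟩ := hprod n n.2
      exact Set.mem_mul.mpr ⟨⟨a, hPN ha⟩, Subgroup.mem_subgroupOf.mpr ha, ⟨b, hVN hb⟩,
        Subgroup.mem_subgroupOf.mpr hb, Subtype.ext hab.symm⟩
  have hHc : H ≤ commutator N := by
    intro x hx
    have h1 : (x : G) ∈ ⁅N, N⁆ := hsecond (Subgroup.mem_subgroupOf.mp hx)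
    rw [← Subgroup.map_subtype_commutator] at h1
    obtain ⟨y, hy, hyx⟩ := h1
    have : y = x := Subtype.ext hyx
    rw [← this]
    exact hy
  have h459 := ((Cfsg.Agent.S1459.result (G := N)).1 H K hHn hcop hcompl hHc).1
  have h3 := congrArg (Subgroup.map N.subtype) h459
  rw [Subgroup.map_commutator, hH, hK, Subgroup.map_subgroupOf_eq_of_le hPN,
    Subgroup.map_subgroupOf_eq_of_le hVN] at h3
  exact h3

theorem bg_mem_smul_sylow {p : ℕ} (P : Sylow p G) (g x : G) :
    x ∈ ((g • P : Sylow p G) : Subgroup G) ↔ g⁻¹ * x * g ∈ (P : Subgroup G) := by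
  rw [Sylow.coe_subgroup_smul, Subgroup.mem_pointwise_smul_iff_inv_smul_mem]
  simp [MulAut.smul_def]

theorem bg_mem_normalizer_of_subtype {M : Subgroup G} {p : ℕ} (P : Sylow p G)
    (hPM : (P : Subgroup G) ≤ M) (g : M)
    (hg : g ∈ Subgroup.normalizer (((P.subtype hPM : Sylow p M) : Subgroup M) : Set M)) :
    (g : G) ∈ Subgroup.normalizer ((P : Subgroup G) : Set G) := by
  have hmemS : ∀ x : M, x ∈ ((P.subtype hPM : Sylow p M) : Subgroup M) ↔
      (x : G) ∈ (P : Subgroup G) := by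
    intro x
    rw [Sylow.coe_subtype]
    exact Subgroup.mem_subgroupOf
  rw [Subgroup.mem_normalizer_iff] at hg ⊢
  intro z
  constructor
  · intro hz
    have h2 := (hg ⟨z, hPM hz⟩).mp ((hmemS _).mpr hz)
    exact (hmemS _).mp h2
  · intro hz
    have hzM : z ∈ M := by
      have h3 : z = (g : G)⁻¹ * ((g : G) * z * (g : G)⁻¹) * (g : G) := by group
      rw [h3]
      exact M.mul_mem (M.mul_mem (M.inv_mem g.2) (hPM hz)) g.2
    have h2 := (hg ⟨z, hzM⟩).mpr ((hmemS _).mpr hz)
    exact (hmemS _).mp h2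

/-- Strong form of B-G 10.7(d): `G`-fusion of a nontrivial subgroup `Q` of a Sylow subgroup `P`
is induced by `N_G(P) C_G(Q)`. -/
theorem bg_sylow_fusion_strong [Finite G] (hG : IsMinSimpleOddOrder G) (hF : BGFusHyp G)
    (hL : BGPLenHyp G) (p : ℕ) [Fact p.Prime] (P : Sylow p G) (Q : Subgroup G) (hQ1 : Q ≠ ⊥)
    (hQP : Q ≤ (P : Subgroup G)) (x : G)
    (hx : ∀ q ∈ Q, x * q * x⁻¹ ∈ (P : Subgroup G)) :
    ∃ y ∈ Subgroup.normalizer ((P : Subgroup G) : Set G),
      ∃ c ∈ Subgroup.centralizer (Q : Set G), x = y * c := by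
  obtain ⟨hodd, hsimple, hna, hsolv⟩ := id hG
  have hpp : p.Prime := Fact.out
  have hP : (P : Subgroup G) ≠ ⊥ := fun h => hQ1 (le_bot_iff.mp (h ▸ hQP))
  obtain ⟨M, hM, hNM, hσ⟩ := bg_sylow_setup hG p P hP
  have hPM : (P : Subgroup G) ≤ M := Subgroup.le_normalizer.trans hNM
  have hsolvM : Group.IsSolvable M := hsolv M hM.1
  have hmemS : ∀ x : M, x ∈ ((P.subtype hPM : Sylow p M) : Subgroup M) ↔
      (x : G) ∈ (P : Subgroup G) := by
    intro x
    rw [Sylow.coe_subtype]
    exact Subgroup.mem_subgroupOf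
  have hxM : Q.map (MulAut.conj x).toMonoidHom ≤ M := by
    rintro _ ⟨q, hq, rfl⟩
    exact hPM (by simpa [MulAut.conj_apply] using hx q hq)
  obtain ⟨m, hm, c, hc, hxmc⟩ :=
    hF M hM p hσ Q (P.isPGroup'.to_le hQP) hQ1 (hQP.trans hPM) x hxM
  set Y : Set M := {y | (y : G) ∈ Q} with hY
  have hYS : Y ⊆ (((P.subtype hPM : Sylow p M) : Subgroup M) : Set M) :=
    fun y hy => (hmemS y).mpr (hQP hy)
  have hconj : (fun y => (⟨m, hm⟩ : M) * y * (⟨m, hm⟩ : M)⁻¹) '' Y ⊆
      (((P.subtype hPM : Sylow p M) : Subgroup M) : Set M) := by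
    rintro _ ⟨y, hy, rfl⟩
    apply (hmemS _).mpr
    have h1 : x * (y : G) * x⁻¹ ∈ (P : Subgroup G) := hx (y : G) hy
    have hcy : (y : G) * c = c * (y : G) := Subgroup.mem_centralizer_iff.mp hc (y : G) hy
    have h2 : x * (y : G) * x⁻¹ = m * (y : G) * m⁻¹ := by
      rw [hxmc]
      calc m * c * ↑y * (m * c)⁻¹ = m * (c * ↑y) * c⁻¹ * m⁻¹ := by group
        _ = m * (↑y * c) * c⁻¹ * m⁻¹ := by rw [hcy]
        _ = m * ↑y * m⁻¹ := by group
    rw [h2] at h1
    exact h1
  obtain ⟨g, hg, c', hc', hgc⟩ :=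
    (Cfsg.Agent.S1461.result (G := M) p (hL p hpp M hM.1) (P.subtype hPM)).2.1 Y ⟨m, hm⟩ hYS hconj
  refine ⟨(g : G), bg_mem_normalizer_of_subtype P hPM g hg, (c' : G) * c, ?_, ?_⟩
  · refine Subgroup.mul_mem _ ?_ hc
    rw [Subgroup.mem_centralizer_iff]
    intro q hq
    have h3 := Subgroup.mem_centralizer_iff.mp hc' ⟨q, hPM (hQP hq)⟩ hq
    exact congrArg Subtype.val h3
  · rw [hxmc, ← mul_assoc]
    congr 1
    exact (congrArg Subtype.val hgc).symm

theorem bg_normalizer_bot_eq_top : Subgroup.normalizer (((⊥ : Subgroup G) : Subgroup G) : Set G) = ⊤ :=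
  Subgroup.normalizer_eq_top_iff.mpr inferInstance

/-- B-G Corollary 10.7(d)-(f) (the statement S1413). -/
theorem bg_sylow_fusion_statement [Finite G] (hG : IsMinSimpleOddOrder G) (hF : BGFusHyp G)
    (hL : BGPLenHyp G) (p : ℕ) [Fact p.Prime] (P : Sylow p G) :
    (∀ (Q : Subgroup G) (x : G), Q ≤ (P : Subgroup G) →
        Q.map (MulAut.conj x).toMonoidHom ≤ (P : Subgroup G) →
        ∃ y ∈ Subgroup.normalizer ((P : Subgroup G) : Set G),
          Q.map (MulAut.conj x).toMonoidHom = Q.map (MulAut.conj y).toMonoidHom) ∧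
      (∀ Q : Subgroup G, Q ≤ (P : Subgroup G) →
        ¬ p ∣ ((P : Subgroup G) ⊓ Subgroup.normalizer (Q : Set G)).relIndex
          (Subgroup.normalizer (Q : Set G))) ∧
      (∀ (R Q : Subgroup G), IsPGroup p R → Q ≤ (P : Subgroup G) ⊓ R →
        Subgroup.normalizer ((P : Subgroup G) : Set G) ≤ Subgroup.normalizer (Q : Set G) →
        Subgroup.normalizer (R : Set G) ≤ Subgroup.normalizer (Q : Set G)) := by
  have hpp : p.Prime := Fact.out
  refine ⟨?_, ?_, ?_⟩
  · intro Q x hQP hx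
    by_cases hQ1 : Q = ⊥
    · refine ⟨1, Subgroup.one_mem _, ?_⟩
      rw [hQ1, Subgroup.map_bot, Subgroup.map_bot]
    · have hx' : ∀ q ∈ Q, x * q * x⁻¹ ∈ (P : Subgroup G) := by
        intro q hq
        have := hx ⟨q, hq, rfl⟩
        simpa [MulAut.conj_apply] using this
      obtain ⟨y, hy, c, hc, hxyc⟩ := bg_sylow_fusion_strong hG hF hL p P Q hQ1 hQP x hx'
      refine ⟨y, hy, ?_⟩
      have hcq : ∀ q ∈ Q, x * q * x⁻¹ = y * q * y⁻¹ := by
        intro q hq
        have hcy : q * c = c * q := Subgroup.mem_centralizer_iff.mp hc q hq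
        rw [hxyc]
        calc y * c * q * (y * c)⁻¹ = y * (c * q) * c⁻¹ * y⁻¹ := by group
          _ = y * (q * c) * c⁻¹ * y⁻¹ := by rw [hcy]
          _ = y * q * y⁻¹ := by group
      ext z
      constructor
      · rintro ⟨q, hq, rfl⟩
        exact ⟨q, hq, by simp only [MulEquiv.coe_toMonoidHom, MulAut.conj_apply]; exact (hcq q hq).symm⟩
      · rintro ⟨q, hq, rfl⟩
        exact ⟨q, hq, by simp only [MulEquiv.coe_toMonoidHom, MulAut.conj_apply]; exact hcq q hq⟩
  · intro Q hQP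
    by_cases hQ1 : Q = ⊥
    · rw [hQ1, bg_normalizer_bot_eq_top, inf_top_eq, Subgroup.relIndex_top_right]
      exact P.not_dvd_index
    · set NQ := Subgroup.normalizer (Q : Set G) with hNQ
      have hQNQ : Q ≤ NQ := Subgroup.le_normalizer
      have hXp : IsPGroup p (((P : Subgroup G) ⊓ NQ).subgroupOf NQ) :=
        (P.isPGroup'.to_le inf_le_left).comap_subtype
      obtain ⟨R, hXR⟩ := hXp.exists_le_sylow
      set R' := (R : Subgroup NQ).map NQ.subtype with hR'
      have hR'p : IsPGroup p R' := R.isPGroup'.map _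
      have hR'NQ : R' ≤ NQ := Subgroup.map_subtype_le _
      have hle : (P : Subgroup G) ⊓ NQ ≤ R' := by
        intro z hz
        exact ⟨⟨z, hz.2⟩, hXR (Subgroup.mem_subgroupOf.mpr hz), rfl⟩
      have hQR' : Q ≤ R' := (le_inf hQP hQNQ).trans hle
      obtain ⟨P₂, hR'P₂⟩ := hR'p.exists_le_sylow
      obtain ⟨g, hg⟩ := MulAction.exists_smul_eq G P P₂
      have hgR : ∀ r ∈ R', g⁻¹ * r * g ∈ (P : Subgroup G) := by
        intro r hr
        have h1 := hR'P₂ hr
        rw [← hg] at h1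
        exact (bg_mem_smul_sylow P g r).mp h1
      have hx' : ∀ q ∈ Q, g⁻¹ * q * (g⁻¹)⁻¹ ∈ (P : Subgroup G) := by
        intro q hq
        rw [inv_inv]
        exact hgR q (hQR' hq)
      obtain ⟨y, hy, c, hc, hgyc⟩ := bg_sylow_fusion_strong hG hF hL p P Q hQ1 hQP g⁻¹ hx'
      have hcNQ : c ∈ NQ := Subgroup.centralizer_le_normalizer _ hc
      have hmap : R'.map (MulAut.conj c).toMonoidHom ≤ (P : Subgroup G) ⊓ NQ := by
        rintro _ ⟨r, hr, rfl⟩
        have h5 : (MulAut.conj c).toMonoidHom r = c * r * c⁻¹ := by simp [MulAut.conj_apply]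
        rw [h5]
        refine ⟨?_, NQ.mul_mem (NQ.mul_mem hcNQ (hR'NQ hr)) (NQ.inv_mem hcNQ)⟩
        have h1 := hgR r hr
        have h2 : g⁻¹ * r * g = y * (c * r * c⁻¹) * y⁻¹ := by
          have hg' : g = (y * c)⁻¹ := by rw [← hgyc, inv_inv]
          rw [hgyc, hg']
          group
        rw [h2] at h1
        exact (Subgroup.mem_normalizer_iff.mp hy _).mpr h1
      have hcard : Nat.card R' ≤ Nat.card ((P : Subgroup G) ⊓ NQ : Subgroup G) := by
        have hinj : Function.Injective ((MulAut.conj c).toMonoidHom : G →* G) :=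
          (MulAut.conj c).injective
        rw [← Subgroup.card_map_of_injective (K := R') hinj]
        exact Subgroup.card_le_of_le hmap
      have heq : (P : Subgroup G) ⊓ NQ = R' := Subgroup.eq_of_le_of_card_ge hle hcard
      rw [heq, hR', Cfsg.Agent.Lib.helper71.BGA.relIndex_map_subtype]
      exact R.not_dvd_index
  · intro R Q hR hQ hNPQ
    by_cases hQ1 : Q = ⊥
    · rw [hQ1, bg_normalizer_bot_eq_top]
      exact le_top
    · have hQP : Q ≤ (P : Subgroup G) := hQ.trans inf_le_left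
      have hQR : Q ≤ R := hQ.trans inf_le_right
      obtain ⟨P₂, hRP₂⟩ := hR.exists_le_sylow
      obtain ⟨g, hg⟩ := MulAction.exists_smul_eq G P P₂
      have hgR : ∀ r ∈ R, g⁻¹ * r * g ∈ (P : Subgroup G) := by
        intro r hr
        have h1 := hRP₂ hr
        rw [← hg] at h1
        exact (bg_mem_smul_sylow P g r).mp h1
      have hx' : ∀ q ∈ Q, g⁻¹ * q * (g⁻¹)⁻¹ ∈ (P : Subgroup G) := by
        intro q hq
        rw [inv_inv]
        exact hgR q (hQR hq)
      obtain ⟨y, hy, c, hc, hgyc⟩ := bg_sylow_fusion_strong hG hF hL p P Q hQ1 hQP g⁻¹ hx'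
      have hginv : g⁻¹ ∈ Subgroup.normalizer (Q : Set G) := by
        rw [hgyc]
        exact Subgroup.mul_mem _ (hNPQ hy) (Subgroup.centralizer_le_normalizer _ hc)
      intro n hn
      have hx'' : ∀ q ∈ Q, (g⁻¹ * n) * q * (g⁻¹ * n)⁻¹ ∈ (P : Subgroup G) := by
        intro q hq
        have h1 : n * q * n⁻¹ ∈ R := (Subgroup.mem_normalizer_iff.mp hn q).mp (hQR hq)
        have h2 := hgR _ h1
        have h3 : g⁻¹ * n * q * (g⁻¹ * n)⁻¹ = g⁻¹ * (n * q * n⁻¹) * g := by group
        rw [h3]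
        exact h2
      obtain ⟨y', hy', c', hc', hgn⟩ := bg_sylow_fusion_strong hG hF hL p P Q hQ1 hQP (g⁻¹ * n) hx''
      have h4 : g⁻¹ * n ∈ Subgroup.normalizer (Q : Set G) := by
        rw [hgn]
        exact Subgroup.mul_mem _ (hNPQ hy') (Subgroup.centralizer_le_normalizer _ hc')
      have h5 : n = (g⁻¹)⁻¹ * (g⁻¹ * n) := by group
      rw [h5]
      exact Subgroup.mul_mem _ (Subgroup.inv_mem _ hginv) h4

end Cfsg.Agent.Lib.helper8
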