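import Mathlib
import Cfsg.Agent.Lib.helper8.BGTen6
import Cfsg.Agent.S1448

/-!
Bender–Glauberman, Corollary 10.7(c): Sylow subgroups of rank at most two.
-/

set_option autoImplicit false
open Cfsg

namespace Cfsg.Agent.Lib.helper8

variable {G : Type*} [Group G]

/-- In a nonabelian group of order `p ^ 3` the commutator subgroup is the centre. -/
theorem bg_comm_eq_center_of_card_cube (p : ℕ) [Fact p.Prime] (R : Subgroup G)
    (hR : Nat.card R = p ^ 3) (hnc : ¬ IsMulCommutative R) :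
    ⁅R, R⁆ = R ⊓ Subgroup.centralizer (R : Set G) := by
  have hpp : p.Prime := Fact.out
  have hfin : Finite R := Nat.finite_of_card_ne_zero (by rw [hR]; exact pow_ne_zero 3 hpp.ne_zero)
  have hRp : IsPGroup p R := IsPGroup.of_card hR
  have hnt : Nontrivial R := by
    rw [← Finite.one_lt_card_iff_nontrivial, hR]
    exact Nat.one_lt_pow (by norm_num) hpp.one_lt
  set Z := Subgroup.center R with hZ
  have hZnt : Nontrivial Z := hRp.center_nontrivial
  have hZtop : Z ≠ ⊤ := by
    intro h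
    apply hnc
    rw [isMulCommutative_iff]
    intro a b
    have ha : a ∈ Z := h ▸ Subgroup.mem_top a
    exact (Subgroup.mem_center_iff.mp ha b).symm
  obtain ⟨k, hk⟩ := IsPGroup.iff_card.mp (hRp.to_subgroup Z)
  have hmul : Nat.card Z * Z.index = p ^ 3 := by rw [Subgroup.card_mul_index, hR]
  have hk1 : 1 ≤ k := by
    by_contra h
    have h0 : k = 0 := by omega
    rw [h0, pow_zero] at hk
    exact (Finite.one_lt_card_iff_nontrivial.mpr hZnt).ne' hk
  have hk3 : k ≠ 3 := by
    intro h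
    apply hZtop
    exact Subgroup.eq_top_of_card_eq _ (by rw [hk, h, hR])
  have hkle : k ≤ 3 := by
    have h1 : p ^ k ∣ p ^ 3 := by
      rw [← hk, ← hR]
      exact Subgroup.card_subgroup_dvd_card Z
    exact (Nat.pow_dvd_pow_iff_le_right hpp.one_lt).mp h1
  have hidx : Z.index = p ^ (3 - k) := by
    have h1 : p ^ k * Z.index = p ^ k * p ^ (3 - k) := by
      rw [← hk, hmul, hk, ← pow_add]
      congr 1
      omega
    exact Nat.eq_of_mul_eq_mul_left (pow_pos hpp.pos k) h1
  have hk2 : k ≠ 2 := by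
    intro h
    have hi : Nat.card (R ⧸ Z) = p := by
      rw [← Subgroup.index_eq_card, hidx, h]
      norm_num
    have hcyc : IsCyclic (R ⧸ Z) := isCyclic_of_prime_card hi
    apply hnc
    exact MonoidHom.isMulCommutative_of_isCyclic_of_ker_le_center (QuotientGroup.mk' Z)
      (by rw [QuotientGroup.ker_mk'])
  have hk' : k = 1 := by omega
  have hi : Nat.card (R ⧸ Z) = p ^ 2 := by rw [← Subgroup.index_eq_card, hidx, hk']
  have hcomm : IsMulCommutative (R ⧸ Z) := IsPGroup.isMulCommutative_of_card_eq_prime_sq hi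
  rw [isMulCommutative_iff] at hcomm
  have hle : commutator R ≤ Z := by
    rw [commutator_def, Subgroup.commutator_le]
    intro a _ b _
    rw [commutatorElement_def]
    apply (QuotientGroup.eq_one_iff _).mp
    have h1 := hcomm (QuotientGroup.mk a) (QuotientGroup.mk b)
    show ((a * b * a⁻¹ * b⁻¹ : R) : R ⧸ Z) = 1
    rw [QuotientGroup.mk_mul, QuotientGroup.mk_mul, QuotientGroup.mk_mul, QuotientGroup.mk_inv,
      QuotientGroup.mk_inv, h1]
    group
  have hne : commutator R ≠ ⊥ := by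
    intro h
    apply hnc
    rw [isMulCommutative_iff]
    intro a b
    have hc := Subgroup.commutator_mem_commutator (Subgroup.mem_top a) (Subgroup.mem_top b)
    rw [commutatorElement_def, ← commutator_def, h, Subgroup.mem_bot] at hc
    exact mul_inv_eq_iff_eq_mul.mp (mul_inv_eq_one.mp hc)
  have heq : commutator R = Z := by
    apply Subgroup.eq_of_le_of_card_ge hle
    rw [hk, hk', pow_one]
    obtain ⟨j, hj⟩ := IsPGroup.iff_card.mp (hRp.to_subgroup (commutator R))
    rw [hj]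
    have hj0 : j ≠ 0 := by
      intro h0
      rw [h0, pow_zero] at hj
      exact hne (Subgroup.card_eq_one.mp hj)
    exact Nat.le_self_pow hj0 p
  rw [← Subgroup.map_subtype_commutator, heq]
  ext x
  constructor
  · rintro ⟨z, hz, rfl⟩
    have hz' : z ∈ Subgroup.center R := hz
    refine ⟨z.2, ?_⟩
    show (z : G) ∈ Subgroup.centralizer (R : Set G)
    rw [Subgroup.mem_centralizer_iff]
    intro r hr
    have h1 := Subgroup.mem_center_iff.mp hz' ⟨r, hr⟩
    exact congrArg Subtype.val h1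
  · rintro ⟨hxR, hxc⟩
    have hxc' : x ∈ Subgroup.centralizer (R : Set G) := hxc
    refine ⟨⟨x, hxR⟩, ?_, rfl⟩
    show (⟨x, hxR⟩ : R) ∈ Subgroup.center R
    rw [Subgroup.mem_center_iff]
    intro r
    exact Subtype.ext (Subgroup.mem_centralizer_iff.mp hxc' r r.2)

/-- B-G Corollary 10.7(c) (the statement S1412). -/
theorem bg_sylow_rank_two_statement [Finite G] (hG : IsMinSimpleOddOrder G) (hF : BGFusHyp G)
    (hL : BGPLenHyp G) (p : ℕ) [Fact p.Prime] (P : Sylow p G)
    (hr : PRankLE p 2 (P : Subgroup G)) :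
    IsMulCommutative (P : Subgroup G) ∨ ∃ P₁ P₂ : Subgroup G, P₁ ⊔ P₂ = (P : Subgroup G) ∧
        (∀ a ∈ P₁, ∀ b ∈ P₂, a * b = b * a) ∧ ¬ IsMulCommutative P₁ ∧ Nat.card P₁ = p ^ 3 ∧
        Monoid.exponent P₁ = p ∧ IsCyclic P₂ ∧
        Subgroup.closure {x : G | x ∈ P₂ ∧ x ^ p = 1} =
          P₁ ⊓ Subgroup.centralizer (P₁ : Set G) := by
  obtain ⟨hodd, hsimple, hna, hsolv⟩ := id hG
  have hpp : p.Prime := Fact.out
  by_cases hP : (P : Subgroup G) = ⊥
  · left
    refine ⟨⟨fun a b => Subtype.ext ?_⟩⟩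
    have ha : (a : G) ∈ (⊥ : Subgroup G) := hP ▸ a.2
    have hb : (b : G) ∈ (⊥ : Subgroup G) := hP ▸ b.2
    rw [Subgroup.mem_bot] at ha hb
    rw [Subgroup.coe_mul, Subgroup.coe_mul, ha, hb]
  set N := Subgroup.normalizer ((P : Subgroup G) : Set G) with hN
  have hPN : (P : Subgroup G) ≤ N := Subgroup.le_normalizer
  set H : Subgroup N := (P : Subgroup G).subgroupOf N with hH
  have hHn : H.Normal := Subgroup.normal_in_normalizer
  have hcardH : Nat.card H = Nat.card (P : Subgroup G) :=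
    Nat.card_congr (Subgroup.subgroupOfEquivOfLe hPN).toEquiv
  have hidx : ¬ p ∣ H.index := by
    intro h
    exact P.not_dvd_index (h.trans (Subgroup.relIndex_dvd_index_of_le hPN))
  have hcop : (Nat.card H).Coprime H.index := by
    obtain ⟨n, hn⟩ := IsPGroup.iff_card.mp P.isPGroup'
    rw [hcardH, hn]
    exact Nat.Coprime.pow_left n ((Nat.Prime.coprime_iff_not_dvd hpp).mpr hidx)
  obtain ⟨K, hK⟩ := Subgroup.exists_right_complement'_of_coprime hcop
  set V : Subgroup G := K.map N.subtype with hV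
  have hVN : V ≤ N := Subgroup.map_subtype_le _
  have hcompl : IsComplIn (P : Subgroup G) V N := by
    refine ⟨hPN, hVN, ?_, ?_⟩
    · rw [eq_bot_iff]
      rintro x ⟨hxP, ⟨k, hk, rfl⟩⟩
      have h1 : k ∈ H ⊓ K := ⟨Subgroup.mem_subgroupOf.mpr hxP, hk⟩
      rw [hK.disjoint.eq_bot, Subgroup.mem_bot] at h1
      rw [Subgroup.mem_bot, h1]
      rfl
    · intro m hm
      obtain ⟨⟨a, b⟩, hab⟩ := hK.2 ⟨m, hm⟩
      exact ⟨(a : N), Subgroup.mem_subgroupOf.mp a.2, (b : N), ⟨b, b.2, rfl⟩,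
        (congrArg Subtype.val hab).symm⟩
  have h11 := (bg_sylow_comm_statement hG hF hL p P V hcompl).1
  have hp2 : p ≠ 2 := by
    rintro rfl
    have hnt : Nontrivial (P : Subgroup G) := (Subgroup.nontrivial_iff_ne_bot _).mpr hP
    obtain ⟨n, hn0, hn⟩ := (P.isPGroup'.nontrivial_iff_card).mp hnt
    have h0 : 2 ∣ Nat.card (P : Subgroup G) := by rw [hn]; exact dvd_pow_self 2 hn0.ne'
    have h1 : 2 ∣ Nat.card G := h0.trans (Subgroup.card_subgroup_dvd_card _)
    exact (Nat.not_even_iff_odd.mpr hodd) (even_iff_two_dvd.mpr h1)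
  have hcardV : Nat.card V = H.index := by
    rw [hV, Subgroup.card_subtype]
    exact (hK.symm.index_eq_card).symm
  have hcopV : (Nat.card V).Coprime p := by
    rw [hcardV]
    exact Nat.Coprime.symm ((Nat.Prime.coprime_iff_not_dvd hpp).mpr hidx)
  have hoddV : Odd (Nat.card V) := Odd.of_dvd_nat hodd (Subgroup.card_subgroup_dvd_card V)
  obtain ⟨-, h48⟩ := Cfsg.Agent.S1448.result p hp2 (P : Subgroup G) V P.isPGroup' hP hr hVN
    hcopV hoddV h11.symm
  rcases h48 with h | ⟨R₁, R₂, h1, h2, h3, h4, h5, h6, h7⟩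
  · exact Or.inl h
  · refine Or.inr ⟨R₁, R₂, h1, h2, h3, h4, h5, h6, ?_⟩
    rw [h7]
    exact bg_comm_eq_center_of_card_cube p R₁ h4 h3

end Cfsg.Agent.Lib.helper8
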