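import Mathlib
import Cfsg.Agent.Lib.helper8.BGTen7
import Cfsg.Agent.Lib.helper40.Cores

/-!
Generalities for Bender–Glauberman Lemma 10.8: normal `p`-complements, and a nilpotent Hall
subgroup from normal `q`-complements.
-/

set_option autoImplicit false
open Cfsg

namespace Cfsg.Agent.Lib.helper8

/-- A normal subgroup of order prime to `p` and `p`-power index. -/
def BGNpc (p : ℕ) (X : Type*) [Group X] : Prop :=
  ∃ N : Subgroup X, N.Normal ∧ (Nat.card N).Coprime p ∧ ∃ k : ℕ, N.index = p ^ k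

theorem bgNpc_of_hasNormalPComplement {X : Type*} [Group X] [Finite X] {p : ℕ} [Fact p.Prime]
    (h : HasNormalPComplement p X) : BGNpc p X := by
  obtain ⟨P, N, hN, hc⟩ := h
  refine ⟨N, hN, ?_, ?_⟩
  · rw [← hc.index_eq_card]
    exact ((Nat.Prime.coprime_iff_not_dvd Fact.out).mpr P.not_dvd_index).symm
  · obtain ⟨n, hn⟩ := IsPGroup.iff_card.mp P.isPGroup'
    exact ⟨n, by rw [hc.symm.index_eq_card, hn]⟩

theorem hasNormalPComplement_of_bgNpc {X : Type*} [Group X] [Finite X] {p : ℕ} [Fact p.Prime]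
    (h : BGNpc p X) : HasNormalPComplement p X := by
  obtain ⟨N, hN, hcop, k, hk⟩ := h
  have hpp : p.Prime := Fact.out
  obtain ⟨P⟩ : Nonempty (Sylow p X) := inferInstance
  refine ⟨P, N, hN, ?_⟩
  have hcardX : Nat.card X = Nat.card N * p ^ k := by rw [← hk, Subgroup.card_mul_index]
  have h1 : (Nat.card N).factorization p = 0 :=
    Nat.factorization_eq_zero_of_not_dvd ((Nat.Prime.coprime_iff_not_dvd hpp).mp hcop.symm)
  have h2 : (p ^ k).factorization p = k := by
    rw [Nat.factorization_pow, Finsupp.smul_apply, hpp.factorization_self, smul_eq_mul, mul_one]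
  have hfac : (Nat.card X).factorization p = k := by
    rw [hcardX, Nat.factorization_mul Nat.card_pos.ne' (pow_pos hpp.pos k).ne', Finsupp.add_apply,
      h1, h2, zero_add]
  have hcardP : Nat.card P = p ^ k := by rw [P.card_eq_multiplicity, hfac]
  apply Subgroup.isComplement'_of_coprime
  · rw [hcardP, ← hcardX]
  · rw [hcardP]
    exact Nat.Coprime.pow_right k hcop

theorem bgNpc_subgroup {X : Type*} [Group X] [Finite X] {p : ℕ} [Fact p.Prime] (h : BGNpc p X)
    (K : Subgroup X) : BGNpc p K := by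
  obtain ⟨N, hN, hcop, k, hk⟩ := h
  have := hN
  refine ⟨N.subgroupOf K, hN.subgroupOf K, ?_, ?_⟩
  · have h1 : Nat.card (N.subgroupOf K) ∣ Nat.card N := by
      rw [← Subgroup.inf_subgroupOf_right,
        Nat.card_congr (Subgroup.subgroupOfEquivOfLe inf_le_right).toEquiv]
      exact Subgroup.card_dvd_of_le inf_le_left
    exact Nat.Coprime.coprime_dvd_left h1 hcop
  · have h1 : (N.subgroupOf K).index ∣ p ^ k := by
      rw [← hk]
      exact Subgroup.relIndex_dvd_index_of_normal N K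
    obtain ⟨j, -, hj⟩ := (Nat.dvd_prime_pow Fact.out).mp h1
    exact ⟨j, hj⟩

theorem bgNpc_of_mulEquiv {X Y : Type*} [Group X] [Group Y] {p : ℕ} (e : X ≃* Y)
    (h : BGNpc p X) : BGNpc p Y := by
  obtain ⟨N, hN, hcop, k, hk⟩ := h
  refine ⟨N.map e.toMonoidHom, hN.map _ e.surjective, ?_, k, ?_⟩
  · rw [Subgroup.card_map_of_injective e.injective]
    exact hcop
  · rw [← hk]
    exact Subgroup.index_map_equiv N e

/-- `A ≤ B` as soon as every subgroup of prime power order of `A` lies in `B`. -/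
theorem bg_le_of_pgroups_le {X : Type*} [Group X] [Finite X] (A B : Subgroup X)
    (h : ∀ (r : ℕ) [Fact r.Prime] (Q : Subgroup X), Q ≤ A → IsPGroup r Q → Q ≤ B) : A ≤ B := by
  rw [← Subgroup.relIndex_eq_one]
  by_contra hne
  obtain ⟨r, hr, hrd⟩ := Nat.exists_prime_and_dvd hne
  have : Fact r.Prime := ⟨hr⟩
  obtain ⟨Q⟩ : Nonempty (Sylow r A) := inferInstance
  have h1 : (Q : Subgroup A).map A.subtype ≤ B :=
    h r _ (Subgroup.map_subtype_le _) (Q.isPGroup'.map _)
  have h2 : (Q : Subgroup A) ≤ B.subgroupOf A :=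
    fun x hx => Subgroup.mem_subgroupOf.mpr (h1 ⟨x, hx, rfl⟩)
  exact Q.not_dvd_index (hrd.trans (Subgroup.index_dvd_of_le h2))

/-- If `X` has a normal `q`-complement for every prime `q ∉ π` dividing `|X|`, then `X` has a
nilpotent Hall `π'`-subgroup. -/
theorem bg_exists_nilpotent_hall {X : Type*} [Group X] [Finite X] (π : Set ℕ)
    (hnc : ∀ q : ℕ, q.Prime → q ∣ Nat.card X → q ∉ π → BGNpc q X) :
    ∃ H : Subgroup X, (∀ r : ℕ, r.Prime → r ∣ Nat.card H → r ∉ π) ∧
      (∀ q : ℕ, q.Prime → q ∉ π → ¬ q ∣ H.index) ∧ Group.IsNilpotent H := by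
  classical
  let N : ℕ → Subgroup X := fun q =>
    if h : q.Prime ∧ q ∣ Nat.card X ∧ q ∉ π then Classical.choose (hnc q h.1 h.2.1 h.2.2) else ⊤
  have hNn : ∀ q, (N q).Normal := by
    intro q
    by_cases h : q.Prime ∧ q ∣ Nat.card X ∧ q ∉ π
    · simp only [N, dif_pos h]
      exact (Classical.choose_spec (hnc q h.1 h.2.1 h.2.2)).1
    · simp only [N, dif_neg h]
      infer_instance
  have hNc : ∀ q, q.Prime → q ∣ Nat.card X → q ∉ π → (Nat.card (N q)).Coprime q := by
    intro q h1 h2 h3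
    have h : q.Prime ∧ q ∣ Nat.card X ∧ q ∉ π := ⟨h1, h2, h3⟩
    simp only [N, dif_pos h]
    exact (Classical.choose_spec (hnc q h.1 h.2.1 h.2.2)).2.1
  have hNi : ∀ q, q.Prime → q ∣ Nat.card X → q ∉ π → ∃ k, (N q).index = q ^ k := by
    intro q h1 h2 h3
    have h : q.Prime ∧ q ∣ Nat.card X ∧ q ∉ π := ⟨h1, h2, h3⟩
    simp only [N, dif_pos h]
    exact (Classical.choose_spec (hnc q h.1 h.2.1 h.2.2)).2.2
  have hNle : ∀ q, q.Prime → q ∣ Nat.card X → q ∉ π → ∀ (r : ℕ) [Fact r.Prime], r ≠ q →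
      ∀ Q : Subgroup X, IsPGroup r Q → Q ≤ N q := by
    intro q h1 h2 h3 r _ hrq Q hQ
    have := hNn q
    obtain ⟨k, hk⟩ := hNi q h1 h2 h3
    apply bg_le_of_not_dvd_index (N q) _ Q hQ
    rw [hk]
    intro hd
    exact hrq ((Nat.prime_dvd_prime_iff_eq Fact.out h1).mp
      ((Fact.out : r.Prime).dvd_of_dvd_pow hd))
  set B : Subgroup X := ⨅ q : {q : ℕ // q.Prime ∧ q ∣ Nat.card X ∧ q ∉ π}, N q.1 with hB
  have hBn : B.Normal := Subgroup.normal_iInf_normal (fun q => hNn q.1)
  have hBπ : ∀ r : ℕ, r.Prime → r ∣ Nat.card B → r ∈ π := by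
    intro r hr hrd
    by_contra hrπ
    have hrX : r ∣ Nat.card X := hrd.trans (Subgroup.card_subgroup_dvd_card B)
    have hle : B ≤ N r :=
      iInf_le (fun q : {q : ℕ // q.Prime ∧ q ∣ Nat.card X ∧ q ∉ π} => N q.1) ⟨r, hr, hrX, hrπ⟩
    have h1 := hNc r hr hrX hrπ
    exact (Nat.Prime.coprime_iff_not_dvd hr).mp h1.symm
      (hrd.trans (Subgroup.card_dvd_of_le hle))
  have hBidx : ∀ p : ℕ, p.Prime → p ∈ π → ¬ p ∣ B.index := by
    intro p hp hpπ
    have : Fact p.Prime := ⟨hp⟩
    obtain ⟨S⟩ : Nonempty (Sylow p X) := inferInstance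
    have hSB : (S : Subgroup X) ≤ B := by
      rw [hB]
      refine le_iInf (fun q => ?_)
      exact hNle q.1 q.2.1 q.2.2.1 q.2.2.2 p (fun h => q.2.2.2 (h ▸ hpπ)) _ S.isPGroup'
    intro hd
    exact S.not_dvd_index (hd.trans (Subgroup.index_dvd_of_le hSB))
  have hcop : (Nat.card B).Coprime B.index := by
    by_contra h
    obtain ⟨r, hr, hr1, hr2⟩ := Nat.Prime.not_coprime_iff_dvd.mp h
    exact hBidx r hr (hBπ r hr hr1) hr2
  obtain ⟨H, hH⟩ := Subgroup.exists_right_complement'_of_coprime hcop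
  have hcardH : Nat.card H = B.index := (hH.symm.index_eq_card).symm
  have hidxH : H.index = Nat.card B := hH.index_eq_card
  refine ⟨H, ?_, ?_, ?_⟩
  · intro r hr hrd hrπ
    rw [hcardH] at hrd
    exact hBidx r hr hrπ hrd
  · intro q hq hqπ hd
    rw [hidxH] at hd
    exact hqπ (hBπ q hq hd)
  · have htfae : Group.IsNilpotent H ↔ ∀ (p : ℕ) (_hp : Fact p.Prime) (P : Sylow p H),
        (↑P : Subgroup H).Normal := (Group.isNilpotent_of_finite_tfae (G := H)).out 0 3
    rw [htfae]
    intro r hr P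
    have hrp : r.Prime := hr.out
    by_cases hrd : r ∣ Nat.card H
    · set T : Subgroup H :=
        ⨅ s : {s : ℕ // s.Prime ∧ s ∣ Nat.card H ∧ s ≠ r}, (N s.1).subgroupOf H with hT
      have hTn : T.Normal := Subgroup.normal_iInf_normal (fun s => (hNn s.1).subgroupOf H)
      have hPT : (P : Subgroup H) ≤ T := by
        rw [hT]
        refine le_iInf (fun s => ?_)
        have hsπ : s.1 ∉ π := fun h => hBidx s.1 s.2.1 h (hcardH ▸ s.2.2.1)
        have hsX : s.1 ∣ Nat.card X := s.2.2.1.trans (Subgroup.card_subgroup_dvd_card H)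
        have h1 : (P : Subgroup H).map H.subtype ≤ N s.1 :=
          hNle s.1 s.2.1 hsX hsπ r (Ne.symm s.2.2.2) _ (P.isPGroup'.map _)
        intro x hx
        exact Subgroup.mem_subgroupOf.mpr (h1 ⟨x, hx, rfl⟩)
      have hTr : IsPGroup r T := by
        have hcard : ∀ t : ℕ, t.Prime → t ∣ Nat.card T → t = r := by
          intro t ht htd
          by_contra htr
          have htH : t ∣ Nat.card H := htd.trans (Subgroup.card_subgroup_dvd_card T)
          have htπ : t ∉ π := fun h => hBidx t ht h (hcardH ▸ htH)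
          have htX : t ∣ Nat.card X := htH.trans (Subgroup.card_subgroup_dvd_card H)
          have hle : T ≤ (N t).subgroupOf H :=
            iInf_le (fun s : {s : ℕ // s.Prime ∧ s ∣ Nat.card H ∧ s ≠ r} =>
              (N s.1).subgroupOf H) ⟨t, ht, htH, htr⟩
          have h1 : Nat.card ((N t).subgroupOf H) ∣ Nat.card (N t) := by
            rw [← Subgroup.inf_subgroupOf_right,
              Nat.card_congr (Subgroup.subgroupOfEquivOfLe inf_le_right).toEquiv]
            exact Subgroup.card_dvd_of_le inf_le_left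
          have h2 := hNc t ht htX htπ
          exact (Nat.Prime.coprime_iff_not_dvd ht).mp h2.symm
            ((htd.trans (Subgroup.card_dvd_of_le hle)).trans h1)
        have h3 := Nat.eq_prime_pow_of_unique_prime_dvd (Nat.card_pos (α := T)).ne'
          (fun {d} hd hdd => hcard d hd hdd)
        exact IsPGroup.of_card h3
      have hTP := P.is_maximal' hTr hPT
      rw [← hTP]
      exact hTn
    · have hbot : (P : Subgroup H) = ⊥ := by
        apply Subgroup.eq_bot_of_card_eq
        obtain ⟨n, hn⟩ := IsPGroup.iff_card.mp P.isPGroup'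
        rcases Nat.eq_zero_or_pos n with h0 | h0
        · rw [hn, h0, pow_zero]
        · exfalso
          apply hrd
          refine Dvd.dvd.trans ?_ (Subgroup.card_subgroup_dvd_card (P : Subgroup H))
          rw [hn]
          exact dvd_pow_self r h0.ne'
      rw [hbot]
      infer_instance

end Cfsg.Agent.Lib.helper8
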