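import Mathlib
import Cfsg.Agent.Lib.helper8.BGTen8
import Cfsg.Agent.S1450
import Cfsg.Agent.S1453
import Cfsg.Agent.S1455

/-!
Bender–Glauberman Lemma 10.8 (`M_β` is a Hall subgroup, nilpotent Hall `β'`-subgroups, normal
`p`-complements for `p ∉ β(M)`), on top of `BGUniqHyp`, `BGFusHyp`, `BGPLenHyp`.
-/

set_option autoImplicit false
open Cfsg

namespace Cfsg.Agent.Lib.helper8

variable {G : Type*} [Group G]

/-- A `p`-group (p odd) with a maximal elementary abelian subgroup of order `p ^ 2` is narrow. -/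
theorem bg_isNarrow_of_max_elemAb {R : Type*} [Group R] [Finite R] (p : ℕ) [Fact p.Prime]
    (hp2 : p ≠ 2) (hR : IsPGroup p R) (E : Subgroup R) (hE : IsElementaryAbelian p E)
    (hE2 : Nat.card E = p ^ 2)
    (hEmax : ∀ B : Subgroup R, IsElementaryAbelian p B → E ≤ B → B = E) : IsNarrow p R := by
  by_cases hr : PRankLE p 2 R
  · exact Or.inl hr
  right
  have hpp : p.Prime := Fact.out
  obtain ⟨hET, hZ0, ⟨hTe, hT2⟩, hCchar, hCidx⟩ :=
    Cfsg.Agent.S1453.result p hp2 hR hr E hE hE2 hEmax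
  set T : Subgroup R :=
    Subgroup.closure {x : R | x ∈ Subgroup.upperCentralSeries R 2 ∧ x ^ p = 1} with hT
  set Z₀ : Subgroup R := Subgroup.closure {x : R | x ∈ Subgroup.center R ∧ x ^ p = 1} with hZ₀
  set CT : Subgroup R := Subgroup.centralizer (T : Set R) with hCT
  have hCTn : CT.Normal := Subgroup.normal_of_characteristic CT
  have hE' := (bg_elemAb_iff E).mp hE
  obtain ⟨x, hxE, hxCT⟩ : ∃ x ∈ E, x ∉ CT := SetLike.not_le_iff_exists.mp hET
  have hx1 : x ≠ 1 := fun h => hxCT (h ▸ CT.one_mem)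
  have hxp : x ^ p = 1 := hE'.2 x hxE
  -- elements of order `p` commuting with `E` lie in `E`
  have hcommE : ∀ a : R, (∀ e ∈ E, e * a = a * e) → a ^ p = 1 → a ∈ E := by
    intro a ha hap
    have h1 : IsElementaryAbelian p (E ⊔ Subgroup.zpowers a) := by
      apply bg_elemAb_sup E (Subgroup.zpowers a) hE
      · rw [bg_elemAb_iff]
        refine ⟨?_, ?_⟩
        · intro u hu v hv
          obtain ⟨m, rfl⟩ := Subgroup.mem_zpowers_iff.mp hu
          obtain ⟨n, rfl⟩ := Subgroup.mem_zpowers_iff.mp hv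
          exact zpow_mul_comm a m n
        · intro u hu
          obtain ⟨m, rfl⟩ := Subgroup.mem_zpowers_iff.mp hu
          rw [← zpow_natCast, ← zpow_mul, mul_comm, zpow_mul, zpow_natCast, hap, one_zpow]
      · intro e he y hy
        obtain ⟨m, rfl⟩ := Subgroup.mem_zpowers_iff.mp hy
        exact (Commute.zpow_right (ha e he) m).eq
    have h2 := hEmax _ h1 le_sup_left
    rw [← h2]
    exact (le_sup_right : Subgroup.zpowers a ≤ _) (Subgroup.mem_zpowers a)
  have hZ₀E : Z₀ ≤ E := by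
    rw [hZ₀, Subgroup.closure_le]
    rintro z ⟨hz, hzp⟩
    exact hcommE z (fun e _ => (Subgroup.mem_center_iff.mp hz e)) hzp
  have hZ₀c : Z₀ ≤ Subgroup.center R := by
    rw [hZ₀, Subgroup.closure_le]
    rintro z ⟨hz, -⟩
    exact hz
  have hZ₀CT : Z₀ ≤ CT := by
    intro z hz
    rw [hCT, Subgroup.mem_centralizer_iff]
    intro t _
    exact Subgroup.mem_center_iff.mp (hZ₀c hz) t
  set R₀ : Subgroup R := Subgroup.zpowers x with hR₀
  have hR₀card : Nat.card R₀ = p := by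
    rw [hR₀, Nat.card_zpowers, orderOf_eq_prime hxp hx1]
  have hR₀E : R₀ ≤ E := (Subgroup.zpowers_le).mpr hxE
  -- `E ⊓ CT = Z₀`
  have hEC_card : Nat.card ↥(E ⊓ CT) ≤ p := by
    have h1 : Nat.card ↥(E ⊓ CT) ∣ p ^ 2 := by
      rw [← hE2]
      exact Subgroup.card_dvd_of_le inf_le_left
    obtain ⟨j, hj, hj2⟩ := (Nat.dvd_prime_pow hpp).mp h1
    have hj' : j ≠ 2 := by
      intro h
      have h3 : E ⊓ CT = E := Subgroup.eq_of_le_of_card_ge inf_le_left (by rw [hj2, h, hE2])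
      have hx' : x ∈ E ⊓ CT := by rw [h3]; exact hxE
      exact hxCT hx'.2
    rw [hj2]
    calc p ^ j ≤ p ^ 1 := Nat.pow_le_pow_right hpp.pos (by omega)
      _ = p := pow_one p
  have hEC : E ⊓ CT = Z₀ :=
    (Subgroup.eq_of_le_of_card_ge (le_inf hZ₀E hZ₀CT) (by rw [hZ0]; exact hEC_card)).symm
  -- `E = R₀ ⊔ Z₀`
  have hER : R₀ ⊔ Z₀ = E := by
    have hle : R₀ ⊔ Z₀ ≤ E := sup_le hR₀E hZ₀E
    apply Subgroup.eq_of_le_of_card_ge hle
    obtain ⟨j, hj⟩ := IsPGroup.iff_card.mp (hR.to_subgroup (R₀ ⊔ Z₀))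
    have hlt : p < Nat.card ↥(R₀ ⊔ Z₀) := by
      rw [← hR₀card]
      by_contra h
      have h1 := Subgroup.eq_of_le_of_card_ge (le_sup_left : R₀ ≤ R₀ ⊔ Z₀) (not_lt.mp h)
      have h2 : Z₀ ≤ R₀ := by rw [h1]; exact le_sup_right
      have h3 : Z₀ = R₀ := Subgroup.eq_of_le_of_card_ge h2 (by rw [hZ0, hR₀card])
      exact hxCT (hZ₀CT (h3 ▸ Subgroup.mem_zpowers x))
    rw [hj] at hlt ⊢
    rw [hE2]
    have h3 := (Nat.pow_lt_pow_iff_right hpp.one_lt).mp (by rw [pow_one]; exact hlt : p ^ 1 < p ^ j)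
    exact Nat.pow_le_pow_right hpp.pos h3
  set C : Subgroup R := Subgroup.centralizer (R₀ : Set R) with hC
  set R₁ : Subgroup R := C ⊓ CT with hR₁
  have hxR₁ : x ∉ R₁ := fun h => hxCT h.2
  have hR₀C : R₀ ≤ C := by
    intro u hu
    rw [hC, Subgroup.mem_centralizer_iff]
    intro v hv
    obtain ⟨m, rfl⟩ := Subgroup.mem_zpowers_iff.mp hu
    obtain ⟨n, rfl⟩ := Subgroup.mem_zpowers_iff.mp hv
    exact zpow_mul_comm x n m
  refine ⟨R₀, R₁, hR₀card, ?_, ?_, ?_, ?_⟩
  · -- `R₁` is cyclic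
    apply Cfsg.Agent.Lib.helper71.BGA.isCyclic_of_prankLE_one p hp2 (hR.to_subgroup R₁)
    intro A hAc hAe
    have hA' : A.map R₁.subtype ≤ E ⊓ CT := by
      rintro _ ⟨a, ha, rfl⟩
      have haC : (a : R) ∈ C := a.2.1
      have haCT : (a : R) ∈ CT := a.2.2
      have hap : (a : R) ^ p = 1 := by
        have := hAe a ha
        exact congrArg Subtype.val this
      have hax : x * (a : R) = (a : R) * x :=
        Subgroup.mem_centralizer_iff.mp haC x (Subgroup.mem_zpowers x)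
      refine ⟨hcommE (a : R) ?_ hap, haCT⟩
      intro e he
      rw [← hER] at he
      have hle : R₀ ⊔ Z₀ ≤ Subgroup.centralizer ({(a : R)} : Set R) := by
        refine sup_le ?_ ?_
        · rw [hR₀, Subgroup.zpowers_le, Subgroup.mem_centralizer_iff]
          intro h hh
          rw [Set.mem_singleton_iff] at hh
          rw [hh]
          exact hax.symm
        · intro z hz
          rw [Subgroup.mem_centralizer_iff]
          intro h hh
          rw [Set.mem_singleton_iff] at hh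
          rw [hh]
          exact (Subgroup.mem_center_iff.mp (hZ₀c hz) (a : R))
      have h5 := Subgroup.mem_centralizer_iff.mp (hle he) (a : R) (Set.mem_singleton _)
      exact h5.symm
    have h6 : Nat.card A = Nat.card (A.map R₁.subtype) := (Subgroup.card_subtype _ _).symm
    rw [h6, pow_one]
    exact (Subgroup.card_le_of_le hA').trans hEC_card
  · -- `R₀ ⊓ R₁ = ⊥`
    have h1 : Nat.card ↥(R₀ ⊓ R₁) ∣ p := by
      rw [← hR₀card]
      exact Subgroup.card_dvd_of_le inf_le_left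
    rcases (Nat.dvd_prime hpp).mp h1 with h2 | h2
    · exact Subgroup.eq_bot_of_card_eq _ h2
    · exfalso
      have h3 : R₀ ⊓ R₁ = R₀ := Subgroup.eq_of_le_of_card_ge inf_le_left (by rw [h2, hR₀card])
      have hx' : x ∈ R₀ ⊓ R₁ := by rw [h3]; exact Subgroup.mem_zpowers x
      exact hxR₁ hx'.2
  · intro a ha b hb
    exact Subgroup.mem_centralizer_iff.mp hb.1 a ha
  · -- `R₀ ⊔ R₁ = C`
    have hle : R₀ ⊔ R₁ ≤ C := sup_le hR₀C inf_le_left
    apply le_antisymm hle
    rw [← Subgroup.relIndex_eq_one]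
    have h1 : R₁.relIndex C ∣ p := by
      have h2 : R₁.relIndex C = CT.relIndex C := by
        rw [hR₁, inf_comm]
        exact Subgroup.inf_relIndex_right CT C
      rw [h2, ← hCidx]
      exact Subgroup.relIndex_dvd_index_of_normal CT C
    have h3 : R₁.relIndex (R₀ ⊔ R₁) * (R₀ ⊔ R₁).relIndex C = R₁.relIndex C :=
      Subgroup.relIndex_mul_relIndex R₁ (R₀ ⊔ R₁) C le_sup_right hle
    have h4 : R₁.relIndex (R₀ ⊔ R₁) ≠ 1 := by
      intro h
      have h5 : R₀ ⊔ R₁ ≤ R₁ := Subgroup.relIndex_eq_one.mp h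
      exact hxR₁ (h5 ((le_sup_left : R₀ ≤ R₀ ⊔ R₁) (Subgroup.mem_zpowers x)))
    rcases (Nat.dvd_prime hpp).mp h1 with h5 | h5
    · exfalso
      rw [h5] at h3
      exact h4 (Nat.eq_one_of_mul_eq_one_right h3)
    · rw [h5] at h3
      have h6 : R₁.relIndex (R₀ ⊔ R₁) ∣ p := Dvd.intro _ h3
      rcases (Nat.dvd_prime hpp).mp h6 with h7 | h7
      · exact absurd h7 h4
      · rw [h7] at h3
        have h8 : p * (R₀ ⊔ R₁).relIndex C = p * 1 := by rw [h3, mul_one]
        exact Nat.eq_of_mul_eq_mul_left hpp.pos h8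

/-- A `p`-subgroup inside `X'` lies in `O_{q'}(X)` when `X' ≤ O_{q',q}(X)` and `q ≠ p`. -/
theorem bg_pgroup_le_pPrimeCore {X : Type*} [Group X] [Finite X] {p q : ℕ} [Fact p.Prime]
    [Fact q.Prime] (hpq : p ≠ q) (hc : commutator X ≤ pPrimePCore q X) (S : Subgroup X)
    (hS : IsPGroup p S) (hSc : S ≤ commutator X) : S ≤ pPrimeCore q X := by
  intro x hx
  have h1 : (QuotientGroup.mk' (pPrimeCore q X)) x ∈ pCore q (X ⧸ pPrimeCore q X) := hc (hSc hx)
  obtain ⟨k, hk⟩ := hS ⟨x, hx⟩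
  have hk' : x ^ p ^ k = 1 := congrArg Subtype.val hk
  obtain ⟨j, hj⟩ := Cfsg.Agent.Lib.helper40.pCore_isPGroup q (X ⧸ pPrimeCore q X) ⟨_, h1⟩
  have hj' : ((QuotientGroup.mk' (pPrimeCore q X)) x) ^ q ^ j = 1 := congrArg Subtype.val hj
  have hk'' : ((QuotientGroup.mk' (pPrimeCore q X)) x) ^ p ^ k = 1 := by
    rw [← map_pow, hk', map_one]
  have h2 := pow_gcd_eq_one.mpr ⟨hk'', hj'⟩
  have h3 : Nat.gcd (p ^ k) (q ^ j) = 1 :=
    Nat.Coprime.pow k j ((Nat.coprime_primes Fact.out Fact.out).mpr hpq)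
  rw [h3, pow_one] at h2
  exact (QuotientGroup.eq_one_iff x).mp h2

/-- The key step of B-G Lemma 10.8: for `p ∉ β(M)`, the structure given by S1450 / S1455. -/
theorem bg_beta_key [Finite G] (hG : IsMinSimpleOddOrder G) (hU : BGUniqHyp G)
    (hL : BGPLenHyp G) (M : Subgroup G) (hM : IsCoatom M) (p : ℕ) [Fact p.Prime]
    (hpM : p ∣ Nat.card M) (hpβ : p ∉ beta M) :
    (∀ q : ℕ, q.Prime → q ∣ (pPrimeCore p ↥M).index → q ≤ p) ∧
      HasNormalPComplement p ↥(commutator ↥M) ∧ commutator ↥M ≤ pPrimePCore p ↥M := by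
  obtain ⟨hodd, hsimple, hna, hsolv⟩ := id hG
  have hpp : p.Prime := Fact.out
  have : Group.IsSolvable M := hsolv M hM.1
  have hoddM : Odd (Nat.card M) := Odd.of_dvd_nat hodd (Subgroup.card_subgroup_dvd_card M)
  by_cases hr : PRankLE p 2 M
  · obtain ⟨h1, -, h3, -, h5, -⟩ := Cfsg.Agent.S1450.result hoddM p hpM hr
    exact ⟨h1, h3, h5⟩
  · have hα : p ∈ alpha M := ⟨hpp, hr⟩
    have hσ : p ∈ sigma M := bg_alpha_sub_sigma hG hU M hM hα
    have hni : ¬ IsIdealPrime p G := fun h => hpβ ⟨hα, h⟩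
    have hrG : ¬ PRankLE p 2 G := fun h => hr (Cfsg.Agent.Lib.helper26.prankLE_subgroup M h)
    have hex : ∃ (P₀ : Sylow p G) (A : Subgroup G), A ≤ (P₀ : Subgroup G) ∧
        IsElementaryAbelian p A ∧ Nat.card A = p ^ 2 ∧
        ∀ B : Subgroup G, B ≤ (P₀ : Subgroup G) → IsElementaryAbelian p B → ¬ A < B := by
      by_contra hcon
      apply hni
      refine ⟨hpp, hrG, ?_⟩
      intro P A hAP hAe hA2
      by_contra h2
      apply hcon
      refine ⟨P, A, hAP, hAe, hA2, ?_⟩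
      intro B hBP hBe hAB
      exact h2 ⟨B, hBP, hBe, hAB⟩
    obtain ⟨P₀, A, hAP, hAe, hA2, hAmax⟩ := hex
    have hp2 : p ≠ 2 := by
      intro h
      rw [h] at hpM
      exact (Nat.not_even_iff_odd.mpr hoddM) (even_iff_two_dvd.mpr hpM)
    have hN0 : IsNarrow p ↥(P₀ : Subgroup G) := by
      apply bg_isNarrow_of_max_elemAb p hp2 P₀.isPGroup' (A.subgroupOf P₀)
        (bg_elemAb_subgroupOf (P₀ : Subgroup G) hAe)
      · rw [Nat.card_congr (Subgroup.subgroupOfEquivOfLe hAP).toEquiv, hA2]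
      · intro B hBe hAB
        have h1 : IsElementaryAbelian p (B.map (P₀ : Subgroup G).subtype) := bg_elemAb_map B hBe
        have h2 : A ≤ B.map (P₀ : Subgroup G).subtype := by
          intro a ha
          exact ⟨⟨a, hAP ha⟩, hAB (Subgroup.mem_subgroupOf.mpr ha), rfl⟩
        have h3 : A = B.map (P₀ : Subgroup G).subtype := by
          by_contra hne
          exact hAmax _ (Subgroup.map_subtype_le _) h1 (lt_of_le_of_ne h2 hne)
        rw [h3]
        ext x
        simp [Subgroup.mem_subgroupOf]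
    obtain ⟨S⟩ : Nonempty (Sylow p M) := inferInstance
    have hSidx : ¬ p ∣ ((S : Subgroup M).map M.subtype).index := by
      rw [Subgroup.index_map_subtype]
      intro h
      rcases (Nat.Prime.dvd_mul hpp).mp h with h | h
      · exact S.not_dvd_index h
      · exact bg_sigma_not_dvd_index M hσ h
    let P₁ : Sylow p G := (S.isPGroup'.map M.subtype).toSylow hSidx
    have hP₁ : (P₁ : Subgroup G) = (S : Subgroup M).map M.subtype := IsPGroup.toSylow_coe _ _
    have e1 : ↥(P₀ : Subgroup G) ≃* ↥(P₁ : Subgroup G) := Sylow.equiv P₀ P₁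
    have e2 : ↥(P₁ : Subgroup G) ≃* ↥((S : Subgroup M).map M.subtype) :=
      MulEquiv.subgroupCongr hP₁
    have e3 : ↥(S : Subgroup M) ≃* ↥((S : Subgroup M).map M.subtype) :=
      (S : Subgroup M).equivMapOfInjective M.subtype M.subtype_injective
    have hNS : IsNarrow p ↥(S : Subgroup M) :=
      Cfsg.Agent.Lib.helper30.isNarrow_of_mulEquiv p ((e1.trans e2).trans e3.symm) hN0
    obtain ⟨h1, -, h3, -, h5, -⟩ := Cfsg.Agent.S1455.result hoddM p hpM S hNS
      (fun _ => hL p hpp M hM.1)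
    exact ⟨h1, h3, h5⟩

/-- Nilpotent Hall `π'`-subgroup of a subgroup `K` of `G` from normal `q`-complements. -/
theorem bg_hall_of_npc [Finite G] (K : Subgroup G) (π : Set ℕ)
    (h : ∀ q : ℕ, q.Prime → q ∣ Nat.card K → q ∉ π → BGNpc q ↥K) :
    ∃ H : Subgroup G, IsPiHallOf {q | q.Prime ∧ q ∉ π} H K ∧ Group.IsNilpotent H := by
  obtain ⟨H₀, h1, h2, h3⟩ := bg_exists_nilpotent_hall π h
  refine ⟨H₀.map K.subtype, ⟨Subgroup.map_subtype_le _, ?_, ?_⟩, ?_⟩
  · intro r hr hd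
    rw [Subgroup.card_map_of_injective K.subtype_injective] at hd
    exact ⟨hr, h1 r hr hd⟩
  · intro r hr hrπ
    rw [Cfsg.Agent.Lib.helper71.BGA.relIndex_map_subtype]
    exact h2 r hr hrπ.2
  · exact bg_isNilpotent_of_injective
      (H₀.equivMapOfInjective K.subtype K.subtype_injective).symm.toMonoidHom
      (H₀.equivMapOfInjective K.subtype K.subtype_injective).symm.injective h3

/-- B-G Lemma 10.8 in the form of statement S1414. -/
theorem bg_beta_statement [Finite G] (hG : IsMinSimpleOddOrder G) (hU : BGUniqHyp G)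
    (hF : BGFusHyp G) (hL : BGPLenHyp G) (M : Subgroup G) (hM : IsCoatom M) :
    IsPiHallOf (beta M) (piCoreOf (beta M) M) M ∧ IsPiHall (beta M) (piCoreOf (beta M) M) ∧
      (∃ H : Subgroup G, IsPiHallOf {q | q.Prime ∧ q ∉ beta M} H ⁅M, M⁆ ∧ Group.IsNilpotent H) ∧
      (∃ H : Subgroup G, IsPiHallOf {q | q.Prime ∧ q ∉ beta M} H (sigmaCore M) ∧
        Group.IsNilpotent H) ∧
      ∀ p : ℕ, p.Prime → p ∣ Nat.card M → p ∉ beta M →
        HasNormalPComplement p ↥⁅M, M⁆ ∧ HasNormalPComplement p ↥(sigmaCore M) ∧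
        ∀ q : ℕ, q.Prime → q ∣ (pPrimeCore p ↥M).index → q ≤ p := by
  have hβσ : ∀ p, p ∈ beta M → p ∈ sigma M := fun p hp => bg_alpha_sub_sigma hG hU M hM hp.1
  -- `M_σ ≤ M'`
  have hσc : piCore (sigma M) ↥M ≤ commutator ↥M := by
    apply bg_le_of_pgroups_le
    intro r _ Q hQle hQ
    by_cases hQ1 : Q = ⊥
    · rw [hQ1]; exact bot_le
    · have hr : r ∈ sigma M := by
        apply Cfsg.Agent.Lib.helper65.piCore_isPiGrp (G := M) (sigma M) r Fact.out
        have hnt : Nontrivial Q := (Subgroup.nontrivial_iff_ne_bot _).mpr hQ1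
        obtain ⟨n, hn0, hn⟩ := (hQ.nontrivial_iff_card).mp hnt
        have h1 : r ∣ Nat.card Q := by rw [hn]; exact dvd_pow_self r hn0.ne'
        exact h1.trans (Subgroup.card_dvd_of_le hQle)
      exact bg_sylow_le_commutator hG hF M hM hr Q hQ
  have hcomm_eq : (commutator ↥M).map M.subtype = ⁅M, M⁆ := Subgroup.map_subtype_commutator M
  have hnpc1 : ∀ p : ℕ, p.Prime → p ∣ Nat.card M → p ∉ beta M → BGNpc p ↥⁅M, M⁆ := by
    intro p hpp hpM hpβ
    have : Fact p.Prime := ⟨hpp⟩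
    obtain ⟨-, h3, -⟩ := bg_beta_key hG hU hL M hM p hpM hpβ
    have h4 := bgNpc_of_hasNormalPComplement h3
    have e : ↥(commutator ↥M) ≃* ↥⁅M, M⁆ :=
      ((commutator ↥M).equivMapOfInjective M.subtype M.subtype_injective).trans
        (MulEquiv.subgroupCongr hcomm_eq)
    exact bgNpc_of_mulEquiv e h4
  have hnpc2 : ∀ p : ℕ, p.Prime → p ∣ Nat.card M → p ∉ beta M → BGNpc p ↥(sigmaCore M) := by
    intro p hpp hpM hpβ
    have : Fact p.Prime := ⟨hpp⟩
    obtain ⟨-, h3, -⟩ := bg_beta_key hG hU hL M hM p hpM hpβ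
    have h4 := bgNpc_of_hasNormalPComplement h3
    have h5 := bgNpc_subgroup h4 ((piCore (sigma M) ↥M).subgroupOf (commutator ↥M))
    have e1 : ↥((piCore (sigma M) ↥M).subgroupOf (commutator ↥M)) ≃* ↥(piCore (sigma M) ↥M) :=
      Subgroup.subgroupOfEquivOfLe hσc
    have e2 : ↥(piCore (sigma M) ↥M) ≃* ↥(sigmaCore M) :=
      (piCore (sigma M) ↥M).equivMapOfInjective M.subtype M.subtype_injective
    exact bgNpc_of_mulEquiv (e1.trans e2) h5
  have hcM : ⁅M, M⁆ ≤ M := by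
    rw [← hcomm_eq]
    exact Subgroup.map_subtype_le _
  have hsM : sigmaCore M ≤ M := Subgroup.map_subtype_le _
  have hNπ := Cfsg.Agent.Lib.helper65.piCore_isPiGrp (G := M) (beta M)
  have hHall : ∀ p : ℕ, p ∈ beta M → ¬ p ∣ (piCore (beta M) ↥M).index := by
    intro p hp hdvd
    have hpp : p.Prime := hp.1.1
    have : Fact p.Prime := ⟨hpp⟩
    obtain ⟨S⟩ : Nonempty (Sylow p M) := inferInstance
    let ι := {q : ℕ // q.Prime ∧ q ∣ Nat.card M ∧ q ∉ beta M}
    let B : Subgroup ↥M := ⨅ q : ι, pPrimeCore q.1 ↥M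
    have hBn : B.Normal :=
      Subgroup.normal_iInf_normal (fun q : ι => Cfsg.Agent.Lib.helper40.pPrimeCore_normal' q.1 ↥M)
    have hBβ : ∀ r : ℕ, r.Prime → r ∣ Nat.card B → r ∈ beta M := by
      intro r hr hd
      by_contra hrβ
      have h1 : B ≤ pPrimeCore r ↥M :=
        iInf_le (fun q : ι => pPrimeCore q.1 ↥M)
          ⟨r, hr, hd.trans (Subgroup.card_subgroup_dvd_card B), hrβ⟩
      have h2 := Cfsg.Agent.Lib.helper40.pPrimeCore_card_coprime r ↥M
      have h3 : r ∣ Nat.card (pPrimeCore r ↥M) := hd.trans (Subgroup.card_dvd_of_le h1)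
      exact (Nat.Prime.coprime_iff_not_dvd hr).mp h2.symm h3
    have hBle : B ≤ piCore (beta M) ↥M := le_sSup ⟨hBn, hBβ⟩
    have hSc : (S : Subgroup M) ≤ commutator ↥M :=
      bg_sylow_le_commutator hG hF M hM (hβσ p hp) S S.isPGroup'
    have hSB : (S : Subgroup M) ≤ B := by
      apply le_iInf
      intro q
      have : Fact q.1.Prime := ⟨q.2.1⟩
      have hpq : p ≠ q.1 := fun h => q.2.2.2 (h ▸ hp)
      obtain ⟨-, -, h5⟩ := bg_beta_key hG hU hL M hM q.1 q.2.2.1 q.2.2.2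
      exact bg_pgroup_le_pPrimeCore hpq h5 S S.isPGroup' hSc
    exact S.not_dvd_index (hdvd.trans (Subgroup.index_dvd_of_le (hSB.trans hBle)))
  have hle : piCoreOf (beta M) M ≤ M := Subgroup.map_subtype_le _
  have hcardβ : Nat.card (piCoreOf (beta M) M) = Nat.card (piCore (beta M) ↥M) := by
    unfold piCoreOf
    exact Subgroup.card_map_of_injective M.subtype_injective
  have hπ : ∀ p : ℕ, p.Prime → p ∣ Nat.card (piCoreOf (beta M) M) → p ∈ beta M := by
    intro p hp hd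
    rw [hcardβ] at hd
    exact hNπ p hp hd
  have hrel : (piCoreOf (beta M) M).relIndex M = (piCore (beta M) ↥M).index := by
    unfold piCoreOf
    exact Cfsg.Agent.Lib.helper71.BGA.relIndex_map_subtype _
  have hrel' : ∀ p : ℕ, p.Prime → p ∈ beta M → ¬ p ∣ (piCoreOf (beta M) M).relIndex M := by
    intro p _ hp
    rw [hrel]
    exact hHall p hp
  refine ⟨⟨hle, hπ, hrel'⟩, ⟨hπ, ?_⟩, ?_, ?_, ?_⟩
  · intro p hpp hp hd
    rw [← Subgroup.relIndex_mul_index hle] at hd
    rcases (Nat.Prime.dvd_mul hpp).mp hd with h | h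
    · exact hrel' p hpp hp h
    · exact bg_sigma_not_dvd_index M (hβσ p hp) h
  · exact bg_hall_of_npc ⁅M, M⁆ (beta M)
      (fun q hq hd hqβ => hnpc1 q hq (hd.trans (Subgroup.card_dvd_of_le hcM)) hqβ)
  · exact bg_hall_of_npc (sigmaCore M) (beta M)
      (fun q hq hd hqβ => hnpc2 q hq (hd.trans (Subgroup.card_dvd_of_le hsM)) hqβ)
  · intro p hpp hpM hpβ
    have : Fact p.Prime := ⟨hpp⟩
    exact ⟨hasNormalPComplement_of_bgNpc (hnpc1 p hpp hpM hpβ),
      hasNormalPComplement_of_bgNpc (hnpc2 p hpp hpM hpβ),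
      (bg_beta_key hG hU hL M hM p hpM hpβ).1⟩

end Cfsg.Agent.Lib.helper8
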