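import Mathlib
import Cfsg.Agent.Lib.helper13.BGExc
import Cfsg.Agent.Lib.helper25.BGSigma
import Cfsg.Agent.Lib.helper8.BGTen9

/-!
Bender–Glauberman Theorem 12.5 (statement S1417) from the section 11 interface of
`Cfsg.Agent.Lib.helper13.BGExc` and Proposition 12.4 (statement S1416) taken as a hypothesis.
-/

set_option autoImplicit false
open Cfsg Cfsg.Agent.Lib.helper13

namespace Cfsg.Agent.Lib.helper8

variable {G : Type*} [Group G]

/-- The statement of S1416 (B-G Proposition 12.4) for all `M`, `p`, `A`, as a hypothesis. -/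
def BGTwelveFourHyp (G : Type*) [Group G] : Prop :=
  ∀ (M : Subgroup G), IsCoatom M → ∀ (p : ℕ) [Fact p.Prime] (A : Subgroup G),
    (A ≤ M ∧ IsElementaryAbelian p A ∧ Nat.card A = p ^ 2) →
    Subgroup.centralizer (A : Set G) ≤ M ∧
      ((∀ A₀ : Subgroup G, A₀ ≤ A → Nat.card A₀ = p →
          ¬ (Subgroup.normalizer (A₀ : Set G) ≤ M ∧
            ∀ L : Subgroup G, IsCoatom L → Subgroup.normalizer (A₀ : Set G) ≤ L → L = M)) →
        p ∈ sigma M ∧ alphaCore M = ⊥ ∧ Group.IsNilpotent (sigmaCore M))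

/-- For `p ∉ σ(M)`, Proposition 12.4 makes `M` exceptional for `(p, A)`. -/
theorem bg_exc_of_not_sigma (h16 : BGTwelveFourHyp G) (M : Subgroup G) (hM : IsCoatom M) (p : ℕ)
    [Fact p.Prime] (hp : p ∉ sigma M) (A : Subgroup G)
    (hA : A ≤ M ∧ IsElementaryAbelian p A ∧ Nat.card A = p ^ 2) :
    ∃ A₀ : Subgroup G, Exc M p A₀ A := by
  by_contra hcon
  have h := (h16 M hM p A hA).2 (by
    rintro A₀ hA₀ hc ⟨hN, -⟩
    exact hcon ⟨A₀, hM, Fact.out, hp, hA.1, hA.2.1, hA.2.2, hA₀, hc, hN⟩)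
  exact hp h.1

/-- In a group with a normal subgroup `N` and a `p`-subgroup `A`, an element of `N ⊔ A` of order
prime to `p` lies in `N`. -/
theorem bg_mem_of_mem_sup_pgroup {X : Type*} [Group X] [Finite X] {p : ℕ} [Fact p.Prime]
    (N A : Subgroup X) [N.Normal] (hA : IsPGroup p A) (c : X) (hc : c ∈ N ⊔ A)
    (hcop : (orderOf c).Coprime p) : c ∈ N := by
  have h2 : (N ⊔ A).map (QuotientGroup.mk' N) = A.map (QuotientGroup.mk' N) := by
    rw [Subgroup.map_sup, QuotientGroup.map_mk'_self, bot_sup_eq]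
  have h1 : (QuotientGroup.mk' N) c ∈ A.map (QuotientGroup.mk' N) := by
    rw [← h2]
    exact Subgroup.mem_map_of_mem _ hc
  obtain ⟨k, hk⟩ := (hA.map (QuotientGroup.mk' N)) ⟨_, h1⟩
  have hk' : ((QuotientGroup.mk' N) c) ^ p ^ k = 1 := congrArg Subtype.val hk
  have h3 : ((QuotientGroup.mk' N) c) ^ orderOf c = 1 := by
    rw [← map_pow, pow_orderOf_eq_one, map_one]
  have h4 := pow_gcd_eq_one.mpr ⟨hk', h3⟩
  have h5 : Nat.gcd (p ^ k) (orderOf c) = 1 := Nat.Coprime.pow_left k hcop.symm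
  rw [h5, pow_one] at h4
  exact (QuotientGroup.eq_one_iff c).mp h4

/-- The order of `M_σ` is prime to `p` when `p ∉ σ(M)`. -/
theorem bg_sigmaCore_card_coprime [Finite G] (M : Subgroup G) {p : ℕ} (hpp : p.Prime)
    (hp : p ∉ sigma M) : (Nat.card (sigmaCore M)).Coprime p := by
  have hcard : Nat.card (sigmaCore M) = Nat.card (piCore (sigma M) ↥M) := by
    unfold sigmaCore
    exact Subgroup.card_map_of_injective M.subtype_injective
  rw [hcard, Nat.coprime_comm, Nat.Prime.coprime_iff_not_dvd hpp]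
  intro h
  exact hp (Cfsg.Agent.Lib.helper65.piCore_isPiGrp (G := M) (sigma M) p hpp h)

/-- For `p ∈ σ(H)`, every `p`-subgroup of `H` lies in `H_σ`. -/
theorem bg_pgroup_le_sigmaCore [Finite G] (hG : IsMinSimpleOddOrder G) (hU : BGUniqHyp G)
    (hF : BGFusHyp G) (H : Subgroup G) (hH : IsCoatom H) {p : ℕ} (hp : p ∈ sigma H)
    (A : Subgroup G) (hAH : A ≤ H) (hA : IsPGroup p A) : A ≤ sigmaCore H := by
  have : Fact p.Prime := ⟨hp.1⟩
  have h1 := Cfsg.Agent.Lib.helper25.BGS.sigma_core_not_dvd_index hG hU hF H hH hp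
  have hA' : IsPGroup p (A.subgroupOf H) :=
    hA.comap_of_injective H.subtype H.subtype_injective
  have h2 := bg_le_of_not_dvd_index (piCore (sigma H) ↥H) h1 (A.subgroupOf H) hA'
  intro a ha
  exact ⟨⟨a, hAH ha⟩, h2 (Subgroup.mem_subgroupOf.mpr ha), rfl⟩

/-- B-G Theorem 12.5(e): for an exceptional `M`, every other maximal subgroup containing `A`
meets `M_σ` trivially. -/
theorem bg_12_5e [Finite G] (hG : IsMinSimpleOddOrder G) (hU : BGUniqHyp G) (hF : BGFusHyp G)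
    (h4 : P11_4 G) (h6 : P11_6 G) (h7 : P11_7 G) (h16 : BGTwelveFourHyp G)
    (M : Subgroup G) (p : ℕ) [Fact p.Prime] (A₀ A : Subgroup G) (hE : Exc M p A₀ A)
    (H : Subgroup G) (hH : IsCoatom H) (hHM : H ≠ M) (hAH : A ≤ H) : sigmaCore M ⊓ H = ⊥ := by
  have hE' := hE
  obtain ⟨hM, hpp, hpσ, hAM, hAe, hA2, hA₀A, hA₀c, hN⟩ := hE'
  have hAp : IsPGroup p A := IsPGroup.of_card hA2
  have hσσ : sigmaCore H ⊓ sigmaCore M = ⊥ := by
    by_contra hne
    exact hHM (h4 M p A₀ A hE H hH hAH hne)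
  have hnM := Cfsg.Agent.Lib.helper71.BGA.le_normalizer_sigmaCore M
  have hnH := Cfsg.Agent.Lib.helper71.BGA.le_normalizer_sigmaCore H
  -- `H_σ A` is normal in `H`, and its elements of order prime to `p` lie in `H_σ`
  have hkey : H ≤ Subgroup.normalizer ((sigmaCore H ⊔ A : Subgroup G) : Set G) ∧
      ∀ c ∈ sigmaCore H ⊔ A, (orderOf c).Coprime p → c ∈ sigmaCore H := by
    by_cases hpH : p ∈ sigma H
    · have h1 : A ≤ sigmaCore H := bg_pgroup_le_sigmaCore hG hU hF H hH hpH A hAH hAp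
      have h2 : sigmaCore H ⊔ A = sigmaCore H := sup_eq_left.mpr h1
      rw [h2]
      exact ⟨hnH, fun c hc _ => hc⟩
    · obtain ⟨A₁, hE₁⟩ := bg_exc_of_not_sigma h16 H hH p hpH A ⟨hAH, hAe, hA2⟩
      refine ⟨h7 H p A₁ A hE₁, ?_⟩
      intro c hc hcop
      have hsup : sigmaCore H ⊔ A ≤ H := sup_le (Subgroup.map_subtype_le _) hAH
      have hmap : (piCore (sigma H) ↥H ⊔ A.subgroupOf H).map H.subtype = sigmaCore H ⊔ A := by
        rw [Subgroup.map_sup, Subgroup.map_subgroupOf_eq_of_le hAH]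
        rfl
      have hc' : c ∈ (piCore (sigma H) ↥H ⊔ A.subgroupOf H).map H.subtype := by
        rw [hmap]; exact hc
      obtain ⟨y, hy, rfl⟩ := hc'
      have hA' : IsPGroup p (A.subgroupOf H) :=
        hAp.comap_of_injective H.subtype H.subtype_injective
      have hcop' : (orderOf y).Coprime p := by
        have : orderOf (H.subtype y) = orderOf y := orderOf_injective H.subtype H.subtype_injective y
        rw [← this]; exact hcop
      have h3 := bg_mem_of_mem_sup_pgroup (piCore (sigma H) ↥H) (A.subgroupOf H) hA' y hy hcop'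
      exact ⟨y, h3, rfl⟩
  obtain ⟨hnS, hS⟩ := hkey
  have hcopM := bg_sigmaCore_card_coprime M hpp hpσ
  -- `A` centralizes `M_σ ∩ H`
  have hcent : sigmaCore M ⊓ H ≤ Subgroup.centralizer (A : Set G) := by
    rintro x ⟨hxM, hxH⟩
    rw [Subgroup.mem_centralizer_iff]
    intro a ha
    have haM : a ∈ M := hAM ha
    have haH : a ∈ H := hAH ha
    have h1 : a * x⁻¹ * a⁻¹ ∈ sigmaCore M := by
      have haN : a ∈ Subgroup.normalizer ((sigmaCore M : Subgroup G) : Set G) := hnM haM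
      exact (Subgroup.mem_normalizer_iff.mp haN x⁻¹).mp ((sigmaCore M).inv_mem hxM)
    have hcM : x * a * x⁻¹ * a⁻¹ ∈ sigmaCore M := by
      have : x * a * x⁻¹ * a⁻¹ = x * (a * x⁻¹ * a⁻¹) := by group
      rw [this]
      exact (sigmaCore M).mul_mem hxM h1
    have hcS : x * a * x⁻¹ * a⁻¹ ∈ sigmaCore H ⊔ A := by
      have hxN : x ∈ Subgroup.normalizer ((sigmaCore H ⊔ A : Subgroup G) : Set G) := hnS hxH
      have h2 : x * a * x⁻¹ ∈ sigmaCore H ⊔ A :=
        (Subgroup.mem_normalizer_iff.mp hxN a).mp ((le_sup_right : A ≤ sigmaCore H ⊔ A) ha)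
      exact (sigmaCore H ⊔ A).mul_mem h2
        ((sigmaCore H ⊔ A).inv_mem ((le_sup_right : A ≤ sigmaCore H ⊔ A) ha))
    have hord : (orderOf (x * a * x⁻¹ * a⁻¹)).Coprime p := by
      have h3 : orderOf (x * a * x⁻¹ * a⁻¹) ∣ Nat.card (sigmaCore M) := by
        have := orderOf_dvd_natCard (⟨x * a * x⁻¹ * a⁻¹, hcM⟩ : sigmaCore M)
        rwa [Subgroup.orderOf_mk] at this
      exact Nat.Coprime.coprime_dvd_left h3 hcopM
    have hcH : x * a * x⁻¹ * a⁻¹ ∈ sigmaCore H := hS _ hcS hord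
    have h1' : x * a * x⁻¹ * a⁻¹ ∈ sigmaCore H ⊓ sigmaCore M := ⟨hcH, hcM⟩
    rw [hσσ, Subgroup.mem_bot] at h1'
    have h5 : x * a = a * x := by
      have : x * a = (x * a * x⁻¹ * a⁻¹) * (a * x) := by group
      rw [this, h1', one_mul]
    exact h5.symm
  have h8 : sigmaCore M ⊓ H ≤ sigmaCore M ⊓ Subgroup.centralizer (A : Set G) :=
    le_inf inf_le_left hcent
  rw [(h6 M p A₀ A hE).2.1] at h8
  exact le_bot_iff.mp h8

/-- B-G Theorem 12.5 in the form of statement S1417. -/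
theorem bg_12_5 [Finite G] (hG : IsMinSimpleOddOrder G) (hU : BGUniqHyp G) (hF : BGFusHyp G)
    (h3 : P11_3 G) (h4 : P11_4 G) (h5 : P11_5 G) (h6 : P11_6 G) (h7 : P11_7 G)
    (h16 : BGTwelveFourHyp G)
    (M : Subgroup G) (hM : IsCoatom M) (p : ℕ) [Fact p.Prime] (hp : p ∈ tau2 M) (A : Subgroup G)
    (hA : A ≤ M ∧ IsElementaryAbelian p A ∧ Nat.card A = p ^ 2) :
    Group.IsNilpotent (sigmaCore M) ∧
      (∀ P : Sylow p M, IsMulCommutative (P : Subgroup M) ∧
        (A ≤ (P : Subgroup M).map M.subtype →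
          (∀ x ∈ (P : Subgroup M).map M.subtype, x ^ p = 1 ↔ x ∈ A) ∧
          ¬ Subgroup.normalizer ((((P : Subgroup M).map M.subtype : Subgroup G)) : Set G) ≤ M)) ∧
      M ≤ Subgroup.normalizer ((sigmaCore M ⊔ A : Subgroup G) : Set G) ∧
      sigmaCore M ⊓ Subgroup.centralizer (A : Set G) = ⊥ ∧
      (∀ Mstar : Subgroup G, IsCoatom Mstar → Mstar ≠ M → A ≤ Mstar → sigmaCore M ⊓ Mstar = ⊥) ∧
      ∃ A₁ : Subgroup G, A₁ ≤ A ∧ Nat.card A₁ = p ∧
        sigmaCore M ⊓ Subgroup.centralizer (A₁ : Set G) = ⊥ := by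
  have hpp : p.Prime := Fact.out
  have hpσ : p ∉ sigma M := hp.2.1
  obtain ⟨A₀, hE⟩ := bg_exc_of_not_sigma h16 M hM p hpσ A hA
  have hpM : p ∣ Nat.card M := by
    have h1 : Nat.card A ∣ Nat.card M := Subgroup.card_dvd_of_le hA.1
    rw [hA.2.2] at h1
    exact (dvd_pow_self p (by norm_num : (2 : ℕ) ≠ 0)).trans h1
  obtain ⟨h6a, h6b, A₁, A₂, hA₁, -, hA₁c, -, -, hf₁, -⟩ := h6 M p A₀ A hE
  refine ⟨(h3 M p A₀ A hE).1, ?_, h7 M p A₀ A hE, h6b, ?_, ⟨A₁, hA₁, hA₁c, hf₁⟩⟩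
  · intro P
    refine ⟨h5 M p A₀ A hE P, fun hAP => ⟨h6a P hAP, fun hN => hpσ ⟨hpp, hpM, P, hN⟩⟩⟩
  · intro Mstar hMs hne hAMs
    exact bg_12_5e hG hU hF h4 h6 h7 h16 M p A₀ A hE Mstar hMs hne hAMs

end Cfsg.Agent.Lib.helper8
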