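import Mathlib
import Cfsg.Agent.Lib.helper13.BGExc
import Cfsg.Agent.Lib.helper13.SigFus
import Cfsg.Agent.Lib.helper27.QPrimeCore
import Cfsg.Agent.Lib.helper8.BGTen9
import Cfsg.Agent.Lib.helper71.BGTenA
import Cfsg.Agent.S1403
import Cfsg.Agent.S1410

/-!
# B-G 11.7, the Frattini step

If `O_{p'}(M)` normalizes `M_σ A` modulo `M_σ`, then `M_σ A` is normal in `M`.
-/

set_option autoImplicit false

open Cfsg Cfsg.Agent.Lib.helper13

namespace Cfsg.Agent.Lib.helper8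

variable {G : Type*} [Group G]

theorem exc_frattini [Finite G] (hG : IsMinSimpleOddOrder G) (h6 : P11_6 G) {M : Subgroup G}
    {p : ℕ} {A₀ A : Subgroup G} (hE : Exc M p A₀ A)
    (hK : ∀ k ∈ (Cfsg.pPrimeCore p ↥M).map M.subtype, ∀ a ∈ A,
      k * a * k⁻¹ * a⁻¹ ∈ sigmaCore M) :
    M ≤ Subgroup.normalizer ((sigmaCore M ⊔ A : Subgroup G) : Set G) := by
  obtain ⟨hM, hpp, hpσ, hAM, hAel, hA2, hA₀A, hA₀p, hNA₀⟩ := id hE
  have : Fact p.Prime := ⟨hpp⟩
  have hU : BGUniqHyp G := fun K hK h1 h2 => Cfsg.Agent.S1403.result hG K hK h1 h2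
  have hL : BGPLenHyp G := by
    intro q hq H hH
    have : Fact q.Prime := ⟨hq⟩
    exact Cfsg.Agent.S1410.result hG q H hH
  have hpM : p ∣ Nat.card M := by
    have h1 : Nat.card A ∣ Nat.card M := Subgroup.card_dvd_of_le hAM
    rw [hA2] at h1
    exact (dvd_pow_self p (by norm_num)).trans h1
  have hpβ : p ∉ beta M := fun h => hpσ (bg_alpha_sub_sigma hG hU M hM h.1)
  have hkey := (bg_beta_key hG hU hL M hM p hpM hpβ).2.2
  have hKn : (pPrimeCore p ↥M).Normal := Cfsg.Agent.Lib.helper40.pPrimeCore_normal' p ↥M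
  have hC : ∀ d ∈ commutator ↥M, (orderOf d).Coprime p → d ∈ pPrimeCore p ↥M :=
    fun d hd hcop => Cfsg.Agent.Lib.helper27.mem_pPrimeCore_of_mem_pPrimePCore p (hkey hd) hcop
  have hAp : IsPGroup p (A.subgroupOf M) :=
    (IsPGroup.of_card hA2).comap_of_injective M.subtype M.subtype_injective
  obtain ⟨R, hR⟩ := hAp.exists_le_sylow
  have hAR : A ≤ (R : Subgroup M).map M.subtype := by
    intro a ha
    exact ⟨⟨a, hAM ha⟩, hR (Subgroup.mem_subgroupOf.mpr ha), rfl⟩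
  have hΩ := (h6 M p A₀ A hE).1 R hAR
  have hAexp : ∀ a ∈ A, a ^ p = 1 := ((bg_elemAb_iff A).mp hAel).2
  have hstep : ∀ g ∈ M, (∀ a ∈ A, g * a * g⁻¹ ∈ sigmaCore M ⊔ A) →
      ∀ x ∈ sigmaCore M ⊔ A, g * x * g⁻¹ ∈ sigmaCore M ⊔ A := by
    intro g hg hgA
    have hle : sigmaCore M ⊔ A ≤ (sigmaCore M ⊔ A).comap (MulAut.conj g).toMonoidHom := by
      apply sup_le
      · intro s hs
        rw [Subgroup.mem_comap]
        have hn := Cfsg.Agent.Lib.helper71.BGA.le_normalizer_sigmaCore M hg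
        exact (le_sup_left : sigmaCore M ≤ sigmaCore M ⊔ A)
          ((Subgroup.mem_normalizer_iff.mp hn s).mp hs)
      · intro a ha
        rw [Subgroup.mem_comap]
        exact hgA a ha
    intro x hx
    exact hle hx
  have hnorm : ∀ g ∈ M, (∀ a ∈ A, g * a * g⁻¹ ∈ sigmaCore M ⊔ A) →
      (∀ a ∈ A, g⁻¹ * a * g⁻¹⁻¹ ∈ sigmaCore M ⊔ A) →
      g ∈ Subgroup.normalizer ((sigmaCore M ⊔ A : Subgroup G) : Set G) := by
    intro g hg h1 h2
    rw [Subgroup.mem_normalizer_iff]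
    intro x
    constructor
    · exact fun hx => hstep g hg h1 x hx
    · intro hx
      have := hstep g⁻¹ (M.inv_mem hg) h2 _ hx
      have h3 : g⁻¹ * (g * x * g⁻¹) * g⁻¹⁻¹ = x := by group
      rwa [h3] at this
  have hKpart : ∀ c ∈ pPrimeCore p ↥M, ∀ a ∈ A,
      (c : G) * a * (c : G)⁻¹ ∈ sigmaCore M ⊔ A := by
    intro c hc a ha
    have h1 := hK (c : G) ⟨c, hc, rfl⟩ a ha
    have h2 : (c : G) * a * (c : G)⁻¹ = ((c : G) * a * (c : G)⁻¹ * a⁻¹) * a := by group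
    rw [h2]
    exact Subgroup.mul_mem _ ((le_sup_left : sigmaCore M ≤ sigmaCore M ⊔ A) h1)
      ((le_sup_right : A ≤ sigmaCore M ⊔ A) ha)
  have hNpart : ∀ n ∈ Subgroup.normalizer ((R : Subgroup M) : Set M), ∀ a ∈ A,
      (n : G) * a * (n : G)⁻¹ ∈ sigmaCore M ⊔ A := by
    intro n hn a ha
    apply (le_sup_right : A ≤ sigmaCore M ⊔ A)
    obtain ⟨r, hr, hra⟩ := hAR ha
    have h1 : n * r * n⁻¹ ∈ (R : Subgroup M) := (Subgroup.mem_normalizer_iff.mp hn r).mp hr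
    have h2 : (n : G) * a * (n : G)⁻¹ ∈ (R : Subgroup M).map M.subtype :=
      ⟨n * r * n⁻¹, h1, by rw [← hra]; simp⟩
    apply (hΩ _ h2).mp
    rw [conj_pow, hAexp a ha]
    group
  intro m hm
  obtain ⟨c, hc, n, hn, hmcn⟩ :=
    Cfsg.Agent.Lib.helper13.sf_frattini_commutator (pPrimeCore p ↥M) hC R (⟨m, hm⟩ : M)
  have hm' : m = (c : G) * (n : G) := by
    have := congrArg Subtype.val hmcn
    simpa using this
  rw [hm']
  apply Subgroup.mul_mem
  · refine hnorm c c.2 (hKpart c hc) ?_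
    intro a ha
    have := hKpart c⁻¹ (Subgroup.inv_mem _ hc) a ha
    simpa using this
  · refine hnorm n n.2 (hNpart n hn) ?_
    intro a ha
    have := hNpart n⁻¹ (Subgroup.inv_mem _ hn) a ha
    simpa using this

end Cfsg.Agent.Lib.helper8
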