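import Mathlib
import Cfsg.Prelude.Def_OddOrderLocal

/-!
# S1430 (O-c): the `τ₃`-singular case -- statement bundles (helper8)

Hypothesis bundles (`Prop`s on the ambient group) for the pieces of the proof that a maximal
subgroup `M` with a prime in `τ₃(M) ∩ κ(M)` satisfies `T3Hyp M`.  See `tools/S1430_OC_SPEC.md`.
-/

set_option autoImplicit false

namespace Cfsg.Agent.Lib.helper8.BGT3

open Cfsg

/-- The `τ₃` context: `E` a complement of `M_σ` in the maximal subgroup `M`, `R ≤ E` of order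
`r ∈ τ₃(M)`. -/
def Ctx {G : Type*} [Group G] (M E R : Subgroup G) (r : ℕ) : Prop :=
  IsCoatom M ∧ IsComplIn E (sigmaCore M) M ∧ r ∈ tau3 M ∧ R ≤ E ∧ Nat.card R = r

/-- The singular `τ₃` context: moreover `C_{M_σ}(R) ≠ 1`. -/
def SCtx {G : Type*} [Group G] (M E R : Subgroup G) (r : ℕ) : Prop :=
  Ctx M E R r ∧ sigmaCore M ⊓ Subgroup.centralizer (R : Set G) ≠ ⊥

variable (G : Type*) [Group G]

/-- The asymmetry lemma (Bender--Glauberman 13.5). -/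
def ASHyp : Prop :=
  ∀ (M L : Subgroup G), IsCoatom M → IsCoatom L →
    (∀ g : G, L ≠ M.map (MulAut.conj g).toMonoidHom) →
    ∀ (p : ℕ), p ∈ tau1 M → p ∈ tau1 L → ∀ (P : Subgroup G), P ≤ M ⊓ L → Nat.card P = p →
    ∀ (q : ℕ) (Q : Subgroup G), q.Prime → Q ≤ M ⊓ L → IsPGroup q Q → Q ≠ ⊥ →
      (∀ Q₁ : Subgroup G, Q₁ ≤ M ⊓ L → IsPGroup q Q₁ → Q ≤ Q₁ → Q₁ = Q) →
      P ≤ Subgroup.normalizer (Q : Set G) → Q ⊓ Subgroup.centralizer (P : Set G) = ⊥ →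
      Subgroup.normalizer (Q : Set G) ≤ L →
    ∀ (q' : ℕ) (Q' : Subgroup G), q'.Prime → Q' ≤ M ⊓ L → IsPGroup q' Q' → Q' ≠ ⊥ →
      (∀ Q₁ : Subgroup G, Q₁ ≤ M ⊓ L → IsPGroup q' Q₁ → Q' ≤ Q₁ → Q₁ = Q') →
      P ≤ Subgroup.normalizer (Q' : Set G) → Q' ⊓ Subgroup.centralizer (P : Set G) = ⊥ →
      Subgroup.normalizer (Q' : Set G) ≤ M → False

/-- (A) `R` is normal in `E` and lies in `E'`. -/
def HNorm : Prop :=
  ∀ (M E R : Subgroup G) (r : ℕ), Ctx M E R r →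
    E ≤ Subgroup.normalizer (R : Set G) ∧ R ≤ ⁅E, E⁆

/-- (B) a maximal subgroup `H ≥ N_G(R)` is not conjugate to `M`, and `M_σ ∩ H = C_{M_σ}(R)`. -/
def HH : Prop :=
  ∀ (M E R : Subgroup G) (r : ℕ), Ctx M E R r →
    ∀ H : Subgroup G, IsCoatom H → Subgroup.normalizer (R : Set G) ≤ H →
      (∀ g : G, H ≠ M.map (MulAut.conj g).toMonoidHom) ∧
      sigmaCore M ⊓ H = sigmaCore M ⊓ Subgroup.centralizer (R : Set G)

/-- (C) `τ₂(M) = ∅` in the singular context. -/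
def HTau2 : Prop :=
  ∀ (M E R : Subgroup G) (r : ℕ), SCtx M E R r → ∀ q : ℕ, q ∉ tau2 M

/-- (X) cross-centralizing: a prime-order `X ≤ E` centralizes `C_{M_σ}(R)` unless
`|X| ∈ τ₁(H)` and `r ∈ σ(H)`. -/
def HCross : Prop :=
  ∀ (M E R : Subgroup G) (r : ℕ), Ctx M E R r →
    ∀ H : Subgroup G, IsCoatom H → Subgroup.normalizer (R : Set G) ≤ H →
    ∀ X : Subgroup G, X ≤ E → (Nat.card X).Prime → (Nat.card X ∉ tau1 H ∨ r ∉ sigma H) →
      sigmaCore M ⊓ Subgroup.centralizer (R : Set G) ≤ Subgroup.centralizer (X : Set G)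

/-- (E3) all `τ₃`-subgroups of prime order of `E` have the same centralizer in `M_σ`. -/
def HE3 : Prop :=
  ∀ (M E R : Subgroup G) (r : ℕ), SCtx M E R r →
    ∀ X : Subgroup G, X ≤ E → Nat.card X ∈ tau3 M →
      sigmaCore M ⊓ Subgroup.centralizer (X : Set G) =
        sigmaCore M ⊓ Subgroup.centralizer (R : Set G)

/-- (K1) the half lemma: `M_α ≠ 1`, `α(M) = β(M)`, `M = M_α (M ∩ H)`, and `M_α ∩ C(R)`,
`M_α ∩ C(P)` (`P` of order `p ∈ τ₁(M)`) have cyclic Sylow subgroups. -/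
def HHalf : Prop :=
  ∀ (M E R : Subgroup G) (r : ℕ), Ctx M E R r →
    ∀ H : Subgroup G, IsCoatom H → Subgroup.normalizer (R : Set G) ≤ H →
      alphaCore M ≠ ⊥ ∧ (∀ t ∈ alpha M, t ∈ beta M) ∧
      (∀ m ∈ M, ∃ a ∈ alphaCore M, ∃ d ∈ M ⊓ H, m = a * d) ∧
      (∀ (t : ℕ) (T : Subgroup G), t.Prime → IsPGroup t T →
        T ≤ alphaCore M ⊓ Subgroup.centralizer (R : Set G) → IsCyclic T) ∧
      (∀ (p : ℕ) (P : Subgroup G), p ∈ tau1 M → P ≤ M → Nat.card P = p →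
        ∀ (t : ℕ) (T : Subgroup G), t.Prime → IsPGroup t T →
          T ≤ alphaCore M ⊓ Subgroup.centralizer (P : Set G) → IsCyclic T)

/-- (K2) if some `P ≤ E` of order `p ∈ τ₁(M)` does not centralize `R`, then `p` is the only
prime of `τ₁(M)` dividing `|E|`. -/
def HTau1 : Prop :=
  ∀ (M E R : Subgroup G) (r : ℕ), Ctx M E R r →
    ∀ (p : ℕ) (P : Subgroup G), p ∈ tau1 M → P ≤ E → Nat.card P = p →
      ¬ P ≤ Subgroup.centralizer (R : Set G) → ∀ s ∈ tau1 M, s ∣ Nat.card E → s = p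

/-- (K3) in that case `C_{M_σ}(R) ∩ C(P) ≤ (M_σ)'`. -/
def HFix : Prop :=
  ∀ (M E R : Subgroup G) (r : ℕ), SCtx M E R r →
    ∀ (p : ℕ) (P : Subgroup G), p ∈ tau1 M → P ≤ E → Nat.card P = p →
      ¬ P ≤ Subgroup.centralizer (R : Set G) →
      sigmaCore M ⊓ Subgroup.centralizer (R : Set G) ⊓ Subgroup.centralizer (P : Set G) ≤
        ⁅sigmaCore M, sigmaCore M⁆

/-- (Z) a `t`-group (`t` odd) acted on coprimely by a Frobenius group `R P` of order `r p` with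
`C_T(P)`, `C_T(R)` cyclic and `C_T(R P) ≠ 1` is cyclic. -/
def ZHyp : Prop :=
  ∀ (t : ℕ) (T R P : Subgroup G), t.Prime → t ≠ 2 → IsPGroup t T →
    (Nat.card R).Prime → (Nat.card P).Prime →
    R ≤ Subgroup.normalizer (T : Set G) → P ≤ Subgroup.normalizer (T : Set G) →
    P ≤ Subgroup.normalizer (R : Set G) → ¬ P ≤ Subgroup.centralizer (R : Set G) →
    (Nat.card T).Coprime (Nat.card R * Nat.card P) →
    IsCyclic ↥(T ⊓ Subgroup.centralizer (P : Set G)) →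
    IsCyclic ↥(T ⊓ Subgroup.centralizer (R : Set G)) →
    T ⊓ Subgroup.centralizer (R : Set G) ⊓ Subgroup.centralizer (P : Set G) ≠ ⊥ → IsCyclic T

/-- (K4) no prime outside `α(M)` divides `|C_{M_σ}(R)|` when some `P` (order in `τ₁(M)`) does
not centralize `R`. -/
def HKill4 : Prop :=
  ∀ (M E R : Subgroup G) (r : ℕ), SCtx M E R r →
    ∀ (p : ℕ) (P : Subgroup G), p ∈ tau1 M → P ≤ E → Nat.card P = p →
      ¬ P ≤ Subgroup.centralizer (R : Set G) →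
      ∀ q : ℕ, q.Prime → q ∣ Nat.card ↥(sigmaCore M ⊓ Subgroup.centralizer (R : Set G)) →
        q ∈ alpha M

/-- (K5) no prime of `α(M)` divides `|C_{M_σ}(R)|` in that case. -/
def HKill5 : Prop :=
  ∀ (M E R : Subgroup G) (r : ℕ), SCtx M E R r →
    ∀ (p : ℕ) (P : Subgroup G), p ∈ tau1 M → P ≤ E → Nat.card P = p →
      ¬ P ≤ Subgroup.centralizer (R : Set G) →
      ∀ q : ℕ, q.Prime → q ∣ Nat.card ↥(sigmaCore M ⊓ Subgroup.centralizer (R : Set G)) →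
        q ∉ alpha M

/-- (KC) every `P ≤ E` of order in `τ₁(M)` centralizes `R`. -/
def HKillC : Prop :=
  ∀ (M E R : Subgroup G) (r : ℕ), SCtx M E R r →
    ∀ (p : ℕ) (P : Subgroup G), p ∈ tau1 M → P ≤ E → Nat.card P = p →
      P ≤ Subgroup.centralizer (R : Set G)

/-- (F1) `C_{M_σ}(P) ≤ C(E)` for `P ≤ E` of order in `τ₁(M)`. -/
def HCentP : Prop :=
  ∀ (M E R : Subgroup G) (r : ℕ), SCtx M E R r →
    ∀ (p : ℕ) (P : Subgroup G), p ∈ tau1 M → P ≤ E → Nat.card P = p →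
      sigmaCore M ⊓ Subgroup.centralizer (P : Set G) ≤ Subgroup.centralizer (E : Set G)

/-- (S1) two non-conjugate maximal subgroups sharing a Sylow `q`-subgroup `S` of `G`,
`q ∈ σ(M) ∩ σ(L)`: `M ∩ L` normalizes `S` and contains a complement of `M_σ` in `M`. -/
def HCommon : Prop :=
  ∀ (M L : Subgroup G), IsCoatom M → IsCoatom L →
    (∀ g : G, L ≠ M.map (MulAut.conj g).toMonoidHom) →
    ∀ (q : ℕ) (S : Subgroup G), q ∈ sigma M → q ∈ sigma L → IsPGroup q S → S ≤ M → S ≤ L →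
      ¬ q ∣ S.index →
      M ⊓ L ≤ Subgroup.normalizer (S : Set G) ∧
        ∃ E : Subgroup G, IsComplIn E (sigmaCore M) M ∧ E ≤ L

/-- (S3) in the singular context `σ(M)` is disjoint from `σ(L)` for `L` not conjugate to `M`. -/
def HSigDisj : Prop :=
  ∀ (M E R : Subgroup G) (r : ℕ), SCtx M E R r →
    ∀ L : Subgroup G, IsCoatom L → (∀ g : G, L ≠ M.map (MulAut.conj g).toMonoidHom) →
      ∀ q ∈ sigma M, q ∉ sigma L

/-- (KA) every `P ≤ E` of order in `τ₁(M)` centralizes `C_{M_σ}(R)`. -/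
def HKillA : Prop :=
  ∀ (M E R : Subgroup G) (r : ℕ), SCtx M E R r →
    ∀ (p : ℕ) (P : Subgroup G), p ∈ tau1 M → P ≤ E → Nat.card P = p →
      sigmaCore M ⊓ Subgroup.centralizer (R : Set G) ≤ Subgroup.centralizer (P : Set G)

end Cfsg.Agent.Lib.helper8.BGT3
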