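import Mathlib
import Cfsg.Agent.Lib.helper8.BGT3Defs
import Cfsg.Agent.Lib.helper8.BGTen1
import Cfsg.Agent.Lib.helper87.BG1430Asm
import Cfsg.Agent.Lib.helper98.BGT3End
import Cfsg.Agent.Lib.helper71.BGRegNA
import Cfsg.Agent.Lib.helper60.BGCentU
import Cfsg.Agent.Lib.helper13.BG11a
import Cfsg.Agent.S1428
import Cfsg.Agent.S1350

/-!
# S1430 (O-c): final assembly pieces (helper8)

* `t3_killC` : (K4) + (K5) give (KC);
* `t3_fin`   : all subgroups of prime order of `E` have the same centralizer in `M_σ`;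
* `t3Hyp_of_pieces` : `T3Hyp M` from the four bundles `HTau2`, `HE3`, `HKillC`, `HKillA`.
-/

set_option autoImplicit false
open Cfsg

namespace Cfsg.Agent.Lib.helper8.BGT3

variable {G : Type*} [Group G]

/-- PIECE KC (assembly). -/
theorem t3_killC [Finite G] (h4 : HKill4 G) (h5 : HKill5 G) : HKillC G := by
  intro M E R r hS p P hp hPE hP
  by_contra hcon
  have hC := hS.2
  have hcard : Nat.card ↥(sigmaCore M ⊓ Subgroup.centralizer (R : Set G)) ≠ 1 := by
    intro h1
    exact hC (Subgroup.card_eq_one.mp h1)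
  obtain ⟨q, hq, hqd⟩ := Nat.exists_prime_and_dvd hcard
  exact h5 M E R r hS p P hp hPE hP hcon q hq hqd (h4 M E R r hS p P hp hPE hP hcon q hq hqd)

/-- A prime dividing the order of a complement `E` of `M_σ` in `M` is not in `σ(M)`. -/
theorem t3_not_sigma_of_dvd_compl [Finite G] (hG : IsMinSimpleOddOrder G) (M : Subgroup G)
    (hM : IsCoatom M) (E : Subgroup G) (hE : IsComplIn E (sigmaCore M) M) (q : ℕ) (hq : q.Prime)
    (hqE : q ∣ Nat.card E) : q ∉ sigma M := by
  intro hqσ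
  obtain ⟨hH1, -, -⟩ := Cfsg.Agent.S1350.result hG M hM
  have hcard := Cfsg.Agent.Lib.helper60.BGCentU.card_of_isComplIn hE
  have hrel : (sigmaCore M).relIndex M * Nat.card (sigmaCore M) = Nat.card M := by
    have h1 := Subgroup.card_mul_index ((sigmaCore M).subgroupOf M)
    have h2 : Nat.card ↥((sigmaCore M).subgroupOf M) = Nat.card ↥(sigmaCore M) :=
      Nat.card_congr (Subgroup.subgroupOfEquivOfLe hH1.1).toEquiv
    rw [h2] at h1
    rw [mul_comm]
    exact h1
  have hpos : 0 < Nat.card (sigmaCore M) := Nat.card_pos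
  have heq : Nat.card E = (sigmaCore M).relIndex M := by
    have : Nat.card E * Nat.card (sigmaCore M) = (sigmaCore M).relIndex M * Nat.card (sigmaCore M) := by
      rw [hcard, hrel]
    exact Nat.eq_of_mul_eq_mul_right hpos this
  rw [heq] at hqE
  exact hH1.2.2 q hq hqσ hqE

/-- PIECE FIN: the common centralizer. -/
theorem t3_fin [Finite G] (hG : IsMinSimpleOddOrder G) (hT2 : HTau2 G) (hE3 : HE3 G)
    (hKC : HKillC G) (hKA : HKillA G) :
    ∀ (M E R : Subgroup G) (r : ℕ), SCtx M E R r →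
      ∀ X : Subgroup G, X ≤ E → (Nat.card X).Prime →
        sigmaCore M ⊓ Subgroup.centralizer (X : Set G) =
          sigmaCore M ⊓ Subgroup.centralizer (R : Set G) := by
  intro M E R r hS X hXE hXp
  obtain ⟨⟨hM, hE, hr, hRE, hRc⟩, hC⟩ := id hS
  have hqE : Nat.card X ∣ Nat.card E := Subgroup.card_dvd_of_le hXE
  have hqσ : Nat.card X ∉ sigma M := t3_not_sigma_of_dvd_compl hG M hM E hE _ hXp hqE
  have hqM : Nat.card X ∣ Nat.card M := hqE.trans (Subgroup.card_dvd_of_le hE.1)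
  have h2 : PRankLE (Nat.card X) 2 M := by
    by_contra h
    exact hqσ (Cfsg.Agent.Lib.helper8.bg_alpha_sub_sigma hG (Cfsg.Agent.Lib.helper13.bgx_uniq hG) M hM
      ⟨hXp, h⟩)
  have h1 : PRankLE (Nat.card X) 1 M := by
    by_contra h
    exact hT2 M E R r hS (Nat.card X) ⟨hXp, hqσ, h2, h⟩
  by_cases hd : Nat.card X ∣ Nat.card ↥⁅M, M⁆
  · exact hE3 M E R r hS X hXE ⟨hXp, hqσ, hd, h1⟩
  · have hq1 : Nat.card X ∈ tau1 M := ⟨hXp, hqσ, hqM, hd, h1⟩
    have hXR : X ≤ Subgroup.centralizer (R : Set G) := hKC M E R r hS _ X hq1 hXE rfl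
    have hRX : R ≤ Subgroup.centralizer (X : Set G) := by
      intro y hy
      rw [Subgroup.mem_centralizer_iff]
      intro x hx
      exact ((Subgroup.mem_centralizer_iff.mp (hXR hx)) y hy).symm
    apply le_antisymm
    · exact Cfsg.Agent.S1428.result hG M hM E hE _ hq1 X hXE rfl R (le_inf hRE hRX)
        (by rw [hRc]; exact hr.1)
    · exact le_inf inf_le_left (hKA M E R r hS _ X hq1 hXE rfl)

/-- (O-c) from the four bundles. -/
theorem t3Hyp_of_pieces [Finite G] (hG : IsMinSimpleOddOrder G) (hT2 : HTau2 G) (hE3 : HE3 G)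
    (hKC : HKillC G) (hKA : HKillA G) (M : Subgroup G) (hM : IsCoatom M)
    (h : ∃ p ∈ kappa M, p ∈ tau3 M) : Cfsg.Agent.Lib.helper87.BG142.T3Hyp M := by
  obtain ⟨p, hpκ, hp3⟩ := h
  intro E hE
  have hpp : p.Prime := hpκ.1
  have : Fact p.Prime := ⟨hpp⟩
  have hcard := Cfsg.Agent.Lib.helper60.BGCentU.card_of_isComplIn hE
  have hpM : p ∣ Nat.card M := hpκ.2.1
  have hpσ : p ∉ sigma M := hpκ.2.2.1
  obtain ⟨hH1, -, -⟩ := Cfsg.Agent.S1350.result hG M hM
  have hpE : p ∣ Nat.card E := by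
    rw [← hcard] at hpM
    rcases (Nat.Prime.dvd_mul hpp).mp hpM with h | h
    · exact h
    · exact absurd (hH1.2.1 p hpp h) hpσ
  obtain ⟨x, hx⟩ := exists_prime_orderOf_dvd_card' (G := ↥E) p hpE
  have hxo : orderOf (x : G) = p := by rw [Subgroup.orderOf_coe]; exact hx
  have hRE : Subgroup.zpowers (x : G) ≤ E := (Subgroup.zpowers_le).mpr x.2
  have hRc : Nat.card (Subgroup.zpowers (x : G)) = p := by rw [Nat.card_zpowers]; exact hxo
  obtain ⟨c, hcσ, hc1, hcomm⟩ :=
    Cfsg.Agent.Lib.helper71.BGRegNA.kappa_singular M p hpκ (x : G) (hE.1 x.2) hxo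
  have hzc : Subgroup.zpowers (x : G) ≤ Subgroup.centralizer ({c} : Set G) := by
    apply (Subgroup.zpowers_le).mpr
    rw [Subgroup.mem_centralizer_iff]
    intro y hy
    rw [Set.mem_singleton_iff] at hy
    subst hy
    exact hcomm.symm
  have hcC : c ∈ sigmaCore M ⊓ Subgroup.centralizer ((Subgroup.zpowers (x : G) : Subgroup G) : Set G) := by
    refine Subgroup.mem_inf.mpr ⟨hcσ, ?_⟩
    rw [Subgroup.mem_centralizer_iff]
    intro g hg
    exact ((Subgroup.mem_centralizer_iff.mp (hzc hg)) c rfl).symm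
  have hS : SCtx M E (Subgroup.zpowers (x : G)) p := by
    refine ⟨⟨hM, hE, hp3, hRE, hRc⟩, ?_⟩
    intro hbot
    rw [hbot] at hcC
    exact hc1 ((Subgroup.mem_bot).mp hcC)
  exact Cfsg.Agent.Lib.helper98.BGT3.t3_of_prime_cent hG M hM E hE (hT2 M E _ p hS) _ hS.2
    (t3_fin hG hT2 hE3 hKC hKA M E _ p hS)

end Cfsg.Agent.Lib.helper8.BGT3
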