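import Mathlib
import Cfsg.Agent.Lib.helper8.BGT3Fin
import Cfsg.Agent.Lib.helper32.BGT3A
import Cfsg.Agent.Lib.helper56.BGT3B
import Cfsg.Agent.Lib.helper32.BGT3C
import Cfsg.Agent.Lib.helper56.BGT3X
import Cfsg.Agent.Lib.helper36.BGT3E3
import Cfsg.Agent.Lib.helper60.BGT3K1
import Cfsg.Agent.Lib.helper12.BGT3K2
import Cfsg.Agent.Lib.helper32.BGT3K3
import Cfsg.Agent.Lib.helper83.BGT3Z
import Cfsg.Agent.Lib.helper98.BGT3K4
import Cfsg.Agent.Lib.helper98.BGT3K5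
import Cfsg.Agent.Lib.helper67.BGT3S3
import Cfsg.Agent.Lib.helper70.BGAsymHyp

/-!
# S1430 (O-c): assembly of the pieces (helper8)

`t3_main_killC hG : HKillC G`, `t3_main_sigdisj hG : HSigDisj G`, and
`t3Hyp_of_killA hG (hKA : HKillC G → HSigDisj G → HKillA G) M hM h : T3Hyp M`.
-/

set_option autoImplicit false
open Cfsg

namespace Cfsg.Agent.Lib.helper8.BGT3

variable {G : Type*} [Group G]

theorem t3_main_norm [Finite G] (hG : IsMinSimpleOddOrder G) : HNorm G :=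
  Cfsg.Agent.Lib.helper32.BGT3.t3_norm hG

theorem t3_main_H [Finite G] (hG : IsMinSimpleOddOrder G) : HH G :=
  Cfsg.Agent.Lib.helper56.BGT3.t3_H hG

theorem t3_main_tau2 [Finite G] (hG : IsMinSimpleOddOrder G) : HTau2 G :=
  Cfsg.Agent.Lib.helper32.BGT3.t3_tau2 hG (t3_main_norm hG) (t3_main_H hG)

theorem t3_main_cross [Finite G] (hG : IsMinSimpleOddOrder G) : HCross G :=
  Cfsg.Agent.Lib.helper56.BGT3.t3_cross hG (t3_main_norm hG) (t3_main_H hG)

theorem t3_main_E3 [Finite G] (hG : IsMinSimpleOddOrder G) : HE3 G :=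
  Cfsg.Agent.Lib.helper36.BGT3.t3_E3 hG (t3_main_norm hG) (t3_main_cross hG)

theorem t3_main_half [Finite G] (hG : IsMinSimpleOddOrder G) : HHalf G :=
  Cfsg.Agent.Lib.helper60.BGT3.t3_half hG (t3_main_norm hG) (t3_main_H hG)

theorem t3_main_fix [Finite G] (hG : IsMinSimpleOddOrder G) : HFix G :=
  Cfsg.Agent.Lib.helper32.BGT3.t3_fix hG (t3_main_norm hG) (t3_main_tau2 hG) (t3_main_E3 hG)
    (Cfsg.Agent.Lib.helper12.BGT3.t3_tau1 hG (t3_main_norm hG) (t3_main_half hG))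

theorem t3_main_killC [Finite G] (hG : IsMinSimpleOddOrder G) : HKillC G :=
  t3_killC
    (Cfsg.Agent.Lib.helper98.BGT3.t3_kill4 hG (Cfsg.Agent.Lib.helper70.asHyp hG) (t3_main_norm hG)
      (t3_main_H hG) (t3_main_cross hG) (t3_main_half hG) (t3_main_fix hG))
    (Cfsg.Agent.Lib.helper98.BGT3.t3_kill5 hG (Cfsg.Agent.Lib.helper70.asHyp hG) (t3_main_norm hG)
      (t3_main_H hG) (t3_main_cross hG) (t3_main_half hG) Cfsg.Agent.Lib.helper83.BGT3.t3_Z)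

theorem t3_main_sigdisj [Finite G] (hG : IsMinSimpleOddOrder G) : HSigDisj G :=
  Cfsg.Agent.Lib.helper67.BGT3.t3_sigdisj' hG (Cfsg.Agent.Lib.helper70.asHyp hG)

/-- (O-c) modulo piece KA. -/
theorem t3Hyp_of_killA [Finite G] (hG : IsMinSimpleOddOrder G) (hKA : HKillA G) (M : Subgroup G)
    (hM : IsCoatom M) (h : ∃ p ∈ kappa M, p ∈ tau3 M) :
    Cfsg.Agent.Lib.helper87.BG142.T3Hyp M :=
  t3Hyp_of_pieces hG (t3_main_tau2 hG) (t3_main_E3 hG) (t3_main_killC hG) hKA M hM h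

end Cfsg.Agent.Lib.helper8.BGT3
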