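import Mathlib
import Cfsg.Agent.Lib.helper8.BGT3Fin
import Cfsg.Agent.Lib.helper71.WardRed
import Cfsg.Agent.Lib.helper26.BG1375
import Cfsg.Agent.Lib.helper54.BGSigmaNe
import Cfsg.Agent.Lib.helper60.BGSylU
import Cfsg.Agent.Lib.helper29.FittingHall
import Cfsg.Agent.Lib.helper1.Coprime
import Cfsg.Agent.S1430
import Cfsg.Agent.S1429
import Cfsg.Agent.S1426
import Cfsg.Agent.S1415
import Cfsg.Agent.S1350

/-!
# B-G Theorem 15.2, first part (statement S1355), modulo the frozen statements S1351 and S1364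

`M_F ≠ 1`, `M_F ≤ M_σ ≤ M' < M`, and `M'/M_F` is nilpotent.

* If `M_σ` is nilpotent then `M_F = M_σ` and `M'/M_σ ≅ E'` is nilpotent (S1415).
* Otherwise every prime of `M` outside `σ(M)` is in `κ(M)` (S1429), so a complement `E` of `M_σ` is a
  Hall `κ(M)`-subgroup, cyclic by S1351; `M' ≤ M_σ`; `K* = C_{M_σ}(E) ≤ M_F` by S1364; an element `k`
  of prime order of `E` has `C_{M_σ}(k) = K*` (S1430), so it acts fixed-point-freely on `M_σ/M_F`,
  which is nilpotent by Thompson's theorem.
-/

set_option autoImplicit false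
open Cfsg

namespace Cfsg.Agent.Lib.helper8.BG1355

variable {G : Type*} [Group G]

/-- The frozen statement S1351 (second clause). -/
def H1351 (G : Type*) [Group G] : Prop :=
  ∀ M : Subgroup G, IsCoatom M → ∀ K : Subgroup G, IsPiHallOf (kappa M) K M → IsCyclic K

/-- The frozen statement S1364 (third clause, with the second). -/
def H1364 (G : Type*) [Group G] : Prop :=
  ∀ M : Subgroup G, IsCoatom M → ∀ K U : Subgroup G, IsSigmaDecomposition M K U → K ≠ ⊥ →
    sigmaCore M ⊓ Subgroup.centralizer (K : Set G) ≠ ⊥ ∧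
      sigmaCore M ⊓ Subgroup.centralizer (K : Set G) ≤ fittingHallOf M

/-- `M_F ≤ M_σ`, inside `M`. -/
theorem fittingHall_le_piCore [Finite G] (hG : IsMinSimpleOddOrder G) (M : Subgroup G)
    (hM : IsCoatom M) : fittingHall ↥M ≤ piCore (sigma M) ↥M := by
  apply le_sSup
  exact ⟨inferInstance, fun p hp hd =>
    Cfsg.Agent.Lib.helper26.BG1375.mem_sigma_of_dvd_card_fittingHall hG hM hp hd⟩

theorem fittingHallOf_le_sigmaCore [Finite G] (hG : IsMinSimpleOddOrder G) (M : Subgroup G)
    (hM : IsCoatom M) : fittingHallOf M ≤ sigmaCore M := by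
  unfold fittingHallOf sigmaCore
  exact Subgroup.map_mono (fittingHall_le_piCore hG M hM)

theorem sigmaCore_le_commutator [Finite G] (hG : IsMinSimpleOddOrder G) (M : Subgroup G)
    (hM : IsCoatom M) : sigmaCore M ≤ ⁅M, M⁆ := by
  obtain ⟨E, hE⟩ := Cfsg.Agent.Lib.helper60.BGSylU.exists_compl_sigmaCore hG M hM
  obtain ⟨-, h26b, -⟩ := Cfsg.Agent.S1426.result hG M hM E hE
  calc sigmaCore M = ⁅sigmaCore M, E⁆ := h26b.symm
    _ ≤ ⁅M, M⁆ := Subgroup.commutator_mono hE.2.1 hE.1

theorem commutator_lt [Finite G] (hG : IsMinSimpleOddOrder G) (M : Subgroup G)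
    (hM : IsCoatom M) : ⁅M, M⁆ < M := by
  obtain ⟨-, -, -, hsolv⟩ := id hG
  have : Group.IsSolvable ↥M := hsolv M hM.1
  have h1 : 1 < Nat.card ↥M := Cfsg.Agent.Lib.helper54.coatom_card_gt_one hG M hM
  have : Nontrivial ↥M := (Finite.one_lt_card_iff_nontrivial).mp h1
  have hlt := Group.IsSolvable.commutator_lt_top_of_nontrivial ↥M
  have hle : ⁅M, M⁆ ≤ M := by
    rw [← Subgroup.map_subtype_commutator]
    exact Subgroup.map_subtype_le _
  refine lt_of_le_of_ne hle ?_
  intro heq
  apply hlt.ne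
  apply Subgroup.map_injective M.subtype_injective
  rw [Subgroup.map_subtype_commutator, heq, ← MonoidHom.range_eq_map, Subgroup.range_subtype]

/-- membership of an element of `M` in `M_σ`, inside `M`. -/
theorem mem_piCore_iff (M : Subgroup G) (x : ↥M) :
    x ∈ piCore (sigma M) ↥M ↔ (x : G) ∈ sigmaCore M := by
  unfold sigmaCore
  constructor
  · intro h
    exact ⟨x, h, rfl⟩
  · rintro ⟨y, hy, hyx⟩
    have : y = x := Subtype.ext hyx
    rw [← this]; exact hy

/-- **S1355** modulo the frozen statements S1351 and S1364. -/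
theorem bg1355 [Finite G] (hG : IsMinSimpleOddOrder G) (h51 : H1351 G) (h64 : H1364 G)
    (M : Subgroup G) (hM : IsCoatom M) :
    fittingHallOf M ≠ ⊥ ∧ fittingHallOf M ≤ sigmaCore M ∧ sigmaCore M ≤ ⁅M, M⁆ ∧ ⁅M, M⁆ < M ∧
      Group.IsNilpotent ↥((commutator ↥M).map (QuotientGroup.mk' (fittingHall ↥M))) := by
  classical
  have hσne := Cfsg.Agent.Lib.helper54.sigmaCore_ne_bot hG M hM
  have hFσ := fittingHallOf_le_sigmaCore hG M hM
  have hσc := sigmaCore_le_commutator hG M hM
  have hclt := commutator_lt hG M hM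
  obtain ⟨E, hE⟩ := Cfsg.Agent.Lib.helper60.BGSylU.exists_compl_sigmaCore hG M hM
  obtain ⟨hEM, hσM, hEσ, hprod⟩ := id hE
  obtain ⟨hH1, -, -⟩ := Cfsg.Agent.S1350.result hG M hM
  by_cases hnil : Group.IsNilpotent (sigmaCore M)
  · -- `M_σ` nilpotent
    have heq : sigmaCore M = fittingHallOf M :=
      Cfsg.Agent.Lib.helper26.BG1375.sigmaCore_eq_fittingHallOf hG hM hnil
    refine ⟨by rw [← heq]; exact hσne, hFσ, hσc, hclt, ?_⟩
    -- the surjection `E → M / M_F`
    let φ : ↥E →* ↥M ⧸ fittingHall ↥M :=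
      (QuotientGroup.mk' (fittingHall ↥M)).comp (Subgroup.inclusion hEM)
    have hφs : Function.Surjective φ := by
      intro q
      obtain ⟨m, rfl⟩ := QuotientGroup.mk'_surjective (fittingHall ↥M) q
      obtain ⟨e, he, s, hs, hms⟩ := hprod (m : G) m.2
      refine ⟨⟨e, he⟩, ?_⟩
      change (QuotientGroup.mk' (fittingHall ↥M)) (⟨e, hEM he⟩ : ↥M) = QuotientGroup.mk' _ m
      rw [QuotientGroup.mk'_eq_mk']
      refine ⟨⟨s, hσM hs⟩, ?_, ?_⟩
      · rw [← Cfsg.Agent.Lib.helper29.mem_fittingHallOf_iff M (hσM hs), ← heq]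
        exact hs
      · exact Subtype.ext hms.symm
    have h1 : (commutator ↥M).map (QuotientGroup.mk' (fittingHall ↥M)) =
        (commutator ↥E).map φ := by
      rw [map_commutator_eq, map_commutator_eq]
      rw [MonoidHom.range_eq_top.mpr hφs,
        MonoidHom.range_eq_top.mpr (QuotientGroup.mk'_surjective _)]
    rw [h1]
    have hE' : Group.IsNilpotent ↥⁅E, E⁆ := (Cfsg.Agent.S1415.result hG M hM E hE).1
    have hcE : Group.IsNilpotent ↥(commutator ↥E) := by
      have e := (commutator ↥E).equivMapOfInjective E.subtype E.subtype_injective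
      rw [Subgroup.map_subtype_commutator] at e
      exact Group.nilpotent_of_mulEquiv (G := ↥⁅E, E⁆) e.symm
    exact Group.nilpotent_of_surjective (φ.subgroupMap (commutator ↥E))
      (φ.subgroupMap_surjective (commutator ↥E))
  · -- `M_σ` not nilpotent
    have hall : ∀ q : ℕ, q.Prime → q ∣ Nat.card M → q ∉ sigma M → q ∈ kappa M := by
      by_contra hP1
      have hP1' := hP1
      push Not at hP1'
      obtain ⟨q, hq, hqM, hqσ, hqκ⟩ := hP1'
      have : Fact q.Prime := ⟨hq⟩
      obtain ⟨S⟩ : Nonempty (Sylow q ↥M) := inferInstance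
      have hq' : q ∉ sigma M ∪ kappa M := by
        intro h
        rcases h with h | h
        · exact hqσ h
        · exact hqκ h
      exact hnil (Cfsg.Agent.S1429.result hG M hM hP1 q hqM hq' S).2.2
    have hcard := Cfsg.Agent.Lib.helper60.BGCentU.card_of_isComplIn hE
    -- `E` is a Hall `κ(M)`-subgroup
    have hHallE : IsPiHallOf (kappa M) E M := by
      refine ⟨hEM, ?_, ?_⟩
      · intro p hp hpE
        exact hall p hp (hpE.trans (Subgroup.card_dvd_of_le hEM))
          (Cfsg.Agent.Lib.helper8.BGT3.t3_not_sigma_of_dvd_compl hG M hM E hE p hp hpE)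
      · intro p hp hpκ hpd
        have hpσ : p ∉ sigma M := hpκ.2.2.1
        have h1 := Subgroup.card_mul_index (E.subgroupOf M)
        have h2 : Nat.card ↥(E.subgroupOf M) = Nat.card ↥E :=
          Nat.card_congr (Subgroup.subgroupOfEquivOfLe hEM).toEquiv
        rw [h2, ← hcard] at h1
        have h3 : (E.subgroupOf M).index = Nat.card ↥(sigmaCore M) :=
          Nat.eq_of_mul_eq_mul_left Nat.card_pos h1
        have h4 : p ∣ Nat.card ↥(sigmaCore M) := h3 ▸ hpd
        exact hpσ (hH1.2.1 p hp h4)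
    have hE1 : E ≠ ⊥ := by
      intro hbot
      have hMσ : M ≤ sigmaCore M := by
        intro m hm
        obtain ⟨e, he, s, hs, rfl⟩ := hprod m hm
        rw [hbot, Subgroup.mem_bot] at he
        rw [he, one_mul]; exact hs
      exact (lt_of_le_of_lt (hMσ.trans hσc) hclt).false
    have hEc : IsCyclic ↥E := h51 M hM E hHallE
    have hKU : IsSigmaDecomposition M E ⊥ := by
      refine ⟨hEc, hHallE, ⟨bot_le, sup_le hEM hσM, bot_inf_eq _, ?_⟩, ?_⟩
      · intro m hm
        obtain ⟨e, he, s, hs, rfl⟩ := hprod m hm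
        exact ⟨1, Subgroup.mem_bot.mpr rfl, e * s,
          Subgroup.mul_mem _ (Subgroup.mem_sup_left he) (Subgroup.mem_sup_right hs), by simp⟩
      · intro x _
        rw [Subgroup.mem_normalizer_iff]
        intro y
        simp
    obtain ⟨hKs1, hKsF⟩ := h64 M hM E ⊥ hKU hE1
    have hFne : fittingHallOf M ≠ ⊥ := by
      intro h
      rw [h, le_bot_iff] at hKsF
      exact hKs1 hKsF
    refine ⟨hFne, hFσ, hσc, hclt, ?_⟩
    have hpa := (Cfsg.Agent.S1430.result hG M hM E hHallE hE1).1
    -- an element of prime order of `E`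
    have hcE : Nat.card ↥E ≠ 1 := fun h => hE1 (Subgroup.card_eq_one.mp h)
    obtain ⟨p, hp, hpE⟩ := Nat.exists_prime_and_dvd hcE
    have : Fact p.Prime := ⟨hp⟩
    obtain ⟨k, hk⟩ := exists_prime_orderOf_dvd_card' (G := ↥E) p hpE
    have hkM : (k : G) ∈ M := hEM k.2
    have hko : orderOf (k : G) = p := by rw [Subgroup.orderOf_coe]; exact hk
    have hk1 : (k : G) ≠ 1 := by
      intro h
      rw [h, orderOf_one] at hko
      exact hp.one_lt.ne hko
    have hpσ : p ∉ sigma M :=
      Cfsg.Agent.Lib.helper8.BGT3.t3_not_sigma_of_dvd_compl hG M hM E hE p hp hpE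
    -- `M' ≤ M_σ`
    have hcomm : commutator ↥M ≤ piCore (sigma M) ↥M := by
      apply Subgroup.Normal.commutator_le_of_self_sup_commutative_eq_top (H := E.subgroupOf M)
      · rw [eq_top_iff]
        intro m _
        obtain ⟨e, he, s, hs, hms⟩ := hprod (m : G) m.2
        have hm : m = (⟨e, hEM he⟩ : ↥M) * ⟨s, hσM hs⟩ := Subtype.ext hms
        rw [hm]
        apply Subgroup.mul_mem
        · exact Subgroup.mem_sup_right (Subgroup.mem_subgroupOf.mpr he)
        · exact Subgroup.mem_sup_left ((mem_piCore_iff M _).mpr hs)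
      · have e := Subgroup.subgroupOfEquivOfLe hEM
        constructor
        constructor
        intro a b
        apply e.injective
        rw [map_mul, map_mul]
        exact mul_comm' (e a) (e b)
    -- Thompson
    let k' : ↥M := ⟨(k : G), hkM⟩
    have hk'p : k' ^ p = 1 := by
      apply Subtype.ext
      change (k : G) ^ p = 1
      rw [← hko]; exact pow_orderOf_eq_one _
    have hDn : ((commutator ↥M).map (QuotientGroup.mk' (fittingHall ↥M))).Normal :=
      Subgroup.Normal.map inferInstance _ (QuotientGroup.mk'_surjective _)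
    apply Cfsg.Agent.Lib.helper71.WardR.nilp_of_fpf _ (QuotientGroup.mk' (fittingHall ↥M) k') p hp
    · rw [← map_pow, hk'p, map_one]
    · intro m hm
      exact hDn.conj_mem m hm _
    · rintro n ⟨m, hm, rfl⟩ hyn
      have hmσ : m ∈ piCore (sigma M) ↥M := hcomm hm
      -- the coset `M_F m` is `⟨k'⟩`-invariant
      have hinv : ∀ a ∈ Subgroup.zpowers k', a * m * a⁻¹ * m⁻¹ ∈ fittingHall ↥M := by
        intro a ha
        obtain ⟨z, rfl⟩ := Subgroup.mem_zpowers_iff.mp ha
        rw [← QuotientGroup.eq_one_iff]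
        have hc : Commute (QuotientGroup.mk' (fittingHall ↥M) k')
            (QuotientGroup.mk' (fittingHall ↥M) m) := hyn
        have hc' := hc.zpow_left z
        have e1 : ((k' ^ z * m * (k' ^ z)⁻¹ * m⁻¹ : ↥M) : ↥M ⧸ fittingHall ↥M) =
            (QuotientGroup.mk' (fittingHall ↥M) k') ^ z * (QuotientGroup.mk' (fittingHall ↥M) m) *
              ((QuotientGroup.mk' (fittingHall ↥M) k') ^ z)⁻¹ *
                (QuotientGroup.mk' (fittingHall ↥M) m)⁻¹ := by
          simp
        rw [e1, hc'.eq]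
        group
      have hcop : (Nat.card ↥(Subgroup.zpowers k')).Coprime (Nat.card ↥(fittingHall ↥M)) := by
        have hc1 : Nat.card ↥(Subgroup.zpowers k') = p := by
          rw [Nat.card_zpowers, Subgroup.orderOf_mk]; exact hko
        rw [hc1, Nat.Prime.coprime_iff_not_dvd hp]
        intro hd
        exact hpσ (Cfsg.Agent.Lib.helper26.BG1375.mem_sigma_of_dvd_card_fittingHall hG hM hp hd)
      obtain ⟨c, hc, hcm⟩ := Cfsg.Agent.Lib.helper1.coset_fixed (Subgroup.zpowers k')
        (fittingHall ↥M) (by rw [Subgroup.normalizer_eq_top]; exact le_top) hcop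
        (Or.inl inferInstance) m hinv
      have hck : k' * c = c * k' :=
        (Subgroup.mem_centralizer_iff.mp hc) k' (Subgroup.mem_zpowers k')
      have hcσ' : c ∈ piCore (sigma M) ↥M := by
        have h1 : c * m⁻¹ ∈ piCore (sigma M) ↥M := fittingHall_le_piCore hG M hM hcm
        have h2 := Subgroup.mul_mem _ h1 hmσ
        simpa using h2
      have hcσ : (c : G) ∈ sigmaCore M := (mem_piCore_iff M c).mp hcσ'
      have hcC : (c : G) ∈ sigmaCore M ⊓ Subgroup.centralizer ({(k : G)} : Set G) := by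
        refine Subgroup.mem_inf.mpr ⟨hcσ, ?_⟩
        rw [Subgroup.mem_centralizer_iff]
        intro y hy
        rw [Set.mem_singleton_iff] at hy
        subst hy
        exact congrArg Subtype.val hck
      rw [hpa (k : G) k.2 hk1] at hcC
      have hcF : (c : G) ∈ fittingHallOf M := hKsF hcC
      have hcF' : c ∈ fittingHall ↥M := by
        have := (Cfsg.Agent.Lib.helper29.mem_fittingHallOf_iff M c.2).mp hcF
        exact this
      have hmF : m ∈ fittingHall ↥M := by
        have h1 := Subgroup.mul_mem _ (Subgroup.inv_mem _ hcm) hcF'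
        simpa using h1
      exact (QuotientGroup.eq_one_iff m).mpr hmF

end Cfsg.Agent.Lib.helper8.BG1355
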