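import Mathlib
import Cfsg.Agent.Lib.helper68.HallPet
import Cfsg.Agent.Lib.helper65.PearlPow

/-!
S5238, block G, steps (5)+(6) (helper8): the lower bound `F4` for `p`-th powers along the lower
central series of a `p`-group of maximal class with a "pearl" element `x` of order `p`.
Base case by helper65's `pearl_pow`, downward step by Hall–Petrescu inside `gam G i`.
-/

set_option autoImplicit false

namespace Cfsg.Agent.Lib.helper8

open Cfsg.Agent.Lib.helper68 Cfsg.Agent.Lib.helper65.PearlPow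

section PearlF4

variable {G : Type*} [Group G]

lemma h8_mem_gam_one (x : G) : x ∈ gam G 1 := by
  unfold gam
  simp [Subgroup.lowerCentralSeries_zero]

lemma h8_f4_arith (a b : ℕ) (ha : 3 ≤ a) (hb : 2 ≤ b) : b + a + 1 ≤ a * b := by
  obtain ⟨a', rfl⟩ : ∃ a', a = a' + 3 := ⟨a - 3, by omega⟩
  obtain ⟨b', rfl⟩ : ∃ b', b = b' + 2 := ⟨b - 2, by omega⟩
  nlinarith [Nat.zero_le (a' * b')]

/-- `γ_k(γ_i(G)) ≤ γ_{k i}(G)` for `k ≥ 1`. -/
lemma h8_gam_sub_le (i : ℕ) (k : ℕ) (hk : 1 ≤ k) :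
    (gam ↥(gam G i) k).map (gam G i).subtype ≤ gam G (k * i) := by
  induction k, hk using Nat.le_induction with
  | base =>
    rintro _ ⟨a, -, rfl⟩
    rw [one_mul]
    exact a.2
  | succ k hk ih =>
    have e : gam ↥(gam G i) (k + 1) = ⁅gam ↥(gam G i) k, (⊤ : Subgroup ↥(gam G i))⁆ := by
      unfold gam
      obtain ⟨j, rfl⟩ : ∃ j, k = j + 1 := ⟨k - 1, by omega⟩
      simp [Subgroup.lowerCentralSeries_succ]
    rw [e, Subgroup.map_commutator]
    have h1 : (⊤ : Subgroup ↥(gam G i)).map (gam G i).subtype ≤ gam G i := by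
      rintro _ ⟨a, -, rfl⟩
      exact a.2
    calc ⁅(gam ↥(gam G i) k).map (gam G i).subtype,
          (⊤ : Subgroup ↥(gam G i)).map (gam G i).subtype⁆
        ≤ ⁅gam G (k * i), gam G i⁆ := Subgroup.commutator_mono ih h1
      _ ≤ gam G (k * i + i) := gam_comm_le _ _
      _ = gam G ((k + 1) * i) := by ring_nf

/-- Hall–Petrescu inside `gam G i`: `(a b)^p ≡ a^p b^p` modulo `gam G (i + p + 1)`. -/
lemma h8_hp_in_gam (p : ℕ) (hp : p.Prime) (hp3 : 3 ≤ p) (n : ℕ) (hnil : gam G n = ⊥)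
    (hF3 : ∀ i, 2 ≤ i → ∀ m ∈ gam G i, m ^ p ∈ gam G (i + p - 1))
    (i : ℕ) (hi : 2 ≤ i) (a b : G) (ha : a ∈ gam G i) (hb : b ∈ gam G i) :
    ∃ z ∈ gam G (i + p + 1), (a * b) ^ p = a ^ p * b ^ p * z := by
  have hc : (⊤ : Subgroup ↥(gam G i)).lowerCentralSeries n = ⊥ := by
    have h1 : (⊤ : Subgroup ↥(gam G i)).lowerCentralSeries n = gam ↥(gam G i) (n + 1) := by
      unfold gam
      simp
    rw [h1]
    have h2 : (gam ↥(gam G i) (n + 1)).map (gam G i).subtype = ⊥ := by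
      apply le_bot_iff.1
      refine le_trans (h8_gam_sub_le i (n + 1) (by omega)) ?_
      rw [← hnil]
      apply gam_antitone
      nlinarith
    exact (Subgroup.map_eq_bot_iff_of_injective _ (gam G i).subtype_injective).1 h2
  have hM : ∀ k, 2 ≤ k → k ≤ n → ∀ c ∈ gam ↥(gam G i) k,
      c ^ (p.choose k) ∈ (gam G (i + p + 1)).subgroupOf (gam G i) := by
    intro k hk2 _ c hc'
    rw [Subgroup.mem_subgroupOf]
    have hc2 : (c : G) ∈ gam G (k * i) :=
      h8_gam_sub_le i k (by omega) ⟨c, hc', rfl⟩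
    have h2i : 2 * i ≤ k * i := Nat.mul_le_mul hk2 (le_refl i)
    rw [Subgroup.coe_pow]
    by_cases hkp : k < p
    · obtain ⟨t, ht⟩ := hp.dvd_choose_self (by omega : k ≠ 0) hkp
      rw [ht, pow_mul]
      apply Subgroup.pow_mem
      have h3 := hF3 (k * i) (by omega) (c : G) hc2
      exact gam_antitone (by omega) h3
    · apply Subgroup.pow_mem
      have h4 : p * i ≤ k * i := Nat.mul_le_mul (by omega) (le_refl i)
      have h5 := h8_f4_arith p i hp3 hi
      exact gam_antitone (by omega) hc2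
  obtain ⟨z, hz, hzeq⟩ := hall_petrescu_mem n hc
    ((gam G (i + p + 1)).subgroupOf (gam G i)) p hM ⟨a, ha⟩ ⟨b, hb⟩
  refine ⟨(z : G), Subgroup.mem_subgroupOf.1 hz, ?_⟩
  have := congrArg Subtype.val hzeq
  simpa using this

theorem h8_pearl_f4 (p : ℕ) [Fact p.Prime] (hp2 : p ≠ 2) (n : ℕ) (hnil : gam G n = ⊥) (x : G) (hx : x ^ p = 1) (honto : ∀ i, 1 ≤ i → ∀ m ∈ gam G (i + 1), ∃ g ∈ gam G i, com x g = m) (huni : ∀ i, 2 ≤ i → i + 2 ≤ n → ∀ m ∈ gam G i, m ∉ gam G (i + 1) → com m x ∉ gam G (i + 2)) (hF3 : ∀ i, 2 ≤ i → ∀ m ∈ gam G i, m ^ p ∈ gam G (i + p - 1)) (i : ℕ) (hi : 2 ≤ i) (hin : i + p ≤ n) (m : G) (hm : m ∈ gam G i) (hm' : m ∉ gam G (i + 1)) : m ^ p ∉ gam G (i + p) := by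
  have hp : p.Prime := Fact.out
  have hp3 : 3 ≤ p := by
    have := hp.two_le
    omega
  obtain ⟨d, hd⟩ : ∃ d, n = i + p + d := ⟨n - (i + p), by omega⟩
  induction d generalizing i m with
  | zero =>
    rw [add_zero] at hd
    obtain ⟨g, hg, rfl⟩ := honto (i - 1) (by omega) m (by rwa [show i - 1 + 1 = i by omega])
    have hnil' : gam G (i - 1 + 1 + p) = ⊥ := by
      rw [show i - 1 + 1 + p = n by omega]
      exact hnil
    have hexp : ∀ y ∈ gam G (i - 1 + 2), y ^ p = 1 := by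
      intro y hy
      have h1 := hF3 (i - 1 + 2) (by omega) y hy
      rw [show i - 1 + 2 + p - 1 = n by omega, hnil] at h1
      exact (Subgroup.mem_bot).1 h1
    have hpp := pearl_pow p hp (i - 1) (by omega) x g hx hg hnil' hexp
    have hyk : ∀ k, k ≤ p - 1 → yk x (com x g) k ∈ gam G (i + k) ∧
        yk x (com x g) k ∉ gam G (i + k + 1) := by
      intro k
      induction k with
      | zero =>
        intro _
        exact ⟨hm, hm'⟩
      | succ k ihk =>
        intro hk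
        obtain ⟨h1, h2⟩ := ihk (by omega)
        refine ⟨?_, ?_⟩
        · have := com_mem h1 (h8_mem_gam_one x)
          exact this
        · have := huni (i + k) (by omega) (by omega) _ h1 h2
          exact this
    intro hcontra
    rw [← hd, hnil, Subgroup.mem_bot] at hcontra
    rw [hcontra, one_mul] at hpp
    have h3 := (hyk (p - 1) le_rfl).2
    rw [show i + (p - 1) + 1 = n by omega, hnil, Subgroup.mem_bot] at h3
    exact h3 hpp
  | succ d ih =>
    have hm1 : com m x ∈ gam G (i + 1) := com_mem hm (h8_mem_gam_one x)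
    have hm2 : com m x ∉ gam G (i + 2) := huni i hi (by omega) m hm hm'
    have hih := ih (i + 1) (by omega) (by omega) (com m x) hm1 hm2 (by omega)
    obtain ⟨z, hz, hzeq⟩ := h8_hp_in_gam p hp hp3 n hnil hF3 i hi m (com m x) hm
      (gam_antitone (by omega) hm1)
    intro hcontra
    have h1 : com (m ^ p) x ∈ gam G (i + p + 1) := com_mem hcontra (h8_mem_gam_one x)
    have h2 : m * com m x = x⁻¹ * m * (x⁻¹)⁻¹ := by
      unfold com
      group
    have h3 : com (m ^ p) x = (com m x) ^ p * z := by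
      have h4 : (m * com m x) ^ p = x⁻¹ * m ^ p * (x⁻¹)⁻¹ := by
        rw [h2, conj_pow]
      have h5 : com (m ^ p) x = (m ^ p)⁻¹ * (x⁻¹ * m ^ p * (x⁻¹)⁻¹) := by
        unfold com
        group
      rw [h5, ← h4, hzeq]
      group
    apply hih
    have h6 : (com m x) ^ p = com (m ^ p) x * z⁻¹ := by
      rw [h3]
      group
    rw [h6, show i + 1 + p = i + p + 1 by omega]
    exact Subgroup.mul_mem _ h1 (Subgroup.inv_mem _ hz)

end PearlF4

end Cfsg.Agent.Lib.helper8
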