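/-
Suzuki group: the partition into Sylow `2`-subgroups and cyclic tori of orders `q - 1`,
`q + r + 1`, `q - r + 1`.
-/
import Cfsg.Agent.Lib.helper8.SzTorus3

set_option autoImplicit false

namespace Cfsg.Agent.Lib.helper8

open Matrix
open scoped Pointwise

/-- An element of a Sylow `2`-subgroup lying in a subgroup of odd order is trivial. -/
theorem eq_one_of_mem_odd_of_mem_sylow {G : Type*} [Group G] [Finite G] {U : Subgroup G}
    (hU : ¬ 2 ∣ Nat.card U) (P : Sylow 2 G) {g : G} (hgU : g ∈ U)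
    (hgP : g ∈ (P : Subgroup G)) : g = 1 := by
  obtain ⟨k, hk⟩ := P.isPGroup' ⟨g, hgP⟩
  have hk' : g ^ 2 ^ k = 1 := by
    have := congrArg Subtype.val hk
    simpa using this
  have h1 : orderOf g ∣ 2 ^ k := orderOf_dvd_of_pow_eq_one hk'
  have h2 : orderOf g ∣ Nat.card U := by
    have := orderOf_dvd_natCard (⟨g, hgU⟩ : U)
    rwa [Subgroup.orderOf_mk] at this
  have hcop : Nat.Coprime (Nat.card U) (2 ^ k) :=
    Nat.Coprime.pow_right k
      (Nat.coprime_comm.1 ((Nat.Prime.coprime_iff_not_dvd Nat.prime_two).2 hU))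
  have h3 : orderOf g ∣ Nat.gcd (Nat.card U) (2 ^ k) := Nat.dvd_gcd h2 h1
  rw [hcop] at h3
  exact orderOf_eq_one_iff.1 (Nat.dvd_one.1 h3)

/-- A cyclic subgroup lies in the centraliser of each of its elements. -/
theorem le_centralizer_of_cyclic {G : Type*} [Group G] {U : Subgroup G} [IsCyclic U] {g : G}
    (hg : g ∈ U) : U ≤ Subgroup.centralizer ({g} : Set G) := by
  intro x hx
  rw [Subgroup.mem_centralizer_iff]
  intro y hy
  rw [Set.mem_singleton_iff.1 hy]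
  exact congrArg Subtype.val (comm_of_cyclic (⟨g, hg⟩ : U) ⟨x, hx⟩)

theorem card_centralizer_conj {G : Type*} [Group G] (c g : G) :
    Nat.card (Subgroup.centralizer ({c * g * c⁻¹} : Set G)) =
      Nat.card (Subgroup.centralizer ({g} : Set G)) := by
  apply Nat.card_congr
  refine ⟨fun x => ⟨c⁻¹ * x.1 * c, ?_⟩, fun x => ⟨c * x.1 * c⁻¹, ?_⟩, ?_, ?_⟩
  · rw [Subgroup.mem_centralizer_iff]
    intro y hy
    rw [Set.mem_singleton_iff.1 hy]
    have h := Subgroup.mem_centralizer_iff.1 x.2 _ rfl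
    calc g * (c⁻¹ * x.1 * c) = c⁻¹ * ((c * g * c⁻¹) * x.1) * c := by group
      _ = c⁻¹ * (x.1 * (c * g * c⁻¹)) * c := by rw [h]
      _ = _ := by group
  · rw [Subgroup.mem_centralizer_iff]
    intro y hy
    rw [Set.mem_singleton_iff.1 hy]
    have h := Subgroup.mem_centralizer_iff.1 x.2 _ rfl
    calc c * g * c⁻¹ * (c * x.1 * c⁻¹) = c * (g * x.1) * c⁻¹ := by group
      _ = c * (x.1 * g) * c⁻¹ := by rw [h]
      _ = _ := by group
  · intro x
    apply Subtype.ext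
    show c * (c⁻¹ * x.1 * c) * c⁻¹ = x.1
    group
  · intro x
    apply Subtype.ext
    show c⁻¹ * (c * x.1 * c⁻¹) * c = x.1
    group

/-- Arithmetic of the three torus orders: none divides another. -/
theorem tori_arith {m : ℕ} (hm : 1 ≤ m) {A B : ℕ}
    (hA : A ∈ ({2 ^ (2 * m + 1) - 1, 2 ^ (2 * m + 1) + 2 ^ (m + 1) + 1,
      2 ^ (2 * m + 1) - 2 ^ (m + 1) + 1} : Set ℕ))
    (hB : B ∈ ({2 ^ (2 * m + 1) - 1, 2 ^ (2 * m + 1) + 2 ^ (m + 1) + 1,
      2 ^ (2 * m + 1) - 2 ^ (m + 1) + 1} : Set ℕ)) (hAB : A ∣ B) : A = B := by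
  have hr : 2 ^ (m + 1) * 2 ^ (m + 1) = 2 * 2 ^ (2 * m + 1) := by ring
  have hr4 : 2 ^ 2 ≤ 2 ^ (m + 1) := Nat.pow_le_pow_right (by norm_num) (by omega)
  have hq8 : 2 ^ 3 ≤ 2 ^ (2 * m + 1) := Nat.pow_le_pow_right (by norm_num) (by omega)
  obtain ⟨r', hr'⟩ : 2 ∣ 2 ^ (m + 1) := dvd_pow_self 2 (by omega)
  obtain ⟨q', hq'⟩ : 2 ∣ 2 ^ (2 * m + 1) := dvd_pow_self 2 (by omega)
  generalize 2 ^ (m + 1) = r at *
  generalize 2 ^ (2 * m + 1) = q at *
  have hqr : 2 * r ≤ q := by nlinarith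
  obtain ⟨a, ha⟩ : ∃ a, q = a + 1 := ⟨q - 1, by omega⟩
  obtain ⟨c, hc⟩ : ∃ c, c + r = a + 2 := ⟨a + 2 - r, by omega⟩
  have e1 : q - 1 = a := by omega
  have e2 : q + r + 1 = c + 2 * r := by omega
  have e3 : q - r + 1 = c := by omega
  rw [e1, e2, e3] at hA hB
  have hbc : (c + 2 * r) * c = a * (a + 2) + 2 := by
    have hr2 : r * r = 2 * (c + r) - 2 := by rw [hr, ha]; omega
    have h1 : a = c + r - 2 := by omega
    have h2 : 2 ≤ c + r := by omega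
    zify [h2] at hr2 h1 ⊢
    have : (2 : ℤ) ≤ 2 * ((c : ℤ) + r) := by linarith
    rw [Nat.cast_sub (by omega)] at hr2
    push_cast at hr2
    rw [h1]
    linear_combination (-1 : ℤ) * hr2
  have hcodd : Nat.Coprime c 2 := by
    rw [Nat.coprime_comm, Nat.Prime.coprime_iff_not_dvd Nat.prime_two]
    omega
  have ha7 : 7 ≤ a := by omega
  have hc5 : r + 1 ≤ c := by omega
  have key : ∀ d : ℕ, d ∣ a → d ∣ (c + 2 * r) * c → d ≤ 2 := by
    intro d h1 h2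
    rw [hbc] at h2
    have : d ∣ 2 := (Nat.dvd_add_right (h1.mul_right _)).1 h2
    exact Nat.le_of_dvd (by norm_num) this
  simp only [Set.mem_insert_iff, Set.mem_singleton_iff] at hA hB
  rcases hA with rfl | rfl | rfl <;> rcases hB with rfl | rfl | rfl
  · rfl
  · have := key A dvd_rfl (hAB.mul_right _)
    omega
  · have := key A dvd_rfl (hAB.mul_left _)
    omega
  · have := Nat.le_of_dvd (by omega) hAB
    omega
  · rfl
  · have := Nat.le_of_dvd (by omega) hAB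
    omega
  · have := key A hAB (dvd_mul_left _ _)
    omega
  · have h1 : A ∣ 2 * r := (Nat.dvd_add_right dvd_rfl).1 hAB
    have h2 : A ∣ r := (Nat.Coprime.dvd_mul_left hcodd).1 h1
    have := Nat.le_of_dvd (by omega) h2
    omega
  · rfl

theorem tori_odd {m : ℕ} (hm : 1 ≤ m) {A : ℕ}
    (hA : A ∈ ({2 ^ (2 * m + 1) - 1, 2 ^ (2 * m + 1) + 2 ^ (m + 1) + 1,
      2 ^ (2 * m + 1) - 2 ^ (m + 1) + 1} : Set ℕ)) : ¬ 2 ∣ A := by
  have hle : 2 ^ (m + 1) ≤ 2 ^ (2 * m + 1) := Nat.pow_le_pow_right (by norm_num) (by omega)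
  obtain ⟨r', hr'⟩ : 2 ∣ 2 ^ (m + 1) := dvd_pow_self 2 (by omega)
  obtain ⟨q', hq'⟩ : 2 ∣ 2 ^ (2 * m + 1) := dvd_pow_self 2 (by omega)
  have hq1 : 1 ≤ 2 ^ (2 * m + 1) := Nat.one_le_two_pow
  generalize 2 ^ (m + 1) = r at *
  generalize 2 ^ (2 * m + 1) = q at *
  simp only [Set.mem_insert_iff, Set.mem_singleton_iff] at hA
  rcases hA with rfl | rfl | rfl <;> omega

variable {F : Type*} [Field F] [Fintype F]

/-- Two Sylow `2`-subgroups with a common non-trivial element coincide (one inclusion). -/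
theorem sylow_le_of_common {m : ℕ} (hm : 1 ≤ m) (hF : Fintype.card F = 2 ^ (2 * m + 1))
    (P P' : Sylow 2 ↥(Cfsg.Sz F m)) {g : ↥(Cfsg.Sz F m)} (hg1 : g ≠ 1)
    (hgP : g ∈ (P : Subgroup ↥(Cfsg.Sz F m))) (hgP' : g ∈ (P' : Subgroup ↥(Cfsg.Sz F m))) :
    (P : Subgroup ↥(Cfsg.Sz F m)) ≤ P' := by
  have h := szHyp_of_card hF
  obtain ⟨k, hk⟩ := sylow_conj hm hF P
  obtain ⟨k', hk'⟩ := sylow_conj hm hF P'
  obtain ⟨a, b, hab⟩ := (hk g).1 hgP
  obtain ⟨a', b', hab'⟩ := (hk' g).1 hgP'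
  have hab0 : ¬ (a = 0 ∧ b = 0) := by
    intro h0
    rw [(sT_eq_one_iff h).2 h0] at hab
    apply hg1
    have e1 : k⁻¹ * g * k = 1 := Subtype.ext hab
    have e2 : g = k * (k⁻¹ * g * k) * k⁻¹ := by group
    rw [e2, e1]
    group
  have hy : (k'.1⁻¹ * k.1) ∈ Cfsg.Sz F m := mul_mem (inv_mem k'.2) k.2
  have hyfix : (k'.1⁻¹ * k.1) • (pinf : Projectivization F (Fin 4 → F)) = pinf := by
    apply fix_of_conj_T h hy hab0 (a' := a') (b' := b')
    rw [← hab, ← hab']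
    simp only [Subgroup.coe_mul, InvMemClass.coe_inv]
    group
  intro x hx
  obtain ⟨c, d, hcd⟩ := (hk x).1 hx
  rw [hk' x]
  obtain ⟨c', d', hcd'⟩ := conj_T_of_fix hm hF hy hyfix c d
  refine ⟨c', d', ?_⟩
  rw [← hcd', ← hcd]
  simp only [Subgroup.coe_mul, InvMemClass.coe_inv]
  group

/-- The centraliser of a non-trivial element of a split torus has order `q - 1`. -/
theorem card_cent_torus {m : ℕ} (hm : 1 ≤ m) (hF : Fintype.card F = 2 ^ (2 * m + 1))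
    (g : ↥(Cfsg.Sz F m)) {k : Matrix.SpecialLinearGroup (Fin 4) F} (hk : k ∈ Cfsg.Sz F m)
    {z : Fˣ} (hz : z ≠ 1) (e : k * g.1 * k⁻¹ = sD m z) :
    Nat.card ↥(Subgroup.centralizer ({g} : Set ↥(Cfsg.Sz F m))) = 2 ^ (2 * m + 1) - 1 := by
  classical
  have h := szHyp_of_card hF
  have hmem : ∀ w : Fˣ, (⟨k⁻¹ * sD m w * k, mul_mem (mul_mem (inv_mem hk) (sD_mem h w)) hk⟩ :
      ↥(Cfsg.Sz F m)) ∈ Subgroup.centralizer ({g} : Set ↥(Cfsg.Sz F m)) := by
    intro w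
    rw [Subgroup.mem_centralizer_iff]
    intro y hy
    rw [Set.mem_singleton_iff.1 hy]
    apply Subtype.ext
    show g.1 * (k⁻¹ * sD m w * k) = (k⁻¹ * sD m w * k) * g.1
    have eg : g.1 = k⁻¹ * sD m z * k := by rw [← e]; group
    rw [eg]
    have hzw : sD m z * sD m w = sD m w * sD m z := by rw [← sD_mul, ← sD_mul, mul_comm]
    calc k⁻¹ * sD m z * k * (k⁻¹ * sD m w * k) = k⁻¹ * (sD m z * sD m w) * k := by group
      _ = k⁻¹ * (sD m w * sD m z) * k := by rw [hzw]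
      _ = _ := by group
  have hbij : Function.Bijective (fun w : Fˣ =>
      (⟨_, hmem w⟩ : ↥(Subgroup.centralizer ({g} : Set ↥(Cfsg.Sz F m))))) := by
    constructor
    · intro w w' hww
      have e1 : k⁻¹ * sD m w * k = k⁻¹ * sD m w' * k :=
        congrArg (fun c : ↥(Subgroup.centralizer ({g} : Set ↥(Cfsg.Sz F m))) => c.1.1) hww
      exact sD_inj m (mul_left_cancel (mul_right_cancel e1))
    · intro c
      have hc : c.1 * g = g * c.1 := (Subgroup.mem_centralizer_iff.1 c.2 g rfl).symm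
      have hc' : c.1.1 * g.1 = g.1 * c.1.1 := congrArg Subtype.val hc
      have hkc : k * c.1.1 * k⁻¹ ∈ Cfsg.Sz F m := mul_mem (mul_mem hk c.1.2) (inv_mem hk)
      obtain ⟨w, hw⟩ := cent_sD hm hF hz hkc (by rw [← e]; exact (conj_comm hc' k).symm)
      refine ⟨w, ?_⟩
      apply Subtype.ext
      apply Subtype.ext
      show k⁻¹ * sD m w * k = c.1.1
      rw [← hw]
      group
  rw [← Nat.card_congr (Equiv.ofBijective _ hbij), Nat.card_eq_fintype_card, Fintype.card_units, hF]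

/-- The centraliser of a fixed-point-free element has order `q + r + 1` or `q - r + 1`. -/
theorem card_cent_fpf {m : ℕ} (hm : 1 ≤ m) (hF : Fintype.card F = 2 ^ (2 * m + 1))
    (g : ↥(Cfsg.Sz F m)) (hfpf : IsFpf m g.1) :
    Nat.card ↥(Subgroup.centralizer ({g} : Set ↥(Cfsg.Sz F m))) =
        2 ^ (2 * m + 1) + 2 ^ (m + 1) + 1 ∨
      Nat.card ↥(Subgroup.centralizer ({g} : Set ↥(Cfsg.Sz F m))) =
        2 ^ (2 * m + 1) - 2 ^ (m + 1) + 1 := by
  obtain ⟨g₁, g₂, hf₁, hf₂, hc₁, hc₂, -, -, hall⟩ := tori_structure hm hF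
  have hle : 2 ^ (m + 1) ≤ 2 ^ (2 * m + 1) := Nat.pow_le_pow_right (by norm_num) (by omega)
  have hg1 := fpf_ne_one hfpf
  rcases hall g hfpf with ⟨c, hc⟩ | ⟨c, hc⟩
  · left
    have h1 : c * g * c⁻¹ ≠ 1 := fun e => hg1 (eq_one_of_conj_eq_one e)
    rw [← card_centralizer_conj c g, (torus_props hm hF g₁ hf₁ _ hc h1).2, hc₁]
  · right
    have h1 : c * g * c⁻¹ ≠ 1 := fun e => hg1 (eq_one_of_conj_eq_one e)
    rw [← card_centralizer_conj c g, (torus_props hm hF g₂ hf₂ _ hc h1).2]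
    generalize 2 ^ (m + 1) = r at hc₂ hle ⊢
    generalize 2 ^ (2 * m + 1) = q at hc₂ hle ⊢
    omega

/-- Uniqueness and existence when the centraliser is a cyclic torus. -/
theorem partition_of_cyclic {m : ℕ} (hm : 1 ≤ m)
    (g : ↥(Cfsg.Sz F m)) (hg : g ≠ 1)
    (hcyc : IsCyclic ↥(Subgroup.centralizer ({g} : Set ↥(Cfsg.Sz F m))))
    (hcard : Nat.card ↥(Subgroup.centralizer ({g} : Set ↥(Cfsg.Sz F m))) ∈
      ({2 ^ (2 * m + 1) - 1, 2 ^ (2 * m + 1) + 2 ^ (m + 1) + 1,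
        2 ^ (2 * m + 1) - 2 ^ (m + 1) + 1} : Set ℕ)) :
    ∃! U : Subgroup ↥(Cfsg.Sz F m),
      ((∃ P : Sylow 2 ↥(Cfsg.Sz F m), U = (P : Subgroup ↥(Cfsg.Sz F m))) ∨
      (IsCyclic ↥U ∧ Nat.card ↥U ∈ ({2 ^ (2 * m + 1) - 1, 2 ^ (2 * m + 1) + 2 ^ (m + 1) + 1,
        2 ^ (2 * m + 1) - 2 ^ (m + 1) + 1} : Set ℕ))) ∧ g ∈ U := by
  have hgC : g ∈ Subgroup.centralizer ({g} : Set ↥(Cfsg.Sz F m)) :=
    Subgroup.mem_centralizer_iff.2 (fun y hy => by rw [Set.mem_singleton_iff.1 hy])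
  refine ⟨Subgroup.centralizer ({g} : Set ↥(Cfsg.Sz F m)), ⟨Or.inr ⟨hcyc, hcard⟩, hgC⟩, ?_⟩
  rintro U' ⟨hU' | ⟨hU'c, hU'card⟩, hgU'⟩
  · obtain ⟨P', rfl⟩ := hU'
    exact absurd (eq_one_of_mem_odd_of_mem_sylow (tori_odd hm hcard) P' hgC hgU') hg
  · have hle : U' ≤ Subgroup.centralizer ({g} : Set ↥(Cfsg.Sz F m)) :=
      le_centralizer_of_cyclic hgU'
    have hdvd := Subgroup.card_dvd_of_le hle
    have heq := tori_arith hm hU'card hcard hdvd
    exact Subgroup.eq_of_le_of_card_ge hle heq.ge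

/-- The partition of the Suzuki group. -/
theorem sz_partition {m : ℕ} (hm : 1 ≤ m) (hF : Fintype.card F = 2 ^ (2 * m + 1))
    (g : ↥(Cfsg.Sz F m)) (hg : g ≠ 1) :
    ∃! U : Subgroup ↥(Cfsg.Sz F m),
      ((∃ P : Sylow 2 ↥(Cfsg.Sz F m), U = (P : Subgroup ↥(Cfsg.Sz F m))) ∨
      (IsCyclic ↥U ∧ Nat.card ↥U ∈ ({2 ^ (2 * m + 1) - 1, 2 ^ (2 * m + 1) + 2 ^ (m + 1) + 1,
        2 ^ (2 * m + 1) - 2 ^ (m + 1) + 1} : Set ℕ))) ∧ g ∈ U := by
  have h := szHyp_of_card hF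
  by_cases hfpf : IsFpf m g.1
  · apply partition_of_cyclic hm g hg (cent_cyclic_fpf hm hF g hfpf)
    rcases card_cent_fpf hm hF g hfpf with e | e
    · rw [e]; simp
    · rw [e]; simp
  · obtain ⟨p, hp, hfix⟩ : ∃ p ∈ Cfsg.suzukiOvoid F m, g.1 • p = p := by
      by_contra hcon
      exact hfpf (fun p hp hfix => hcon ⟨p, hp, hfix⟩)
    rcases fix_classify hm hF g.2 (fun e => hg (Subtype.ext e)) hp hfix with
      ⟨k, hk, a, b, hab, e⟩ | ⟨k, hk, z, hz, e⟩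
    · -- a `2`-element
      have : Fact (Nat.Prime 2) := ⟨Nat.prime_two⟩
      have hg4 : g ^ 4 = 1 := by
        apply Subtype.ext
        have e2 : k * g.1 ^ 4 * k⁻¹ = 1 := by rw [← conj_pow, e, sT_pow_four h]
        rw [Subgroup.coe_pow]
        exact eq_one_of_conj_eq_one e2
      have hP : IsPGroup 2 ↥(Subgroup.zpowers g) := by
        intro x
        obtain ⟨i, hi⟩ := Subgroup.mem_zpowers_iff.1 x.2
        refine ⟨2, Subtype.ext ?_⟩
        rw [Subgroup.coe_pow, ← hi]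
        show (g ^ i) ^ 4 = 1
        rw [← zpow_natCast, ← _root_.zpow_mul, mul_comm, _root_.zpow_mul, zpow_natCast, hg4, _root_.one_zpow]
      obtain ⟨P, hP⟩ := hP.exists_le_sylow
      have hgP : g ∈ (P : Subgroup ↥(Cfsg.Sz F m)) := hP (Subgroup.mem_zpowers g)
      refine ⟨P, ⟨Or.inl ⟨P, rfl⟩, hgP⟩, ?_⟩
      rintro U' ⟨hU' | ⟨hU'c, hU'card⟩, hgU'⟩
      · obtain ⟨P', rfl⟩ := hU'
        exact le_antisymm (sylow_le_of_common hm hF P' P hg hgU' hgP)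
          (sylow_le_of_common hm hF P P' hg hgP hgU')
      · exact absurd (eq_one_of_mem_odd_of_mem_sylow (tori_odd hm hU'card) P hgU' hgP) hg
    · apply partition_of_cyclic hm g hg (cent_cyclic_torus hm hF g hk hz e)
      rw [card_cent_torus hm hF g hk hz e]
      simp

end Cfsg.Agent.Lib.helper8
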