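/-
Suzuki group: field automorphisms act on `Sz`.
-/
import Cfsg.Agent.Lib.helper8.SzPartition

set_option autoImplicit false

namespace Cfsg.Agent.Lib.helper8

open Matrix
open scoped Pointwise

variable {F : Type*} [Field F]

theorem map_sT (m : ℕ) (φ : F →+* F) (a b : F) :
    Matrix.SpecialLinearGroup.map φ (sT m a b) = sT m (φ a) (φ b) := by
  apply Subtype.ext
  rw [Matrix.SpecialLinearGroup.map_apply_coe]
  show φ.mapMatrix (matT m a b) = matT m (φ a) (φ b)
  ext i j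
  fin_cases i <;> fin_cases j <;> simp [matT, RingHom.mapMatrix_apply, th, ff]

theorem map_sD (m : ℕ) (φ : F →+* F) (z : Fˣ) :
    Matrix.SpecialLinearGroup.map φ (sD m z) = sD m (Units.map (φ : F →* F) z) := by
  apply Subtype.ext
  rw [Matrix.SpecialLinearGroup.map_apply_coe]
  show φ.mapMatrix (matD m (z : F)) = matD m ((Units.map (φ : F →* F) z : Fˣ) : F)
  ext i j
  fin_cases i <;> fin_cases j <;> simp [matD, RingHom.mapMatrix_apply, th]

theorem map_sW (φ : F →+* F) :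
    Matrix.SpecialLinearGroup.map φ (sW : Matrix.SpecialLinearGroup (Fin 4) F) = sW := by
  apply Subtype.ext
  rw [Matrix.SpecialLinearGroup.map_apply_coe]
  show φ.mapMatrix (matW : Matrix (Fin 4) (Fin 4) F) = matW
  ext i j
  fin_cases i <;> fin_cases j <;> simp [matW, RingHom.mapMatrix_apply]

variable [Fintype F]

theorem map_mem_Sz {m : ℕ} (hm : 1 ≤ m) (hF : Fintype.card F = 2 ^ (2 * m + 1)) (φ : F →+* F)
    {g : Matrix.SpecialLinearGroup (Fin 4) F} (hg : g ∈ Cfsg.Sz F m) :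
    Matrix.SpecialLinearGroup.map φ g ∈ Cfsg.Sz F m := by
  have h := szHyp_of_card hF
  rcases sz_decomp hm hF hg with ⟨a, b, z, rfl⟩ | ⟨a, b, c, d, z, rfl⟩
  · rw [map_mul, map_sT, map_sD]
    exact mul_mem (sT_mem h _ _) (sD_mem h _)
  · rw [map_mul, map_mul, map_mul, map_sT, map_sT, map_sD, map_sW]
    exact mul_mem (mul_mem (mul_mem (sT_mem h _ _) (sW_mem h)) (sT_mem h _ _)) (sD_mem h _)

/-- The endomorphism of `Sz` induced by a field endomorphism. -/
def szFieldHom {m : ℕ} (hm : 1 ≤ m) (hF : Fintype.card F = 2 ^ (2 * m + 1)) (φ : F →+* F) :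
    ↥(Cfsg.Sz F m) →* ↥(Cfsg.Sz F m) :=
  ((Matrix.SpecialLinearGroup.map φ).comp (Cfsg.Sz F m).subtype).codRestrict (Cfsg.Sz F m)
    (fun g => map_mem_Sz hm hF φ g.2)

theorem szFieldHom_coe {m : ℕ} (hm : 1 ≤ m) (hF : Fintype.card F = 2 ^ (2 * m + 1)) (φ : F →+* F)
    (g : ↥(Cfsg.Sz F m)) :
    ((szFieldHom hm hF φ g : ↥(Cfsg.Sz F m)) : Matrix.SpecialLinearGroup (Fin 4) F) =
      Matrix.SpecialLinearGroup.map φ g.1 := rfl

theorem szFieldHom_injective {m : ℕ} (hm : 1 ≤ m) (hF : Fintype.card F = 2 ^ (2 * m + 1))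
    (φ : F →+* F) : Function.Injective (szFieldHom hm hF φ) := by
  intro g g' e
  have e1 : Matrix.SpecialLinearGroup.map φ g.1 = Matrix.SpecialLinearGroup.map φ g'.1 :=
    congrArg Subtype.val e
  apply Subtype.ext
  apply Subtype.ext
  ext i j
  have e2 := congrArg (fun M : Matrix.SpecialLinearGroup (Fin 4) F => M.1 i j) e1
  simp only [Matrix.SpecialLinearGroup.map_apply_coe, RingHom.mapMatrix_apply,
    Matrix.map_apply] at e2
  exact φ.injective e2

/-- The automorphism of `Sz` induced by a field automorphism. -/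
noncomputable def szAut {m : ℕ} (hm : 1 ≤ m) (hF : Fintype.card F = 2 ^ (2 * m + 1))
    (φ : F ≃+* F) : MulAut ↥(Cfsg.Sz F m) :=
  MulEquiv.ofBijective (szFieldHom hm hF (φ : F →+* F))
    ⟨szFieldHom_injective hm hF _,
      Finite.injective_iff_surjective.1 (szFieldHom_injective hm hF _)⟩

theorem szAut_coe {m : ℕ} (hm : 1 ≤ m) (hF : Fintype.card F = 2 ^ (2 * m + 1)) (φ : F ≃+* F)
    (g : ↥(Cfsg.Sz F m)) :
    ((szAut hm hF φ g : ↥(Cfsg.Sz F m)) : Matrix.SpecialLinearGroup (Fin 4) F) =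
      Matrix.SpecialLinearGroup.map (φ : F →+* F) g.1 := rfl

theorem szAut_gT {m : ℕ} (hm : 1 ≤ m) (hF : Fintype.card F = 2 ^ (2 * m + 1)) (φ : F ≃+* F)
    (a b : F) :
    szAut hm hF φ (gT (szHyp_of_card hF) a b) = gT (szHyp_of_card hF) (φ a) (φ b) := by
  apply Subtype.ext
  rw [szAut_coe]
  exact map_sT m _ a b

theorem szAut_gW {m : ℕ} (hm : 1 ≤ m) (hF : Fintype.card F = 2 ^ (2 * m + 1)) (φ : F ≃+* F) :
    szAut hm hF φ (gW (szHyp_of_card hF)) = gW (szHyp_of_card hF) := by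
  apply Subtype.ext
  rw [szAut_coe]
  exact map_sW _

end Cfsg.Agent.Lib.helper8
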