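/-
Suzuki group: every automorphism is the product of an inner automorphism and a field
automorphism.  Part 1: normalisation.
-/
import Cfsg.Agent.Lib.helper8.SzAut1
import Cfsg.Agent.Lib.helper8.SzElemAb

set_option autoImplicit false

namespace Cfsg.Agent.Lib.helper8

open Matrix
open scoped Pointwise

variable {F : Type*} [Field F] [Fintype F]

theorem gT_mul {m : ℕ} (h : SzHyp F m) (a b c d : F) :
    gT h a b * gT h c d = gT h (a + c) (b + d + th m a * c) := Subtype.ext (sT_mul h a b c d)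

theorem gT_inj {m : ℕ} (h : SzHyp F m) {a b c d : F} (e : gT h a b = gT h c d) :
    a = c ∧ b = d := sT_inj h (congrArg Subtype.val e)

theorem gT_mem_subT {m : ℕ} (h : SzHyp F m) (a b : F) : gT h a b ∈ subT h := ⟨a, b, rfl⟩

theorem eq_gT_of_mem_subT {m : ℕ} (h : SzHyp F m) {g : ↥(Cfsg.Sz F m)} (hg : g ∈ subT h) :
    ∃ a b : F, g = gT h a b := by
  obtain ⟨a, b, e⟩ := hg
  exact ⟨a, b, Subtype.ext e⟩

theorem gD_conj_gT {m : ℕ} (h : SzHyp F m) (z : Fˣ) (a b : F) :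
    gD h z * gT h a b * (gD h z)⁻¹ =
      gT h (th m (z : F) * a) (th m (z : F) * (z : F) ^ 2 * b) :=
  Subtype.ext (sD_conj_sT h z a b)

theorem gW_conj_gD {m : ℕ} (h : SzHyp F m) (z : Fˣ) :
    gW h * gD h z * (gW h)⁻¹ = gD h z⁻¹ := by
  apply Subtype.ext
  show sW * sD m z * sW⁻¹ = sD m z⁻¹
  rw [sW_sD, mul_assoc, mul_inv_cancel, mul_one]

theorem kappa2_inj {m : ℕ} (h : SzHyp F m) {z z' : Fˣ}
    (e : th m (z : F) * (z : F) ^ 2 = th m (z' : F) * (z' : F) ^ 2) : z = z' := by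
  have e1 : th m ((z : F) * th m (z : F)) = th m ((z' : F) * th m (z' : F)) := by
    rw [th_mul, th_mul, th_th h, th_th h, e]
  exact Units.ext (kappa_injective h (th_inj h e1))

/-- An automorphism normalising the translation group. -/
def NT {m : ℕ} (h : SzHyp F m) (α : MulAut ↥(Cfsg.Sz F m)) : Prop :=
  ∀ a b : F, α (gT h a b) ∈ subT h

/-- An automorphism normalising the torus. -/
def ND {m : ℕ} (h : SzHyp F m) (α : MulAut ↥(Cfsg.Sz F m)) : Prop :=
  ∀ z : Fˣ, ∃ z' : Fˣ, α (gD h z) = gD h z'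

theorem conj_inv_mul_apply {G : Type*} [Group G] (k : G) (α : MulAut G) (x : G) :
    ((MulAut.conj k)⁻¹ * α) x = k⁻¹ * α x * k := by
  rw [MulAut.mul_apply, MulAut.conj_inv_apply]

/-- Up to an inner automorphism, an automorphism normalises the translation group. -/
theorem exists_conj_NT {m : ℕ} (hm : 1 ≤ m) (hF : Fintype.card F = 2 ^ (2 * m + 1))
    (α : MulAut ↥(Cfsg.Sz F m)) :
    ∃ k : ↥(Cfsg.Sz F m), NT (szHyp_of_card hF) ((MulAut.conj k)⁻¹ * α) := by
  have h := szHyp_of_card hF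
  have : Fact (Nat.Prime 2) := ⟨Nat.prime_two⟩
  have hcard : Nat.card ((subT (szHyp_of_card hF)).map α.toMonoidHom) =
      2 ^ (Nat.card ↥(Cfsg.Sz F m)).factorization 2 := by
    rw [Subgroup.card_map_of_injective α.injective, card_subT hm hF, factorization_card_Sz hm hF,
      ← pow_mul]
    congr 1
    ring
  obtain ⟨k, hk⟩ := sylow_conj hm hF (Sylow.ofCard _ hcard)
  refine ⟨k, fun a b => ?_⟩
  rw [conj_inv_mul_apply, mem_subT]
  refine (hk _).1 ?_
  rw [Sylow.coe_ofCard]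
  exact Subgroup.mem_map_of_mem α.toMonoidHom (gT_mem_subT _ a b)

/-- Up to a further inner automorphism, the torus is normalised as well. -/
theorem exists_conj_ND {m : ℕ} (hm : 1 ≤ m) (hF : Fintype.card F = 2 ^ (2 * m + 1))
    (α : MulAut ↥(Cfsg.Sz F m)) (hT : NT (szHyp_of_card hF) α) :
    ∃ t : ↥(Cfsg.Sz F m), NT (szHyp_of_card hF) ((MulAut.conj t)⁻¹ * α) ∧
      ND (szHyp_of_card hF) ((MulAut.conj t)⁻¹ * α) := by
  have h := szHyp_of_card hF
  obtain ⟨z₀, hz₀⟩ := exists_unit_ne_one hm hF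
  obtain ⟨a', b', hab'⟩ := eq_gT_of_mem_subT _ (hT 0 1)
  have hab0 : ¬ (a' = 0 ∧ b' = 0) := by
    intro h0
    rw [h0.1, h0.2, gT_zero_zero] at hab'
    have e1 := (map_eq_one_iff α α.injective).1 hab'
    have e2 := (sT_eq_one_iff h).1 (congrArg Subtype.val e1)
    exact one_ne_zero e2.2
  obtain ⟨a'', b'', hab''⟩ := eq_gT_of_mem_subT _
    (hT (th m (z₀ : F) * 0) (th m (z₀ : F) * (z₀ : F) ^ 2 * 1))
  have hconjG : α (gD (szHyp_of_card hF) z₀) * gT (szHyp_of_card hF) a' b' *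
      (α (gD (szHyp_of_card hF) z₀))⁻¹ = gT (szHyp_of_card hF) a'' b'' := by
    rw [← hab', ← hab'', ← gD_conj_gT, map_mul, map_mul, map_inv]
  have hconj : (α (gD (szHyp_of_card hF) z₀)).1 * sT m a' b' *
      (α (gD (szHyp_of_card hF) z₀)).1⁻¹ = sT m a'' b'' := congrArg Subtype.val hconjG
  have hxfix : (α (gD (szHyp_of_card hF) z₀)).1 • (pinf : Projectivization F (Fin 4 → F)) = pinf :=
    fix_of_conj_T h (α (gD (szHyp_of_card hF) z₀)).2 hab0 hconj
  have hx1 : (α (gD (szHyp_of_card hF) z₀)).1 ≠ 1 := by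
    intro e
    have e1 : α (gD (szHyp_of_card hF) z₀) = 1 := Subtype.ext e
    have e2 := (map_eq_one_iff α α.injective).1 e1
    apply hz₀
    apply sD_inj m
    rw [sD_one]
    exact congrArg Subtype.val e2
  rcases fix_classify hm hF (α (gD (szHyp_of_card hF) z₀)).2 hx1 (pinf_mem m) hxfix with
    ⟨k, hk, a, b, hab, e⟩ | ⟨k, hk, w, hw, e⟩
  · exfalso
    have e4 : (α (gD (szHyp_of_card hF) z₀)).1 ^ 4 = 1 := by
      have e2 : k * (α (gD (szHyp_of_card hF) z₀)).1 ^ 4 * k⁻¹ = 1 := by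
        rw [← conj_pow, e, sT_pow_four h]
      exact eq_one_of_conj_eq_one e2
    have e5 : (gD (szHyp_of_card hF) z₀) ^ 4 = 1 := by
      apply α.injective
      rw [map_pow, map_one]
      apply Subtype.ext
      rw [Subgroup.coe_pow]
      exact e4
    rw [← map_pow] at e5
    have e6 : z₀ ^ 4 = 1 := sD_inj m (by rw [sD_one]; exact congrArg Subtype.val e5)
    have hz2 : z₀ ^ 2 = 1 := units_eq_one_of_sq h.two (by rw [← pow_two, ← pow_mul]; exact e6)
    exact hz₀ (units_eq_one_of_sq h.two (by rw [← pow_two]; exact hz2))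
  · have hxe : (α (gD (szHyp_of_card hF) z₀)).1 = k⁻¹ * sD m w * k := by rw [← e]; group
    have hfa : (α (gD (szHyp_of_card hF) z₀)).1 • (k⁻¹ • (pinf : Projectivization F (Fin 4 → F)))
        = k⁻¹ • pinf := by
      rw [hxe, mul_smul, mul_smul, smul_inv_smul, sD_pinf]
    have hfb : (α (gD (szHyp_of_card hF) z₀)).1 • (k⁻¹ • paff m (0 : F) 0) = k⁻¹ • paff m 0 0 := by
      rw [hxe, mul_smul, mul_smul, smul_inv_smul, sD_paff_zero h]
    obtain ⟨p, hp, hpne, hpfix⟩ : ∃ p ∈ Cfsg.suzukiOvoid F m, p ≠ pinf ∧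
        (α (gD (szHyp_of_card hF) z₀)).1 • p = p := by
      by_cases hc : k⁻¹ • (pinf : Projectivization F (Fin 4 → F)) = pinf
      · refine ⟨k⁻¹ • paff m 0 0, smul_mem_ovoid (inv_mem hk) (paff_mem m 0 0), ?_, hfb⟩
        intro e'
        rw [← hc] at e'
        exact paff_ne_pinf m 0 0 (MulAction.injective k⁻¹ e')
      · exact ⟨k⁻¹ • pinf, smul_mem_ovoid (inv_mem hk) (pinf_mem m), hc, hfa⟩
    rcases (mem_ovoid_iff' p).1 hp with rfl | ⟨x₀, y₀, rfl⟩
    · exact absurd rfl hpne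
    · have hy1 : ((gT (szHyp_of_card hF) x₀ y₀)⁻¹ * α (gD (szHyp_of_card hF) z₀) *
          gT (szHyp_of_card hF) x₀ y₀).1 • (pinf : Projectivization F (Fin 4 → F)) = pinf := by
        show ((sT m x₀ y₀)⁻¹ * (α (gD (szHyp_of_card hF) z₀)).1 * sT m x₀ y₀) • _ = _
        rw [mul_smul, mul_smul, sT_pinf, hxfix, inv_smul_eq_iff, sT_pinf]
      have hy2 : ((gT (szHyp_of_card hF) x₀ y₀)⁻¹ * α (gD (szHyp_of_card hF) z₀) *
          gT (szHyp_of_card hF) x₀ y₀).1 • paff m (0 : F) 0 = paff m 0 0 := by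
        show ((sT m x₀ y₀)⁻¹ * (α (gD (szHyp_of_card hF) z₀)).1 * sT m x₀ y₀) • _ = _
        rw [mul_smul, mul_smul, sT_paff_zero h, hpfix, inv_smul_eq_iff, sT_paff_zero h]
      obtain ⟨w', hw'⟩ := two_point_stab hm hF (SetLike.coe_mem _) hy1 hy2
      have hw'1 : w' ≠ 1 := by
        rintro rfl
        rw [sD_one] at hw'
        apply hx1
        have e1 : (sT m x₀ y₀)⁻¹ * (α (gD (szHyp_of_card hF) z₀)).1 * sT m x₀ y₀ = 1 := hw'
        have e2 : (α (gD (szHyp_of_card hF) z₀)).1 = sT m x₀ y₀ *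
            ((sT m x₀ y₀)⁻¹ * (α (gD (szHyp_of_card hF) z₀)).1 * sT m x₀ y₀) * (sT m x₀ y₀)⁻¹ := by
          group
        rw [e2, e1]
        group
      refine ⟨gT (szHyp_of_card hF) x₀ y₀, ?_, ?_⟩
      · intro a b
        rw [conj_inv_mul_apply]
        exact mul_mem (mul_mem (inv_mem (gT_mem_subT _ x₀ y₀)) (hT a b)) (gT_mem_subT _ x₀ y₀)
      · intro z
        rw [conj_inv_mul_apply]
        have hc0 : gD (szHyp_of_card hF) z * gD (szHyp_of_card hF) z₀ =
            gD (szHyp_of_card hF) z₀ * gD (szHyp_of_card hF) z := by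
          rw [← map_mul, ← map_mul, mul_comm]
        have hc1 : α (gD (szHyp_of_card hF) z) * α (gD (szHyp_of_card hF) z₀) =
            α (gD (szHyp_of_card hF) z₀) * α (gD (szHyp_of_card hF) z) :=
          (map_mul α _ _).symm.trans ((congrArg α hc0).trans (map_mul α _ _))
        have hc2 : ((gT (szHyp_of_card hF) x₀ y₀)⁻¹ * α (gD (szHyp_of_card hF) z) *
            gT (szHyp_of_card hF) x₀ y₀) *
            ((gT (szHyp_of_card hF) x₀ y₀)⁻¹ * α (gD (szHyp_of_card hF) z₀) *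
              gT (szHyp_of_card hF) x₀ y₀) =
            ((gT (szHyp_of_card hF) x₀ y₀)⁻¹ * α (gD (szHyp_of_card hF) z₀) *
              gT (szHyp_of_card hF) x₀ y₀) *
            ((gT (szHyp_of_card hF) x₀ y₀)⁻¹ * α (gD (szHyp_of_card hF) z) *
              gT (szHyp_of_card hF) x₀ y₀) := by
          calc _ = (gT (szHyp_of_card hF) x₀ y₀)⁻¹ *
                (α (gD (szHyp_of_card hF) z) * α (gD (szHyp_of_card hF) z₀)) *
                gT (szHyp_of_card hF) x₀ y₀ := by group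
            _ = (gT (szHyp_of_card hF) x₀ y₀)⁻¹ *
                (α (gD (szHyp_of_card hF) z₀) * α (gD (szHyp_of_card hF) z)) *
                gT (szHyp_of_card hF) x₀ y₀ := by rw [hc1]
            _ = _ := by group
        have hc3 := congrArg Subtype.val hc2
        rw [Subgroup.coe_mul, Subgroup.coe_mul (Cfsg.Sz F m) ((gT (szHyp_of_card hF) x₀ y₀)⁻¹ *
          α (gD (szHyp_of_card hF) z₀) * gT (szHyp_of_card hF) x₀ y₀), hw'] at hc3
        obtain ⟨z', hz'⟩ := cent_sD hm hF hw'1 (SetLike.coe_mem _) hc3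
        exact ⟨z', Subtype.ext hz'⟩

end Cfsg.Agent.Lib.helper8
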