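/-
Suzuki group: every automorphism is the product of an inner automorphism and a field
automorphism.  Part 2: rigidity.
-/
import Cfsg.Agent.Lib.helper8.SzAut2

set_option autoImplicit false

namespace Cfsg.Agent.Lib.helper8

open Matrix
open scoped Pointwise

variable {F : Type*} [Field F] [Fintype F]

theorem szAut_gD {m : ℕ} (hm : 1 ≤ m) (hF : Fintype.card F = 2 ^ (2 * m + 1)) (φ : F ≃+* F)
    (z : Fˣ) :
    szAut hm hF φ (gD (szHyp_of_card hF) z) =
      gD (szHyp_of_card hF) (Units.map ((φ : F →+* F) : F →* F) z) := by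
  apply Subtype.ext
  rw [szAut_coe]
  exact map_sD m _ z

theorem szAut_inv_gT {m : ℕ} (hm : 1 ≤ m) (hF : Fintype.card F = 2 ^ (2 * m + 1)) (φ : F ≃+* F)
    (a b : F) :
    (szAut hm hF φ)⁻¹ (gT (szHyp_of_card hF) a b) =
      gT (szHyp_of_card hF) (φ.symm a) (φ.symm b) := by
  have e := szAut_gT hm hF φ (φ.symm a) (φ.symm b)
  rw [RingEquiv.apply_symm_apply, RingEquiv.apply_symm_apply] at e
  rw [← e, MulAut.inv_apply_self]

theorem szAut_inv_gD {m : ℕ} (hm : 1 ≤ m) (hF : Fintype.card F = 2 ^ (2 * m + 1)) (φ : F ≃+* F)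
    (z : Fˣ) :
    ∃ z' : Fˣ, (szAut hm hF φ)⁻¹ (gD (szHyp_of_card hF) z) = gD (szHyp_of_card hF) z' := by
  refine ⟨Units.map ((φ.symm : F →+* F) : F →* F) z, ?_⟩
  have e := szAut_gD hm hF φ (Units.map ((φ.symm : F →+* F) : F →* F) z)
  have e2 : Units.map ((φ : F →+* F) : F →* F)
      (Units.map ((φ.symm : F →+* F) : F →* F) z) = z := by
    apply Units.ext
    simp
  rw [e2] at e
  rw [← e, MulAut.inv_apply_self]

/-- Central translations go to central translations. -/
theorem exists_f {m : ℕ} (h : SzHyp F m) (α : MulAut ↥(Cfsg.Sz F m)) (hT : NT h α) :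
    ∃ f : F → F, ∀ b, α (gT h 0 b) = gT h 0 (f b) := by
  have key : ∀ b : F, ∃ c : F, α (gT h 0 b) = gT h 0 c := by
    intro b
    obtain ⟨a', b', e⟩ := eq_gT_of_mem_subT h (hT 0 b)
    have hsq : gT h 0 b * gT h 0 b = 1 := Subtype.ext (sT_zero_sq h b)
    have e1 : gT h a' b' * gT h a' b' = 1 := by rw [← e, ← map_mul, hsq, map_one]
    rw [gT_mul] at e1
    have e2 := (sT_eq_one_iff h).1 (congrArg Subtype.val e1)
    have e3 : th m a' * a' = 0 := by
      have := e2.2
      rw [add_self_of_two h.two, zero_add] at this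
      exact this
    have ha' : a' = 0 := by
      rcases mul_eq_zero.1 e3 with h1 | h1
      · exact th_eq_zero.1 h1
      · exact h1
    exact ⟨b', by rw [e, ha']⟩
  choose f hf using key
  exact ⟨f, hf⟩

/-- Normalisation by a torus element. -/
theorem exists_conj_norm {m : ℕ} (_hm : 1 ≤ m) (hF : Fintype.card F = 2 ^ (2 * m + 1))
    (α : MulAut ↥(Cfsg.Sz F m)) (hT : NT (szHyp_of_card hF) α) (hD : ND (szHyp_of_card hF) α) :
    ∃ d : ↥(Cfsg.Sz F m), NT (szHyp_of_card hF) ((MulAut.conj d)⁻¹ * α) ∧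
      ND (szHyp_of_card hF) ((MulAut.conj d)⁻¹ * α) ∧
      ((MulAut.conj d)⁻¹ * α) (gT (szHyp_of_card hF) 0 1) = gT (szHyp_of_card hF) 0 1 := by
  have h := szHyp_of_card hF
  obtain ⟨f, hf⟩ := exists_f (szHyp_of_card hF) α hT
  have hf1 : f 1 ≠ 0 := by
    intro e
    have e1 := hf 1
    rw [e, gT_zero_zero] at e1
    have e2 := (map_eq_one_iff α α.injective).1 e1
    exact one_ne_zero ((sT_eq_one_iff h).1 (congrArg Subtype.val e2)).2
  obtain ⟨z₁, hz₁⟩ := exists_unit_kappa h hf1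
  refine ⟨gD (szHyp_of_card hF) z₁, ?_, ?_, ?_⟩
  · intro a b
    rw [conj_inv_mul_apply]
    obtain ⟨a', b', e⟩ := eq_gT_of_mem_subT _ (hT a b)
    rw [e]
    have e1 : (gD (szHyp_of_card hF) z₁)⁻¹ * gT (szHyp_of_card hF) a' b' *
        gD (szHyp_of_card hF) z₁ = gD (szHyp_of_card hF) z₁⁻¹ * gT (szHyp_of_card hF) a' b' *
        (gD (szHyp_of_card hF) z₁⁻¹)⁻¹ := by
      rw [map_inv, inv_inv]
    rw [e1, gD_conj_gT]
    exact gT_mem_subT _ _ _
  · intro z
    rw [conj_inv_mul_apply]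
    obtain ⟨z', hz'⟩ := hD z
    refine ⟨z₁⁻¹ * z' * z₁, ?_⟩
    rw [hz', map_mul, map_mul, map_inv]
  · rw [conj_inv_mul_apply, hf 1, ← hz₁]
    have e := gD_conj_gT (szHyp_of_card hF) z₁ 0 1
    rw [mul_zero, mul_one] at e
    rw [← e]
    group

/-- The action on the centre of the translation group is a field automorphism. -/
theorem exists_fieldAut {m : ℕ} (_hm : 1 ≤ m) (hF : Fintype.card F = 2 ^ (2 * m + 1))
    (α : MulAut ↥(Cfsg.Sz F m)) (hT : NT (szHyp_of_card hF) α) (hD : ND (szHyp_of_card hF) α)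
    (h1 : α (gT (szHyp_of_card hF) 0 1) = gT (szHyp_of_card hF) 0 1) :
    ∃ φ : F ≃+* F, ∀ b, α (gT (szHyp_of_card hF) 0 b) = gT (szHyp_of_card hF) 0 (φ b) := by
  have h := szHyp_of_card hF
  obtain ⟨f, hf⟩ := exists_f (szHyp_of_card hF) α hT
  choose σ hσ using hD
  have f1 : f 1 = 1 := gT_zero_inj _ ((hf 1).symm.trans h1)
  have fadd : ∀ b c, f (b + c) = f b + f c := by
    intro b c
    apply gT_zero_inj (szHyp_of_card hF)
    rw [← hf, gT_zero_add, map_mul, hf, hf, ← gT_zero_add]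
  have f0 : f 0 = 0 := by
    have := fadd 0 0
    rw [add_zero] at this
    exact add_eq_left.1 this.symm
  have heq : ∀ (z : Fˣ) (b : F), f (th m (z : F) * (z : F) ^ 2 * b) =
      th m (σ z : F) * (σ z : F) ^ 2 * f b := by
    intro z b
    have e := congrArg α (gD_conj_gT (szHyp_of_card hF) z 0 b)
    rw [map_mul, map_mul, map_inv, hσ, hf, gD_conj_gT, mul_zero, mul_zero, hf] at e
    exact (gT_inj _ e).2.symm
  have fmul : ∀ y b, f (y * b) = f y * f b := by
    intro y b
    by_cases hy : y = 0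
    · rw [hy, zero_mul, f0, zero_mul]
    · obtain ⟨z, hz⟩ := exists_unit_kappa h hy
      have e1 := heq z b
      have e2 := heq z 1
      rw [mul_one, f1, mul_one] at e2
      rw [← hz, e1, e2]
  let φ₀ : F →+* F :=
    { toFun := f, map_one' := f1, map_mul' := fmul, map_zero' := f0, map_add' := fadd }
  have hinj : Function.Injective φ₀ := φ₀.injective
  refine ⟨RingEquiv.ofBijective φ₀ ⟨hinj, Finite.injective_iff_surjective.1 hinj⟩, fun b => ?_⟩
  exact hf b

/-- An automorphism fixing the centre of the translation group pointwise and normalising the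
translation group and the torus is trivial on both. -/
theorem rigid_TD {m : ℕ} (hm : 1 ≤ m) (hF : Fintype.card F = 2 ^ (2 * m + 1))
    (β : MulAut ↥(Cfsg.Sz F m)) (hT : NT (szHyp_of_card hF) β) (hD : ND (szHyp_of_card hF) β)
    (hZ : ∀ b, β (gT (szHyp_of_card hF) 0 b) = gT (szHyp_of_card hF) 0 b) :
    (∀ z, β (gD (szHyp_of_card hF) z) = gD (szHyp_of_card hF) z) ∧
      (∀ a b, β (gT (szHyp_of_card hF) a b) = gT (szHyp_of_card hF) a b) := by
  have h := szHyp_of_card hF
  have hDz : ∀ z, β (gD (szHyp_of_card hF) z) = gD (szHyp_of_card hF) z := by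
    intro z
    obtain ⟨z', hz'⟩ := hD z
    have e := congrArg β (gD_conj_gT (szHyp_of_card hF) z 0 1)
    rw [map_mul, map_mul, map_inv, hz', mul_zero, hZ, hZ, gD_conj_gT, mul_zero] at e
    have e2 := (gT_inj _ e).2
    rw [mul_one, mul_one] at e2
    rw [hz', kappa2_inj h e2]
  refine ⟨hDz, ?_⟩
  have key : ∀ a : F, ∃ c : F, β (gT (szHyp_of_card hF) a 0) = gT (szHyp_of_card hF) a c := by
    intro a
    obtain ⟨a', c, e⟩ := eq_gT_of_mem_subT _ (hT a 0)
    have hsq : gT (szHyp_of_card hF) a 0 * gT (szHyp_of_card hF) a 0 =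
        gT (szHyp_of_card hF) 0 (th m a * a) := by
      rw [gT_mul, add_self_of_two h.two, add_zero, zero_add]
    have e1 := congrArg β hsq
    rw [map_mul, e, hZ, gT_mul, add_self_of_two h.two, add_self_of_two h.two, zero_add] at e1
    have e2 := (gT_inj _ e1).2
    have ha : a' = a := kappa_injective h (by
      show a' * th m a' = a * th m a
      rw [mul_comm a', mul_comm a]
      exact e2)
    exact ⟨c, by rw [e, ha]⟩
  choose h₀ hh₀ using key
  have hform : ∀ a b, β (gT (szHyp_of_card hF) a b) = gT (szHyp_of_card hF) a (h₀ a + b) := by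
    intro a b
    have e : gT (szHyp_of_card hF) a b =
        gT (szHyp_of_card hF) a 0 * gT (szHyp_of_card hF) 0 b := by
      rw [gT_mul, add_zero, zero_add, mul_zero, add_zero]
    rw [e, map_mul, hh₀, hZ, gT_mul, add_zero, mul_zero, add_zero]
  have hadd : ∀ a c, h₀ (a + c) = h₀ a + h₀ c := by
    intro a c
    have e := congrArg β (gT_mul (szHyp_of_card hF) a 0 c 0)
    rw [map_mul, hform, hform, hform, gT_mul] at e
    have e2 := (gT_inj _ e).2
    linear_combination -e2
  have h00 : h₀ 0 = 0 := by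
    have := hadd 0 0
    rw [add_zero] at this
    exact add_eq_left.1 this.symm
  have hequiv : ∀ (z : Fˣ) (a : F), h₀ (th m (z : F) * a) =
      th m (z : F) * (z : F) ^ 2 * h₀ a := by
    intro z a
    have e := congrArg β (gD_conj_gT (szHyp_of_card hF) z a 0)
    rw [map_mul, map_mul, map_inv, hDz, hform, hform, gD_conj_gT] at e
    have e2 := (gT_inj _ e).2
    linear_combination -e2
  have hth : ∀ x : F, h₀ (th m x) = th m x * x ^ 2 * h₀ 1 := by
    intro x
    by_cases hx : x = 0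
    · rw [hx, th_zero, h00]; ring
    · have := hequiv (Units.mk0 x hx) 1
      rwa [Units.val_mk0, mul_one] at this
  obtain ⟨z₀, hz₀⟩ := exists_unit_ne_one hm hF
  have hc0 : h₀ 1 = 0 := by
    have e1 := hth ((z₀ : F) + 1)
    have e2 : h₀ (th m ((z₀ : F) + 1)) = th m (z₀ : F) * (z₀ : F) ^ 2 * h₀ 1 + h₀ 1 := by
      rw [th_add h, hadd, hth, hth 1, th_one]; ring
    have e3 : (th m (z₀ : F) + (z₀ : F) ^ 2) * h₀ 1 = 0 := by
      rw [e2, th_add h, th_one] at e1
      linear_combination -e1 - ((z₀ : F) * (th m (z₀ : F) + 1) * h₀ 1) * h.two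
    rcases mul_eq_zero.1 e3 with e4 | e4
    · exfalso
      have e5 : th m (z₀ : F) = (z₀ : F) ^ 2 := (add_eq_zero_iff_of_two h.two).1 e4
      have e6 : (z₀ : F) ^ 2 = ((z₀ : F) ^ 2) ^ 2 := by
        have t1 : th m (th m (z₀ : F)) = (z₀ : F) ^ 2 := th_th h _
        have t2 : th m (th m (z₀ : F)) = ((z₀ : F) ^ 2) ^ 2 := by rw [e5, th_pow, e5]
        exact t1.symm.trans t2
      have hz0 : (z₀ : F) ^ 2 ≠ 0 := pow_ne_zero _ z₀.ne_zero
      have e7 : (z₀ : F) ^ 2 = 1 := by
        have : (z₀ : F) ^ 2 * ((z₀ : F) ^ 2 - 1) = 0 := by linear_combination -e6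
        rcases mul_eq_zero.1 this with h1 | h1
        · exact absurd h1 hz0
        · exact sub_eq_zero.1 h1
      apply hz₀
      apply units_eq_one_of_sq h.two
      apply Units.ext
      rw [Units.val_mul, Units.val_one, ← pow_two]
      exact e7
    · exact e4
  intro a b
  obtain ⟨x, rfl⟩ := th_surjective h a
  rw [hform, hth, hc0, mul_zero, zero_add]

end Cfsg.Agent.Lib.helper8
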