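/-
Suzuki group: every automorphism is the product of an inner automorphism and a field
automorphism; the outer automorphism group has order `2m + 1`.
-/
import Cfsg.Agent.Lib.helper8.SzAut3
import Cfsg.Prelude.Def_KGroupFacts

set_option autoImplicit false

namespace Cfsg.Agent.Lib.helper8

open Matrix
open scoped Pointwise

variable {F : Type*} [Field F] [Fintype F]

/-- An automorphism trivial on the translation group and the torus fixes the inversion. -/
theorem rigid_W {m : ℕ} (hm : 1 ≤ m) (hF : Fintype.card F = 2 ^ (2 * m + 1))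
    (β : MulAut ↥(Cfsg.Sz F m))
    (hD : ∀ z, β (gD (szHyp_of_card hF) z) = gD (szHyp_of_card hF) z)
    (hT : ∀ a b, β (gT (szHyp_of_card hF) a b) = gT (szHyp_of_card hF) a b) :
    β (gW (szHyp_of_card hF)) = gW (szHyp_of_card hF) := by
  have h := szHyp_of_card hF
  obtain ⟨z₀, hz₀⟩ := exists_unit_ne_one hm hF
  have hz₀' : z₀⁻¹ ≠ 1 := fun e => hz₀ (inv_eq_one.1 e)
  have hconjG : β (gW (szHyp_of_card hF)) * gD (szHyp_of_card hF) z₀ *
      (β (gW (szHyp_of_card hF)))⁻¹ = gD (szHyp_of_card hF) z₀⁻¹ := by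
    have e := congrArg β (gW_conj_gD (szHyp_of_card hF) z₀)
    rwa [map_mul, map_mul, map_inv, hD, hD] at e
  have hconj : (β (gW (szHyp_of_card hF))).1 * sD m z₀ * (β (gW (szHyp_of_card hF))).1⁻¹ =
      sD m z₀⁻¹ := congrArg Subtype.val hconjG
  have hfixgen : ∀ p : Projectivization F (Fin 4 → F), sD m z₀ • p = p →
      sD m z₀⁻¹ • ((β (gW (szHyp_of_card hF))).1 • p) = (β (gW (szHyp_of_card hF))).1 • p := by
    intro p hp
    rw [← hconj, mul_smul, mul_smul, inv_smul_smul, hp]
  have hc1 := sD_fix_cases h hz₀' (smul_mem_ovoid (β (gW (szHyp_of_card hF))).2 (pinf_mem m))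
    (hfixgen _ (sD_pinf m z₀))
  have hc2 := sD_fix_cases h hz₀' (smul_mem_ovoid (β (gW (szHyp_of_card hF))).2 (paff_mem m 0 0))
    (hfixgen _ (sD_paff_zero h z₀))
  have hinj : (β (gW (szHyp_of_card hF))).1 • (pinf : Projectivization F (Fin 4 → F)) ≠
      (β (gW (szHyp_of_card hF))).1 • paff m 0 0 :=
    fun e => paff_ne_pinf m 0 0 (MulAction.injective _ e).symm
  rcases hc1 with hc1 | hc1
  · exfalso
    have hc2' : (β (gW (szHyp_of_card hF))).1 • paff m (0 : F) 0 = paff m 0 0 := by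
      rcases hc2 with hc2 | hc2
      · exact absurd (hc1.trans hc2.symm) hinj
      · exact hc2
    obtain ⟨w, hw⟩ := two_point_stab hm hF (β (gW (szHyp_of_card hF))).2 hc1 hc2'
    have e1 : β (gW (szHyp_of_card hF)) = β (gD (szHyp_of_card hF) w) := by
      rw [hD]; exact Subtype.ext hw
    have e2 := β.injective e1
    have e3 : (sW : Matrix.SpecialLinearGroup (Fin 4) F) = sD m w := congrArg Subtype.val e2
    have e4 : (sW : Matrix.SpecialLinearGroup (Fin 4) F) •
        (pinf : Projectivization F (Fin 4 → F)) = pinf := by rw [e3, sD_pinf]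
    rw [sW_pinf m] at e4
    exact paff_ne_pinf m 0 0 e4
  · have hc2' : (β (gW (szHyp_of_card hF))).1 • paff m (0 : F) 0 = pinf := by
      rcases hc2 with hc2 | hc2
      · exact hc2
      · exact absurd (hc1.trans hc2.symm) hinj
    obtain ⟨w, hw⟩ := two_point_stab hm hF (g := sW * (β (gW (szHyp_of_card hF))).1)
      (mul_mem (sW_mem h) (β (gW (szHyp_of_card hF))).2)
      (by rw [mul_smul, hc1, sW_paff_zero]) (by rw [mul_smul, hc2', sW_pinf m])
    have hx : (β (gW (szHyp_of_card hF))).1 = sW * sD m w := by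
      rw [← hw, ← mul_assoc, sW_sq, one_mul]
    have hy1 : (gW (szHyp_of_card hF) * gT (szHyp_of_card hF) 0 1 * gW (szHyp_of_card hF)).1 •
        (pinf : Projectivization F (Fin 4 → F)) =
        (sW : Matrix.SpecialLinearGroup (Fin 4) F) • paff m (0 : F) 1 := by
      show (sW * sT m 0 1 * sW) • _ = _
      rw [mul_smul, mul_smul, sW_pinf m, sT_paff_zero h]
    have hy2 : (β (gW (szHyp_of_card hF) * gT (szHyp_of_card hF) 0 1 *
        gW (szHyp_of_card hF))).1 • (pinf : Projectivization F (Fin 4 → F)) =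
        (sW : Matrix.SpecialLinearGroup (Fin 4) F) •
          paff m (0 : F) (th m (w : F) * (w : F) ^ 2) := by
      rw [map_mul, map_mul, hT]
      show ((β (gW (szHyp_of_card hF))).1 * sT m 0 1 * (β (gW (szHyp_of_card hF))).1) • _ = _
      rw [mul_smul, mul_smul, hc1, sT_paff_zero h, hx, mul_smul, sD_paff h, mul_zero, mul_one]
    have hy3 : (β (gW (szHyp_of_card hF) * gT (szHyp_of_card hF) 0 1 *
        gW (szHyp_of_card hF))).1 • (pinf : Projectivization F (Fin 4 → F)) =
        (gW (szHyp_of_card hF) * gT (szHyp_of_card hF) 0 1 * gW (szHyp_of_card hF)).1 • pinf := by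
      rcases sz_decomp hm hF (gW (szHyp_of_card hF) * gT (szHyp_of_card hF) 0 1 *
        gW (szHyp_of_card hF)).2 with ⟨a, b, z, e⟩ | ⟨a, b, c, d, z, e⟩
      · exfalso
        rw [e, mul_smul, sD_pinf, sT_pinf] at hy1
        have e' : (sW : Matrix.SpecialLinearGroup (Fin 4) F) •
            (pinf : Projectivization F (Fin 4 → F)) = paff m 0 1 := by
          rw [hy1, ← mul_smul, sW_sq, one_smul]
        rw [sW_pinf m] at e'
        exact zero_ne_one (paff_inj.1 e').2
      · have eG : gW (szHyp_of_card hF) * gT (szHyp_of_card hF) 0 1 * gW (szHyp_of_card hF) =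
            gT (szHyp_of_card hF) a b * gW (szHyp_of_card hF) * gT (szHyp_of_card hF) c d *
              gD (szHyp_of_card hF) z := Subtype.ext e
        rw [eG, map_mul, map_mul, map_mul, hT, hT, hD]
        show ((sT m a b) * (β (gW (szHyp_of_card hF))).1 * sT m c d * sD m z) • _ =
          (sT m a b * sW * sT m c d * sD m z) • _
        rw [mul_smul, mul_smul, mul_smul, mul_smul, mul_smul, mul_smul, sD_pinf, sT_pinf, hc1,
          sW_pinf m]
    rw [hy1, hy2] at hy3
    have e5 := MulAction.injective (sW : Matrix.SpecialLinearGroup (Fin 4) F) hy3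
    have e6 := (paff_inj.1 e5).2
    have hw1 : w = 1 := kappa2_inj h (by rw [e6, Units.val_one, th_one, one_pow, mul_one])
    apply Subtype.ext
    rw [hx, hw1, sD_one, mul_one]
    rfl

/-- Rigidity: an automorphism normalising the translation group and the torus and fixing the
centre of the translation group pointwise is trivial. -/
theorem rigid {m : ℕ} (hm : 1 ≤ m) (hF : Fintype.card F = 2 ^ (2 * m + 1))
    (β : MulAut ↥(Cfsg.Sz F m)) (hT : NT (szHyp_of_card hF) β) (hD : ND (szHyp_of_card hF) β)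
    (hZ : ∀ b, β (gT (szHyp_of_card hF) 0 b) = gT (szHyp_of_card hF) 0 b) : β = 1 := by
  obtain ⟨hDz, hTz⟩ := rigid_TD hm hF β hT hD hZ
  have hW := rigid_W hm hF β hDz hTz
  apply MulEquiv.ext
  intro g
  rw [MulAut.one_apply]
  rcases sz_decomp hm hF g.2 with ⟨a, b, z, e⟩ | ⟨a, b, c, d, z, e⟩
  · have eG : g = gT (szHyp_of_card hF) a b * gD (szHyp_of_card hF) z := Subtype.ext e
    rw [eG, map_mul, hTz, hDz]
  · have eG : g = gT (szHyp_of_card hF) a b * gW (szHyp_of_card hF) *
        gT (szHyp_of_card hF) c d * gD (szHyp_of_card hF) z := Subtype.ext e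
    rw [eG, map_mul, map_mul, map_mul, hTz, hTz, hDz, hW]

/-- Every automorphism of the Suzuki group is inner times field. -/
theorem aut_eq_conj_mul_field {m : ℕ} (hm : 1 ≤ m) (hF : Fintype.card F = 2 ^ (2 * m + 1))
    (α : MulAut ↥(Cfsg.Sz F m)) :
    ∃ (g : ↥(Cfsg.Sz F m)) (φ : F ≃+* F), α = MulAut.conj g * szAut hm hF φ := by
  obtain ⟨k, hk⟩ := exists_conj_NT hm hF α
  obtain ⟨t, ht1, ht2⟩ := exists_conj_ND hm hF _ hk
  obtain ⟨d, hd1, hd2, hd3⟩ := exists_conj_norm hm hF _ ht1 ht2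
  obtain ⟨φ, hφ⟩ := exists_fieldAut hm hF _ hd1 hd2 hd3
  have hβ : (szAut hm hF φ)⁻¹ *
      ((MulAut.conj d)⁻¹ * ((MulAut.conj t)⁻¹ * ((MulAut.conj k)⁻¹ * α))) = 1 := by
    apply rigid hm hF
    · intro a b
      rw [MulAut.mul_apply]
      obtain ⟨a', b', e⟩ := eq_gT_of_mem_subT _ (hd1 a b)
      rw [e, szAut_inv_gT]
      exact gT_mem_subT _ _ _
    · intro z
      rw [MulAut.mul_apply]
      obtain ⟨z', e⟩ := hd2 z
      rw [e]
      exact szAut_inv_gD hm hF φ z'
    · intro b
      rw [MulAut.mul_apply, hφ, szAut_inv_gT, map_zero, RingEquiv.symm_apply_apply]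
  refine ⟨k * t * d, φ, ?_⟩
  have e1 : (MulAut.conj d)⁻¹ * ((MulAut.conj t)⁻¹ * ((MulAut.conj k)⁻¹ * α)) =
      szAut hm hF φ := by
    have := congrArg (fun x => szAut hm hF φ * x) hβ
    simpa using this
  rw [map_mul, map_mul, ← e1]
  group

/-- A field automorphism inducing an inner-twisted copy of another is equal to it. -/
theorem szAut_eq_of_conj {m : ℕ} (hm : 1 ≤ m) (hF : Fintype.card F = 2 ^ (2 * m + 1))
    (φ φ' : F ≃+* F) (g : ↥(Cfsg.Sz F m))
    (e : szAut hm hF φ' = szAut hm hF φ * MulAut.conj g) : φ' = φ := by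
  have h := szHyp_of_card hF
  have key : ∀ x : ↥(Cfsg.Sz F m), szAut hm hF φ' x =
      szAut hm hF φ g * szAut hm hF φ x * (szAut hm hF φ g)⁻¹ := by
    intro x
    rw [e, MulAut.mul_apply, MulAut.conj_apply, map_mul, map_mul, map_inv]
  have k1 := key (gT (szHyp_of_card hF) 0 1)
  rw [szAut_gT, szAut_gT, map_zero, map_one, map_zero, map_one] at k1
  have hcomm : (szAut hm hF φ g).1 * sT m 0 1 = sT m 0 1 * (szAut hm hF φ g).1 := by
    have k1' := congrArg Subtype.val k1
    have k1'' : sT m (0 : F) 1 = (szAut hm hF φ g).1 * sT m 0 1 * (szAut hm hF φ g).1⁻¹ := k1'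
    have : sT m (0 : F) 1 * (szAut hm hF φ g).1 = (szAut hm hF φ g).1 * sT m 0 1 := by
      calc sT m (0 : F) 1 * (szAut hm hF φ g).1
          = ((szAut hm hF φ g).1 * sT m 0 1 * (szAut hm hF φ g).1⁻¹) * (szAut hm hF φ g).1 := by
            rw [← k1'']
        _ = (szAut hm hF φ g).1 * sT m 0 1 := by group
    exact this.symm
  obtain ⟨c, d, hcd⟩ := cent_sT hm hF (a := 0) (b := 1) (fun h0 => one_ne_zero h0.2)
    (szAut hm hF φ g).2 hcomm
  have k2 := key (gW (szHyp_of_card hF))
  rw [szAut_gW, szAut_gW] at k2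
  have hcommW : (szAut hm hF φ g).1 * sW = sW * (szAut hm hF φ g).1 := by
    have k2' : (sW : Matrix.SpecialLinearGroup (Fin 4) F) =
        (szAut hm hF φ g).1 * sW * (szAut hm hF φ g).1⁻¹ := congrArg Subtype.val k2
    have : (sW : Matrix.SpecialLinearGroup (Fin 4) F) * (szAut hm hF φ g).1 =
        (szAut hm hF φ g).1 * sW := by
      calc (sW : Matrix.SpecialLinearGroup (Fin 4) F) * (szAut hm hF φ g).1
          = ((szAut hm hF φ g).1 * sW * (szAut hm hF φ g).1⁻¹) * (szAut hm hF φ g).1 := by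
            rw [← k2']
        _ = (szAut hm hF φ g).1 * sW := by group
    exact this.symm
  have hfix : sT m c d • paff m (0 : F) 0 = paff m 0 0 := by
    rw [← hcd, ← sW_pinf m, ← mul_smul, hcommW, mul_smul, hcd, sT_pinf]
  rw [sT_paff_zero h] at hfix
  obtain ⟨hc, hd⟩ := paff_inj.1 hfix
  have hg1 : szAut hm hF φ g = 1 := by
    apply Subtype.ext
    rw [hcd, hc, hd, sT_zero]
    rfl
  apply RingEquiv.ext
  intro b
  have k3 := key (gT (szHyp_of_card hF) 0 b)
  rw [hg1, szAut_gT, szAut_gT, one_mul, inv_one, mul_one] at k3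
  exact (gT_inj _ k3).2

/-- The outer automorphism group of the Suzuki group is in bijection with the field
automorphisms. -/
theorem card_out_Sz {m : ℕ} (hm : 1 ≤ m) (hF : Fintype.card F = 2 ^ (2 * m + 1)) :
    Nat.card (Cfsg.Out ↥(Cfsg.Sz F m)) = Nat.card (F ≃+* F) := by
  symm
  apply Nat.card_eq_of_bijective
    (fun φ : F ≃+* F => (QuotientGroup.mk (szAut hm hF φ) : Cfsg.Out ↥(Cfsg.Sz F m)))
  constructor
  · intro φ φ' e
    have e1 := QuotientGroup.eq.1 e
    obtain ⟨g, hg⟩ := e1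
    have e2 : szAut hm hF φ' = szAut hm hF φ * MulAut.conj g := by
      rw [hg]
      group
    exact (szAut_eq_of_conj hm hF φ φ' g e2).symm
  · intro q
    obtain ⟨α, rfl⟩ := QuotientGroup.mk_surjective q
    obtain ⟨g, φ, rfl⟩ := aut_eq_conj_mul_field hm hF α
    refine ⟨φ, ?_⟩
    symm
    show ((MulAut.conj g * szAut hm hF φ : MulAut ↥(Cfsg.Sz F m)) :
      Cfsg.Out ↥(Cfsg.Sz F m)) = _
    rw [QuotientGroup.mk_mul]
    have : ((MulAut.conj g : MulAut ↥(Cfsg.Sz F m)) : Cfsg.Out ↥(Cfsg.Sz F m)) = 1 :=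
      (QuotientGroup.eq_one_iff _).2 ⟨g, rfl⟩
    rw [this, one_mul]

end Cfsg.Agent.Lib.helper8
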