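import Mathlib
import Cfsg.Agent.Lib.helper86.IvDefs

/-! S3928 split (architect helper86), piece BF: Brauer–Fowler count for an involutory automorphism. -/

set_option autoImplicit false

namespace Cfsg.Agent.Lib.helper86.IV

/-- BF : Brauer–Fowler count for an involutory automorphism. -/
theorem iv_bf {N : Type*} [Group N] [Finite N] (α : MulAut N) (h2 : ∀ g, α (α g) = g)
    (hne : ∃ g, α g ≠ g) :
    ∃ g : N, g ≠ 1 ∧ (Subgroup.centralizer {g}).index ≤ 2 * (Nat.card {c : N // α c = c}) ^ 2 := by
  classical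
  have : Fintype N := Fintype.ofFinite N
  set c := Nat.card {c : N // α c = c} with hc
  by_contra hcon
  push Not at hcon
  -- the fixed points as a finset
  have hCf : Nat.card {c : N // α c = c} = (Finset.univ.filter (fun x : N => α x = x)).card :=
    Nat.subtype_card _ (fun x => by simp)
  have hc1 : 1 ≤ c := by
    rw [hc, hCf]
    exact Finset.card_pos.2 ⟨1, by simp⟩
  -- F and K
  let F : N → N := fun x => x * (α x)⁻¹
  let K : Finset N := Finset.univ.image F
  have hKinv : ∀ k ∈ K, α k = k⁻¹ := by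
    intro k hk
    obtain ⟨x, -, rfl⟩ := Finset.mem_image.1 hk
    simp only [F, map_mul, map_inv, h2, mul_inv_rev, inv_inv]
  -- fibres of F
  have hfib : ∀ a ∈ (Finset.univ : Finset N).image F,
      ((Finset.univ : Finset N).filter (fun x => F x = a)).card ≤ c := by
    intro a ha
    obtain ⟨x₀, -, hx₀⟩ := Finset.mem_image.1 ha
    rw [hc, hCf]
    refine Finset.card_le_card_of_injOn (fun x => x₀⁻¹ * x) ?_ ?_
    · intro x hx
      have hx' : F x = a := (Finset.mem_filter.1 hx).2
      have h : x * (α x)⁻¹ = x₀ * (α x₀)⁻¹ := by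
        have := hx'.trans hx₀.symm
        simpa [F] using this
      have e1 : (α x₀)⁻¹ = x₀⁻¹ * (x * (α x)⁻¹) := by rw [h]; group
      simp only [Finset.coe_filter, Finset.mem_univ, true_and, Set.mem_ofPred_eq, map_mul, map_inv]
      rw [e1]; group
    · intro x _ y _ hxy
      exact mul_left_cancel hxy
  have hM : Fintype.card N ≤ c * K.card := by
    have := Finset.card_le_mul_card_image (Finset.univ : Finset N) c hfib
    simpa [Finset.card_univ] using this
  -- K has at least two elements
  have hn2 : 2 ≤ K.card := by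
    obtain ⟨g, hg⟩ := hne
    have h1 : (1 : N) ∈ K := Finset.mem_image.2 ⟨1, Finset.mem_univ _, by simp [F]⟩
    have hg' : F g ∈ K := Finset.mem_image.2 ⟨g, Finset.mem_univ _, rfl⟩
    have hFg : F g ≠ 1 := by
      intro h
      apply hg
      have : g * (α g)⁻¹ = 1 := h
      exact (mul_inv_eq_one.1 this).symm
    exact Finset.one_lt_card.2 ⟨F g, hg', 1, h1, hFg⟩
  -- the count
  let P : Finset (N × N) := K ×ˢ K
  let a : N → ℕ := fun g => (P.filter (fun p => p.1 * p.2⁻¹ = g)).card
  have hsum : K.card * K.card = ∑ g ∈ (Finset.univ : Finset N), a g := by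
    have := Finset.card_eq_sum_card_fiberwise (s := P) (t := (Finset.univ : Finset N))
      (f := fun p => p.1 * p.2⁻¹) (fun _ _ => Finset.mem_univ _)
    rw [← Finset.card_product]
    exact this
  have ha1 : a 1 ≤ K.card := by
    refine Finset.card_le_card_of_injOn (fun p => p.1) ?_ ?_
    · intro p hp
      exact (Finset.mem_product.1 (Finset.mem_filter.1 hp).1).1
    · intro p hp q hq hpq
      have hp' : p.1 * p.2⁻¹ = 1 := (Finset.mem_filter.1 hp).2
      have hq' : q.1 * q.2⁻¹ = 1 := (Finset.mem_filter.1 hq).2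
      have e1 : p.1 = p.2 := mul_inv_eq_one.1 hp'
      have e2 : q.1 = q.2 := mul_inv_eq_one.1 hq'
      have hpq' : p.1 = q.1 := hpq
      exact Prod.ext hpq' (by rw [← e1, ← e2]; exact hpq')
  have hag : ∀ g : N, a g ≤ Nat.card (Subgroup.centralizer ({g} : Set N)) := by
    intro g
    have hZ : Nat.card (Subgroup.centralizer ({g} : Set N)) =
        (Finset.univ.filter (fun u : N => u ∈ Subgroup.centralizer ({g} : Set N))).card :=
      Nat.subtype_card _ (fun x => by simp)
    rw [hZ]
    by_cases hemp : P.filter (fun p => p.1 * p.2⁻¹ = g) = ∅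
    · simp only [a, hemp, Finset.card_empty]; exact Nat.zero_le _
    obtain ⟨p₀, hp₀⟩ := Finset.nonempty_iff_ne_empty.2 hemp
    have key : ∀ p ∈ P.filter (fun p => p.1 * p.2⁻¹ = g), p.1⁻¹ * g * p.1 = (α g)⁻¹ := by
      intro p hp
      have hpP := Finset.mem_product.1 (Finset.mem_filter.1 hp).1
      have hpg : p.1 * p.2⁻¹ = g := (Finset.mem_filter.1 hp).2
      rw [← hpg, map_mul, map_inv, hKinv _ hpP.1, hKinv _ hpP.2]
      group
    refine Finset.card_le_card_of_injOn (fun p => p.1 * p₀.1⁻¹) ?_ ?_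
    · intro p hp
      have E : p.1⁻¹ * g * p.1 = p₀.1⁻¹ * g * p₀.1 := (key p hp).trans (key p₀ hp₀).symm
      simp only [Finset.coe_filter, Finset.mem_univ, true_and, Set.mem_ofPred_eq]
      rw [Subgroup.mem_centralizer_iff]
      intro h hh
      rw [Set.mem_singleton_iff] at hh
      subst hh
      calc h * (p.1 * p₀.1⁻¹) = p.1 * (p.1⁻¹ * h * p.1) * p₀.1⁻¹ := by group
        _ = p.1 * (p₀.1⁻¹ * h * p₀.1) * p₀.1⁻¹ := by rw [E]
        _ = (p.1 * p₀.1⁻¹) * h := by group
    · intro p hp q hq hpq
      have hpg : p.1 * p.2⁻¹ = g := (Finset.mem_filter.1 hp).2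
      have hqg : q.1 * q.2⁻¹ = g := (Finset.mem_filter.1 hq).2
      have e1 : p.1 = q.1 := mul_right_cancel hpq
      have e2 : p.2 = q.2 := by
        have : p.1 * p.2⁻¹ = p.1 * q.2⁻¹ := by rw [hpg, e1, hqg]
        exact inv_injective (mul_left_cancel this)
      exact Prod.ext e1 e2
  -- centralizers are small
  have hsmall : ∀ g ∈ (Finset.univ : Finset N).erase 1,
      2 * c ^ 2 * a g ≤ Fintype.card N := by
    intro g hg
    have hg1 : g ≠ 1 := (Finset.mem_erase.1 hg).1
    have h1 := hcon g hg1
    have h3 := Subgroup.index_mul_card (Subgroup.centralizer ({g} : Set N))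
    rw [Nat.card_eq_fintype_card (α := N)] at h3
    calc 2 * c ^ 2 * a g ≤ 2 * c ^ 2 * Nat.card (Subgroup.centralizer ({g} : Set N)) :=
          Nat.mul_le_mul_left _ (hag g)
      _ ≤ (Subgroup.centralizer ({g} : Set N)).index *
            Nat.card (Subgroup.centralizer ({g} : Set N)) := Nat.mul_le_mul_right _ h1.le
      _ = Fintype.card N := h3
  have hsplit : a 1 + ∑ g ∈ (Finset.univ : Finset N).erase 1, a g =
      ∑ g ∈ (Finset.univ : Finset N), a g :=
    Finset.add_sum_erase _ _ (Finset.mem_univ _)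
  have he : ((Finset.univ : Finset N).erase 1).card + 1 = Fintype.card N := by
    rw [Finset.card_erase_add_one (Finset.mem_univ _), Finset.card_univ]
  have hS : 2 * c ^ 2 * ∑ g ∈ (Finset.univ : Finset N).erase 1, a g ≤
      ((Finset.univ : Finset N).erase 1).card * Fintype.card N := by
    rw [Finset.mul_sum]
    calc ∑ g ∈ (Finset.univ : Finset N).erase 1, 2 * c ^ 2 * a g
        ≤ ∑ _g ∈ (Finset.univ : Finset N).erase 1, Fintype.card N := Finset.sum_le_sum hsmall
      _ = ((Finset.univ : Finset N).erase 1).card * Fintype.card N := by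
          rw [Finset.sum_const, smul_eq_mul]
  -- arithmetic
  set n := K.card with hn
  set M := Fintype.card N with hMdef
  set e := ((Finset.univ : Finset N).erase 1).card with hedef
  set S := ∑ g ∈ (Finset.univ : Finset N).erase 1, a g with hSdef
  have hmain : n * n ≤ n + S := by
    rw [hsum, ← hsplit]
    exact Nat.add_le_add_right ha1 _
  have h1 : e * M < M * M := by nlinarith
  have h2' : M * M ≤ (c * n) * (c * n) := Nat.mul_le_mul hM hM
  have h3 : c ^ 2 * n * 2 ≤ c ^ 2 * n * n := Nat.mul_le_mul_left _ hn2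
  have h4 : 2 * c ^ 2 * (n * n) ≤ 2 * c ^ 2 * (n + S) := Nat.mul_le_mul_left _ hmain
  nlinarith [h1, h2', h3, h4, hS]

end Cfsg.Agent.Lib.helper86.IV
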