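/-
Steiner systems, continued: the symmetric difference of two octads of an S(5,8,24) meeting in
four points is an octad.
-/
import Cfsg.Agent.Lib.helper8.Steiner

set_option autoImplicit false

namespace Cfsg.Agent.Lib.helper8

open Finset

variable {α : Type*} [Fintype α] [DecidableEq α]

/-- Counting the `t`-subsets of a set `X` by the unique block containing them. -/
theorem steiner_sum_choose {t k : ℕ} {B : Set (Finset α)} (hB : Cfsg.IsSteinerSystem t k B)
    [DecidablePred (· ∈ B)] (X : Finset α) :
    ∑ d ∈ univ.filter (· ∈ B), (X ∩ d).card.choose t = X.card.choose t := by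
  have h2 := sum_card_bipartiteAbove_eq_sum_card_bipartiteBelow
    (s := univ.filter (· ∈ B)) (t := powersetCard t X) (r := fun (c I : Finset α) => I ⊆ c)
  have h3 : ∀ c ∈ univ.filter (· ∈ B),
      (bipartiteAbove (fun (c I : Finset α) => I ⊆ c) (powersetCard t X) c).card = (X ∩ c).card.choose t := by
    intro c _
    rw [← card_powersetCard]
    congr 1
    ext I
    simp only [bipartiteAbove, mem_filter, mem_powersetCard, subset_inter_iff]
    tauto
  rw [sum_congr rfl h3] at h2
  rw [h2]
  have h4 : ∀ I ∈ powersetCard t X,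
      (bipartiteBelow (fun (c I : Finset α) => I ⊆ c) (univ.filter (· ∈ B)) I).card = 1 := by
    intro I hI
    obtain ⟨b, ⟨hb1, hb2⟩, hb3⟩ := hB.2 I (mem_powersetCard.1 hI).2
    rw [card_eq_one]
    refine ⟨b, ?_⟩
    ext c
    simp only [bipartiteBelow, mem_filter, mem_univ, true_and, mem_singleton]
    constructor
    · rintro ⟨hc1, hc3⟩
      exact hb3 c ⟨hc1, hc3⟩
    · rintro rfl
      exact ⟨hb1, hb2⟩
  rw [sum_congr rfl h4]
  simp

/-- In an S(5,8,24), the symmetric difference of two blocks meeting in four points is a block. -/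
theorem s5824_symmDiff {B : Set (Finset α)} (hα : Fintype.card α = 24)
    (hB : Cfsg.IsSteinerSystem 5 8 B) {b c : Finset α} (hb : b ∈ B) (hc : c ∈ B)
    (h4 : (b ∩ c).card = 4) : symmDiff b c ∈ B := by
  classical
  by_contra hX
  have hsum := steiner_sum_choose hB (symmDiff b c)
  have hb8 := hB.1 b hb
  have hc8 := hB.1 c hc
  have hbc4 : (b \ c).card = 4 := by
    have := card_sdiff_add_card_inter b c
    omega
  have hcb4 : (c \ b).card = 4 := by
    have := card_sdiff_add_card_inter c b
    rw [inter_comm] at this
    omega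
  have hXe : symmDiff b c = (b \ c) ∪ (c \ b) := rfl
  have hdisj : Disjoint (b \ c) (c \ b) := by
    rw [disjoint_left]
    intro x hx hx'
    exact (mem_sdiff.1 hx).2 (mem_sdiff.1 hx').1
  have hXcard : (symmDiff b c).card = 8 := by
    rw [hXe, card_union_of_disjoint hdisj]; omega
  have hdvd : ∀ d ∈ univ.filter (· ∈ B), 6 ∣ (symmDiff b c ∩ d).card.choose 5 := by
    intro d hd
    have hdB : d ∈ B := by simpa using hd
    have e1 : (b ∩ d).card = (b ∩ c ∩ d).card + ((b \ c) ∩ d).card := by
      rw [← card_union_of_disjoint]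
      · congr 1; ext x; simp only [mem_inter, mem_union, mem_sdiff]; tauto
      · rw [disjoint_left]
        intro x hx hx'
        simp only [mem_inter, mem_sdiff] at hx hx'
        tauto
    have e2 : (c ∩ d).card = (b ∩ c ∩ d).card + ((c \ b) ∩ d).card := by
      rw [← card_union_of_disjoint]
      · congr 1; ext x; simp only [mem_inter, mem_union, mem_sdiff]; tauto
      · rw [disjoint_left]
        intro x hx hx'
        simp only [mem_inter, mem_sdiff] at hx hx'
        tauto
    have e3 : (symmDiff b c ∩ d).card = ((b \ c) ∩ d).card + ((c \ b) ∩ d).card := by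
      rw [← card_union_of_disjoint]
      · congr 1; rw [hXe]; ext x; simp only [mem_inter, mem_union, mem_sdiff]; tauto
      · rw [disjoint_left]
        intro x hx hx'
        simp only [mem_inter, mem_sdiff] at hx hx'
        tauto
    have l1 : ((b \ c) ∩ d).card ≤ 4 := hbc4 ▸ card_le_card inter_subset_left
    have l2 : ((c \ b) ∩ d).card ≤ 4 := hcb4 ▸ card_le_card inter_subset_left
    by_cases hdb : d = b
    · subst hdb
      have : ((c \ d) ∩ d).card = 0 := by
        rw [card_eq_zero]; ext x; simp only [mem_inter, mem_sdiff]; simp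
      rw [Nat.choose_eq_zero_of_lt (by omega)]; exact dvd_zero _
    by_cases hdc : d = c
    · subst hdc
      have : ((b \ d) ∩ d).card = 0 := by
        rw [card_eq_zero]; ext x; simp only [mem_inter, mem_sdiff]; simp
      rw [Nat.choose_eq_zero_of_lt (by omega)]; exact dvd_zero _
    have i1 := s5824_inter hα hB hb hdB (Ne.symm hdb)
    have i2 := s5824_inter hα hB hc hdB (Ne.symm hdc)
    have hne8 : (symmDiff b c ∩ d).card ≠ 8 := by
      intro h8
      apply hX
      have hsub : symmDiff b c ⊆ d := by
        have := eq_of_subset_of_card_le (inter_subset_left : symmDiff b c ∩ d ⊆ symmDiff b c)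
          (by rw [h8, hXcard])
        rw [← this]; exact inter_subset_right
      have : symmDiff b c = d := eq_of_subset_of_card_le hsub (by rw [hXcard, hB.1 d hdB])
      rw [this]; exact hdB
    have hcases : (symmDiff b c ∩ d).card ≤ 4 ∨ (symmDiff b c ∩ d).card = 6 := by omega
    rcases hcases with h | h
    · rw [Nat.choose_eq_zero_of_lt (by omega)]; exact dvd_zero _
    · rw [h]; decide
  have h6 := dvd_sum hdvd
  rw [hsum, hXcard] at h6
  norm_num [Nat.choose] at h6

end Cfsg.Agent.Lib.helper8
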