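import Mathlib
import Cfsg.Agent.Lib.helper68.HallPet

/-!
S5238, block G, step (4) (helper8): the upper bound `F3` for `p`-th powers along the lower
central series, by Hall–Petrescu inside a subgroup `T ∋ x` containing `gam G i` with
`⁅T, T⁆ ≤ gam G (i + 1)` (no quotient of a subgroup, no regular-group theory).
-/

set_option autoImplicit false

namespace Cfsg.Agent.Lib.helper8

open Cfsg.Agent.Lib.helper68
open scoped commutatorElement

section PearlF3

variable {G : Type*} [Group G]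

lemma h8_f3_mem_gam_one (x : G) : x ∈ gam G 1 := by
  unfold gam
  simp [Subgroup.lowerCentralSeries_zero]

/-- A subgroup `T` containing `x` and `gam G i` with `⁅T, T⁆ ≤ gam G (i + 1)`. -/
lemma h8_f3_exists_T (x : G) (i : ℕ) :
    ∃ T : Subgroup G, x ∈ T ∧ gam G i ≤ T ∧
      ∀ g₁ ∈ T, ∀ g₂ ∈ T, ⁅g₁, g₂⁆ ∈ gam G (i + 1) := by
  let π := QuotientGroup.mk' (gam G (i + 1))
  let A : Subgroup (G ⧸ gam G (i + 1)) :=
    Subgroup.centralizer (Subgroup.centralizer ({π x} : Set (G ⧸ gam G (i + 1))) : Set _)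
  have hA1 : ∀ a ∈ A, a ∈ Subgroup.centralizer ({π x} : Set (G ⧸ gam G (i + 1))) := by
    intro a ha
    rw [Subgroup.mem_centralizer_iff]
    intro y hy
    rw [Set.mem_singleton_iff] at hy
    subst hy
    have hxx : π x ∈ Subgroup.centralizer ({π x} : Set (G ⧸ gam G (i + 1))) := by
      rw [Subgroup.mem_centralizer_iff]
      intro y hy
      rw [Set.mem_singleton_iff] at hy
      subst hy
      rfl
    exact (Subgroup.mem_centralizer_iff.1 ha) (π x) hxx
  refine ⟨A.comap π, ?_, ?_, ?_⟩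
  · rw [Subgroup.mem_comap]
    show π x ∈ A
    rw [Subgroup.mem_centralizer_iff]
    intro h hh
    exact ((Subgroup.mem_centralizer_iff.1 hh) (π x) rfl).symm
  · intro m hm
    rw [Subgroup.mem_comap]
    show π m ∈ A
    rw [Subgroup.mem_centralizer_iff]
    intro h _
    obtain ⟨h', rfl⟩ := QuotientGroup.mk'_surjective (gam G (i + 1)) h
    show ((h' * m : G) : G ⧸ gam G (i + 1)) = ((m * h' : G) : G ⧸ gam G (i + 1))
    rw [QuotientGroup.eq]
    have h1 : com m h' ∈ gam G (i + 1) := com_mem hm (h8_f3_mem_gam_one h')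
    have e : (h' * m)⁻¹ * (m * h') = com m h' := by
      unfold com
      group
    rw [e]
    exact h1
  · intro g₁ hg₁ g₂ hg₂
    rw [Subgroup.mem_comap] at hg₁ hg₂
    have h2 : π g₂ ∈ Subgroup.centralizer ({π x} : Set (G ⧸ gam G (i + 1))) := hA1 _ hg₂
    have h3 : π g₂ * π g₁ = π g₁ * π g₂ := (Subgroup.mem_centralizer_iff.1 hg₁) (π g₂) h2
    have h4 : π ⁅g₁, g₂⁆ = 1 := by
      rw [map_commutatorElement, commutatorElement_eq_one_iff_commute]
      exact h3.symm
    exact (QuotientGroup.eq_one_iff _).1 h4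

/-- `γ_k(T) ≤ γ_{i+k-1}(G)` for `k ≥ 2` when `⁅T, T⁆ ≤ γ_{i+1}(G)`. -/
lemma h8_f3_gam_T_le (T : Subgroup G) (i : ℕ)
    (hTT : ∀ g₁ ∈ T, ∀ g₂ ∈ T, ⁅g₁, g₂⁆ ∈ gam G (i + 1)) (k : ℕ) (hk : 2 ≤ k) :
    (gam ↥T k).map T.subtype ≤ gam G (i + k - 1) := by
  have h1 : (⊤ : Subgroup ↥T).map T.subtype ≤ T := by
    rintro _ ⟨a, -, rfl⟩
    exact a.2
  induction k, hk using Nat.le_induction with
  | base =>
    have e : gam ↥T 2 = ⁅(⊤ : Subgroup ↥T), (⊤ : Subgroup ↥T)⁆ := by
      unfold gam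
      simp [Subgroup.lowerCentralSeries_succ]
    rw [e, Subgroup.map_commutator, Subgroup.commutator_le]
    intro g₁ hg₁ g₂ hg₂
    exact hTT g₁ (h1 hg₁) g₂ (h1 hg₂)
  | succ k hk ih =>
    have e : gam ↥T (k + 1) = ⁅gam ↥T k, (⊤ : Subgroup ↥T)⁆ := by
      unfold gam
      obtain ⟨j, rfl⟩ : ∃ j, k = j + 1 := ⟨k - 1, by omega⟩
      simp [Subgroup.lowerCentralSeries_succ]
    rw [e, Subgroup.map_commutator]
    have h2 : (⊤ : Subgroup ↥T).map T.subtype ≤ gam G 1 := by
      intro g _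
      exact h8_f3_mem_gam_one g
    calc ⁅(gam ↥T k).map T.subtype, (⊤ : Subgroup ↥T).map T.subtype⁆
        ≤ ⁅gam G (i + k - 1), gam G 1⁆ := Subgroup.commutator_mono ih h2
      _ ≤ gam G (i + k - 1 + 1) := gam_comm_le _ _
      _ = gam G (i + (k + 1) - 1) := by
        congr 1
        omega

theorem h8_pearl_f3 (p : ℕ) [Fact p.Prime] (n : ℕ) (hnil : gam G n = ⊥) (x : G) (hx : x ^ p = 1) (hconj : ∀ m ∈ gam G 2, (x * m) ^ p = 1) (i : ℕ) (hi : 2 ≤ i) (m : G) (hm : m ∈ gam G i) : m ^ p ∈ gam G (i + p - 1) := by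
  have hp : p.Prime := Fact.out
  have key : ∀ d i, 2 ≤ i → n ≤ i + d → ∀ m ∈ gam G i, m ^ p ∈ gam G (i + p - 1) := by
    intro d
    induction d with
    | zero =>
      intro i _ hin m hm
      have h1 : m ∈ gam G n := gam_antitone (by omega) hm
      rw [hnil, Subgroup.mem_bot] at h1
      rw [h1, one_pow]
      exact Subgroup.one_mem _
    | succ d ih =>
      intro i hi hin m hm
      obtain ⟨T, hxT, hiT, hTT⟩ := h8_f3_exists_T x i
      have hc : (⊤ : Subgroup ↥T).lowerCentralSeries (n + 1) = ⊥ := by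
        have h1 : (⊤ : Subgroup ↥T).lowerCentralSeries (n + 1) = gam ↥T (n + 2) := by
          unfold gam
          simp
        rw [h1]
        have h2 : (gam ↥T (n + 2)).map T.subtype = ⊥ := by
          apply le_bot_iff.1
          refine le_trans (h8_f3_gam_T_le T i hTT (n + 2) (by omega)) ?_
          rw [← hnil]
          apply gam_antitone
          omega
        exact (Subgroup.map_eq_bot_iff_of_injective _ T.subtype_injective).1 h2
      have hM : ∀ k, 2 ≤ k → k ≤ n + 1 → ∀ c ∈ gam ↥T k,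
          c ^ (p.choose k) ∈ (gam G (i + p - 1)).subgroupOf T := by
        intro k hk2 _ c hc'
        rw [Subgroup.mem_subgroupOf]
        have hc2 : (c : G) ∈ gam G (i + k - 1) :=
          h8_f3_gam_T_le T i hTT k hk2 ⟨c, hc', rfl⟩
        rw [Subgroup.coe_pow]
        by_cases hkp : k < p
        · obtain ⟨t, ht⟩ := hp.dvd_choose_self (by omega : k ≠ 0) hkp
          rw [ht, pow_mul]
          apply Subgroup.pow_mem
          have h3 := ih (i + k - 1) (by omega) (by omega) (c : G) hc2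
          exact gam_antitone (by omega) h3
        · apply Subgroup.pow_mem
          exact gam_antitone (by omega) hc2
      obtain ⟨z, hz, hzeq⟩ := hall_petrescu_mem (n + 1) hc
        ((gam G (i + p - 1)).subgroupOf T) p hM ⟨x, hxT⟩ ⟨m, hiT hm⟩
      have hz' : (z : G) ∈ gam G (i + p - 1) := Subgroup.mem_subgroupOf.1 hz
      have h5 : (x * m) ^ p = x ^ p * m ^ p * (z : G) := by
        have := congrArg Subtype.val hzeq
        simpa using this
      rw [hconj m (gam_antitone hi hm), hx, one_mul] at h5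
      have h6 : m ^ p = (z : G)⁻¹ := by
        rw [eq_inv_iff_mul_eq_one]
        exact h5.symm
      rw [h6]
      exact Subgroup.inv_mem _ hz'
  exact key n i hi (by omega) m hm

end PearlF3

end Cfsg.Agent.Lib.helper8
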