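import Mathlib
import Cfsg.Agent.Lib.helper44.SUODefs

/-! S2334 split (architect helper44), piece OQDIM: `N ≤ finrank` of the joint eigenspace from
Heisenberg data. -/

set_option autoImplicit false

namespace Cfsg.Agent.Lib.helper44.SUW

/-- OQDIM (L) -/
theorem eig_dim {G : Type*} [Group G] {A : Type*} [AddCommGroup A]
    (e : A → A → ℂ) (he0 : ∀ y, e y 0 = 1) (he_add : ∀ y a b, e y (a + b) = e y a * e y b)
    (u : A → G) (hu : ∀ a b, u (a + b) = u a * u b)
    {k : ℕ} (ρ : Representation ℂ G (Fin k → ℂ)) (y : A)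
    (hy : ∃ w : Fin k → ℂ, w ≠ 0 ∧ ∀ a, ρ (u a) w = e y a • w)
    {r N : ℕ} (x : Fin r → G) (z : Fin N → G) (c : Fin r → Fin N → A)
    (hxu : ∀ i a, x i * u a = u a * x i) (hzu : ∀ j a, z j * u a = u a * z j)
    (hxx : ∀ i i', x i * x i' = x i' * x i)
    (hzx : ∀ i j, z j * x i = x i * z j * u (c i j))
    (hdist : ∀ j j', j ≠ j' → ∃ i, e y (c i j) ≠ e y (c i j')) :
    N ≤ Module.finrank ℂ (eigS ρ u e y) := by
  classical
  obtain ⟨w0, hw0, hw0e⟩ := hy
  set E := eigS ρ u e y with hE
  -- invariance of `E` under elements commuting with all `u a`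
  have hinv : ∀ g : G, (∀ a, g * u a = u a * g) → ∀ w ∈ E, ρ g w ∈ E := by
    intro g hg w hw a
    have h1 : ρ (u a) (ρ g w) = ρ (u a * g) w := by rw [map_mul]; rfl
    have h2 : ρ (g * u a) w = ρ g (ρ (u a) w) := by rw [map_mul]; rfl
    rw [h1, ← hg a, h2, hw a, map_smul]
  have hene : ∀ a, e y a ≠ 0 := by
    intro a h
    have := he_add y a (-a)
    rw [add_neg_cancel, he0, h, zero_mul] at this
    exact one_ne_zero this
  -- joint eigenvector of the `ρ (x i)` in `E`
  have hjoint : ∀ s : Finset (Fin r), ∃ W : Submodule ℂ (Fin k → ℂ), W ≠ ⊥ ∧ W ≤ E ∧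
      (∀ i, ∀ w ∈ W, ρ (x i) w ∈ W) ∧ (∀ i ∈ s, ∃ μ : ℂ, ∀ w ∈ W, ρ (x i) w = μ • w) := by
    intro s
    induction s using Finset.induction_on with
    | empty =>
      refine ⟨E, ?_, le_rfl, fun i w hw => hinv (x i) (hxu i) w hw, by simp⟩
      intro hbot
      have h1 : w0 ∈ E := hw0e
      rw [hbot, Submodule.mem_bot] at h1
      exact hw0 h1
    | insert i0 s hi0 ih =>
      obtain ⟨W, hW0, hWE, hWinv, hWs⟩ := ih
      have hnt : Nontrivial W := Submodule.nontrivial_iff_ne_bot.2 hW0
      let f : Module.End ℂ W := (ρ (x i0)).restrict (hWinv i0)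
      obtain ⟨cc, hcc⟩ := Module.End.exists_eigenvalue f
      obtain ⟨v, hv⟩ := hcc.exists_hasEigenvector
      let W' : Submodule ℂ (Fin k → ℂ) := W ⊓ LinearMap.ker (ρ (x i0) - cc • LinearMap.id)
      have hmemW' : ∀ w, w ∈ W' ↔ w ∈ W ∧ ρ (x i0) w = cc • w := by
        intro w
        simp only [W', Submodule.mem_inf, LinearMap.mem_ker, LinearMap.sub_apply,
          LinearMap.smul_apply, LinearMap.id_apply, sub_eq_zero]
      refine ⟨W', ?_, ?_, ?_, ?_⟩
      · intro hbot
        have hvW' : (v : Fin k → ℂ) ∈ W' := by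
          rw [hmemW']
          refine ⟨v.2, ?_⟩
          have h1 := hv.apply_eq_smul
          have h2 := congrArg Subtype.val h1
          simpa [f] using h2
        rw [hbot, Submodule.mem_bot] at hvW'
        exact hv.2 (Subtype.ext hvW')
      · exact fun w hw => hWE ((hmemW' w).1 hw).1
      · intro i w hw
        obtain ⟨hwW, hwc⟩ := (hmemW' w).1 hw
        rw [hmemW']
        refine ⟨hWinv i w hwW, ?_⟩
        have h1 : ρ (x i0) (ρ (x i) w) = ρ (x i) (ρ (x i0) w) := by
          have h2 : ρ (x i0 * x i) w = ρ (x i * x i0) w := by rw [hxx]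
          rw [map_mul, map_mul] at h2
          exact h2
        rw [h1, hwc, map_smul]
      · intro i hi
        rcases Finset.mem_insert.1 hi with rfl | hi'
        · exact ⟨cc, fun w hw => ((hmemW' w).1 hw).2⟩
        · obtain ⟨μ, hμ⟩ := hWs i hi'
          exact ⟨μ, fun w hw => hμ w ((hmemW' w).1 hw).1⟩
  obtain ⟨W, hW0, hWE, -, hWs⟩ := hjoint Finset.univ
  obtain ⟨w, hwW, hw0'⟩ := Submodule.exists_mem_ne_zero_of_ne_bot hW0
  have hμ' : ∀ i, ∃ μ : ℂ, ρ (x i) w = μ • w := fun i => by
    obtain ⟨μ, hμ⟩ := hWs i (Finset.mem_univ i)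
    exact ⟨μ, hμ w hwW⟩
  choose μ hμ using hμ'
  have hwE : w ∈ E := hWE hwW
  have hinj : ∀ g : G, ∀ v : Fin k → ℂ, ρ g v = 0 → v = 0 := by
    intro g v h
    have h1 : ρ g⁻¹ (ρ g v) = v := by
      rw [← Module.End.mul_apply, ← map_mul, inv_mul_cancel, map_one]
      rfl
    rw [← h1, h, map_zero]
  have hμne : ∀ i, μ i ≠ 0 := by
    intro i h
    have h1 := hμ i
    rw [h, zero_smul] at h1
    exact hw0' (hinj _ _ h1)
  let v : Fin N → Fin k → ℂ := fun j => ρ (z j) w
  have hvE : ∀ j, v j ∈ E := fun j => hinv (z j) (hzu j) w hwE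
  have hv0 : ∀ j, v j ≠ 0 := fun j h => hw0' (hinj _ _ h)
  have hxv : ∀ i j, ρ (x i) (v j) = (μ i / e y (c i j)) • v j := by
    intro i j
    have h1 : ρ (z j * x i) w = ρ (x i * z j * u (c i j)) w := by rw [hzx]
    rw [map_mul, map_mul, map_mul] at h1
    have h2 : ρ (z j) (ρ (x i) w) = ρ (x i) (ρ (z j) (ρ (u (c i j)) w)) := h1
    rw [hμ i, hwE (c i j), map_smul, map_smul, map_smul] at h2
    show ρ (x i) (ρ (z j) w) = (μ i / e y (c i j)) • ρ (z j) w
    rw [div_eq_inv_mul, mul_smul, h2, smul_smul, inv_mul_cancel₀ (hene _), one_smul]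
  have hliV : LinearIndependent ℂ v := by
    rw [linearIndependent_iff']
    intro s
    induction s using Finset.induction_on with
    | empty =>
      intro g _ i hi
      simp at hi
    | insert j0 s hj0 ih =>
      intro g hg
      rw [Finset.sum_insert hj0] at hg
      have hs : ∀ j ∈ s, g j = 0 := by
        intro j1 hj1
        have hne : j1 ≠ j0 := fun h => hj0 (h ▸ hj1)
        obtain ⟨i, hi⟩ := hdist j1 j0 hne
        let L : Module.End ℂ (Fin k → ℂ) := ρ (x i) - (μ i / e y (c i j0)) • LinearMap.id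
        have hL : ∀ j, L (v j) = (μ i / e y (c i j) - μ i / e y (c i j0)) • v j := by
          intro j
          simp only [L, LinearMap.sub_apply, LinearMap.smul_apply, LinearMap.id_apply, hxv,
            sub_smul]
        have h3 := congrArg L hg
        rw [map_add, map_smul, hL, sub_self, zero_smul, smul_zero, zero_add, map_sum,
          map_zero] at h3
        have h4 : ∑ j ∈ s, (g j * (μ i / e y (c i j) - μ i / e y (c i j0))) • v j = 0 := by
          rw [← h3]
          apply Finset.sum_congr rfl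
          intro j _
          rw [map_smul, hL, smul_smul]
        have h5 := ih (fun j => g j * (μ i / e y (c i j) - μ i / e y (c i j0))) h4 j1 hj1
        rcases mul_eq_zero.1 h5 with h6 | h6
        · exact h6
        · exfalso
          apply hi
          have h7 : μ i / e y (c i j1) = μ i / e y (c i j0) := sub_eq_zero.1 h6
          have ha := hene (c i j1)
          have hb := hene (c i j0)
          field_simp at h7
          exact (mul_left_cancel₀ (hμne i) h7).symm
      have h8 : ∑ j ∈ s, g j • v j = 0 :=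
        Finset.sum_eq_zero (fun j hj => by rw [hs j hj, zero_smul])
      rw [h8, add_zero] at hg
      have h9 : g j0 = 0 := by
        rcases smul_eq_zero.1 hg with h | h
        · exact h
        · exact absurd h (hv0 j0)
      intro j hj
      rcases Finset.mem_insert.1 hj with rfl | hj'
      · exact h9
      · exact hs j hj'
  have hli : LinearIndependent ℂ (fun j : Fin N => (⟨v j, hvE j⟩ : E)) := by
    apply LinearIndependent.of_comp E.subtype
    have h1 : (E.subtype ∘ fun j : Fin N => (⟨v j, hvE j⟩ : E)) = v := by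
      funext j
      rfl
    rw [h1]
    exact hliV
  have h10 := hli.fintype_card_le_finrank
  simpa using h10

end Cfsg.Agent.Lib.helper44.SUW
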