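import Mathlib
import Cfsg.Prelude.Def_Classical
import Cfsg.Agent.Lib.helper17.UEichler
import Cfsg.Agent.Lib.helper44.SUODefs

/-! S2334 split (architect helper44), piece OXMEM, racing copy (helper8): `xtMat` is an Eichler
element `eichlerU`, hence has determinant one and preserves the Hermitian form. -/

set_option autoImplicit false

namespace Cfsg.Agent.Lib.helper44.SUW

open Matrix Cfsg

/-- the vector `F t = (t, ε t, 0)` -/
def h8_vhat {K : Type*} [Field K] (ε : K) {m : ℕ} (t : Fin m → K) : Fin (m + m + 1) → K :=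
  fun i => Sum.elim (Sum.elim t (fun j => ε * t j)) (fun _ => 0) (e3 m i)

/-- the last basis vector -/
def h8_dhat (K : Type*) [Field K] (m : ℕ) : Fin (m + m + 1) → K :=
  fun i => Sum.elim (fun _ => 0) (fun _ => 1) (e3 m i)

theorem h8_xtMat_eq {K : Type*} [Field K] {q m : ℕ}
    (σ : K →+* K) (hσ : ∀ x, σ x = x ^ q) (ε η : K) (hε : ε * σ ε = -1) (t : Fin m → K) :
    xtMat σ ε η t = Cfsg.Agent.Lib.helper17.eichlerU (m + m + 1) q (fun i => - h8_vhat ε t i)
      (h8_dhat K m) (-η) := by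
  unfold Cfsg.Agent.Lib.helper17.eichlerU xtMat
  ext i j
  have hij : (i = j) ↔ (e3 m i = e3 m j) := (e3 m).injective.eq_iff.symm
  simp only [Matrix.submatrix_apply, Matrix.add_apply, Matrix.sub_apply, Matrix.smul_apply,
    Matrix.one_apply, Matrix.vecMulVec_apply, h8_vhat, h8_dhat, ← hσ, smul_eq_mul, hij]
  generalize e3 m i = a
  generalize e3 m j = b
  rcases a with (a | a) | a <;> rcases b with (b | b) | b <;>
    simp only [Matrix.fromBlocks, Matrix.of_apply, Sum.elim_inl, Sum.elim_inr, Matrix.add_apply,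
      Matrix.sub_apply, Matrix.one_apply, Matrix.smul_apply, Matrix.vecMulVec_apply, smul_eq_mul,
      map_neg, map_zero, map_one, map_mul, Sum.inl.injEq, Sum.inr.injEq, reduceCtorEq, if_false]
  · ring
  · ring
  · ring
  · ring
  · linear_combination (η * t a * σ (t b)) * hε
  · ring
  · ring
  · ring
  · ring

/-- OXMEM (racing copy): `xtMat` has determinant one and preserves the Hermitian form. -/
theorem h8_xtMat_mem {K : Type*} [Field K] [Fintype K] {q m : ℕ} (hK : Fintype.card K = q ^ 2)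
    (σ : K →+* K) (hσ : ∀ x, σ x = x ^ q) (ε η : K) (hε : ε * σ ε = -1) (hη : η + σ η = 1)
    (t : Fin m → K) :
    (xtMat σ ε η t).det = 1 ∧ ∀ u v : Fin (m + m + 1) → K,
      Cfsg.hermForm (m + m + 1) K q (xtMat σ ε η t *ᵥ u) (xtMat σ ε η t *ᵥ v) =
        Cfsg.hermForm (m + m + 1) K q u v := by
  have hsum : ∀ g : (Fin m ⊕ Fin m) ⊕ Fin 1 → K,
      ∑ i : Fin (m + m + 1), g (e3 m i) = ∑ s, g s := fun g => Equiv.sum_comp (e3 m) g
  have hvv : Cfsg.hermForm (m + m + 1) K q (fun i => - h8_vhat ε t i)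
      (fun i => - h8_vhat ε t i) = 0 := by
    unfold Cfsg.hermForm h8_vhat
    rw [hsum (fun s => - Sum.elim (Sum.elim t (fun j => ε * t j)) (fun _ => 0) s *
      (- Sum.elim (Sum.elim t (fun j => ε * t j)) (fun _ => 0) s) ^ q)]
    simp only [Fintype.sum_sum_type, Sum.elim_inl, Sum.elim_inr, ← hσ, map_neg, map_mul, map_zero,
      neg_zero, mul_zero, Finset.sum_const_zero, add_zero, ← Finset.sum_add_distrib]
    apply Finset.sum_eq_zero
    intro a _
    linear_combination (t a * σ (t a)) * hε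
  have hyv : Cfsg.hermForm (m + m + 1) K q (h8_dhat K m) (fun i => - h8_vhat ε t i) = 0 := by
    unfold Cfsg.hermForm h8_vhat h8_dhat
    rw [hsum (fun s => Sum.elim (fun _ => (0 : K)) (fun _ => 1) s *
      (- Sum.elim (Sum.elim t (fun j => ε * t j)) (fun _ => 0) s) ^ q)]
    simp only [Fintype.sum_sum_type, Sum.elim_inl, Sum.elim_inr, ← hσ, map_neg, map_zero,
      neg_zero, mul_zero, zero_mul, Finset.sum_const_zero, add_zero]
  have hvy : Cfsg.hermForm (m + m + 1) K q (fun i => - h8_vhat ε t i) (h8_dhat K m) = 0 := by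
    unfold Cfsg.hermForm h8_vhat h8_dhat
    rw [hsum (fun s => - Sum.elim (Sum.elim t (fun j => ε * t j)) (fun _ => 0) s *
      (Sum.elim (fun _ => (0 : K)) (fun _ => 1) s) ^ q)]
    simp only [Fintype.sum_sum_type, Sum.elim_inl, Sum.elim_inr, ← hσ, map_zero,
      neg_zero, mul_zero, zero_mul, Finset.sum_const_zero, add_zero]
  have hyy : Cfsg.hermForm (m + m + 1) K q (h8_dhat K m) (h8_dhat K m) = 1 := by
    unfold Cfsg.hermForm h8_dhat
    rw [hsum (fun s => Sum.elim (fun _ => (0 : K)) (fun _ => 1) s *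
      (Sum.elim (fun _ => (0 : K)) (fun _ => 1) s) ^ q)]
    simp only [Fintype.sum_sum_type, Sum.elim_inl, Sum.elim_inr, ← hσ, map_zero, map_one,
      mul_zero, mul_one, Finset.sum_const_zero, zero_add, Finset.univ_unique,
      Finset.sum_const, Finset.card_singleton, one_smul]
  have hβ : (-η) + (-η) ^ q + Cfsg.hermForm (m + m + 1) K q (h8_dhat K m) (h8_dhat K m) = 0 := by
    rw [hyy, ← hσ, map_neg]
    linear_combination (-1 : K) * hη
  rw [h8_xtMat_eq σ hσ ε η hε t]
  exact ⟨Cfsg.Agent.Lib.helper17.eichlerU_det _ _ _ _ _ hvv hyv hvy,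
    fun u v => Cfsg.Agent.Lib.helper17.eichlerU_preserves hK _ _ _ _ hvv hyv hβ u v⟩

end Cfsg.Agent.Lib.helper44.SUW
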