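/-
Subgroups of the Suzuki group, part 1: involutions, the dihedral argument, tori, subgroups fixing a
point, and subgroups all of whose Sylow subgroups are cyclic.
-/
import Cfsg.Agent.Lib.helper8.SzAut4
import Cfsg.Agent.S0331

set_option autoImplicit false

namespace Cfsg.Agent.Lib.helper8

open Matrix
open scoped Pointwise

variable {F : Type*} [Field F] [Fintype F]

/-- An involution fixes at most one point of the ovoid. -/
theorem invol_fix_unique {m : ℕ} (hm : 1 ≤ m) (hF : Fintype.card F = 2 ^ (2 * m + 1))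
    {z : Matrix.SpecialLinearGroup (Fin 4) F} (hz : z ∈ Cfsg.Sz F m) (hz1 : z ≠ 1)
    (hz2 : z * z = 1) {p p' : Projectivization F (Fin 4 → F)}
    (hp : p ∈ Cfsg.suzukiOvoid F m) (hp' : p' ∈ Cfsg.suzukiOvoid F m)
    (hfix : z • p = p) (hfix' : z • p' = p') : p = p' := by
  have h := szHyp_of_card hF
  rcases fix_classify hm hF hz hz1 hp hfix with ⟨k, hk, a, b, hab, e⟩ | ⟨k, hk, w, hw, e⟩
  · have e1 : sT m a b • (k • p) = k • p := by
      rw [← e, mul_smul, mul_smul, inv_smul_smul, hfix]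
    have e2 : sT m a b • (k • p') = k • p' := by
      rw [← e, mul_smul, mul_smul, inv_smul_smul, hfix']
    have h1 := sT_fix' h hab (smul_mem_ovoid hk hp) e1
    have h2 := sT_fix' h hab (smul_mem_ovoid hk hp') e2
    exact MulAction.injective k (h1.trans h2.symm)
  · exfalso
    have e1 : sD m (w * w) = 1 := by
      rw [sD_mul, ← e]
      calc k * z * k⁻¹ * (k * z * k⁻¹) = k * (z * z) * k⁻¹ := by group
        _ = 1 := by rw [hz2]; group
    have e2 : w * w = 1 := sD_inj m (by rw [e1, sD_one])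
    exact hw (units_eq_one_of_sq h.two e2)

/-- An involution fixes a point of the ovoid. -/
theorem invol_exists_fix {m : ℕ} (hm : 1 ≤ m) (hF : Fintype.card F = 2 ^ (2 * m + 1))
    {z : Matrix.SpecialLinearGroup (Fin 4) F} (hz : z ∈ Cfsg.Sz F m) (hz2 : z * z = 1) :
    ∃ p ∈ Cfsg.suzukiOvoid F m, z • p = p := by
  by_contra hcon
  have hfpf : IsFpf m z := fun p hp hfix => hcon ⟨p, hp, hfix⟩
  have : Fact (Nat.Prime 2) := ⟨Nat.prime_two⟩
  have hd := fpf_prime_dvd hF hz hfpf (p := 2) (by rw [pow_two]; exact hz2)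
  have h2' : 2 ∣ (2 ^ (2 * m + 1)) ^ 2 := dvd_pow (dvd_pow_self 2 (by omega)) (by norm_num)
  have := (Nat.dvd_add_right h2').1 hd
  omega

/-- An element commuting with an involution fixes its fixed point. -/
theorem comm_fix {m : ℕ} (hm : 1 ≤ m) (hF : Fintype.card F = 2 ^ (2 * m + 1))
    {z u : Matrix.SpecialLinearGroup (Fin 4) F} (hz : z ∈ Cfsg.Sz F m) (hu : u ∈ Cfsg.Sz F m)
    (hu1 : u ≠ 1) (hu2 : u * u = 1) (hcomm : z * u = u * z)
    {p : Projectivization F (Fin 4 → F)} (hp : p ∈ Cfsg.suzukiOvoid F m) (hfix : u • p = p) :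
    z • p = p := by
  have e : u • (z • p) = z • p := by rw [← mul_smul, ← hcomm, mul_smul, hfix]
  exact invol_fix_unique hm hF hu hu1 hu2 (smul_mem_ovoid hz hp) hp e hfix

/-- The dihedral argument: two involutions fixing different points are conjugate by an involution
of the subgroup they generate, which interchanges the two points. -/
theorem dihedral_conj {m : ℕ} (hm : 1 ≤ m) (hF : Fintype.card F = 2 ^ (2 * m + 1))
    {u v : ↥(Cfsg.Sz F m)} (hu1 : u ≠ 1) (hu2 : u * u = 1) (hv1 : v ≠ 1) (hv2 : v * v = 1)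
    {α β : Projectivization F (Fin 4 → F)} (hα : α ∈ Cfsg.suzukiOvoid F m)
    (hβ : β ∈ Cfsg.suzukiOvoid F m) (hαβ : α ≠ β) (huα : u.1 • α = α) (hvβ : v.1 • β = β) :
    ∃ k : ℕ, ((u * v) ^ k * u) * ((u * v) ^ k * u) = 1 ∧
      ((u * v) ^ k * u) * u * ((u * v) ^ k * u)⁻¹ = v ∧
      ((u * v) ^ k * u).1 • α = β ∧ ((u * v) ^ k * u).1 • β = α := by
  have huinv : u⁻¹ = u := inv_eq_of_mul_eq_one_right hu2
  have hvinv : v⁻¹ = v := inv_eq_of_mul_eq_one_right hv2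
  have hxinv : (u * v)⁻¹ = v * u := by rw [_root_.mul_inv_rev, huinv, hvinv]
  have hux : ∀ j : ℕ, u * (u * v) ^ j * u = ((u * v) ^ j)⁻¹ := by
    intro j
    have e1 : u * (u * v) ^ j * u = (u * (u * v) * u⁻¹) ^ j := by rw [conj_pow, huinv]
    have e2 : u * (u * v) * u⁻¹ = (u * v)⁻¹ := by
      rw [hxinv, huinv]
      calc u * (u * v) * u = (u * u) * v * u := by group
        _ = v * u := by rw [hu2, one_mul]
    rw [e1, e2, inv_pow]
  have hvx : ∀ j : ℕ, v * (u * v) ^ j * v = ((u * v) ^ j)⁻¹ := by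
    intro j
    have e1 : v * (u * v) ^ j * v = (v * (u * v) * v⁻¹) ^ j := by rw [conj_pow, hvinv]
    have e2 : v * (u * v) * v⁻¹ = (u * v)⁻¹ := by
      rw [hxinv, hvinv]
      calc v * (u * v) * v = v * u * (v * v) := by group
        _ = v * u := by rw [hv2, mul_one]
    rw [e1, e2, inv_pow]
  have hpos : 0 < orderOf (u * v) := orderOf_pos (u * v)
  have hodd : ¬ 2 ∣ orderOf (u * v) := by
    rintro ⟨j, hj⟩
    have hz1 : (u * v) ^ j ≠ 1 := pow_ne_one_of_lt_orderOf (by omega) (by omega)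
    have hz2 : (u * v) ^ j * (u * v) ^ j = 1 := by
      rw [← pow_add, ← two_mul, ← hj, pow_orderOf_eq_one]
    have hzinv : ((u * v) ^ j)⁻¹ = (u * v) ^ j := inv_eq_of_mul_eq_one_right hz2
    have hzu : (u * v) ^ j * u = u * (u * v) ^ j := by
      have e := hux j
      rw [hzinv] at e
      calc (u * v) ^ j * u = (u * (u * v) ^ j * u) * u := by rw [e]
        _ = u * (u * v) ^ j * (u * u) := by group
        _ = u * (u * v) ^ j := by rw [hu2, mul_one]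
    have hzv : (u * v) ^ j * v = v * (u * v) ^ j := by
      have e := hvx j
      rw [hzinv] at e
      calc (u * v) ^ j * v = (v * (u * v) ^ j * v) * v := by rw [e]
        _ = v * (u * v) ^ j * (v * v) := by group
        _ = v * (u * v) ^ j := by rw [hv2, mul_one]
    have hu1' : u.1 ≠ 1 := fun e => hu1 (Subtype.ext e)
    have hv1' : v.1 ≠ 1 := fun e => hv1 (Subtype.ext e)
    have hu2' : u.1 * u.1 = 1 := congrArg Subtype.val hu2
    have hv2' : v.1 * v.1 = 1 := congrArg Subtype.val hv2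
    have f1 := comm_fix hm hF ((u * v) ^ j).2 u.2 hu1' hu2' (congrArg Subtype.val hzu) hα huα
    have f2 := comm_fix hm hF ((u * v) ^ j).2 v.2 hv1' hv2' (congrArg Subtype.val hzv) hβ hvβ
    exact hαβ (invol_fix_unique hm hF ((u * v) ^ j).2 (fun e => hz1 (Subtype.ext e))
      (congrArg Subtype.val hz2) hα hβ f1 f2)
  obtain ⟨k, hk⟩ : ∃ k, orderOf (u * v) = 2 * k + 1 := ⟨orderOf (u * v) / 2, by omega⟩
  have hx2k : (u * v) ^ (2 * k) = v * u := by
    have e : (u * v) ^ (2 * k) * (u * v) = 1 := by rw [← pow_succ, ← hk, pow_orderOf_eq_one]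
    rw [← hxinv]
    exact eq_inv_of_mul_eq_one_left e
  have hcu : (u * v) ^ k * u * ((u * v) ^ k)⁻¹ = v := by
    have e := hux k
    calc (u * v) ^ k * u * ((u * v) ^ k)⁻¹ = (u * v) ^ k * u * (u * (u * v) ^ k * u) := by rw [e]
      _ = (u * v) ^ k * (u * u) * (u * v) ^ k * u := by group
      _ = (u * v) ^ (2 * k) * u := by rw [hu2, mul_one, ← pow_add, ← two_mul]
      _ = v * (u * u) := by rw [hx2k]; group
      _ = v := by rw [hu2, mul_one]
  have ht2 : ((u * v) ^ k * u) * ((u * v) ^ k * u) = 1 := by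
    have e := hux k
    calc ((u * v) ^ k * u) * ((u * v) ^ k * u) = (u * v) ^ k * (u * (u * v) ^ k * u) := by group
      _ = 1 := by rw [e, mul_inv_cancel]
  have htu : ((u * v) ^ k * u) * u * ((u * v) ^ k * u)⁻¹ = v := by
    calc ((u * v) ^ k * u) * u * ((u * v) ^ k * u)⁻¹
        = (u * v) ^ k * u * ((u * v) ^ k)⁻¹ := by group
      _ = v := hcu
  have e1 : v * ((u * v) ^ k * u) = ((u * v) ^ k * u) * u := by
    calc v * ((u * v) ^ k * u)
        = (((u * v) ^ k * u) * u * ((u * v) ^ k * u)⁻¹) * ((u * v) ^ k * u) := by rw [htu]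
      _ = ((u * v) ^ k * u) * u := by group
  refine ⟨k, ht2, htu, ?_, ?_⟩
  · have e2 : v.1 • (((u * v) ^ k * u).1 • α) = ((u * v) ^ k * u).1 • α := by
      rw [← mul_smul]
      have := congrArg Subtype.val e1
      rw [Subgroup.coe_mul, Subgroup.coe_mul (Cfsg.Sz F m) ((u * v) ^ k * u) u] at this
      rw [this, mul_smul, huα]
    exact invol_fix_unique hm hF v.2 (fun e => hv1 (Subtype.ext e)) (congrArg Subtype.val hv2)
      (smul_mem_ovoid ((u * v) ^ k * u).2 hα) hβ e2 hvβ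
  · have e2 : v.1 • (((u * v) ^ k * u).1 • α) = ((u * v) ^ k * u).1 • α := by
      rw [← mul_smul]
      have := congrArg Subtype.val e1
      rw [Subgroup.coe_mul, Subgroup.coe_mul (Cfsg.Sz F m) ((u * v) ^ k * u) u] at this
      rw [this, mul_smul, huα]
    have e3 : ((u * v) ^ k * u).1 • α = β :=
      invol_fix_unique hm hF v.2 (fun e => hv1 (Subtype.ext e)) (congrArg Subtype.val hv2)
        (smul_mem_ovoid ((u * v) ^ k * u).2 hα) hβ e2 hvβ
    have e4 := congrArg Subtype.val ht2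
    rw [Subgroup.coe_mul] at e4
    rw [← e3, ← mul_smul, e4]
    exact one_smul _ _

/-- Bender's lemma: in a subgroup, two involutions fixing the same point `α` are conjugate under
the stabiliser of `α` and `β`, for any point `β ≠ α` fixed by some involution of the subgroup. -/
theorem exists_conj_fix_two {m : ℕ} (hm : 1 ≤ m) (hF : Fintype.card F = 2 ^ (2 * m + 1))
    (M : Subgroup ↥(Cfsg.Sz F m)) {u₀ u v₀ : ↥(Cfsg.Sz F m)}
    (hu₀M : u₀ ∈ M) (hu₀1 : u₀ ≠ 1) (hu₀2 : u₀ * u₀ = 1)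
    (huM : u ∈ M) (hu1 : u ≠ 1) (hu2 : u * u = 1)
    (hv₀M : v₀ ∈ M) (hv₀1 : v₀ ≠ 1) (hv₀2 : v₀ * v₀ = 1)
    {α β : Projectivization F (Fin 4 → F)} (hα : α ∈ Cfsg.suzukiOvoid F m)
    (hβ : β ∈ Cfsg.suzukiOvoid F m) (hαβ : α ≠ β) (hu₀α : u₀.1 • α = α) (huα : u.1 • α = α)
    (hv₀β : v₀.1 • β = β) :
    ∃ c ∈ M, c.1 • α = α ∧ c.1 • β = β ∧ c * u₀ * c⁻¹ = u := by
  obtain ⟨k₁, -, h1c, h1α, h1β⟩ := dihedral_conj hm hF hu₀1 hu₀2 hv₀1 hv₀2 hα hβ hαβ hu₀α hv₀β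
  obtain ⟨k₂, -, h2c, h2α, h2β⟩ := dihedral_conj hm hF hu1 hu2 hv₀1 hv₀2 hα hβ hαβ huα hv₀β
  have ht₁ : (u₀ * v₀) ^ k₁ * u₀ ∈ M := mul_mem (pow_mem (mul_mem hu₀M hv₀M) _) hu₀M
  have ht₂ : (u * v₀) ^ k₂ * u ∈ M := mul_mem (pow_mem (mul_mem huM hv₀M) _) huM
  refine ⟨((u * v₀) ^ k₂ * u)⁻¹ * ((u₀ * v₀) ^ k₁ * u₀), mul_mem (inv_mem ht₂) ht₁, ?_, ?_, ?_⟩
  · show (((u * v₀) ^ k₂ * u).1⁻¹ * ((u₀ * v₀) ^ k₁ * u₀).1) • α = α
    rw [mul_smul, h1α, inv_smul_eq_iff, h2α]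
  · show (((u * v₀) ^ k₂ * u).1⁻¹ * ((u₀ * v₀) ^ k₁ * u₀).1) • β = β
    rw [mul_smul, h1β, inv_smul_eq_iff, h2β]
  · calc ((u * v₀) ^ k₂ * u)⁻¹ * ((u₀ * v₀) ^ k₁ * u₀) * u₀ *
          (((u * v₀) ^ k₂ * u)⁻¹ * ((u₀ * v₀) ^ k₁ * u₀))⁻¹
        = ((u * v₀) ^ k₂ * u)⁻¹ * (((u₀ * v₀) ^ k₁ * u₀) * u₀ * ((u₀ * v₀) ^ k₁ * u₀)⁻¹) *
            ((u * v₀) ^ k₂ * u) := by group
      _ = ((u * v₀) ^ k₂ * u)⁻¹ * (((u * v₀) ^ k₂ * u) * u * ((u * v₀) ^ k₂ * u)⁻¹) *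
            ((u * v₀) ^ k₂ * u) := by rw [h1c, h2c]
      _ = u := by group

/-- Elements outside the Sylow `2`-subgroups have a cyclic centraliser of torus order. -/
theorem cent_torus {m : ℕ} (hm : 1 ≤ m) (hF : Fintype.card F = 2 ^ (2 * m + 1))
    (x : ↥(Cfsg.Sz F m)) (hx4 : x ^ 4 ≠ 1) :
    IsCyclic ↥(Subgroup.centralizer ({x} : Set ↥(Cfsg.Sz F m))) ∧
    Nat.card ↥(Subgroup.centralizer ({x} : Set ↥(Cfsg.Sz F m))) ∈
      ({2 ^ (2 * m + 1) - 1, 2 ^ (2 * m + 1) + 2 ^ (m + 1) + 1,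
        2 ^ (2 * m + 1) - 2 ^ (m + 1) + 1} : Set ℕ) := by
  have h := szHyp_of_card hF
  have hx1 : x ≠ 1 := fun e => hx4 (by rw [e, one_pow])
  by_cases hfpf : IsFpf m x.1
  · refine ⟨cent_cyclic_fpf hm hF x hfpf, ?_⟩
    rcases card_cent_fpf hm hF x hfpf with e | e
    · rw [e]; simp
    · rw [e]; simp
  · obtain ⟨p, hp, hfix⟩ : ∃ p ∈ Cfsg.suzukiOvoid F m, x.1 • p = p := by
      by_contra hcon
      exact hfpf (fun p hp hfix => hcon ⟨p, hp, hfix⟩)
    rcases fix_classify hm hF x.2 (fun e => hx1 (Subtype.ext e)) hp hfix with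
      ⟨k, hk, a, b, hab, e⟩ | ⟨k, hk, z, hz, e⟩
    · exfalso
      apply hx4
      apply Subtype.ext
      have e2 : k * x.1 ^ 4 * k⁻¹ = 1 := by rw [← conj_pow, e, sT_pow_four h]
      rw [Subgroup.coe_pow]
      exact eq_one_of_conj_eq_one e2
    · refine ⟨cent_cyclic_torus hm hF x hk hz e, ?_⟩
      rw [card_cent_torus hm hF x hk hz e]
      simp

/-- The centraliser of a non-trivial element of a torus is the torus. -/
theorem cent_eq_of_mem {m : ℕ} (hm : 1 ≤ m) (hF : Fintype.card F = 2 ^ (2 * m + 1))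
    (x : ↥(Cfsg.Sz F m)) (hx4 : x ^ 4 ≠ 1) {v : ↥(Cfsg.Sz F m)}
    (hv : v ∈ Subgroup.centralizer ({x} : Set ↥(Cfsg.Sz F m))) (hv1 : v ≠ 1) :
    Subgroup.centralizer ({v} : Set ↥(Cfsg.Sz F m)) =
      Subgroup.centralizer ({x} : Set ↥(Cfsg.Sz F m)) := by
  obtain ⟨hcyc, hcard⟩ := cent_torus hm hF x hx4
  have hv4 : v ^ 4 ≠ 1 := by
    intro e4
    have h1 : orderOf v ∣ 2 ^ 2 := orderOf_dvd_of_pow_eq_one e4
    have h2 : orderOf v ∣ Nat.card (Subgroup.centralizer ({x} : Set ↥(Cfsg.Sz F m))) := by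
      have := orderOf_dvd_natCard (⟨v, hv⟩ : Subgroup.centralizer ({x} : Set ↥(Cfsg.Sz F m)))
      rwa [Subgroup.orderOf_mk] at this
    have hodd := tori_odd hm hcard
    have hcop : Nat.Coprime (Nat.card (Subgroup.centralizer ({x} : Set ↥(Cfsg.Sz F m))))
        (2 ^ 2) :=
      Nat.Coprime.pow_right 2
        (Nat.coprime_comm.1 ((Nat.Prime.coprime_iff_not_dvd Nat.prime_two).2 hodd))
    have h3 : orderOf v ∣ Nat.gcd (Nat.card (Subgroup.centralizer ({x} : Set ↥(Cfsg.Sz F m))))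
        (2 ^ 2) := Nat.dvd_gcd h2 h1
    rw [hcop] at h3
    exact hv1 (orderOf_eq_one_iff.1 (Nat.dvd_one.1 h3))
  obtain ⟨hcyc', hcard'⟩ := cent_torus hm hF v hv4
  have hvC : v ∈ Subgroup.centralizer ({v} : Set ↥(Cfsg.Sz F m)) :=
    Subgroup.mem_centralizer_iff.2 (fun y hy => by rw [Set.mem_singleton_iff.1 hy])
  exact (sz_partition hm hF v hv1).unique ⟨Or.inr ⟨hcyc', hcard'⟩, hvC⟩
    ⟨Or.inr ⟨hcyc, hcard⟩, hv⟩

/-- A `2`-element fixing `∞` is a translation. -/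
theorem two_elt_at_inf {m : ℕ} (hm : 1 ≤ m) (hF : Fintype.card F = 2 ^ (2 * m + 1))
    {y : Matrix.SpecialLinearGroup (Fin 4) F} (hy : y ∈ Cfsg.Sz F m) (hy4 : y ^ 4 = 1)
    (hfix : y • (pinf : Projectivization F (Fin 4 → F)) = pinf) : ∃ a b : F, y = sT m a b := by
  have h := szHyp_of_card hF
  by_cases hy1 : y = 1
  · exact ⟨0, 0, by rw [hy1, sT_zero]⟩
  rcases fix_classify hm hF hy hy1 (pinf_mem m) hfix with ⟨k, hk, a, b, hab, e⟩ | ⟨k, hk, w, hw, e⟩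
  · have e1 : sT m a b • (k • (pinf : Projectivization F (Fin 4 → F))) = k • pinf := by
      rw [← e, mul_smul, mul_smul, inv_smul_smul, hfix]
    have hkinf := sT_fix' h hab (smul_mem_ovoid hk (pinf_mem m)) e1
    obtain ⟨a', b', e'⟩ := conj_T_of_fix' hm hF hk hkinf a b
    refine ⟨a', b', ?_⟩
    rw [← e', ← e]
    group
  · exfalso
    have e1 : sD m (w * w * (w * w)) = 1 := by
      rw [sD_mul, sD_mul, ← e]
      have hy4' : y * y * y * y = 1 := by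
        rw [← hy4, pow_succ, pow_succ, pow_succ, pow_one]
      calc k * y * k⁻¹ * (k * y * k⁻¹) * (k * y * k⁻¹ * (k * y * k⁻¹))
          = k * (y * y * y * y) * k⁻¹ := by group
        _ = 1 := by rw [hy4']; group
    have e2 : w * w * (w * w) = 1 := sD_inj m (by rw [e1, sD_one])
    have e3 : w * w = 1 := units_eq_one_of_sq h.two e2
    exact hw (units_eq_one_of_sq h.two e3)

/-- An involution fixing `∞` is a central translation. -/
theorem invol_at_inf {m : ℕ} (hm : 1 ≤ m) (hF : Fintype.card F = 2 ^ (2 * m + 1))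
    {u : ↥(Cfsg.Sz F m)} (hu1 : u ≠ 1) (hu2 : u * u = 1)
    (hfix : u.1 • (pinf : Projectivization F (Fin 4 → F)) = pinf) :
    ∃ b : F, b ≠ 0 ∧ u = gT (szHyp_of_card hF) 0 b := by
  have h := szHyp_of_card hF
  have hu2' : u.1 * u.1 = 1 := congrArg Subtype.val hu2
  have hu4 : u.1 ^ 4 = 1 := by
    calc u.1 ^ 4 = (u.1 * u.1) * (u.1 * u.1) := by
          rw [pow_succ, pow_succ, pow_succ, pow_one, mul_assoc, mul_assoc]
      _ = 1 := by rw [hu2', mul_one]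
  obtain ⟨a, b, e⟩ := two_elt_at_inf hm hF u.2 hu4 hfix
  have e2 : sT m a b * sT m a b = 1 := by rw [← e]; exact hu2'
  rw [sT_mul h, sT_eq_one_iff h] at e2
  have ha : a = 0 := by
    have := e2.2
    rw [add_self_of_two h.two, zero_add] at this
    rcases mul_eq_zero.1 this with h1 | h1
    · exact th_eq_zero.1 h1
    · exact h1
  subst ha
  refine ⟨b, ?_, Subtype.ext e⟩
  rintro rfl
  exact hu1 (Subtype.ext (by rw [e, sT_zero]; rfl))

/-- A subgroup fixing a point of the ovoid normalises a Sylow `2`-subgroup. -/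
theorem le_normalizer_of_fix {m : ℕ} (hm : 1 ≤ m) (hF : Fintype.card F = 2 ^ (2 * m + 1))
    (M : Subgroup ↥(Cfsg.Sz F m)) {p : Projectivization F (Fin 4 → F)}
    (hp : p ∈ Cfsg.suzukiOvoid F m) (hfix : ∀ g ∈ M, g.1 • p = p) :
    ∃ P : Sylow 2 ↥(Cfsg.Sz F m),
      M ≤ Subgroup.normalizer ((P : Subgroup ↥(Cfsg.Sz F m)) : Set ↥(Cfsg.Sz F m)) := by
  have h := szHyp_of_card hF
  have : Fact (Nat.Prime 2) := ⟨Nat.prime_two⟩
  obtain ⟨k, hk, hkp⟩ := exists_to_inf h hp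
  have hmem : ∀ x : ↥(Cfsg.Sz F m),
      x ∈ (((⟨k, hk⟩ : ↥(Cfsg.Sz F m))⁻¹ • sylT hm hF : Sylow 2 ↥(Cfsg.Sz F m)) :
        Subgroup ↥(Cfsg.Sz F m)) ↔ ∃ a b : F, k * x.1 * k⁻¹ = sT m a b := by
    intro x
    rw [Sylow.coe_subgroup_smul, Subgroup.mem_pointwise_smul_iff_inv_smul_mem, MulAut.smul_def,
      MulAut.conj_inv_apply, coe_sylT, mem_subT, inv_inv]
    rfl
  refine ⟨(⟨k, hk⟩ : ↥(Cfsg.Sz F m))⁻¹ • sylT hm hF, ?_⟩
  intro g hg
  have hgfix : (k * g.1 * k⁻¹) • (pinf : Projectivization F (Fin 4 → F)) = pinf := by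
    rw [mul_smul, mul_smul, ← hkp, inv_smul_smul, hfix g hg]
  have hgS : k * g.1 * k⁻¹ ∈ Cfsg.Sz F m := mul_mem (mul_mem hk g.2) (inv_mem hk)
  rw [Subgroup.mem_normalizer_iff]
  intro x
  show x ∈ (((⟨k, hk⟩ : ↥(Cfsg.Sz F m))⁻¹ • sylT hm hF : Sylow 2 ↥(Cfsg.Sz F m)) :
        Subgroup ↥(Cfsg.Sz F m)) ↔ g * x * g⁻¹ ∈ (((⟨k, hk⟩ : ↥(Cfsg.Sz F m))⁻¹ • sylT hm hF :
        Sylow 2 ↥(Cfsg.Sz F m)) : Subgroup ↥(Cfsg.Sz F m))
  rw [hmem, hmem]
  constructor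
  · rintro ⟨a, b, e⟩
    obtain ⟨a', b', e'⟩ := conj_T_of_fix hm hF hgS hgfix a b
    refine ⟨a', b', ?_⟩
    rw [← e', ← e]
    show k * (g.1 * x.1 * g.1⁻¹) * k⁻¹ = _
    group
  · rintro ⟨a, b, e⟩
    obtain ⟨a', b', e'⟩ := conj_T_of_fix' hm hF hgS hgfix a b
    refine ⟨a', b', ?_⟩
    rw [← e', ← e]
    show _ = (k * g.1 * k⁻¹)⁻¹ * (k * (g.1 * x.1 * g.1⁻¹) * k⁻¹) * (k * g.1 * k⁻¹)
    group

/-- A subgroup without fixed point having a non-trivial abelian normal subgroup normalises a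
torus. -/
theorem le_normalizer_of_abelian_normal {m : ℕ} (hm : 1 ≤ m)
    (hF : Fintype.card F = 2 ^ (2 * m + 1)) (M A : Subgroup ↥(Cfsg.Sz F m))
    (hab : ∀ a ∈ A, ∀ b ∈ A, a * b = b * a)
    (hnorm : ∀ g ∈ M, ∀ a ∈ A, g * a * g⁻¹ ∈ A)
    {x : ↥(Cfsg.Sz F m)} (hxA : x ∈ A) (hx1 : x ≠ 1)
    (hnofix : ∀ p ∈ Cfsg.suzukiOvoid F m, ∃ g ∈ M, g.1 • p ≠ p) :
    ∃ U : Subgroup ↥(Cfsg.Sz F m), IsCyclic ↥U ∧
      Nat.card ↥U ∈ ({2 ^ (2 * m + 1) - 1, 2 ^ (2 * m + 1) + 2 ^ (m + 1) + 1,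
        2 ^ (2 * m + 1) - 2 ^ (m + 1) + 1} : Set ℕ) ∧
      M ≤ Subgroup.normalizer (U : Set ↥(Cfsg.Sz F m)) := by
  by_cases hx4 : x ^ 4 = 1
  · exfalso
    obtain ⟨w, hwA, hw1, hw2⟩ : ∃ w ∈ A, w ≠ 1 ∧ w * w = 1 := by
      by_cases hx2 : x * x = 1
      · exact ⟨x, hxA, hx1, hx2⟩
      · refine ⟨x * x, mul_mem hxA hxA, hx2, ?_⟩
        rw [← hx4]
        simp only [pow_succ, pow_zero, one_mul, mul_assoc]
    obtain ⟨p, hp, hwp⟩ := invol_exists_fix hm hF w.2 (congrArg Subtype.val hw2)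
    obtain ⟨g, hgM, hgp⟩ := hnofix p hp
    apply hgp
    have hw1' : w.1 ≠ 1 := fun e => hw1 (Subtype.ext e)
    have hw2' : w.1 * w.1 = 1 := congrArg Subtype.val hw2
    have hvA := hnorm g hgM w hwA
    have hcomm := hab _ hvA w hwA
    have f1 : (g * w * g⁻¹).1 • p = p :=
      comm_fix hm hF (g * w * g⁻¹).2 w.2 hw1' hw2' (congrArg Subtype.val hcomm) hp hwp
    have f2 : (g * w * g⁻¹).1 • (g.1 • p) = g.1 • p := by
      show (g.1 * w.1 * g.1⁻¹) • (g.1 • p) = g.1 • p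
      rw [mul_smul, inv_smul_smul, mul_smul, hwp]
    have hv1 : (g * w * g⁻¹).1 ≠ 1 := by
      intro e
      apply hw1
      have : g * w * g⁻¹ = 1 := Subtype.ext e
      exact eq_one_of_conj_eq_one this
    have hv2 : (g * w * g⁻¹).1 * (g * w * g⁻¹).1 = 1 := by
      have : (g * w * g⁻¹) * (g * w * g⁻¹) = 1 := by
        calc (g * w * g⁻¹) * (g * w * g⁻¹) = g * (w * w) * g⁻¹ := by group
          _ = 1 := by rw [hw2]; group
      exact congrArg Subtype.val this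
    exact invol_fix_unique hm hF (g * w * g⁻¹).2 hv1 hv2 (smul_mem_ovoid g.2 hp) hp f2 f1
  · obtain ⟨hcyc, hcard⟩ := cent_torus hm hF x hx4
    refine ⟨Subgroup.centralizer ({x} : Set ↥(Cfsg.Sz F m)), hcyc, hcard, ?_⟩
    intro g hgM
    have hvA := hnorm g hgM x hxA
    have hvC : g * x * g⁻¹ ∈ Subgroup.centralizer ({x} : Set ↥(Cfsg.Sz F m)) := by
      rw [Subgroup.mem_centralizer_iff]
      intro y hy
      rw [Set.mem_singleton_iff.1 hy]
      exact (hab _ hvA x hxA).symm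
    have hv1 : g * x * g⁻¹ ≠ 1 := fun e => hx1 (eq_one_of_conj_eq_one e)
    have hceq := cent_eq_of_mem hm hF x hx4 hvC hv1
    rw [Subgroup.mem_normalizer_iff]
    intro y
    show y ∈ Subgroup.centralizer ({x} : Set ↥(Cfsg.Sz F m)) ↔
      g * y * g⁻¹ ∈ Subgroup.centralizer ({x} : Set ↥(Cfsg.Sz F m))
    constructor
    · intro hy
      have hxy : x * y = y * x := Subgroup.mem_centralizer_iff.1 hy x rfl
      rw [← hceq, Subgroup.mem_centralizer_iff]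
      intro z hz
      rw [Set.mem_singleton_iff.1 hz]
      calc g * x * g⁻¹ * (g * y * g⁻¹) = g * (x * y) * g⁻¹ := by group
        _ = g * (y * x) * g⁻¹ := by rw [hxy]
        _ = g * y * g⁻¹ * (g * x * g⁻¹) := by group
    · intro hy
      rw [← hceq] at hy
      have hxy : g * x * g⁻¹ * (g * y * g⁻¹) = g * y * g⁻¹ * (g * x * g⁻¹) :=
        Subgroup.mem_centralizer_iff.1 hy _ rfl
      rw [Subgroup.mem_centralizer_iff]
      intro z hz
      rw [Set.mem_singleton_iff.1 hz]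
      calc x * y = g⁻¹ * (g * x * g⁻¹ * (g * y * g⁻¹)) * g := by group
        _ = g⁻¹ * (g * y * g⁻¹ * (g * x * g⁻¹)) * g := by rw [hxy]
        _ = y * x := by group

/-- A subgroup all of whose Sylow subgroups are cyclic and which fixes no point of the ovoid
normalises a torus. -/
theorem le_normalizer_of_isZGroup {m : ℕ} (hm : 1 ≤ m) (hF : Fintype.card F = 2 ^ (2 * m + 1))
    (M : Subgroup ↥(Cfsg.Sz F m)) [IsZGroup ↥M]
    (hnofix : ∀ p ∈ Cfsg.suzukiOvoid F m, ∃ g ∈ M, g.1 • p ≠ p) :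
    ∃ U : Subgroup ↥(Cfsg.Sz F m), IsCyclic ↥U ∧
      Nat.card ↥U ∈ ({2 ^ (2 * m + 1) - 1, 2 ^ (2 * m + 1) + 2 ^ (m + 1) + 1,
        2 ^ (2 * m + 1) - 2 ^ (m + 1) + 1} : Set ℕ) ∧
      M ≤ Subgroup.normalizer (U : Set ↥(Cfsg.Sz F m)) := by
  have hcyc : IsCyclic ↥(commutator ↥M) := IsZGroup.isCyclic_commutator ↥M
  by_cases hE : commutator ↥M = ⊥
  · have hab : ∀ a ∈ M, ∀ b ∈ M, a * b = b * a := by
      intro a ha b hb
      rw [commutator_eq_bot_iff_center_eq_top] at hE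
      have h1 : (⟨b, hb⟩ : ↥M) ∈ Subgroup.center ↥M := by rw [hE]; exact Subgroup.mem_top _
      exact congrArg Subtype.val (Subgroup.mem_center_iff.1 h1 ⟨a, ha⟩)
    obtain ⟨x, hxM, hx1⟩ : ∃ x ∈ M, x ≠ 1 := by
      obtain ⟨g, hgM, hgp⟩ := hnofix pinf (pinf_mem m)
      refine ⟨g, hgM, ?_⟩
      rintro rfl
      exact hgp (one_smul _ _)
    exact le_normalizer_of_abelian_normal hm hF M M hab
      (fun g hg a ha => mul_mem (mul_mem hg ha) (inv_mem hg)) hxM hx1 hnofix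
  · obtain ⟨x, hxE, hx1⟩ := (Subgroup.bot_or_exists_ne_one (commutator ↥M)).resolve_left hE
    refine le_normalizer_of_abelian_normal hm hF M ((commutator ↥M).map M.subtype) ?_ ?_
      (x := x.1) ?_ ?_ hnofix
    · rintro _ ⟨a, ha, rfl⟩ _ ⟨b, hb, rfl⟩
      have := comm_of_cyclic (⟨a, ha⟩ : ↥(commutator ↥M)) ⟨b, hb⟩
      exact congrArg (fun t : ↥(commutator ↥M) => t.1.1) this
    · rintro g hg _ ⟨a, ha, rfl⟩
      refine ⟨⟨g, hg⟩ * a * ⟨g, hg⟩⁻¹, ?_, rfl⟩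
      exact (inferInstance : (commutator ↥M).Normal).conj_mem a ha ⟨g, hg⟩
    · exact ⟨x, hxE, rfl⟩
    · intro e
      apply hx1
      apply Subtype.ext
      exact e

/-- A subgroup of the Suzuki group with cyclic Sylow `2`-subgroups has all its Sylow subgroups
cyclic. -/
theorem isZGroup_of_two {m : ℕ} (hm : 1 ≤ m) (hF : Fintype.card F = 2 ^ (2 * m + 1))
    (M : Subgroup ↥(Cfsg.Sz F m)) (h2 : ∀ P : Sylow 2 ↥M, IsCyclic ↥P) : IsZGroup ↥M := by
  refine ⟨fun p hp P => ?_⟩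
  by_cases hp2 : p = 2
  · subst hp2
    exact h2 P
  · have : Fact p.Prime := ⟨hp⟩
    have hPG : IsPGroup p ↥((P : Subgroup ↥M).map M.subtype) := P.isPGroup'.map M.subtype
    obtain ⟨Q, hQ⟩ := hPG.exists_le_sylow
    have hQc : IsCyclic ↥Q := Cfsg.Agent.S0331.result hm hF hp2 Q
    have hc : IsCyclic ↥((P : Subgroup ↥M).map M.subtype) := Subgroup.isCyclic_of_le hQ
    exact isCyclic_of_injective
      ((P : Subgroup ↥M).equivMapOfInjective M.subtype M.subtype_injective).toMonoidHom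
      (MulEquiv.injective _)

end Cfsg.Agent.Lib.helper8
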