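/-
Subgroups of the Suzuki group, part 2: subgroups whose point stabilisers are `2`-groups have
cyclic Sylow `2`-subgroups; normalisation of a subgroup containing an involution interchanging
two points.
-/
import Cfsg.Agent.Lib.helper8.SzSub1

set_option autoImplicit false

namespace Cfsg.Agent.Lib.helper8

open Matrix
open scoped Pointwise

variable {F : Type*} [Field F] [Fintype F]

theorem gT_zero_sq {m : ℕ} (h : SzHyp F m) (c : F) : gT h 0 c * gT h 0 c = 1 := by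
  rw [← gT_zero_add, add_self_of_two h.two, gT_zero_zero]

theorem gT_sq {m : ℕ} (h : SzHyp F m) (a b : F) : gT h a b * gT h a b = gT h 0 (th m a * a) := by
  rw [gT_mul, add_self_of_two h.two, add_self_of_two h.two, zero_add]

/-- A subgroup of the translation group with a unique involution is cyclic. -/
theorem cyc_of_unique_invol {m : ℕ} (h : SzHyp F m) (L : Subgroup ↥(Cfsg.Sz F m))
    (hLT : L ≤ subT h) (u₁ : ↥(Cfsg.Sz F m))
    (huniq : ∀ x ∈ L, x ≠ 1 → x * x = 1 → x = u₁) : IsCyclic ↥L := by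
  have key : ∀ x ∈ L, (∀ y ∈ L, ∃ n : ℕ, y = x ^ n) → IsCyclic ↥L := by
    intro x hx hall
    refine ⟨⟨⟨x, hx⟩, fun y => ?_⟩⟩
    obtain ⟨n, hn⟩ := hall y.1 y.2
    refine ⟨(n : ℤ), ?_⟩
    apply Subtype.ext
    simp [hn]
  by_cases hex : ∃ x ∈ L, x * x ≠ 1
  · obtain ⟨x, hxL, hx2⟩ := hex
    obtain ⟨a, b, rfl⟩ := eq_gT_of_mem_subT h (hLT hxL)
    have hxx := gT_sq h a b
    have hxxu : gT h a b * gT h a b = u₁ := by
      apply huniq _ (mul_mem hxL hxL) hx2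
      rw [hxx, gT_zero_sq]
    apply key (gT h a b) hxL
    intro y hyL
    obtain ⟨c, d, rfl⟩ := eq_gT_of_mem_subT h (hLT hyL)
    by_cases hy2 : gT h c d * gT h c d = 1
    · by_cases hy1 : gT h c d = 1
      · exact ⟨0, by rw [hy1, pow_zero]⟩
      · exact ⟨2, by rw [huniq _ hyL hy1 hy2, ← hxxu, pow_two]⟩
    · have hyy := gT_sq h c d
      have hyyu : gT h c d * gT h c d = u₁ := by
        apply huniq _ (mul_mem hyL hyL) hy2
        rw [hyy, gT_zero_sq]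
      have hca : c = a := by
        have e : gT h 0 (th m c * c) = gT h 0 (th m a * a) := by rw [← hyy, ← hxx, hyyu, hxxu]
        have e2 := gT_zero_inj h e
        apply kappa_injective h
        show c * th m c = a * th m a
        rw [mul_comm c, mul_comm a, e2]
      subst hca
      have hz : gT h c d = gT h 0 (d + b) * gT h c b := by
        rw [gT_mul, th_zero, zero_mul, add_zero, zero_add, add_assoc, add_self_of_two h.two,
          add_zero]
      have hzL : gT h 0 (d + b) ∈ L := by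
        have : gT h 0 (d + b) = gT h c d * (gT h c b)⁻¹ := by rw [hz]; group
        rw [this]
        exact mul_mem hyL (inv_mem hxL)
      by_cases hz1 : gT h 0 (d + b) = 1
      · exact ⟨1, by rw [hz, hz1, one_mul, pow_one]⟩
      · have hzu : gT h 0 (d + b) = u₁ := huniq _ hzL hz1 (gT_zero_sq h _)
        refine ⟨3, ?_⟩
        rw [hz, hzu, ← hxxu]
        simp only [pow_succ, pow_zero, one_mul]
  · push_neg at hex
    by_cases hex2 : ∃ x ∈ L, x ≠ 1
    · obtain ⟨x, hxL, hx1⟩ := hex2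
      apply key x hxL
      intro y hyL
      by_cases hy1 : y = 1
      · exact ⟨0, by rw [hy1, pow_zero]⟩
      · exact ⟨1, by rw [pow_one, huniq y hyL hy1 (hex y hyL), huniq x hxL hx1 (hex x hxL)]⟩
    · push_neg at hex2
      apply key 1 (one_mem _)
      intro y hyL
      exact ⟨0, by rw [hex2 y hyL, pow_zero]⟩

/-- A `2`-element fixing two points of the ovoid is trivial. -/
theorem two_elt_fix_two {m : ℕ} (hm : 1 ≤ m) (hF : Fintype.card F = 2 ^ (2 * m + 1))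
    {c : ↥(Cfsg.Sz F m)} (hc4 : c ^ 4 = 1) {α β : Projectivization F (Fin 4 → F)}
    (hα : α ∈ Cfsg.suzukiOvoid F m) (hβ : β ∈ Cfsg.suzukiOvoid F m) (hαβ : α ≠ β)
    (hcα : c.1 • α = α) (hcβ : c.1 • β = β) : c = 1 := by
  by_contra hc1
  by_cases hc2 : c * c = 1
  · exact hαβ (invol_fix_unique hm hF c.2 (fun e => hc1 (Subtype.ext e))
      (congrArg Subtype.val hc2) hα hβ hcα hcβ)
  · have h4 : (c * c) * (c * c) = 1 := by
      rw [← hc4]
      simp only [pow_succ, pow_zero, one_mul, mul_assoc]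
    have f1 : (c * c).1 • α = α := by
      show (c.1 * c.1) • α = α
      rw [mul_smul, hcα, hcα]
    have f2 : (c * c).1 • β = β := by
      show (c.1 * c.1) • β = β
      rw [mul_smul, hcβ, hcβ]
    exact hαβ (invol_fix_unique hm hF (c * c).2 (fun e => hc2 (Subtype.ext e))
      (congrArg Subtype.val h4) hα hβ f1 f2)

/-- Case (I): if the stabiliser in `M` of the fixed point `α` of an involution of `M` consists of
`2`-elements and `M` moves `α`, then the Sylow `2`-subgroups of `M` are cyclic. -/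
theorem sylow_two_cyclic_of_stab {m : ℕ} (hm : 1 ≤ m) (hF : Fintype.card F = 2 ^ (2 * m + 1))
    (M : Subgroup ↥(Cfsg.Sz F m)) {u : ↥(Cfsg.Sz F m)} (huM : u ∈ M) (hu1 : u ≠ 1)
    (hu2 : u * u = 1) {α : Projectivization F (Fin 4 → F)} (hα : α ∈ Cfsg.suzukiOvoid F m)
    (huα : u.1 • α = α) {g₀ : ↥(Cfsg.Sz F m)} (hg₀M : g₀ ∈ M) (hg₀α : g₀.1 • α ≠ α)
    (hI : ∀ y ∈ M, y.1 • α = α → y ^ 4 = 1) (P : Sylow 2 ↥M) : IsCyclic ↥P := by
  have h := szHyp_of_card hF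
  have : Fact (Nat.Prime 2) := ⟨Nat.prime_two⟩
  -- Step 1: `u` is the unique involution of `M` fixing `α`.
  have step1 : ∀ u' ∈ M, u' ≠ 1 → u' * u' = 1 → u'.1 • α = α → u' = u := by
    intro u' hu'M hu'1 hu'2 hu'α
    have hβ : g₀.1 • α ∈ Cfsg.suzukiOvoid F m := smul_mem_ovoid g₀.2 hα
    have hv₀M : g₀ * u * g₀⁻¹ ∈ M := mul_mem (mul_mem hg₀M huM) (inv_mem hg₀M)
    have hv₀1 : g₀ * u * g₀⁻¹ ≠ 1 := fun e => hu1 (eq_one_of_conj_eq_one e)
    have hv₀2 : (g₀ * u * g₀⁻¹) * (g₀ * u * g₀⁻¹) = 1 := by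
      calc (g₀ * u * g₀⁻¹) * (g₀ * u * g₀⁻¹) = g₀ * (u * u) * g₀⁻¹ := by group
        _ = 1 := by rw [hu2]; group
    have hv₀β : (g₀ * u * g₀⁻¹).1 • (g₀.1 • α) = g₀.1 • α := by
      show (g₀.1 * u.1 * g₀.1⁻¹) • (g₀.1 • α) = g₀.1 • α
      rw [mul_smul, inv_smul_smul, mul_smul, huα]
    obtain ⟨c, hcM, hcα, hcβ, hcu⟩ := exists_conj_fix_two hm hF M huM hu1 hu2 hu'M hu'1 hu'2
      hv₀M hv₀1 hv₀2 hα hβ (Ne.symm hg₀α) huα hu'α hv₀β
    have hc1 : c = 1 := two_elt_fix_two hm hF (hI c hcM hcα) hα hβ (Ne.symm hg₀α) hcα hcβ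
    rw [← hcu, hc1]
    group
  -- Step 2: the conjugate of the stabiliser is a cyclic group of translations.
  obtain ⟨k, hk, hkα⟩ := exists_to_inf h hα
  obtain ⟨kG, hkG⟩ : ∃ kG : ↥(Cfsg.Sz F m), kG.1 = k := ⟨⟨k, hk⟩, rfl⟩
  have hLcyc : IsCyclic ↥(M.map (MulAut.conj kG).toMonoidHom ⊓ subT h) := by
    apply cyc_of_unique_invol h _ inf_le_right (kG * u * kG⁻¹)
    rintro y ⟨⟨x, hxM, rfl⟩, hyT⟩ hy1 hy2
    have hy : (MulAut.conj kG).toMonoidHom x = kG * x * kG⁻¹ := rfl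
    rw [hy] at hy1 hy2 hyT ⊢
    have hx1 : x ≠ 1 := by
      rintro rfl
      apply hy1
      group
    have hx2 : x * x = 1 := by
      calc x * x = kG⁻¹ * ((kG * x * kG⁻¹) * (kG * x * kG⁻¹)) * kG := by group
        _ = 1 := by rw [hy2]; group
    have hxα : x.1 • α = α := by
      obtain ⟨a, b, e⟩ := (mem_subT h _).1 hyT
      have e1 : (kG * x * kG⁻¹).1 • (pinf : Projectivization F (Fin 4 → F)) = pinf := by
        rw [e, sT_pinf]
      have e2 : (k * x.1 * k⁻¹) • (k • α) = k • α := by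
        rw [hkα, ← hkG]
        exact e1
      rw [mul_smul, inv_smul_smul, mul_smul] at e2
      exact MulAction.injective k e2
    rw [step1 x hxM hx1 hx2 hxα]
  -- Step 3: the Sylow subgroup fixes a point in the orbit of `α`.
  by_cases hP : ∃ x ∈ (P : Subgroup ↥M), x ≠ 1
  · obtain ⟨x₀, hx₀P, hx₀1⟩ := hP
    have hPG : IsPGroup 2 ↥((P : Subgroup ↥M).map M.subtype) := P.isPGroup'.map M.subtype
    obtain ⟨Q, hQ⟩ := hPG.exists_le_sylow
    obtain ⟨k', hk'⟩ := sylow_conj hm hF Q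
    have hQfix : ∀ g ∈ (Q : Subgroup ↥(Cfsg.Sz F m)),
        g.1 • (k'.1 • (pinf : Projectivization F (Fin 4 → F))) = k'.1 • pinf := by
      intro g hg
      obtain ⟨a, b, e⟩ := (hk' g).1 hg
      have e1 : g.1 = k'.1 * sT m a b * k'.1⁻¹ := by
        rw [← e]
        show g.1 = k'.1 * (k'.1⁻¹ * g.1 * k'.1) * k'.1⁻¹
        group
      rw [e1, mul_smul, inv_smul_smul, mul_smul, sT_pinf]
    have hQ4 : ∀ g ∈ (Q : Subgroup ↥(Cfsg.Sz F m)), g ^ 4 = 1 := by
      intro g hg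
      obtain ⟨a, b, e⟩ := (hk' g).1 hg
      apply Subtype.ext
      have e2 : (k'⁻¹ * g * k').1 ^ 4 = 1 := by rw [e, sT_pow_four h]
      have e3 : (k'⁻¹ * g * k') ^ 4 = 1 := Subtype.ext (by rw [Subgroup.coe_pow]; exact e2)
      have e4 : k'⁻¹ * g ^ 4 * k' = 1 := by
        rw [← e3]
        simp only [pow_succ, pow_zero, one_mul]
        group
      have e5 : g ^ 4 = 1 := by
        calc g ^ 4 = k' * (k'⁻¹ * g ^ 4 * k') * k'⁻¹ := by group
          _ = 1 := by rw [e4]; group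
      rw [e5]
    have hp₀ : k'.1 • (pinf : Projectivization F (Fin 4 → F)) ∈ Cfsg.suzukiOvoid F m :=
      smul_mem_ovoid k'.2 (pinf_mem m)
    have hx₀Q : x₀.1 ∈ (Q : Subgroup ↥(Cfsg.Sz F m)) := hQ ⟨x₀, hx₀P, rfl⟩
    have hx₀1' : x₀.1 ≠ 1 := fun e => hx₀1 (Subtype.ext e)
    -- an involution `w` of `M` fixing `p₀`
    obtain ⟨w, hwM, hw1, hw2, hwp⟩ : ∃ w ∈ M, w ≠ 1 ∧ w * w = 1 ∧
        w.1 • (k'.1 • (pinf : Projectivization F (Fin 4 → F))) = k'.1 • pinf := by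
      by_cases hx2 : x₀.1 * x₀.1 = 1
      · exact ⟨x₀.1, x₀.2, hx₀1', hx2, hQfix _ hx₀Q⟩
      · refine ⟨x₀.1 * x₀.1, mul_mem x₀.2 x₀.2, hx2, ?_, hQfix _ (mul_mem hx₀Q hx₀Q)⟩
        rw [← hQ4 _ hx₀Q]
        simp only [pow_succ, pow_zero, one_mul, mul_assoc]
    obtain ⟨t, htM, htα⟩ : ∃ t ∈ M, t.1 • α = k'.1 • (pinf : Projectivization F (Fin 4 → F)) := by
      by_cases hpα : α = k'.1 • (pinf : Projectivization F (Fin 4 → F))
      · exact ⟨1, one_mem _, by rw [← hpα]; exact one_smul _ _⟩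
      · obtain ⟨j, -, -, hj, -⟩ := dihedral_conj hm hF hu1 hu2 hw1 hw2 hα hp₀ hpα huα hwp
        exact ⟨(u * w) ^ j * u, mul_mem (pow_mem (mul_mem huM hwM) _) huM, hj⟩
    -- Step 4: embed `P` into the cyclic group.
    have hmemL : ∀ x : ↥(P : Subgroup ↥M), ((MulAut.conj (kG * t⁻¹)).toMonoidHom.comp
        (M.subtype.comp (P : Subgroup ↥M).subtype)) x ∈
          M.map (MulAut.conj kG).toMonoidHom ⊓ subT h := by
      intro x
      have hxQ : x.1.1 ∈ (Q : Subgroup ↥(Cfsg.Sz F m)) := hQ ⟨x.1, x.2, rfl⟩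
      have hval : ((MulAut.conj (kG * t⁻¹)).toMonoidHom.comp
          (M.subtype.comp (P : Subgroup ↥M).subtype)) x = kG * (t⁻¹ * x.1.1 * t) * kG⁻¹ := by
        show kG * t⁻¹ * x.1.1 * (kG * t⁻¹)⁻¹ = kG * (t⁻¹ * x.1.1 * t) * kG⁻¹
        group
      have hyM : t⁻¹ * x.1.1 * t ∈ M := mul_mem (mul_mem (inv_mem htM) x.1.2) htM
      have hyα : (t⁻¹ * x.1.1 * t).1 • α = α := by
        show (t.1⁻¹ * x.1.1.1 * t.1) • α = α
        rw [mul_smul, mul_smul, htα, hQfix _ hxQ, ← htα, inv_smul_smul]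
      have hy4 := hI _ hyM hyα
      rw [hval]
      refine ⟨⟨t⁻¹ * x.1.1 * t, hyM, rfl⟩, ?_⟩
      have hfix : (kG * (t⁻¹ * x.1.1 * t) * kG⁻¹).1 •
          (pinf : Projectivization F (Fin 4 → F)) = pinf := by
        show (kG.1 * (t⁻¹ * x.1.1 * t).1 * kG.1⁻¹) • (pinf : Projectivization F (Fin 4 → F)) = pinf
        rw [hkG, ← hkα, mul_smul, inv_smul_smul, mul_smul, hyα]
      have h4 : (kG * (t⁻¹ * x.1.1 * t) * kG⁻¹).1 ^ 4 = 1 := by
        rw [← Subgroup.coe_pow, conj_pow, hy4]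
        simp
      obtain ⟨a, b, e⟩ := two_elt_at_inf hm hF (kG * (t⁻¹ * x.1.1 * t) * kG⁻¹).2 h4 hfix
      exact (mem_subT h _).2 ⟨a, b, e⟩
    have hinj : Function.Injective (((MulAut.conj (kG * t⁻¹)).toMonoidHom.comp
        (M.subtype.comp (P : Subgroup ↥M).subtype)).codRestrict
          (M.map (MulAut.conj kG).toMonoidHom ⊓ subT h) hmemL) := by
      intro x y e
      have e1 := congrArg Subtype.val e
      have e2 : (MulAut.conj (kG * t⁻¹)) x.1.1 = (MulAut.conj (kG * t⁻¹)) y.1.1 := e1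
      exact Subtype.ext (Subtype.ext ((MulAut.conj (kG * t⁻¹)).injective e2))
    exact isCyclic_of_injective _ hinj
  · push_neg at hP
    have : Subsingleton ↥(P : Subgroup ↥M) :=
      ⟨fun a b => Subtype.ext ((hP a.1 a.2).trans (hP b.1 b.2).symm)⟩
    exact isCyclic_of_subsingleton

/-- Normalisation: an involution interchanging two points of the ovoid is conjugate to the
standard inversion, by an element taking the two points to `∞` and `0`. -/
theorem exists_normalise {m : ℕ} (hm : 1 ≤ m) (hF : Fintype.card F = 2 ^ (2 * m + 1))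
    {t : ↥(Cfsg.Sz F m)} {α β : Projectivization F (Fin 4 → F)}
    (hα : α ∈ Cfsg.suzukiOvoid F m) (hβ : β ∈ Cfsg.suzukiOvoid F m) (hαβ : α ≠ β)
    (htα : t.1 • α = β) (htβ : t.1 • β = α) :
    ∃ c : ↥(Cfsg.Sz F m), c.1 • α = pinf ∧ c.1 • β = paff m 0 0 ∧
      c * t * c⁻¹ = gW (szHyp_of_card hF) := by
  have h := szHyp_of_card hF
  obtain ⟨k, hk, hkα, hkβ⟩ := exists_to_inf_zero h hα hβ hαβ
  have h1 : (k * t.1 * k⁻¹ * sW) • (pinf : Projectivization F (Fin 4 → F)) = pinf := by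
    rw [mul_smul, sW_pinf m, mul_smul, mul_smul, ← hkβ, inv_smul_smul, htβ, hkα]
  have h2 : (k * t.1 * k⁻¹ * sW) • paff m (0 : F) 0 = paff m 0 0 := by
    rw [mul_smul, sW_paff_zero m, mul_smul, mul_smul, ← hkα, inv_smul_smul, htα, hkβ]
  have hmem : k * t.1 * k⁻¹ * sW ∈ Cfsg.Sz F m :=
    mul_mem (mul_mem (mul_mem hk t.2) (inv_mem hk)) (sW_mem h)
  obtain ⟨z, hz⟩ := two_point_stab hm hF hmem h1 h2
  obtain ⟨ε, hε⟩ := exists_units_sq hF z
  have hkt : k * t.1 * k⁻¹ = sD m z * sW := by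
    calc k * t.1 * k⁻¹ = (k * t.1 * k⁻¹ * sW) * sW := by rw [mul_assoc _ sW sW, sW_sq, mul_one]
      _ = sD m z * sW := by rw [hz]
  refine ⟨gD h ε * ⟨k, hk⟩, ?_, ?_, ?_⟩
  · show (sD m ε * k) • α = pinf
    rw [mul_smul, hkα, sD_pinf]
  · show (sD m ε * k) • β = paff m 0 0
    rw [mul_smul, hkβ, sD_paff_zero h]
  · apply Subtype.ext
    show sD m ε * k * t.1 * (sD m ε * k)⁻¹ = sW
    have e1 : sD m ε * k * t.1 * (sD m ε * k)⁻¹ = sD m ε * (k * t.1 * k⁻¹) * (sD m ε)⁻¹ := by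
      group
    have e2 : (sD m ε)⁻¹ = sD m ε⁻¹ := by
      apply inv_eq_of_mul_eq_one_right
      rw [← sD_mul, mul_inv_cancel, sD_one]
    have e3 : sW * sD m ε⁻¹ = sD m ε * (sW : Matrix.SpecialLinearGroup (Fin 4) F) := by
      rw [sW_sD, inv_inv]
    rw [e1, hkt, e2, mul_assoc, mul_assoc, e3, ← mul_assoc, ← mul_assoc, ← sD_mul, ← sD_mul]
    have e4 : ε * z * ε = 1 := by
      rw [← hε]
      group
    rw [e4, sD_one, one_mul]

end Cfsg.Agent.Lib.helper8
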