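/-
Subgroups of the Suzuki group, part 3: a subgroup containing the inversion, a central translation
and a non-trivial torus element is the Suzuki group of a subfield.
-/
import Cfsg.Agent.Lib.helper8.SzSub2

set_option autoImplicit false

namespace Cfsg.Agent.Lib.helper8

open Matrix
open scoped Pointwise

variable {F : Type*} [Field F] [Fintype F]

/-- Factorisation of the stabiliser of `∞` in a subgroup containing a central translation. -/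
theorem stab_factor {m : ℕ} (hm : 1 ≤ m) (hF : Fintype.card F = 2 ^ (2 * m + 1))
    (h : SzHyp F m) (M : Subgroup ↥(Cfsg.Sz F m)) {b₁ : F} (hb₁ : b₁ ≠ 0)
    (hu : gT h 0 b₁ ∈ M) {y g : ↥(Cfsg.Sz F m)} (hyM : y ∈ M)
    (hy : y.1 • (pinf : Projectivization F (Fin 4 → F)) = pinf) (hgM : g ∈ M)
    (hg : g.1 • (pinf : Projectivization F (Fin 4 → F)) ≠ pinf) :
    ∃ c ∈ M, c.1 • (pinf : Projectivization F (Fin 4 → F)) = pinf ∧
      c.1 • (g.1 • (pinf : Projectivization F (Fin 4 → F))) = g.1 • pinf ∧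
      ∃ a b : F, gT h a b ∈ M ∧ y = c * gT h a b := by
  have hu₀1 : gT h 0 b₁ ≠ 1 := by
    intro e
    rw [← gT_zero_zero h] at e
    exact hb₁ (gT_zero_inj h e)
  have hu₀2 : gT h 0 b₁ * gT h 0 b₁ = 1 := gT_zero_sq h b₁
  have hu₀fix : (gT h 0 b₁).1 • (pinf : Projectivization F (Fin 4 → F)) = pinf := sT_pinf m 0 b₁
  have hv₀M : g * gT h 0 b₁ * g⁻¹ ∈ M := mul_mem (mul_mem hgM hu) (inv_mem hgM)
  have hv₀1 : g * gT h 0 b₁ * g⁻¹ ≠ 1 := fun e => hu₀1 (eq_one_of_conj_eq_one e)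
  have hv₀2 : (g * gT h 0 b₁ * g⁻¹) * (g * gT h 0 b₁ * g⁻¹) = 1 := by
    calc (g * gT h 0 b₁ * g⁻¹) * (g * gT h 0 b₁ * g⁻¹)
        = g * (gT h 0 b₁ * gT h 0 b₁) * g⁻¹ := by group
      _ = 1 := by rw [hu₀2]; group
  have hv₀β : (g * gT h 0 b₁ * g⁻¹).1 • (g.1 • (pinf : Projectivization F (Fin 4 → F))) =
      g.1 • pinf := by
    show (g.1 * (gT h 0 b₁).1 * g.1⁻¹) • (g.1 • (pinf : Projectivization F (Fin 4 → F))) =
      g.1 • pinf
    rw [mul_smul, inv_smul_smul, mul_smul, hu₀fix]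
  have huM : y * gT h 0 b₁ * y⁻¹ ∈ M := mul_mem (mul_mem hyM hu) (inv_mem hyM)
  have hu1 : y * gT h 0 b₁ * y⁻¹ ≠ 1 := fun e => hu₀1 (eq_one_of_conj_eq_one e)
  have hu2 : (y * gT h 0 b₁ * y⁻¹) * (y * gT h 0 b₁ * y⁻¹) = 1 := by
    calc (y * gT h 0 b₁ * y⁻¹) * (y * gT h 0 b₁ * y⁻¹)
        = y * (gT h 0 b₁ * gT h 0 b₁) * y⁻¹ := by group
      _ = 1 := by rw [hu₀2]; group
  have hufix : (y * gT h 0 b₁ * y⁻¹).1 • (pinf : Projectivization F (Fin 4 → F)) = pinf := by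
    show (y.1 * (gT h 0 b₁).1 * y.1⁻¹) • (pinf : Projectivization F (Fin 4 → F)) = pinf
    rw [mul_smul, mul_smul, inv_smul_eq_iff.2 hy.symm, hu₀fix, hy]
  obtain ⟨c, hcM, hcα, hcβ, hcu⟩ := exists_conj_fix_two hm hF M hu hu₀1 hu₀2 huM hu1 hu2
    hv₀M hv₀1 hv₀2 (pinf_mem m) (smul_mem_ovoid g.2 (pinf_mem m)) (Ne.symm hg) hu₀fix hufix hv₀β
  have hcomm : (c⁻¹ * y) * gT h 0 b₁ = gT h 0 b₁ * (c⁻¹ * y) := by
    calc (c⁻¹ * y) * gT h 0 b₁ = c⁻¹ * (y * gT h 0 b₁ * y⁻¹) * y := by group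
      _ = c⁻¹ * (c * gT h 0 b₁ * c⁻¹) * y := by rw [hcu]
      _ = gT h 0 b₁ * (c⁻¹ * y) := by group
  obtain ⟨a, b, e⟩ := cent_sT hm hF (a := 0) (b := b₁) (fun hh => hb₁ hh.2) (c⁻¹ * y).2
    (congrArg Subtype.val hcomm)
  have es : c⁻¹ * y = gT h a b := Subtype.ext e
  refine ⟨c, hcM, hcα, hcβ, a, b, ?_, ?_⟩
  · rw [← es]
    exact mul_mem (inv_mem hcM) hyM
  · rw [← es]
    group

/-- The stabiliser of `∞` is the product of its torus part and its translation part. -/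
theorem stab_decomp {m : ℕ} (hm : 1 ≤ m) (hF : Fintype.card F = 2 ^ (2 * m + 1))
    (h : SzHyp F m) (M : Subgroup ↥(Cfsg.Sz F m)) (hW : gW h ∈ M) {b₁ : F} (hb₁ : b₁ ≠ 0)
    (hu : gT h 0 b₁ ∈ M) {y : ↥(Cfsg.Sz F m)} (hyM : y ∈ M)
    (hy : y.1 • (pinf : Projectivization F (Fin 4 → F)) = pinf) :
    ∃ (z : Fˣ) (a b : F), gD h z ∈ M ∧ gT h a b ∈ M ∧ y = gD h z * gT h a b := by
  have hWinf : (gW h).1 • (pinf : Projectivization F (Fin 4 → F)) = paff m 0 0 := sW_pinf m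
  have hWne : (gW h).1 • (pinf : Projectivization F (Fin 4 → F)) ≠ pinf := by
    rw [hWinf]
    exact paff_ne_pinf m 0 0
  obtain ⟨c, hcM, hc1, hc2, a, b, habM, e⟩ := stab_factor hm hF h M hb₁ hu hyM hy hW hWne
  rw [hWinf] at hc2
  obtain ⟨z, hz⟩ := two_point_stab hm hF c.2 hc1 hc2
  have ec : c = gD h z := Subtype.ext hz
  exact ⟨z, a, b, ec ▸ hcM, habM, by rw [e, ec]⟩

/-- The commutator map with a non-trivial torus element is surjective on the translations of a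
subgroup. -/
theorem comm_surj {m : ℕ} (hm : 1 ≤ m) (hF : Fintype.card F = 2 ^ (2 * m + 1))
    (h : SzHyp F m) (M : Subgroup ↥(Cfsg.Sz F m)) {z₀ : Fˣ} (hz₀ : z₀ ≠ 1)
    (hz₀M : gD h z₀ ∈ M) {s : ↥(Cfsg.Sz F m)} (hsM : s ∈ M) (hsT : s ∈ subT h) :
    ∃ t ∈ M, t ∈ subT h ∧ (gD h z₀)⁻¹ * t * gD h z₀ * t⁻¹ = s := by
  have hM' : ∀ t : ↥(M ⊓ subT h), t.1 ∈ M := fun t => (Subgroup.mem_inf.1 t.2).1
  have hT' : ∀ t : ↥(M ⊓ subT h), t.1 ∈ subT h := fun t => (Subgroup.mem_inf.1 t.2).2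
  have hmem : ∀ t : ↥(M ⊓ subT h), (gD h z₀)⁻¹ * t.1 * gD h z₀ * t.1⁻¹ ∈ M ⊓ subT h := by
    intro t
    refine Subgroup.mem_inf.2
      ⟨mul_mem (mul_mem (mul_mem (inv_mem hz₀M) (hM' t)) hz₀M) (inv_mem (hM' t)), ?_⟩
    apply mul_mem _ (inv_mem (hT' t))
    obtain ⟨a, b, e⟩ := eq_gT_of_mem_subT h (hT' t)
    have e2 : (gD h z₀)⁻¹ * t.1 * gD h z₀ = gD h z₀⁻¹ * gT h a b * (gD h z₀⁻¹)⁻¹ := by
      rw [e, map_inv, inv_inv]
    rw [e2, gD_conj_gT]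
    exact gT_mem_subT h _ _
  have hinj : Function.Injective (fun t : ↥(M ⊓ subT h) =>
      (⟨(gD h z₀)⁻¹ * t.1 * gD h z₀ * t.1⁻¹, hmem t⟩ : ↥(M ⊓ subT h))) := by
    intro t t' e
    have e0 : (gD h z₀)⁻¹ * t.1 * gD h z₀ * t.1⁻¹ = (gD h z₀)⁻¹ * t'.1 * gD h z₀ * t'.1⁻¹ :=
      congrArg Subtype.val e
    have e1 : t.1 * gD h z₀ * t.1⁻¹ = t'.1 * gD h z₀ * t'.1⁻¹ := by
      calc t.1 * gD h z₀ * t.1⁻¹ = gD h z₀ * ((gD h z₀)⁻¹ * t.1 * gD h z₀ * t.1⁻¹) := by group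
        _ = gD h z₀ * ((gD h z₀)⁻¹ * t'.1 * gD h z₀ * t'.1⁻¹) := by rw [e0]
        _ = t'.1 * gD h z₀ * t'.1⁻¹ := by group
    have e2 : (t'.1⁻¹ * t.1) * gD h z₀ = gD h z₀ * (t'.1⁻¹ * t.1) := by
      calc (t'.1⁻¹ * t.1) * gD h z₀ = t'.1⁻¹ * (t.1 * gD h z₀ * t.1⁻¹) * t.1 := by group
        _ = t'.1⁻¹ * (t'.1 * gD h z₀ * t'.1⁻¹) * t.1 := by rw [e1]
        _ = gD h z₀ * (t'.1⁻¹ * t.1) := by group
    obtain ⟨w, hw⟩ := cent_sD hm hF hz₀ (t'.1⁻¹ * t.1).2 (congrArg Subtype.val e2)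
    obtain ⟨a, b, hab⟩ := eq_gT_of_mem_subT h (mul_mem (inv_mem (hT' t')) (hT' t))
    have hab' : (t'.1⁻¹ * t.1).1 = sT m a b := by rw [hab]; rfl
    have e3 : sD m w • paff m (0 : F) 0 = sT m a b • paff m (0 : F) 0 := by rw [← hw, ← hab']
    rw [sD_paff_zero h, sT_paff_zero h] at e3
    obtain ⟨ha, hb⟩ := paff_inj.1 e3
    have e4 : t'.1⁻¹ * t.1 = 1 := by rw [hab, ← ha, ← hb, gT_zero_zero]
    apply Subtype.ext
    calc t.1 = t'.1 * (t'.1⁻¹ * t.1) := by group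
      _ = t'.1 := by rw [e4, mul_one]
  obtain ⟨t, ht⟩ := Finite.injective_iff_surjective.1 hinj ⟨s, Subgroup.mem_inf.2 ⟨hsM, hsT⟩⟩
  exact ⟨t.1, hM' t, hT' t, congrArg Subtype.val ht⟩

/-- Every point of the orbit of `∞` is the image of `0` under a translation of the subgroup. -/
theorem orbit_transl {m : ℕ} (hm : 1 ≤ m) (hF : Fintype.card F = 2 ^ (2 * m + 1))
    (h : SzHyp F m) (M : Subgroup ↥(Cfsg.Sz F m)) {b₁ : F} (hb₁ : b₁ ≠ 0)
    (hu : gT h 0 b₁ ∈ M) {z₀ : Fˣ} (hz₀ : z₀ ≠ 1) (hz₀M : gD h z₀ ∈ M)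
    {g : ↥(Cfsg.Sz F m)} (hgM : g ∈ M)
    (hg : g.1 • (pinf : Projectivization F (Fin 4 → F)) ≠ pinf) :
    ∃ a b : F, gT h a b ∈ M ∧ g.1 • (pinf : Projectivization F (Fin 4 → F)) = paff m a b := by
  have hc₀fix : (gD h z₀).1 • (pinf : Projectivization F (Fin 4 → F)) = pinf := sD_pinf m z₀
  obtain ⟨c, hcM, hc1, hc2, a', b', habM, e⟩ := stab_factor hm hF h M hb₁ hu hz₀M hc₀fix hgM hg
  obtain ⟨t, htM, htT, ht⟩ := comm_surj hm hF h M hz₀ hz₀M (inv_mem habM)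
    (inv_mem (gT_mem_subT h a' b'))
  obtain ⟨a, b, rfl⟩ := eq_gT_of_mem_subT h htT
  have ec : c = gT h a b * gD h z₀ * (gT h a b)⁻¹ := by
    have e1 : c = gD h z₀ * (gT h a' b')⁻¹ := by rw [e]; group
    rw [e1, ← ht]
    group
  have hc3 : c.1 • paff m a b = paff m a b := by
    rw [ec]
    show (sT m a b * sD m z₀ * (sT m a b)⁻¹) • paff m a b = paff m a b
    rw [mul_smul, mul_smul, inv_smul_eq_iff.2 (sT_paff_zero h a b).symm, sD_paff_zero h,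
      sT_paff_zero h]
  have hc_ne : c.1 ≠ 1 := by
    intro e1
    have e2 : c = 1 := Subtype.ext e1
    rw [ec] at e2
    have e3 : gD h z₀ = 1 := eq_one_of_conj_eq_one e2
    apply hz₀
    apply sD_inj m
    rw [sD_one]
    exact congrArg Subtype.val e3
  rcases fix_two hm hF c.2 hc_ne (pinf_mem m) (paff_mem m a b)
    (smul_mem_ovoid g.2 (pinf_mem m)) (Ne.symm (paff_ne_pinf m a b)) hc1 hc3 hc2 with e1 | e1
  · exact absurd e1 hg
  · exact ⟨a, b, htM, e1⟩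

/-- The additive group of `b` with `gT 0 b ∈ M`. -/
def subB {m : ℕ} (h : SzHyp F m) (M : Subgroup ↥(Cfsg.Sz F m)) : AddSubgroup F where
  carrier := {b | gT h 0 b ∈ M}
  zero_mem' := by
    show gT h 0 0 ∈ M
    rw [gT_zero_zero]
    exact one_mem M
  add_mem' := by
    intro a b ha hb
    show gT h 0 (a + b) ∈ M
    rw [gT_zero_add]
    exact mul_mem ha hb
  neg_mem' := by
    intro a ha
    show gT h 0 (-a) ∈ M
    rw [neg_eq_of_two h.two]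
    exact ha

theorem mem_subB {m : ℕ} (h : SzHyp F m) (M : Subgroup ↥(Cfsg.Sz F m)) (b : F) :
    b ∈ subB h M ↔ gT h 0 b ∈ M := Iff.rfl

/-- The subfield of multipliers of `subB`. -/
def subK {m : ℕ} (h : SzHyp F m) (M : Subgroup ↥(Cfsg.Sz F m)) : Subfield F where
  carrier := {x | ∀ b ∈ subB h M, x * b ∈ subB h M}
  mul_mem' := by
    intro x y hx hy b hb
    rw [mul_assoc]
    exact hx _ (hy b hb)
  one_mem' := by
    intro b hb
    rwa [one_mul]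
  add_mem' := by
    intro x y hx hy b hb
    rw [add_mul]
    exact add_mem (hx b hb) (hy b hb)
  zero_mem' := by
    intro b hb
    rw [zero_mul]
    exact zero_mem _
  neg_mem' := by
    intro x hx b hb
    rw [neg_mul]
    exact neg_mem (hx b hb)
  inv_mem' := by
    intro x hx b hb
    by_cases hx0 : x = 0
    · subst hx0
      rw [_root_.inv_zero, zero_mul]
      exact zero_mem _
    · have hinj : Function.Injective
          (fun c : subB h M => (⟨x * c.1, hx c.1 c.2⟩ : subB h M)) := by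
        intro c d e
        have := congrArg Subtype.val e
        exact Subtype.ext (mul_left_cancel₀ hx0 this)
      obtain ⟨b', hb'⟩ := Finite.injective_iff_surjective.1 hinj ⟨b, hb⟩
      have e : x * b'.1 = b := congrArg Subtype.val hb'
      rw [← e, ← mul_assoc, inv_mul_cancel₀ hx0, one_mul]
      exact b'.2

theorem mem_subK {m : ℕ} (h : SzHyp F m) (M : Subgroup ↥(Cfsg.Sz F m)) (x : F) :
    x ∈ subK h M ↔ ∀ b ∈ subB h M, x * b ∈ subB h M := Iff.rfl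

omit [Fintype F] in
theorem th_mem_subfield {m : ℕ} (K : Subfield F) {x : F} (hx : x ∈ K) : th m x ∈ K := by
  unfold th
  exact pow_mem hx _

theorem sq_mem_subfield {m : ℕ} (hF : Fintype.card F = 2 ^ (2 * m + 1)) (K : Subfield F) {x : F}
    (hx : x ^ 2 ∈ K) : x ∈ K := by
  have e : (x ^ 2) ^ (2 ^ (2 * m)) = x := by
    rw [← pow_mul, ← pow_succ', ← hF]
    exact FiniteField.pow_card x
  rw [← e]
  exact pow_mem hx _

theorem sigma_inv {m : ℕ} (h : SzHyp F m) (M : Subgroup ↥(Cfsg.Sz F m)) (hW : gW h ∈ M)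
    (hT1 : ∀ g ∈ M, g.1 • (pinf : Projectivization F (Fin 4 → F)) ≠ pinf →
      ∃ a b : F, gT h a b ∈ M ∧ g.1 • (pinf : Projectivization F (Fin 4 → F)) = paff m a b)
    {a b : F} (hab : gT h a b ∈ M) (hne : ¬ (a = 0 ∧ b = 0)) :
    gT h (b / ff m a b) (a / ff m a b) ∈ M := by
  have hf : ff m a b ≠ 0 := fun e => hne (ff_eq_zero h e)
  have hg : (gW h * gT h a b * gW h).1 • (pinf : Projectivization F (Fin 4 → F)) =
      paff m (b / ff m a b) (a / ff m a b) := by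
    show (sW * sT m a b * sW) • (pinf : Projectivization F (Fin 4 → F)) = _
    rw [mul_smul, mul_smul, sW_pinf m, sT_paff_zero h, sW_paff h hf]
  obtain ⟨a', b', hM, e⟩ := hT1 _ (mul_mem (mul_mem hW hab) hW)
    (by rw [hg]; exact paff_ne_pinf m _ _)
  rw [hg] at e
  obtain ⟨e1, e2⟩ := paff_inj.1 e
  rw [e1, e2]
  exact hM

theorem sigma_zero {m : ℕ} (h : SzHyp F m) (M : Subgroup ↥(Cfsg.Sz F m)) (hW : gW h ∈ M)
    (hT1 : ∀ g ∈ M, g.1 • (pinf : Projectivization F (Fin 4 → F)) ≠ pinf →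
      ∃ a b : F, gT h a b ∈ M ∧ g.1 • (pinf : Projectivization F (Fin 4 → F)) = paff m a b)
    {b : F} (hb : gT h 0 b ∈ M) (hb0 : b ≠ 0) : gT h (b / th m b) 0 ∈ M := by
  have := sigma_inv h M hW hT1 hb (fun e => hb0 e.2)
  have hf : ff m 0 b = th m b := by
    rw [ff_eq, th_zero]
    ring
  rwa [hf, zero_div] at this

theorem subB_inv {m : ℕ} (h : SzHyp F m) (M : Subgroup ↥(Cfsg.Sz F m)) (hW : gW h ∈ M)
    (hT1 : ∀ g ∈ M, g.1 • (pinf : Projectivization F (Fin 4 → F)) ≠ pinf →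
      ∃ a b : F, gT h a b ∈ M ∧ g.1 • (pinf : Projectivization F (Fin 4 → F)) = paff m a b)
    {b : F} (hb : b ∈ subB h M) (hb0 : b ≠ 0) : b⁻¹ ∈ subB h M := by
  have h1 := sigma_zero h M hW hT1 hb hb0
  have h2 : gT h (b / th m b) 0 * gT h (b / th m b) 0 ∈ M := mul_mem h1 h1
  rw [gT_sq] at h2
  have e : th m (b / th m b) * (b / th m b) = b⁻¹ := by
    have hth : th m b ≠ 0 := th_ne_zero hb0
    rw [div_eq_mul_inv, th_mul, th_inv, th_th h]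
    field_simp
  rw [e] at h2
  exact h2

theorem subB_hua {m : ℕ} (h : SzHyp F m) (M : Subgroup ↥(Cfsg.Sz F m))
    (hBinv : ∀ b ∈ subB h M, b ≠ 0 → b⁻¹ ∈ subB h M) {a b : F} (ha : a ∈ subB h M)
    (hb : b ∈ subB h M) : a ^ 2 * b ∈ subB h M := by
  by_cases ha0 : a = 0
  · subst ha0
    rw [zero_pow two_ne_zero, zero_mul]
    exact zero_mem _
  by_cases hb0 : b = 0
  · subst hb0
    rw [mul_zero]
    exact zero_mem _
  by_cases hab : a * b = 1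
  · have : a ^ 2 * b = a := by rw [pow_two, mul_assoc, hab, mul_one]
    rw [this]
    exact ha
  have he : 1 - a * b ≠ 0 := fun e => hab (sub_eq_zero.1 e).symm
  have hc : b⁻¹ - a = (1 - a * b) / b := by
    field_simp
  have hc0 : b⁻¹ - a ≠ 0 := by
    rw [hc]
    exact div_ne_zero he hb0
  have hcB : b⁻¹ - a ∈ subB h M := sub_mem (hBinv b hb hb0) ha
  have hd : a⁻¹ + (b⁻¹ - a)⁻¹ = (a * (1 - a * b))⁻¹ := by
    rw [hc]
    field_simp
    ring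
  have hd0 : a⁻¹ + (b⁻¹ - a)⁻¹ ≠ 0 := by
    rw [hd]
    exact inv_ne_zero (mul_ne_zero ha0 he)
  have hdB : a⁻¹ + (b⁻¹ - a)⁻¹ ∈ subB h M := add_mem (hBinv a ha ha0) (hBinv _ hcB hc0)
  have hfin : a - (a⁻¹ + (b⁻¹ - a)⁻¹)⁻¹ ∈ subB h M := sub_mem ha (hBinv _ hdB hd0)
  have e : a - (a⁻¹ + (b⁻¹ - a)⁻¹)⁻¹ = a ^ 2 * b := by
    rw [hd, inv_inv]
    ring
  rwa [e] at hfin

theorem subB_le_subK {m : ℕ} (hF : Fintype.card F = 2 ^ (2 * m + 1)) (h : SzHyp F m)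
    (M : Subgroup ↥(Cfsg.Sz F m)) (hBinv : ∀ b ∈ subB h M, b ≠ 0 → b⁻¹ ∈ subB h M) {a : F}
    (ha : a ∈ subB h M) : a ∈ subK h M := by
  apply sq_mem_subfield hF
  intro b hb
  exact subB_hua h M hBinv ha hb

theorem subK_le_subB {m : ℕ} (hF : Fintype.card F = 2 ^ (2 * m + 1)) (h : SzHyp F m)
    (M : Subgroup ↥(Cfsg.Sz F m)) (hBinv : ∀ b ∈ subB h M, b ≠ 0 → b⁻¹ ∈ subB h M) {b₁ : F}
    (hb₁ : b₁ ≠ 0) (hu : gT h 0 b₁ ∈ M) {x : F} (hx : x ∈ subK h M) : x ∈ subB h M := by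
  have h1 : b₁ ∈ subK h M := subB_le_subK hF h M hBinv hu
  have h2 : x * b₁⁻¹ ∈ subK h M := mul_mem hx (inv_mem h1)
  have h3 := h2 b₁ hu
  rwa [mul_assoc, inv_mul_cancel₀ hb₁, mul_one] at h3

theorem sigma_K_zero {m : ℕ} (hF : Fintype.card F = 2 ^ (2 * m + 1)) (h : SzHyp F m)
    (M : Subgroup ↥(Cfsg.Sz F m)) (hW : gW h ∈ M)
    (hT1 : ∀ g ∈ M, g.1 • (pinf : Projectivization F (Fin 4 → F)) ≠ pinf →
      ∃ a b : F, gT h a b ∈ M ∧ g.1 • (pinf : Projectivization F (Fin 4 → F)) = paff m a b)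
    {b₁ : F} (hb₁ : b₁ ≠ 0) (hu : gT h 0 b₁ ∈ M) {a : F} (ha : a ∈ subK h M) :
    gT h a 0 ∈ M := by
  have hBinv : ∀ b ∈ subB h M, b ≠ 0 → b⁻¹ ∈ subB h M :=
    fun b hb hb0 => subB_inv h M hW hT1 hb hb0
  by_cases ha0 : a = 0
  · subst ha0
    rw [gT_zero_zero]
    exact one_mem M
  have hb : (a * th m a)⁻¹ ∈ subK h M := inv_mem (mul_mem ha (th_mem_subfield _ ha))
  have hbB := subK_le_subB hF h M hBinv hb₁ hu hb
  have hb0 : (a * th m a)⁻¹ ≠ 0 := inv_ne_zero (mul_ne_zero ha0 (th_ne_zero ha0))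
  have h1 := sigma_zero h M hW hT1 hbB hb0
  have e : (a * th m a)⁻¹ / th m (a * th m a)⁻¹ = a := by
    rw [th_inv, th_mul, th_th h]
    have := th_ne_zero (m := m) ha0
    field_simp
  rwa [e] at h1

theorem sigma_mem_K {m : ℕ} (hF : Fintype.card F = 2 ^ (2 * m + 1)) (h : SzHyp F m)
    (M : Subgroup ↥(Cfsg.Sz F m)) (hW : gW h ∈ M)
    (hT1 : ∀ g ∈ M, g.1 • (pinf : Projectivization F (Fin 4 → F)) ≠ pinf →
      ∃ a b : F, gT h a b ∈ M ∧ g.1 • (pinf : Projectivization F (Fin 4 → F)) = paff m a b)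
    {b₁ : F} (hb₁ : b₁ ≠ 0) (hu : gT h 0 b₁ ∈ M) {a b : F} (hab : gT h a b ∈ M) :
    a ∈ subK h M ∧ b ∈ subK h M := by
  have hBinv : ∀ b ∈ subB h M, b ≠ 0 → b⁻¹ ∈ subB h M :=
    fun b hb hb0 => subB_inv h M hW hT1 hb hb0
  have h1 : gT h a b * gT h a b ∈ M := mul_mem hab hab
  rw [gT_sq] at h1
  have hc : th m a * a ∈ subK h M := subB_le_subK hF h M hBinv h1
  have haK : a ∈ subK h M := by
    by_cases ha0 : a = 0
    · rw [ha0]
      exact zero_mem _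
    · have e : th m (th m a * a) * (th m a * a)⁻¹ = a := by
        rw [th_mul, th_th h]
        have := th_ne_zero (m := m) ha0
        field_simp
      rw [← e]
      exact mul_mem (th_mem_subfield _ hc) (inv_mem hc)
  refine ⟨haK, ?_⟩
  have h2 := sigma_K_zero hF h M hW hT1 hb₁ hu haK
  have e1 : gT h a b = gT h a 0 * gT h 0 b := by
    rw [gT_mul, add_zero, zero_add, mul_zero, add_zero]
  have e : gT h 0 b = (gT h a 0)⁻¹ * gT h a b := by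
    rw [e1]
    group
  have h3 : gT h 0 b ∈ M := by
    rw [e]
    exact mul_mem (inv_mem h2) hab
  exact subB_le_subK hF h M hBinv h3

theorem sigma_of_K {m : ℕ} (hF : Fintype.card F = 2 ^ (2 * m + 1)) (h : SzHyp F m)
    (M : Subgroup ↥(Cfsg.Sz F m)) (hW : gW h ∈ M)
    (hT1 : ∀ g ∈ M, g.1 • (pinf : Projectivization F (Fin 4 → F)) ≠ pinf →
      ∃ a b : F, gT h a b ∈ M ∧ g.1 • (pinf : Projectivization F (Fin 4 → F)) = paff m a b)
    {b₁ : F} (hb₁ : b₁ ≠ 0) (hu : gT h 0 b₁ ∈ M) {a b : F} (ha : a ∈ subK h M)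
    (hb : b ∈ subK h M) : gT h a b ∈ M := by
  have hBinv : ∀ b ∈ subB h M, b ≠ 0 → b⁻¹ ∈ subB h M :=
    fun b hb hb0 => subB_inv h M hW hT1 hb hb0
  have h1 := sigma_K_zero hF h M hW hT1 hb₁ hu ha
  have h2 : gT h 0 b ∈ M := subK_le_subB hF h M hBinv hb₁ hu hb
  have e1 : gT h a b = gT h a 0 * gT h 0 b := by
    rw [gT_mul, add_zero, zero_add, mul_zero, add_zero]
  rw [e1]
  exact mul_mem h1 h2

theorem torus_mem_K {m : ℕ} (hF : Fintype.card F = 2 ^ (2 * m + 1)) (h : SzHyp F m)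
    (M : Subgroup ↥(Cfsg.Sz F m)) (hW : gW h ∈ M)
    (hT1 : ∀ g ∈ M, g.1 • (pinf : Projectivization F (Fin 4 → F)) ≠ pinf →
      ∃ a b : F, gT h a b ∈ M ∧ g.1 • (pinf : Projectivization F (Fin 4 → F)) = paff m a b)
    {b₁ : F} (hb₁ : b₁ ≠ 0) (hu : gT h 0 b₁ ∈ M) {z : Fˣ} (hz : gD h z ∈ M) :
    (z : F) ∈ subK h M := by
  have hBinv : ∀ b ∈ subB h M, b ≠ 0 → b⁻¹ ∈ subB h M :=
    fun b hb hb0 => subB_inv h M hW hT1 hb hb0
  have h1 : gD h z * gT h 0 b₁ * (gD h z)⁻¹ ∈ M := mul_mem (mul_mem hz hu) (inv_mem hz)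
  rw [gD_conj_gT] at h1
  have h2 := (sigma_mem_K hF h M hW hT1 hb₁ hu h1).2
  have hb₁K : b₁ ∈ subK h M := subB_le_subK hF h M hBinv hu
  have hκ : th m (z : F) * (z : F) ^ 2 ∈ subK h M := by
    have := mul_mem h2 (inv_mem hb₁K)
    rwa [mul_assoc, mul_inv_cancel₀ hb₁, mul_one] at this
  have hz0 : (z : F) ≠ 0 := z.ne_zero
  have hθ : th m (z : F) ∈ subK h M := by
    have e : th m (th m (z : F) * (z : F) ^ 2) * (th m (z : F) * (z : F) ^ 2)⁻¹ =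
        th m (z : F) := by
      rw [th_mul, th_th h, th_pow]
      have := th_ne_zero (m := m) hz0
      field_simp
    rw [← e]
    exact mul_mem (th_mem_subfield _ hκ) (inv_mem hκ)
  apply sq_mem_subfield hF
  rw [← th_th h]
  exact th_mem_subfield _ hθ

/-- The structure of a subgroup containing the inversion, a central translation and an element
fixing `∞` which is not a translation: it consists of the elements with parameters in a
subfield. -/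
theorem struct_N {m : ℕ} (hm : 1 ≤ m) (hF : Fintype.card F = 2 ^ (2 * m + 1))
    (h : SzHyp F m) (M : Subgroup ↥(Cfsg.Sz F m)) (hW : gW h ∈ M) {b₁ : F} (hb₁ : b₁ ≠ 0)
    (hu : gT h 0 b₁ ∈ M) {y₀ : ↥(Cfsg.Sz F m)} (hy₀M : y₀ ∈ M)
    (hy₀ : y₀.1 • (pinf : Projectivization F (Fin 4 → F)) = pinf) (hy₀T : y₀ ∉ subT h) :
    ∃ K : Subfield F, (∃ z : Fˣ, z ≠ 1 ∧ (z : F) ∈ K) ∧ (∀ a ∈ K, ∀ b ∈ K, gT h a b ∈ M) ∧
      ∀ g ∈ M, (∃ (z : Fˣ) (a b : F), (z : F) ∈ K ∧ a ∈ K ∧ b ∈ K ∧ g = gD h z * gT h a b) ∨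
        (∃ (a b : F) (z : Fˣ) (c d : F), a ∈ K ∧ b ∈ K ∧ (z : F) ∈ K ∧ c ∈ K ∧ d ∈ K ∧
          g = gT h a b * gW h * (gD h z * gT h c d)) := by
  obtain ⟨z₀, a₀, b₀, hz₀M, -, e₀⟩ := stab_decomp hm hF h M hW hb₁ hu hy₀M hy₀
  have hz₀ : z₀ ≠ 1 := by
    rintro rfl
    apply hy₀T
    rw [e₀, map_one, one_mul]
    exact gT_mem_subT h _ _
  have hT1 : ∀ g ∈ M, g.1 • (pinf : Projectivization F (Fin 4 → F)) ≠ pinf →
      ∃ a b : F, gT h a b ∈ M ∧ g.1 • (pinf : Projectivization F (Fin 4 → F)) = paff m a b :=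
    fun g hg hne => orbit_transl hm hF h M hb₁ hu hz₀ hz₀M hg hne
  refine ⟨subK h M, ⟨z₀, hz₀, torus_mem_K hF h M hW hT1 hb₁ hu hz₀M⟩,
    fun a ha b hb => sigma_of_K hF h M hW hT1 hb₁ hu ha hb, ?_⟩
  intro g hgM
  by_cases hg : g.1 • (pinf : Projectivization F (Fin 4 → F)) = pinf
  · left
    obtain ⟨z, a, b, hzM, habM, e⟩ := stab_decomp hm hF h M hW hb₁ hu hgM hg
    obtain ⟨ha, hb⟩ := sigma_mem_K hF h M hW hT1 hb₁ hu habM
    exact ⟨z, a, b, torus_mem_K hF h M hW hT1 hb₁ hu hzM, ha, hb, e⟩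
  · right
    obtain ⟨a, b, habM, e⟩ := hT1 g hgM hg
    have hyM : (gT h a b * gW h)⁻¹ * g ∈ M := mul_mem (inv_mem (mul_mem habM hW)) hgM
    have hy : ((gT h a b * gW h)⁻¹ * g).1 • (pinf : Projectivization F (Fin 4 → F)) = pinf := by
      show ((sT m a b * sW)⁻¹ * g.1) • (pinf : Projectivization F (Fin 4 → F)) = pinf
      rw [mul_smul, e, inv_smul_eq_iff, mul_smul, sW_pinf m, sT_paff_zero h]
    obtain ⟨z, c, d, hzM, hcdM, e2⟩ := stab_decomp hm hF h M hW hb₁ hu hyM hy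
    obtain ⟨ha, hb⟩ := sigma_mem_K hF h M hW hT1 hb₁ hu habM
    obtain ⟨hc, hd⟩ := sigma_mem_K hF h M hW hT1 hb₁ hu hcdM
    refine ⟨a, b, z, c, d, ha, hb, torus_mem_K hF h M hW hT1 hb₁ hu hzM, hc, hd, ?_⟩
    rw [← e2]
    group

end Cfsg.Agent.Lib.helper8
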