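/-
Subgroups of the Suzuki group, part 4: the embedding of the Suzuki group of a subfield, and the
trichotomy for subgroups: a fixed point, cyclic Sylow subgroups, or a conjugate of the Suzuki
group of a subfield.
-/
import Cfsg.Agent.Lib.helper8.SzSub3

set_option autoImplicit false

namespace Cfsg.Agent.Lib.helper8

open Matrix
open scoped Pointwise

variable {F : Type*} [Field F]

/-- In a field with `2^(2k+1)` elements, the Frobenius twists for `m` and `k` agree when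
`2k+1 ∣ 2m+1`. -/
theorem th_compat {K' : Type*} [Field K'] [Finite K'] {m k : ℕ}
    (hK' : Nat.card K' = 2 ^ (2 * k + 1)) (hdiv : 2 * k + 1 ∣ 2 * m + 1) (a : K') :
    th m a = th k a := by
  have := Fintype.ofFinite K'
  have hc : Fintype.card K' = 2 ^ (2 * k + 1) := by rw [← Nat.card_eq_fintype_card, hK']
  have hpow : ∀ j : ℕ, a ^ (2 ^ ((2 * k + 1) * j)) = a := by
    intro j
    induction j with
    | zero => simp
    | succ j ih =>
      rw [mul_add, mul_one, pow_add, pow_mul a, ih, ← hc]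
      exact FiniteField.pow_card a
  have hkm : k ≤ m := by
    have := Nat.le_of_dvd (by omega) hdiv
    omega
  have hd2 : 2 * k + 1 ∣ 2 * (m - k) := by
    have e : 2 * (m - k) = (2 * m + 1) - (2 * k + 1) := by omega
    rw [e]
    exact Nat.dvd_sub hdiv (dvd_refl _)
  have hcop : Nat.Coprime (2 * k + 1) 2 := by
    rw [Nat.coprime_comm, Nat.Prime.coprime_iff_not_dvd Nat.prime_two]
    omega
  obtain ⟨j, hj⟩ := hcop.dvd_of_dvd_mul_left hd2
  unfold th
  have e : m + 1 = (2 * k + 1) * j + (k + 1) := by omega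
  rw [e, pow_add, pow_mul a, hpow]

theorem th_map {K' : Type*} [Field K'] [Finite K'] {m k : ℕ}
    (hK' : Nat.card K' = 2 ^ (2 * k + 1)) (hdiv : 2 * k + 1 ∣ 2 * m + 1) (ι : K' →+* F)
    (a : K') : ι (th k a) = th m (ι a) := by
  rw [← th_compat hK' hdiv a]
  unfold th
  rw [map_pow]

theorem map_sT' {K' : Type*} [Field K'] (m k : ℕ) (ι : K' →+* F)
    (hθ : ∀ a : K', ι (th k a) = th m (ι a)) (a b : K') :
    Matrix.SpecialLinearGroup.map ι (sT k a b) = sT m (ι a) (ι b) := by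
  have hff : ι (ff k a b) = ff m (ι a) (ι b) := by
    rw [ff_eq, ff_eq, map_add, map_add, map_mul, map_mul, map_pow, hθ, hθ]
  apply Subtype.ext
  rw [Matrix.SpecialLinearGroup.map_apply_coe]
  show ι.mapMatrix (matT k a b) = matT m (ι a) (ι b)
  ext i j
  fin_cases i <;> fin_cases j <;> simp [matT, RingHom.mapMatrix_apply, hθ, hff]

theorem map_sD' {K' : Type*} [Field K'] (m k : ℕ) (ι : K' →+* F)
    (hθ : ∀ a : K', ι (th k a) = th m (ι a)) (z : K'ˣ) :
    Matrix.SpecialLinearGroup.map ι (sD k z) = sD m (Units.map (ι : K' →* F) z) := by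
  apply Subtype.ext
  rw [Matrix.SpecialLinearGroup.map_apply_coe]
  show ι.mapMatrix (matD k (z : K')) = matD m ((Units.map (ι : K' →* F) z : Fˣ) : F)
  ext i j
  fin_cases i <;> fin_cases j <;> simp [matD, RingHom.mapMatrix_apply, hθ]

theorem map_sW' {K' : Type*} [Field K'] (ι : K' →+* F) :
    Matrix.SpecialLinearGroup.map ι (sW : Matrix.SpecialLinearGroup (Fin 4) K') = sW := by
  apply Subtype.ext
  rw [Matrix.SpecialLinearGroup.map_apply_coe]
  show ι.mapMatrix (matW : Matrix (Fin 4) (Fin 4) K') = matW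
  ext i j
  fin_cases i <;> fin_cases j <;> simp [matW, RingHom.mapMatrix_apply]

variable [Fintype F]

theorem map_mem_Sz' {K' : Type*} [Field K'] [Finite K'] {m k : ℕ}
    (hF : Fintype.card F = 2 ^ (2 * m + 1)) (hk : 1 ≤ k) (hK' : Nat.card K' = 2 ^ (2 * k + 1))
    (hdiv : 2 * k + 1 ∣ 2 * m + 1) (ι : K' →+* F)
    {g : Matrix.SpecialLinearGroup (Fin 4) K'} (hg : g ∈ Cfsg.Sz K' k) :
    Matrix.SpecialLinearGroup.map ι g ∈ Cfsg.Sz F m := by
  have := Fintype.ofFinite K'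
  have hc : Fintype.card K' = 2 ^ (2 * k + 1) := by rw [← Nat.card_eq_fintype_card, hK']
  have h := szHyp_of_card hF
  have hθ := th_map hK' hdiv ι
  rcases sz_decomp hk hc hg with ⟨a, b, z, rfl⟩ | ⟨a, b, c, d, z, rfl⟩
  · rw [map_mul, map_sT' m k ι hθ, map_sD' m k ι hθ]
    exact mul_mem (sT_mem h _ _) (sD_mem h _)
  · rw [map_mul, map_mul, map_mul, map_sT' m k ι hθ, map_sT' m k ι hθ, map_sD' m k ι hθ,
      map_sW']
    exact mul_mem (mul_mem (mul_mem (sT_mem h _ _) (sW_mem h)) (sT_mem h _ _)) (sD_mem h _)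

/-- The embedding of the Suzuki group of a subfield. -/
def szEmb {K' : Type*} [Field K'] [Finite K'] {m k : ℕ}
    (hF : Fintype.card F = 2 ^ (2 * m + 1)) (hk : 1 ≤ k) (hK' : Nat.card K' = 2 ^ (2 * k + 1))
    (hdiv : 2 * k + 1 ∣ 2 * m + 1) (ι : K' →+* F) : ↥(Cfsg.Sz K' k) →* ↥(Cfsg.Sz F m) :=
  ((Matrix.SpecialLinearGroup.map ι).comp (Cfsg.Sz K' k).subtype).codRestrict (Cfsg.Sz F m)
    (fun g => map_mem_Sz' hF hk hK' hdiv ι g.2)

theorem szEmb_coe {K' : Type*} [Field K'] [Finite K'] {m k : ℕ}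
    (hF : Fintype.card F = 2 ^ (2 * m + 1)) (hk : 1 ≤ k) (hK' : Nat.card K' = 2 ^ (2 * k + 1))
    (hdiv : 2 * k + 1 ∣ 2 * m + 1) (ι : K' →+* F) (g : ↥(Cfsg.Sz K' k)) :
    ((szEmb hF hk hK' hdiv ι g : ↥(Cfsg.Sz F m)) : Matrix.SpecialLinearGroup (Fin 4) F) =
      Matrix.SpecialLinearGroup.map ι g.1 := rfl

theorem szEmb_injective {K' : Type*} [Field K'] [Finite K'] {m k : ℕ}
    (hF : Fintype.card F = 2 ^ (2 * m + 1)) (hk : 1 ≤ k) (hK' : Nat.card K' = 2 ^ (2 * k + 1))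
    (hdiv : 2 * k + 1 ∣ 2 * m + 1) (ι : K' →+* F) :
    Function.Injective (szEmb hF hk hK' hdiv ι) := by
  intro g g' e
  have e1 : Matrix.SpecialLinearGroup.map ι g.1 = Matrix.SpecialLinearGroup.map ι g'.1 :=
    congrArg Subtype.val e
  apply Subtype.ext
  apply Subtype.ext
  ext i j
  have e2 := congrArg (fun M : Matrix.SpecialLinearGroup (Fin 4) F => M.1 i j) e1
  simp only [Matrix.SpecialLinearGroup.map_apply_coe, RingHom.mapMatrix_apply,
    Matrix.map_apply] at e2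
  exact ι.injective e2

theorem szEmb_gT {K' : Type*} [Field K'] [Fintype K'] {m k : ℕ}
    (hF : Fintype.card F = 2 ^ (2 * m + 1)) (hk : 1 ≤ k) (hK' : Nat.card K' = 2 ^ (2 * k + 1))
    (hdiv : 2 * k + 1 ∣ 2 * m + 1) (ι : K' →+* F) (h : SzHyp F m) (h' : SzHyp K' k)
    (a b : K') : szEmb hF hk hK' hdiv ι (gT h' a b) = gT h (ι a) (ι b) := by
  apply Subtype.ext
  rw [szEmb_coe]
  exact map_sT' m k ι (th_map hK' hdiv ι) a b

theorem szEmb_gD {K' : Type*} [Field K'] [Fintype K'] {m k : ℕ}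
    (hF : Fintype.card F = 2 ^ (2 * m + 1)) (hk : 1 ≤ k) (hK' : Nat.card K' = 2 ^ (2 * k + 1))
    (hdiv : 2 * k + 1 ∣ 2 * m + 1) (ι : K' →+* F) (h : SzHyp F m) (h' : SzHyp K' k)
    (z : K'ˣ) : szEmb hF hk hK' hdiv ι (gD h' z) = gD h (Units.map (ι : K' →* F) z) := by
  apply Subtype.ext
  rw [szEmb_coe]
  exact map_sD' m k ι (th_map hK' hdiv ι) z

theorem szEmb_gW {K' : Type*} [Field K'] [Fintype K'] {m k : ℕ}
    (hF : Fintype.card F = 2 ^ (2 * m + 1)) (hk : 1 ≤ k) (hK' : Nat.card K' = 2 ^ (2 * k + 1))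
    (hdiv : 2 * k + 1 ∣ 2 * m + 1) (ι : K' →+* F) (h : SzHyp F m) (h' : SzHyp K' k) :
    szEmb hF hk hK' hdiv ι (gW h') = gW h := by
  apply Subtype.ext
  rw [szEmb_coe]
  exact map_sW' ι

/-- A subgroup containing the inversion and the translations with parameters in the image of
the subfield contains the image of the embedding. -/
theorem szEmb_range_le {K' : Type*} [Field K'] [Finite K'] {m k : ℕ}
    (hF : Fintype.card F = 2 ^ (2 * m + 1)) (hk : 1 ≤ k) (hK' : Nat.card K' = 2 ^ (2 * k + 1))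
    (hdiv : 2 * k + 1 ∣ 2 * m + 1) (ι : K' →+* F) (h : SzHyp F m)
    (M : Subgroup ↥(Cfsg.Sz F m)) (hW : gW h ∈ M) (hT : ∀ a b : K', gT h (ι a) (ι b) ∈ M) :
    (szEmb hF hk hK' hdiv ι).range ≤ M := by
  have := Fintype.ofFinite K'
  have hc : Fintype.card K' = 2 ^ (2 * k + 1) := by rw [← Nat.card_eq_fintype_card, hK']
  have h' := szHyp_of_card hc
  rintro _ ⟨x, rfl⟩
  have key : Cfsg.Sz K' k ≤
      (M.comap (szEmb hF hk hK' hdiv ι)).map (Cfsg.Sz K' k).subtype := by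
    apply gen_top hk hc _ _ (g₀ := sW) _ (sW_mem h') _
    · intro a b
      refine ⟨gT h' a b, ?_, rfl⟩
      show szEmb hF hk hK' hdiv ι (gT h' a b) ∈ M
      rw [szEmb_gT hF hk hK' hdiv ι h h']
      exact hT a b
    · refine ⟨gW h', ?_, rfl⟩
      show szEmb hF hk hK' hdiv ι (gW h') ∈ M
      rw [szEmb_gW hF hk hK' hdiv ι h h']
      exact hW
    · rw [sW_pinf k]
      exact paff_ne_pinf k 0 0
  obtain ⟨y, hy, e⟩ := key x.2
  have hyx : y = x := Subtype.ext e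
  rw [← hyx]
  exact hy

/-- A subgroup all of whose elements have parameters in the image of the subfield lies in the
image of the embedding. -/
theorem le_szEmb_range {K' : Type*} [Field K'] [Finite K'] {m k : ℕ}
    (hF : Fintype.card F = 2 ^ (2 * m + 1)) (hk : 1 ≤ k) (hK' : Nat.card K' = 2 ^ (2 * k + 1))
    (hdiv : 2 * k + 1 ∣ 2 * m + 1) (ι : K' →+* F) (h : SzHyp F m)
    (M : Subgroup ↥(Cfsg.Sz F m)) (K : Subfield F) (hK : ∀ x ∈ K, ∃ a : K', ι a = x)
    (hall : ∀ g ∈ M,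
      (∃ (z : Fˣ) (a b : F), (z : F) ∈ K ∧ a ∈ K ∧ b ∈ K ∧ g = gD h z * gT h a b) ∨
        (∃ (a b : F) (z : Fˣ) (c d : F), a ∈ K ∧ b ∈ K ∧ (z : F) ∈ K ∧ c ∈ K ∧ d ∈ K ∧
          g = gT h a b * gW h * (gD h z * gT h c d))) :
    M ≤ (szEmb hF hk hK' hdiv ι).range := by
  have := Fintype.ofFinite K'
  have hc : Fintype.card K' = 2 ^ (2 * k + 1) := by rw [← Nat.card_eq_fintype_card, hK']
  have h' := szHyp_of_card hc
  have hTr : ∀ a ∈ K, ∀ b ∈ K, gT h a b ∈ (szEmb hF hk hK' hdiv ι).range := by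
    intro a ha b hb
    obtain ⟨a', rfl⟩ := hK a ha
    obtain ⟨b', rfl⟩ := hK b hb
    exact ⟨gT h' a' b', szEmb_gT hF hk hK' hdiv ι h h' a' b'⟩
  have hDr : ∀ z : Fˣ, (z : F) ∈ K → gD h z ∈ (szEmb hF hk hK' hdiv ι).range := by
    intro z hz
    obtain ⟨z', hz'⟩ := hK _ hz
    have hz'0 : z' ≠ 0 := by
      rintro rfl
      rw [map_zero] at hz'
      exact z.ne_zero hz'.symm
    refine ⟨gD h' (Units.mk0 z' hz'0), ?_⟩
    rw [szEmb_gD hF hk hK' hdiv ι h h']
    congr 1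
    ext
    exact hz'
  have hWr : gW h ∈ (szEmb hF hk hK' hdiv ι).range := ⟨gW h', szEmb_gW hF hk hK' hdiv ι h h'⟩
  intro g hg
  rcases hall g hg with ⟨z, a, b, hz, ha, hb, rfl⟩ | ⟨a, b, z, c, d, ha, hb, hz, hc, hd, rfl⟩
  · exact mul_mem (hDr z hz) (hTr a ha b hb)
  · exact mul_mem (mul_mem (hTr a ha b hb) hWr) (mul_mem (hDr z hz) (hTr c hc d hd))

/-- The cardinality of a subfield. -/
theorem subfield_card_pow {N : ℕ} (hF : Fintype.card F = 2 ^ N) (K : Subfield F) :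
    ∃ n, n ∣ N ∧ Nat.card K = 2 ^ n := by
  classical
  have e := Module.natCard_eq_pow_finrank (K := K) (V := F)
  rw [Nat.card_eq_fintype_card, hF] at e
  have hd : Module.finrank K F ≠ 0 := by
    intro h0
    rw [h0, pow_zero] at e
    have h1 := Fintype.one_lt_card (α := F)
    rw [hF] at h1
    omega
  have h1 : Nat.card K ∣ 2 ^ N := by
    rw [e]
    exact dvd_pow_self _ hd
  obtain ⟨n, -, hn⟩ := (Nat.dvd_prime_pow Nat.prime_two).1 h1
  exact ⟨n, dvd_of_subfield_card hF K hn, hn⟩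

/-- A subfield with `2^n` elements is the image of the Galois field. -/
theorem exists_ringHom_of_card (K : Subfield F) {n : ℕ} (hK : Nat.card K = 2 ^ n) (hn : n ≠ 0) :
    ∃ ι : GaloisField 2 n →+* F, ∀ x : F, x ∈ K ↔ ∃ a, ι a = x := by
  classical
  let _ : Fintype K := Fintype.ofFinite K
  let _ : Fintype (GaloisField 2 n) := Fintype.ofFinite _
  have hcard : Fintype.card (GaloisField 2 n) = Fintype.card K := by
    rw [← Nat.card_eq_fintype_card, ← Nat.card_eq_fintype_card, GaloisField.card 2 n hn, hK]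
  let e : GaloisField 2 n ≃+* K := FiniteField.ringEquivOfCardEq hcard
  refine ⟨K.subtype.comp e.toRingHom, fun x => ⟨fun hx => ⟨e.symm ⟨x, hx⟩, ?_⟩, ?_⟩⟩
  · simp
  · rintro ⟨a, rfl⟩
    exact (e a).2

/-- The trichotomy for subgroups of the Suzuki group: a subgroup fixes a point of the ovoid, or
has all its Sylow subgroups cyclic, or is conjugate to the Suzuki group of a subfield. -/
theorem sub_main {m : ℕ} (hm : 1 ≤ m) (hF : Fintype.card F = 2 ^ (2 * m + 1))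
    (M : Subgroup ↥(Cfsg.Sz F m)) :
    (∃ p ∈ Cfsg.suzukiOvoid F m, ∀ g ∈ M, g.1 • p = p) ∨ IsZGroup ↥M ∨
    ∃ (k : ℕ) (hk : 1 ≤ k) (hdiv : 2 * k + 1 ∣ 2 * m + 1) (c : ↥(Cfsg.Sz F m))
      (ι : GaloisField 2 (2 * k + 1) →+* F),
      M.map (MulAut.conj c).toMonoidHom =
        (szEmb hF hk (GaloisField.card 2 (2 * k + 1) (by omega)) hdiv ι).range := by
  have h := szHyp_of_card hF
  by_cases hfix : ∃ p ∈ Cfsg.suzukiOvoid F m, ∀ g ∈ M, g.1 • p = p
  · exact Or.inl hfix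
  right
  by_cases hZ : IsZGroup ↥M
  · exact Or.inl hZ
  right
  have hinv : ∃ u ∈ M, u ≠ 1 ∧ u * u = 1 := by
    by_contra hcon
    apply hZ
    apply isZGroup_of_two hm hF
    intro P
    have h1 : ∀ x : ↥(P : Subgroup ↥M), x = 1 := by
      intro x
      by_contra hx
      obtain ⟨j, hj⟩ := (IsPGroup.iff_orderOf.1 P.isPGroup') x
      have hj0 : j ≠ 0 := by
        rintro rfl
        rw [pow_zero, orderOf_eq_one_iff] at hj
        exact hx hj
      apply hcon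
      refine ⟨(x ^ 2 ^ (j - 1)).1.1, (x ^ 2 ^ (j - 1)).1.2, ?_, ?_⟩
      · intro e
        have e' : x ^ 2 ^ (j - 1) = 1 := Subtype.ext (Subtype.ext e)
        have h2 := orderOf_dvd_of_pow_eq_one e'
        rw [hj] at h2
        have h3 := Nat.le_of_dvd (by positivity) h2
        have h4 : 2 ^ (j - 1) < 2 ^ j := Nat.pow_lt_pow_right (by norm_num) (by omega)
        omega
      · have e' : x ^ 2 ^ (j - 1) * x ^ 2 ^ (j - 1) = 1 := by
          rw [← pow_add, ← two_mul, ← pow_succ', Nat.sub_add_cancel (by omega), ← hj,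
            pow_orderOf_eq_one]
        exact congrArg (fun t : ↥(P : Subgroup ↥M) => t.1.1) e'
    have : Subsingleton ↥(P : Subgroup ↥M) := ⟨fun a b => by rw [h1 a, h1 b]⟩
    exact isCyclic_of_subsingleton
  obtain ⟨u, huM, hu1, hu2⟩ := hinv
  obtain ⟨α, hα, huα⟩ := invol_exists_fix hm hF u.2 (congrArg Subtype.val hu2)
  obtain ⟨g₀, hg₀M, hg₀α⟩ : ∃ g₀ ∈ M, g₀.1 • α ≠ α := by
    by_contra hcon
    push Not at hcon
    exact hfix ⟨α, hα, hcon⟩
  by_cases hI : ∀ y ∈ M, y.1 • α = α → y ^ 4 = 1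
  · exfalso
    apply hZ
    apply isZGroup_of_two hm hF
    exact fun P => sylow_two_cyclic_of_stab hm hF M huM hu1 hu2 hα huα hg₀M hg₀α hI P
  · push Not at hI
    obtain ⟨y₀, hy₀M, hy₀α, hy₀4⟩ := hI
    have hβ : g₀.1 • α ∈ Cfsg.suzukiOvoid F m := smul_mem_ovoid g₀.2 hα
    have hv₀M : g₀ * u * g₀⁻¹ ∈ M := mul_mem (mul_mem hg₀M huM) (inv_mem hg₀M)
    have hv₀1 : g₀ * u * g₀⁻¹ ≠ 1 := fun e => hu1 (eq_one_of_conj_eq_one e)
    have hv₀2 : (g₀ * u * g₀⁻¹) * (g₀ * u * g₀⁻¹) = 1 := by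
      calc (g₀ * u * g₀⁻¹) * (g₀ * u * g₀⁻¹) = g₀ * (u * u) * g₀⁻¹ := by group
        _ = 1 := by rw [hu2]; group
    have hv₀β : (g₀ * u * g₀⁻¹).1 • (g₀.1 • α) = g₀.1 • α := by
      show (g₀.1 * u.1 * g₀.1⁻¹) • (g₀.1 • α) = g₀.1 • α
      rw [mul_smul, inv_smul_smul, mul_smul, huα]
    obtain ⟨j, -, -, htα, htβ⟩ :=
      dihedral_conj hm hF hu1 hu2 hv₀1 hv₀2 hα hβ (Ne.symm hg₀α) huα hv₀β
    have htM : (u * (g₀ * u * g₀⁻¹)) ^ j * u ∈ M :=
      mul_mem (pow_mem (mul_mem huM hv₀M) _) huM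
    obtain ⟨c, hcα, hcβ, hct⟩ := exists_normalise hm hF hα hβ (Ne.symm hg₀α) htα htβ
    have hmemM₁ : ∀ x ∈ M, c * x * c⁻¹ ∈ M.map (MulAut.conj c).toMonoidHom :=
      fun x hx => ⟨x, hx, rfl⟩
    have hW : gW h ∈ M.map (MulAut.conj c).toMonoidHom := by
      rw [← hct]
      exact hmemM₁ _ htM
    have hu'fix : (c * u * c⁻¹).1 • (pinf : Projectivization F (Fin 4 → F)) = pinf := by
      show (c.1 * u.1 * c.1⁻¹) • (pinf : Projectivization F (Fin 4 → F)) = pinf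
      rw [← hcα, mul_smul, inv_smul_smul, mul_smul, huα]
    have hu'1 : c * u * c⁻¹ ≠ 1 := fun e => hu1 (eq_one_of_conj_eq_one e)
    have hu'2 : (c * u * c⁻¹) * (c * u * c⁻¹) = 1 := by
      calc (c * u * c⁻¹) * (c * u * c⁻¹) = c * (u * u) * c⁻¹ := by group
        _ = 1 := by rw [hu2]; group
    obtain ⟨b₁, hb₁, eb₁⟩ := invol_at_inf hm hF hu'1 hu'2 hu'fix
    have hu' : gT h 0 b₁ ∈ M.map (MulAut.conj c).toMonoidHom := by
      rw [← eb₁]
      exact hmemM₁ u huM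
    have hy'fix : (c * y₀ * c⁻¹).1 • (pinf : Projectivization F (Fin 4 → F)) = pinf := by
      show (c.1 * y₀.1 * c.1⁻¹) • (pinf : Projectivization F (Fin 4 → F)) = pinf
      rw [← hcα, mul_smul, inv_smul_smul, mul_smul, hy₀α]
    have hy'T : c * y₀ * c⁻¹ ∉ subT h := by
      intro hT
      obtain ⟨a, b, e⟩ := (mem_subT h _).1 hT
      apply hy₀4
      have e4 : (c * y₀ * c⁻¹) ^ 4 = 1 := by
        apply Subtype.ext
        rw [Subgroup.coe_pow, e, sT_pow_four h]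
        rfl
      rw [conj_pow] at e4
      exact eq_one_of_conj_eq_one e4
    obtain ⟨K, ⟨z, hz1, hzK⟩, hTK, hall⟩ :=
      struct_N hm hF h _ hW hb₁ hu' (hmemM₁ y₀ hy₀M) hy'fix hy'T
    obtain ⟨n, hn, hKn⟩ := subfield_card_pow hF K
    have hn2 : 2 ≤ n := by
      by_contra hlt
      have hn01 : n = 0 ∨ n = 1 := by omega
      have := Fintype.ofFinite K
      have hcK : Fintype.card K = 2 ^ n := by rw [← Nat.card_eq_fintype_card, hKn]
      rcases hn01 with rfl | rfl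
      · have h1 := Fintype.one_lt_card (α := K)
        rw [hcK] at h1
        simp at h1
      · have e := FiniteField.pow_card (⟨(z : F), hzK⟩ : K)
        rw [hcK, pow_one] at e
        have e' : (z : F) ^ 2 = (z : F) := by simpa using congrArg Subtype.val e
        have h0 : (z : F) * ((z : F) - 1) = 0 := by rw [mul_sub, mul_one, ← pow_two, e', sub_self]
        rcases mul_eq_zero.1 h0 with h0 | h0
        · exact z.ne_zero h0
        · exact hz1 (Units.ext (sub_eq_zero.1 h0))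
    have hodd : n % 2 = 1 := Nat.odd_iff.1 (Odd.of_dvd_nat (odd_two_mul_add_one m) hn)
    obtain ⟨k, rfl⟩ : ∃ k, n = 2 * k + 1 := ⟨n / 2, by omega⟩
    have hk : 1 ≤ k := by omega
    obtain ⟨ι, hι⟩ := exists_ringHom_of_card K hKn (by omega)
    refine ⟨k, hk, hn, c, ι, le_antisymm ?_ ?_⟩
    · exact le_szEmb_range hF hk _ hn ι h _ K (fun x hx => (hι x).1 hx) hall
    · apply szEmb_range_le hF hk _ hn ι h _ hW
      intro a b
      exact hTK _ ((hι _).2 ⟨a, rfl⟩) _ ((hι _).2 ⟨b, rfl⟩)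

end Cfsg.Agent.Lib.helper8
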