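/-
Subgroups of the Suzuki group, part 5: subgroups isomorphic to a Suzuki group are conjugate to
the standard subfield subgroup.
-/
import Cfsg.Agent.Lib.helper8.SzSub4
import Cfsg.Agent.S0325

set_option autoImplicit false

namespace Cfsg.Agent.Lib.helper8

open Matrix
open scoped Pointwise

variable {F : Type*} [Field F] [Fintype F]

/-- Two involutions fixing the same point of the ovoid commute. -/
theorem invol_comm_of_fix {m : ℕ} (hm : 1 ≤ m) (hF : Fintype.card F = 2 ^ (2 * m + 1))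
    {u v : ↥(Cfsg.Sz F m)} (hu1 : u ≠ 1) (hu2 : u * u = 1) (hv1 : v ≠ 1) (hv2 : v * v = 1)
    {p : Projectivization F (Fin 4 → F)} (hp : p ∈ Cfsg.suzukiOvoid F m)
    (hup : u.1 • p = p) (hvp : v.1 • p = p) : u * v = v * u := by
  have h := szHyp_of_card hF
  obtain ⟨k, hk, hkp⟩ := exists_to_inf h hp
  obtain ⟨kG, hkG⟩ : ∃ kG : ↥(Cfsg.Sz F m), kG.1 = k := ⟨⟨k, hk⟩, rfl⟩
  have key : ∀ w : ↥(Cfsg.Sz F m), w ≠ 1 → w * w = 1 → w.1 • p = p →
      ∃ b : F, kG * w * kG⁻¹ = gT h 0 b := by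
    intro w hw1 hw2 hwp
    have h1 : kG * w * kG⁻¹ ≠ 1 := fun e => hw1 (eq_one_of_conj_eq_one e)
    have h2 : (kG * w * kG⁻¹) * (kG * w * kG⁻¹) = 1 := by
      calc (kG * w * kG⁻¹) * (kG * w * kG⁻¹) = kG * (w * w) * kG⁻¹ := by group
        _ = 1 := by rw [hw2]; group
    have h3 : (kG * w * kG⁻¹).1 • (pinf : Projectivization F (Fin 4 → F)) = pinf := by
      show (kG.1 * w.1 * kG.1⁻¹) • (pinf : Projectivization F (Fin 4 → F)) = pinf
      rw [hkG, ← hkp, mul_smul, inv_smul_smul, mul_smul, hwp]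
    obtain ⟨b, -, e⟩ := invol_at_inf hm hF h1 h2 h3
    exact ⟨b, e⟩
  obtain ⟨b, eb⟩ := key u hu1 hu2 hup
  obtain ⟨b', eb'⟩ := key v hv1 hv2 hvp
  have e1 : (kG * u * kG⁻¹) * (kG * v * kG⁻¹) = (kG * v * kG⁻¹) * (kG * u * kG⁻¹) := by
    rw [eb, eb', ← gT_zero_add, ← gT_zero_add, add_comm]
  calc u * v = kG⁻¹ * ((kG * u * kG⁻¹) * (kG * v * kG⁻¹)) * kG := by group
    _ = kG⁻¹ * ((kG * v * kG⁻¹) * (kG * u * kG⁻¹)) * kG := by rw [e1]
    _ = v * u := by group

/-- The Suzuki group contains two involutions which do not commute. -/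
theorem exists_noncomm_invol {m : ℕ} (hm : 1 ≤ m) (hF : Fintype.card F = 2 ^ (2 * m + 1)) :
    ∃ u v : ↥(Cfsg.Sz F m), u ≠ 1 ∧ u * u = 1 ∧ v ≠ 1 ∧ v * v = 1 ∧ u * v ≠ v * u := by
  have h := szHyp_of_card hF
  have hu1 : gT h 0 1 ≠ 1 := by
    intro e
    rw [← gT_zero_zero h] at e
    exact one_ne_zero (gT_zero_inj h e)
  have hu2 : gT h 0 1 * gT h 0 1 = 1 := gT_zero_sq h 1
  have hufix : (gT h 0 1).1 • (pinf : Projectivization F (Fin 4 → F)) = pinf := sT_pinf m 0 1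
  have hv1 : gW h * gT h 0 1 * (gW h)⁻¹ ≠ 1 := fun e => hu1 (eq_one_of_conj_eq_one e)
  have hv2 : (gW h * gT h 0 1 * (gW h)⁻¹) * (gW h * gT h 0 1 * (gW h)⁻¹) = 1 := by
    calc (gW h * gT h 0 1 * (gW h)⁻¹) * (gW h * gT h 0 1 * (gW h)⁻¹)
        = gW h * (gT h 0 1 * gT h 0 1) * (gW h)⁻¹ := by group
      _ = 1 := by rw [hu2]; group
  refine ⟨gT h 0 1, gW h * gT h 0 1 * (gW h)⁻¹, hu1, hu2, hv1, hv2, ?_⟩
  intro hcomm
  have f1 := comm_fix hm hF (gW h * gT h 0 1 * (gW h)⁻¹).2 (gT h 0 1).2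
    (fun e => hu1 (Subtype.ext e)) (congrArg Subtype.val hu2) (congrArg Subtype.val hcomm.symm)
    (pinf_mem m) hufix
  have f2 : (gW h * gT h 0 1 * (gW h)⁻¹).1 • paff m (0 : F) 0 = paff m 0 0 := by
    show (sW * sT m 0 1 * sW⁻¹) • paff m (0 : F) 0 = paff m 0 0
    rw [sW_inv, mul_smul, mul_smul, sW_paff_zero m, sT_pinf, sW_pinf m]
  exact paff_ne_pinf m 0 0 (invol_fix_unique hm hF (gW h * gT h 0 1 * (gW h)⁻¹).2
    (fun e => hv1 (Subtype.ext e)) (congrArg Subtype.val hv2) (paff_mem m 0 0) (pinf_mem m) f2 f1)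

/-- A subgroup isomorphic to a Suzuki group fixes no point of the ovoid. -/
theorem not_fix_of_iso {K : Type*} [Field K] [Fintype K] {m k : ℕ} (hm : 1 ≤ m)
    (hF : Fintype.card F = 2 ^ (2 * m + 1)) (hk : 1 ≤ k) (hK : Fintype.card K = 2 ^ (2 * k + 1))
    (S : Subgroup ↥(Cfsg.Sz F m)) (e : ↥S ≃* ↥(Cfsg.Sz K k))
    {p : Projectivization F (Fin 4 → F)} (hp : p ∈ Cfsg.suzukiOvoid F m)
    (hfix : ∀ g ∈ S, g.1 • p = p) : False := by
  obtain ⟨u, v, hu1, hu2, hv1, hv2, hne⟩ := exists_noncomm_invol hk hK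
  apply hne
  have hu1' : (e.symm u).1 ≠ 1 := by
    intro h1
    apply hu1
    have h2 : e.symm u = 1 := Subtype.ext h1
    exact (map_eq_one_iff e.symm e.symm.injective).1 h2
  have hv1' : (e.symm v).1 ≠ 1 := by
    intro h1
    apply hv1
    have h2 : e.symm v = 1 := Subtype.ext h1
    exact (map_eq_one_iff e.symm e.symm.injective).1 h2
  have hu2' : (e.symm u).1 * (e.symm u).1 = 1 := by
    have h2 : e.symm u * e.symm u = 1 := by rw [← map_mul, hu2, map_one]
    exact congrArg Subtype.val h2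
  have hv2' : (e.symm v).1 * (e.symm v).1 = 1 := by
    have h2 : e.symm v * e.symm v = 1 := by rw [← map_mul, hv2, map_one]
    exact congrArg Subtype.val h2
  have key := invol_comm_of_fix hm hF hu1' hu2' hv1' hv2' hp (hfix _ (e.symm u).2)
    (hfix _ (e.symm v).2)
  have h3 : e.symm u * e.symm v = e.symm v * e.symm u := Subtype.ext key
  rw [← map_mul, ← map_mul] at h3
  exact e.symm.injective h3

omit [Fintype F] in
/-- A subgroup isomorphic to a Suzuki group does not have all its Sylow subgroups cyclic. -/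
theorem not_isZGroup_of_iso {K : Type*} [Field K] [Fintype K] {m k : ℕ}
    (hk : 1 ≤ k) (hK : Fintype.card K = 2 ^ (2 * k + 1))
    (S : Subgroup ↥(Cfsg.Sz F m)) (e : ↥S ≃* ↥(Cfsg.Sz K k)) (hZ : IsZGroup ↥S) : False := by
  obtain ⟨u, v, -, -, -, -, hne⟩ := exists_noncomm_invol hk hK
  have hZ' : IsZGroup ↥(Cfsg.Sz K k) :=
    IsZGroup.of_injective (f := e.symm.toMonoidHom) e.symm.injective
  have hsimple : IsSimpleGroup ↥(Cfsg.Sz K k) := Cfsg.Agent.S0325.result hk hK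
  have hsol : Group.IsSolvable ↥(Cfsg.Sz K k) := inferInstance
  exact hne (IsSimpleGroup.comm_iff_isSolvable.2 hsol u v)

theorem szCard_strictMono {s t : ℕ} (hs : 2 ≤ s) (hst : s < t) :
    s ^ 2 * (s ^ 2 + 1) * (s - 1) < t ^ 2 * (t ^ 2 + 1) * (t - 1) := by
  have h1 : s ^ 2 < t ^ 2 := Nat.pow_lt_pow_left hst (by norm_num)
  have h2 : s ^ 2 + 1 < t ^ 2 + 1 := by omega
  have h3 : s - 1 < t - 1 := by omega
  exact Nat.mul_lt_mul'' (Nat.mul_lt_mul'' h1 h2) h3

omit [Fintype F] in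
theorem card_frob_fix_le (s : ℕ) (hs : 1 < s) : {x : F | x ^ s = x}.ncard ≤ s := by
  classical
  have hne : (Polynomial.X ^ s - Polynomial.X : Polynomial F) ≠ 0 :=
    FiniteField.X_pow_card_sub_X_ne_zero F hs
  have hdeg : (Polynomial.X ^ s - Polynomial.X : Polynomial F).natDegree = s :=
    FiniteField.X_pow_card_sub_X_natDegree_eq F hs
  have hsub : {x : F | x ^ s = x} ⊆
      ((Polynomial.X ^ s - Polynomial.X : Polynomial F).roots.toFinset : Set F) := by
    intro x hx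
    have hx' : x ^ s = x := hx
    rw [Finset.mem_coe, Multiset.mem_toFinset, Polynomial.mem_roots hne]
    simp [Polynomial.IsRoot, hx']
  calc {x : F | x ^ s = x}.ncard
      ≤ ((Polynomial.X ^ s - Polynomial.X : Polynomial F).roots.toFinset : Set F).ncard :=
        Set.ncard_le_ncard hsub (Finset.finite_toSet _)
    _ = (Polynomial.X ^ s - Polynomial.X : Polynomial F).roots.toFinset.card :=
        Set.ncard_coe_finset _
    _ ≤ Multiset.card (Polynomial.X ^ s - Polynomial.X : Polynomial F).roots :=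
        Multiset.toFinset_card_le _
    _ ≤ (Polynomial.X ^ s - Polynomial.X : Polynomial F).natDegree := Polynomial.card_roots' _
    _ = s := hdeg

theorem range_eq_frob_fix {K' : Type*} [Field K'] [Finite K'] {s : ℕ} (hs : 1 < s)
    (hK' : Nat.card K' = s) (ι : K' →+* F) : Set.range ι = {x : F | x ^ s = x} := by
  have := Fintype.ofFinite K'
  apply Set.eq_of_subset_of_ncard_le
  · rintro _ ⟨a, rfl⟩
    show ι a ^ s = ι a
    rw [← map_pow, ← hK', Nat.card_eq_fintype_card, FiniteField.pow_card]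
  · have h1 : (Set.range ι).ncard = s := by
      rw [← Set.image_univ, Set.ncard_image_of_injective _ ι.injective, Set.ncard_univ, hK']
    rw [h1]
    exact card_frob_fix_le s hs
  · exact Set.toFinite _

theorem szEmb_range_le_range {K₁ K₂ : Type*} [Field K₁] [Finite K₁] [Field K₂] [Finite K₂]
    {m k : ℕ} (hF : Fintype.card F = 2 ^ (2 * m + 1)) (hk : 1 ≤ k)
    (hK₁ : Nat.card K₁ = 2 ^ (2 * k + 1)) (hK₂ : Nat.card K₂ = 2 ^ (2 * k + 1))
    (hdiv : 2 * k + 1 ∣ 2 * m + 1) (ι₁ : K₁ →+* F) (ι₂ : K₂ →+* F)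
    (hr : ∀ a : K₁, ∃ b : K₂, ι₂ b = ι₁ a) :
    (szEmb hF hk hK₁ hdiv ι₁).range ≤ (szEmb hF hk hK₂ hdiv ι₂).range := by
  have h := szHyp_of_card hF
  have := Fintype.ofFinite K₂
  have hc : Fintype.card K₂ = 2 ^ (2 * k + 1) := by rw [← Nat.card_eq_fintype_card, hK₂]
  have h' := szHyp_of_card hc
  apply szEmb_range_le hF hk hK₁ hdiv ι₁ h
  · exact ⟨gW h', szEmb_gW hF hk hK₂ hdiv ι₂ h h'⟩
  · intro a b
    obtain ⟨a', ha'⟩ := hr a
    obtain ⟨b', hb'⟩ := hr b
    refine ⟨gT h' a' b', ?_⟩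
    rw [szEmb_gT hF hk hK₂ hdiv ι₂ h h', ha', hb']

/-- The image of the embedding does not depend on the chosen model of the subfield. -/
theorem szEmb_range_eq {K₁ K₂ : Type*} [Field K₁] [Finite K₁] [Field K₂] [Finite K₂]
    {m k : ℕ} (hF : Fintype.card F = 2 ^ (2 * m + 1)) (hk : 1 ≤ k)
    (hK₁ : Nat.card K₁ = 2 ^ (2 * k + 1)) (hK₂ : Nat.card K₂ = 2 ^ (2 * k + 1))
    (hdiv : 2 * k + 1 ∣ 2 * m + 1) (ι₁ : K₁ →+* F) (ι₂ : K₂ →+* F) :
    (szEmb hF hk hK₁ hdiv ι₁).range = (szEmb hF hk hK₂ hdiv ι₂).range := by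
  have hs : 1 < 2 ^ (2 * k + 1) := Nat.one_lt_two_pow (by omega)
  have hr : Set.range ι₁ = Set.range ι₂ := by
    rw [range_eq_frob_fix hs hK₁ ι₁, range_eq_frob_fix hs hK₂ ι₂]
  apply le_antisymm
  · apply szEmb_range_le_range hF hk hK₁ hK₂ hdiv ι₁ ι₂
    intro a
    have : ι₁ a ∈ Set.range ι₂ := by rw [← hr]; exact ⟨a, rfl⟩
    exact this
  · apply szEmb_range_le_range hF hk hK₂ hK₁ hdiv ι₂ ι₁
    intro a
    have : ι₂ a ∈ Set.range ι₁ := by rw [hr]; exact ⟨a, rfl⟩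
    exact this

/-- A subgroup isomorphic to the Suzuki group of a subfield is conjugate to the standard subfield
subgroup. -/
theorem conj_of_iso {K : Type*} [Field K] [Fintype K] {m k : ℕ} (hm : 1 ≤ m)
    (hF : Fintype.card F = 2 ^ (2 * m + 1)) (hk : 1 ≤ k) (hK : Fintype.card K = 2 ^ (2 * k + 1))
    (hK' : Nat.card K = 2 ^ (2 * k + 1)) (hdiv : 2 * k + 1 ∣ 2 * m + 1) (ι : K →+* F)
    (S : Subgroup ↥(Cfsg.Sz F m)) (e : ↥S ≃* ↥(Cfsg.Sz K k)) :
    ∃ c : ↥(Cfsg.Sz F m),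
      S.map (MulAut.conj c).toMonoidHom = (szEmb hF hk hK' hdiv ι).range := by
  rcases sub_main hm hF S with ⟨p, hp, hfix⟩ | hZ | ⟨k', hk', hdiv', c, ι', hS⟩
  · exact (not_fix_of_iso hm hF hk hK S e hp hfix).elim
  · exact (not_isZGroup_of_iso hk hK S e hZ).elim
  · have hcard' : Nat.card (GaloisField 2 (2 * k' + 1)) = 2 ^ (2 * k' + 1) :=
      GaloisField.card 2 (2 * k' + 1) (by omega)
    have hkk : k' = k := by
      have : Fintype (GaloisField 2 (2 * k' + 1)) := Fintype.ofFinite _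
      have hc' : Fintype.card (GaloisField 2 (2 * k' + 1)) = 2 ^ (2 * k' + 1) := by
        rw [← Nat.card_eq_fintype_card]
        exact hcard'
      have h1 := Cfsg.Agent.S0324.result hk' hc'
      have h2 := Cfsg.Agent.S0324.result hk hK
      have h3 : Nat.card ↥(Cfsg.Sz (GaloisField 2 (2 * k' + 1)) k') =
          Nat.card ↥(Cfsg.Sz K k) := by
        calc Nat.card ↥(Cfsg.Sz (GaloisField 2 (2 * k' + 1)) k')
            = Nat.card (szEmb hF hk' hcard' hdiv' ι').range :=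
              Nat.card_congr
                (MonoidHom.ofInjective (szEmb_injective hF hk' hcard' hdiv' ι')).toEquiv
          _ = Nat.card ↥(S.map (MulAut.conj c).toMonoidHom) := by rw [hS]
          _ = Nat.card ↥S := Subgroup.card_map_of_injective (MulAut.conj c).injective
          _ = Nat.card ↥(Cfsg.Sz K k) := Nat.card_congr e.toEquiv
      rw [h1, h2] at h3
      by_contra hne
      rcases Nat.lt_or_gt_of_ne hne with hlt | hgt
      · have h4 : 2 ^ (2 * k' + 1) < 2 ^ (2 * k + 1) :=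
          Nat.pow_lt_pow_right (by norm_num) (by omega)
        have h5 := szCard_strictMono (Nat.le_self_pow (n := 2 * k' + 1) (by omega) 2) h4
        omega
      · have h4 : 2 ^ (2 * k + 1) < 2 ^ (2 * k' + 1) :=
          Nat.pow_lt_pow_right (by norm_num) (by omega)
        have h5 := szCard_strictMono (Nat.le_self_pow (n := 2 * k + 1) (by omega) 2) h4
        omega
    subst hkk
    exact ⟨c, hS.trans (szEmb_range_eq hF hk' hcard' hK' hdiv' ι' ι)⟩

end Cfsg.Agent.Lib.helper8
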