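/-
Suzuki group: solvable subgroups. Subgroups fixing a point of the ovoid are solvable; when
`2m+1` is prime a subgroup is solvable if and only if it is proper.
-/
import Cfsg.Agent.Lib.helper8.SzSub5

set_option autoImplicit false

namespace Cfsg.Agent.Lib.helper8

open Matrix
open scoped Pointwise

variable {F : Type*} [Field F] [Fintype F]

omit [Fintype F] in
/-- Uniqueness of the decomposition `sT a b * sD z`. -/
theorem sT_sD_inj {m : ℕ} (h : SzHyp F m) {a b a' b' : F} {z z' : Fˣ}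
    (e : sT m a b * sD m z = sT m a' b' * sD m z') : a = a' ∧ b = b' ∧ z = z' := by
  have e2 := congrArg (fun g : Matrix.SpecialLinearGroup (Fin 4) F => g • paff m (0 : F) 0) e
  simp only [mul_smul, sD_paff_zero h, sT_paff_zero h] at e2
  obtain ⟨ha, hb⟩ := paff_inj.1 e2
  subst ha
  subst hb
  exact ⟨rfl, rfl, sD_inj m (mul_left_cancel e)⟩

/-- The stabiliser of `∞` in the Suzuki group. -/
def stabInf (F : Type*) [Field F] (m : ℕ) : Subgroup ↥(Cfsg.Sz F m) where
  carrier := {g | g.1 • (pinf : Projectivization F (Fin 4 → F)) = pinf}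
  mul_mem' := by
    intro a b ha hb
    show (a.1 * b.1) • (pinf : Projectivization F (Fin 4 → F)) = pinf
    rw [mul_smul, hb, ha]
  one_mem' := one_smul _ _
  inv_mem' := by
    intro a ha
    show a.1⁻¹ • (pinf : Projectivization F (Fin 4 → F)) = pinf
    rw [inv_smul_eq_iff]
    exact ha.symm

omit [Fintype F] in
theorem mem_stabInf {m : ℕ} (g : ↥(Cfsg.Sz F m)) :
    g ∈ stabInf F m ↔ g.1 • (pinf : Projectivization F (Fin 4 → F)) = pinf := Iff.rfl

theorem exists_zpart {m : ℕ} (hm : 1 ≤ m) (hF : Fintype.card F = 2 ^ (2 * m + 1))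
    (g : ↥(stabInf F m)) : ∃ z : Fˣ, ∃ a b : F, g.1.1 = sT m a b * sD m z := by
  obtain ⟨a, b, z, e⟩ := stab_inf hm hF g.1.2 g.2
  exact ⟨z, a, b, e⟩

/-- The torus part of an element of the stabiliser of `∞`. -/
noncomputable def zfun {m : ℕ} (hm : 1 ≤ m) (hF : Fintype.card F = 2 ^ (2 * m + 1))
    (g : ↥(stabInf F m)) : Fˣ := Classical.choose (exists_zpart hm hF g)

theorem zfun_spec {m : ℕ} (hm : 1 ≤ m) (hF : Fintype.card F = 2 ^ (2 * m + 1))
    (g : ↥(stabInf F m)) : ∃ a b : F, g.1.1 = sT m a b * sD m (zfun hm hF g) :=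
  Classical.choose_spec (exists_zpart hm hF g)

theorem zfun_unique {m : ℕ} (hm : 1 ≤ m) (hF : Fintype.card F = 2 ^ (2 * m + 1))
    (g : ↥(stabInf F m)) {a b : F} {z : Fˣ} (e : g.1.1 = sT m a b * sD m z) :
    zfun hm hF g = z := by
  obtain ⟨a', b', e'⟩ := zfun_spec hm hF g
  rw [e] at e'
  exact ((sT_sD_inj (szHyp_of_card hF) e').2.2).symm

/-- The torus part as a homomorphism. -/
noncomputable def zpart {m : ℕ} (hm : 1 ≤ m) (hF : Fintype.card F = 2 ^ (2 * m + 1)) :
    ↥(stabInf F m) →* Fˣ where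
  toFun := zfun hm hF
  map_one' := by
    apply zfun_unique hm hF (a := 0) (b := 0)
    rw [sT_zero, sD_one, one_mul]
    rfl
  map_mul' := by
    intro g g'
    have h := szHyp_of_card hF
    obtain ⟨a, b, e⟩ := zfun_spec hm hF g
    obtain ⟨a', b', e'⟩ := zfun_spec hm hF g'
    apply zfun_unique hm hF (a := a + th m (zfun hm hF g : F) * a')
      (b := b + th m (zfun hm hF g : F) * (zfun hm hF g : F) ^ 2 * b' +
        th m a * (th m (zfun hm hF g : F) * a'))
    show g.1.1 * g'.1.1 = _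
    rw [e, e', mul_assoc, ← mul_assoc (sD m (zfun hm hF g)), sD_sT h, mul_assoc, ← sD_mul,
      ← mul_assoc, sT_mul h]

theorem zpart_ker_pow {m : ℕ} (hm : 1 ≤ m) (hF : Fintype.card F = 2 ^ (2 * m + 1))
    (g : ↥(zpart hm hF).ker) : g ^ 2 ^ 2 = 1 := by
  have h := szHyp_of_card hF
  obtain ⟨a, b, e⟩ := zfun_spec hm hF g.1
  have hz : zfun hm hF g.1 = 1 := g.2
  rw [hz, sD_one, mul_one] at e
  have e4 : g.1.1.1 ^ 4 = 1 := by
    rw [e]
    exact sT_pow_four h a b
  have e5 : (g ^ 4).1.1.1 = 1 := e4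
  show g ^ 4 = 1
  exact Subtype.ext (Subtype.ext (Subtype.ext e5))

/-- The stabiliser of `∞` is solvable. -/
theorem stabInf_solvable {m : ℕ} (hm : 1 ≤ m) (hF : Fintype.card F = 2 ^ (2 * m + 1)) :
    Group.IsSolvable ↥(stabInf F m) := by
  have : Fact (Nat.Prime 2) := ⟨Nat.prime_two⟩
  have hker : IsPGroup 2 ↥(zpart hm hF).ker := fun g => ⟨2, zpart_ker_pow hm hF g⟩
  have : Group.IsNilpotent ↥(zpart hm hF).ker := hker.isNilpotent
  exact Group.isSolvable_of_ker_le_range (zpart hm hF).ker.subtype (zpart hm hF)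
    (by rw [Subgroup.range_subtype])

/-- A subgroup fixing a point of the ovoid is solvable. -/
theorem solvable_of_fix {m : ℕ} (hm : 1 ≤ m) (hF : Fintype.card F = 2 ^ (2 * m + 1))
    (M : Subgroup ↥(Cfsg.Sz F m)) {p : Projectivization F (Fin 4 → F)}
    (hp : p ∈ Cfsg.suzukiOvoid F m) (hfix : ∀ g ∈ M, g.1 • p = p) : Group.IsSolvable ↥M := by
  have h := szHyp_of_card hF
  obtain ⟨k, hk, hkp⟩ := exists_to_inf h hp
  obtain ⟨kG, hkG⟩ : ∃ kG : ↥(Cfsg.Sz F m), kG.1 = k := ⟨⟨k, hk⟩, rfl⟩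
  have hmem : ∀ g : ↥M, ((MulAut.conj kG).toMonoidHom.comp M.subtype) g ∈ stabInf F m := by
    intro g
    show (kG.1 * g.1.1 * kG.1⁻¹) • (pinf : Projectivization F (Fin 4 → F)) = pinf
    rw [hkG, mul_smul, mul_smul, ← hkp, inv_smul_smul, hfix g.1 g.2]
  have hinj : Function.Injective
      (((MulAut.conj kG).toMonoidHom.comp M.subtype).codRestrict (stabInf F m) hmem) := by
    intro x y e
    have e1 : (MulAut.conj kG) x.1 = (MulAut.conj kG) y.1 := congrArg Subtype.val e
    exact Subtype.ext ((MulAut.conj kG).injective e1)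
  have := stabInf_solvable hm hF
  exact Group.isSolvable_of_isSolvable_injective hinj

/-- A subgroup conjugate to the full subfield subgroup is everything. -/
theorem eq_top_of_full {m : ℕ} (hm : 1 ≤ m) (hF : Fintype.card F = 2 ^ (2 * m + 1))
    (hdiv : 2 * m + 1 ∣ 2 * m + 1) (c : ↥(Cfsg.Sz F m))
    (ι : GaloisField 2 (2 * m + 1) →+* F) (M : Subgroup ↥(Cfsg.Sz F m))
    (hMc : M.map (MulAut.conj c).toMonoidHom =
      (szEmb hF hm (GaloisField.card 2 (2 * m + 1) (by omega)) hdiv ι).range) : M = ⊤ := by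
  have hcard : Nat.card (GaloisField 2 (2 * m + 1)) = 2 ^ (2 * m + 1) :=
    GaloisField.card 2 (2 * m + 1) (by omega)
  have hinj := szEmb_injective hF hm hcard hdiv ι
  have : Fintype (GaloisField 2 (2 * m + 1)) := Fintype.ofFinite _
  have hc' : Fintype.card (GaloisField 2 (2 * m + 1)) = 2 ^ (2 * m + 1) := by
    rw [← Nat.card_eq_fintype_card]
    exact hcard
  have h1 := Cfsg.Agent.S0324.result hm hc'
  have h2 := Cfsg.Agent.S0324.result hm hF
  have h3 : Nat.card (szEmb hF hm hcard hdiv ι).range = Nat.card ↥(Cfsg.Sz F m) := by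
    rw [h2, ← h1]
    exact Nat.card_congr (MonoidHom.ofInjective hinj).toEquiv.symm
  have h4 : (szEmb hF hm hcard hdiv ι).range = ⊤ := Subgroup.eq_top_of_card_eq _ h3
  rw [h4] at hMc
  rw [eq_top_iff]
  intro g _
  have hg : c * g * c⁻¹ ∈ M.map (MulAut.conj c).toMonoidHom := by
    rw [hMc]
    exact Subgroup.mem_top _
  obtain ⟨x, hx, e⟩ := hg
  have e' : c * x * c⁻¹ = c * g * c⁻¹ := e
  have hxg : x = g := by
    calc x = c⁻¹ * (c * x * c⁻¹) * c := by group
      _ = c⁻¹ * (c * g * c⁻¹) * c := by rw [e']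
      _ = g := by group
  rw [← hxg]
  exact hx

/-- The Suzuki group is not solvable. -/
theorem not_solvable_Sz {m : ℕ} (hm : 1 ≤ m) (hF : Fintype.card F = 2 ^ (2 * m + 1)) :
    ¬ Group.IsSolvable ↥(Cfsg.Sz F m) := by
  intro hsol
  obtain ⟨u, v, -, -, -, -, hne⟩ := exists_noncomm_invol hm hF
  have hsimple : IsSimpleGroup ↥(Cfsg.Sz F m) := Cfsg.Agent.S0325.result hm hF
  exact hne (IsSimpleGroup.comm_iff_isSolvable.2 hsol u v)

/-- When `2m+1` is prime, a subgroup of the Suzuki group is solvable iff it is proper. -/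
theorem solvable_iff_ne_top {m : ℕ} (hm : 1 ≤ m) (hp : (2 * m + 1).Prime)
    (hF : Fintype.card F = 2 ^ (2 * m + 1)) (M : Subgroup ↥(Cfsg.Sz F m)) :
    Group.IsSolvable ↥M ↔ M ≠ ⊤ := by
  constructor
  · rintro hsol rfl
    apply not_solvable_Sz hm hF
    exact Group.isSolvable_of_isSolvable_injective
      (f := (Subgroup.topEquiv (G := ↥(Cfsg.Sz F m))).symm.toMonoidHom) (MulEquiv.injective _)
  · intro hM
    rcases sub_main hm hF M with ⟨p, hp', hfix⟩ | hZ | ⟨k, hk, hdiv, c, ι, hMc⟩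
    · exact solvable_of_fix hm hF M hp' hfix
    · have := hZ
      infer_instance
    · exfalso
      have hkm : k = m := by
        have h1 := (Nat.dvd_prime hp).1 hdiv
        omega
      subst hkm
      exact hM (eq_top_of_full hk hF hdiv c ι M hMc)

end Cfsg.Agent.Lib.helper8
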