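/-
Suzuki group: normalisers of tori.
-/
import Cfsg.Agent.Lib.helper8.SzSol1

set_option autoImplicit false

namespace Cfsg.Agent.Lib.helper8

open Matrix
open scoped Pointwise

variable {F : Type*} [Field F] [Fintype F]

/-- A torus: a cyclic subgroup of order `q - 1`, `q + r + 1` or `q - r + 1`. -/
def IsTorus (m : ℕ) (U : Subgroup ↥(Cfsg.Sz F m)) : Prop :=
  IsCyclic ↥U ∧ Nat.card ↥U ∈ ({2 ^ (2 * m + 1) - 1, 2 ^ (2 * m + 1) + 2 ^ (m + 1) + 1,
    2 ^ (2 * m + 1) - 2 ^ (m + 1) + 1} : Set ℕ)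

theorem tori_gt_one {m : ℕ} (hm : 1 ≤ m) {A : ℕ}
    (hA : A ∈ ({2 ^ (2 * m + 1) - 1, 2 ^ (2 * m + 1) + 2 ^ (m + 1) + 1,
      2 ^ (2 * m + 1) - 2 ^ (m + 1) + 1} : Set ℕ)) : 1 < A := by
  have hr : 2 ^ (m + 1) * 2 ^ (m + 1) = 2 * 2 ^ (2 * m + 1) := by ring
  have hr4 : 2 ^ 2 ≤ 2 ^ (m + 1) := Nat.pow_le_pow_right (by norm_num) (by omega)
  have hq8 : 2 ^ 3 ≤ 2 ^ (2 * m + 1) := Nat.pow_le_pow_right (by norm_num) (by omega)
  have hlt : 2 ^ (m + 1) < 2 ^ (2 * m + 1) := Nat.pow_lt_pow_right (by norm_num) (by omega)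
  rcases hA with rfl | rfl | rfl <;> omega

/-- A torus is the centraliser of each of its non-identity elements. -/
theorem torus_eq_cent {m : ℕ} (hm : 1 ≤ m) (hF : Fintype.card F = 2 ^ (2 * m + 1))
    {U : Subgroup ↥(Cfsg.Sz F m)} (hU : IsTorus m U) {u : ↥(Cfsg.Sz F m)} (hu : u ∈ U)
    (hu1 : u ≠ 1) : u ^ 4 ≠ 1 ∧ U = Subgroup.centralizer ({u} : Set ↥(Cfsg.Sz F m)) := by
  obtain ⟨hcyc, hcard⟩ := hU
  have hu4 : u ^ 4 ≠ 1 := by
    intro e4
    have h1 : orderOf u ∣ 2 ^ 2 := orderOf_dvd_of_pow_eq_one e4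
    have h2 : orderOf u ∣ Nat.card U := by
      have := orderOf_dvd_natCard (⟨u, hu⟩ : U)
      rwa [Subgroup.orderOf_mk] at this
    have hodd := tori_odd hm hcard
    have hcop : Nat.Coprime (Nat.card U) (2 ^ 2) :=
      Nat.Coprime.pow_right 2
        (Nat.coprime_comm.1 ((Nat.Prime.coprime_iff_not_dvd Nat.prime_two).2 hodd))
    have h3 : orderOf u ∣ Nat.gcd (Nat.card U) (2 ^ 2) := Nat.dvd_gcd h2 h1
    rw [hcop] at h3
    exact hu1 (orderOf_eq_one_iff.1 (Nat.dvd_one.1 h3))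
  refine ⟨hu4, ?_⟩
  obtain ⟨hcyc', hcard'⟩ := cent_torus hm hF u hu4
  have hle : U ≤ Subgroup.centralizer ({u} : Set ↥(Cfsg.Sz F m)) := le_centralizer_of_cyclic hu
  have heq := tori_arith hm hcard hcard' (Subgroup.card_dvd_of_le hle)
  exact Subgroup.eq_of_le_of_card_ge hle heq.ge

theorem cent_isTorus {m : ℕ} (hm : 1 ≤ m) (hF : Fintype.card F = 2 ^ (2 * m + 1))
    (x : ↥(Cfsg.Sz F m)) (hx4 : x ^ 4 ≠ 1) :
    IsTorus m (Subgroup.centralizer ({x} : Set ↥(Cfsg.Sz F m))) := cent_torus hm hF x hx4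

/-- Membership in the normaliser of a torus `C(v)`. -/
theorem mem_normalizer_cent_iff {m : ℕ} (hm : 1 ≤ m) (hF : Fintype.card F = 2 ^ (2 * m + 1))
    {v : ↥(Cfsg.Sz F m)} (hv4 : v ^ 4 ≠ 1) (g : ↥(Cfsg.Sz F m)) :
    g ∈ Subgroup.normalizer
        ((Subgroup.centralizer ({v} : Set ↥(Cfsg.Sz F m)) : Subgroup ↥(Cfsg.Sz F m)) :
          Set ↥(Cfsg.Sz F m)) ↔
      g * v * g⁻¹ ∈ Subgroup.centralizer ({v} : Set ↥(Cfsg.Sz F m)) := by
  have hvC : v ∈ Subgroup.centralizer ({v} : Set ↥(Cfsg.Sz F m)) :=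
    Subgroup.mem_centralizer_iff.2 (fun y hy => by rw [Set.mem_singleton_iff.1 hy])
  constructor
  · intro hg
    exact (Subgroup.mem_normalizer_iff.1 hg v).1 hvC
  · intro hvC'
    have hv1 : v ≠ 1 := fun e => hv4 (by rw [e, one_pow])
    have hv1' : g * v * g⁻¹ ≠ 1 := fun e => hv1 (eq_one_of_conj_eq_one e)
    have hceq := cent_eq_of_mem hm hF v hv4 hvC' hv1'
    rw [Subgroup.mem_normalizer_iff]
    intro y
    show y ∈ Subgroup.centralizer ({v} : Set ↥(Cfsg.Sz F m)) ↔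
      g * y * g⁻¹ ∈ Subgroup.centralizer ({v} : Set ↥(Cfsg.Sz F m))
    constructor
    · intro hy
      have hxy : v * y = y * v := Subgroup.mem_centralizer_iff.1 hy v rfl
      rw [← hceq, Subgroup.mem_centralizer_iff]
      intro z hz
      rw [Set.mem_singleton_iff.1 hz]
      calc g * v * g⁻¹ * (g * y * g⁻¹) = g * (v * y) * g⁻¹ := by group
        _ = g * (y * v) * g⁻¹ := by rw [hxy]
        _ = g * y * g⁻¹ * (g * v * g⁻¹) := by group
    · intro hy
      rw [← hceq] at hy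
      have hxy : g * v * g⁻¹ * (g * y * g⁻¹) = g * y * g⁻¹ * (g * v * g⁻¹) :=
        Subgroup.mem_centralizer_iff.1 hy _ rfl
      rw [Subgroup.mem_centralizer_iff]
      intro z hz
      rw [Set.mem_singleton_iff.1 hz]
      calc v * y = g⁻¹ * (g * v * g⁻¹ * (g * y * g⁻¹)) * g := by group
        _ = g⁻¹ * (g * y * g⁻¹ * (g * v * g⁻¹)) * g := by rw [hxy]
        _ = y * v := by group

/-- An involution normalising a torus inverts it. -/
theorem torus_invol_inv {m : ℕ} (hm : 1 ≤ m) (hF : Fintype.card F = 2 ^ (2 * m + 1))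
    {U : Subgroup ↥(Cfsg.Sz F m)} (hU : IsTorus m U) {u : ↥(Cfsg.Sz F m)}
    (huN : u ∈ Subgroup.normalizer (U : Set ↥(Cfsg.Sz F m))) (hu1 : u ≠ 1) (hu2 : u * u = 1)
    {v : ↥(Cfsg.Sz F m)} (hv : v ∈ U) : u * v * u⁻¹ = v⁻¹ := by
  have hcyc := hU.1
  have huv : u * v * u⁻¹ ∈ U := (Subgroup.mem_normalizer_iff.1 huN v).1 hv
  by_contra hne
  have hw1 : v * (u * v * u⁻¹) ≠ 1 := fun e => hne (eq_inv_of_mul_eq_one_right e)
  have hwU : v * (u * v * u⁻¹) ∈ U := mul_mem hv huv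
  obtain ⟨hw4, hUC⟩ := torus_eq_cent hm hF hU hwU hw1
  have huinv : u⁻¹ = u := inv_eq_of_mul_eq_one_right hu2
  have hcomm_vu : v * (u * v * u⁻¹) = (u * v * u⁻¹) * v :=
    congrArg Subtype.val (comm_of_cyclic (⟨v, hv⟩ : U) ⟨_, huv⟩)
  have hcomm : (v * (u * v * u⁻¹)) * u = u * (v * (u * v * u⁻¹)) := by
    rw [huinv] at hcomm_vu ⊢
    calc v * (u * v * u) * u = v * u * v * (u * u) := by group
      _ = v * u * v := by rw [hu2, mul_one]
      _ = (u * u) * v * u * v := by rw [hu2, one_mul]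
      _ = u * ((u * v * u) * v) := by group
      _ = u * (v * (u * v * u)) := by rw [hcomm_vu]
  have huU : u ∈ U := by
    rw [hUC, Subgroup.mem_centralizer_iff]
    intro y hy
    rw [Set.mem_singleton_iff.1 hy]
    exact hcomm
  apply (torus_eq_cent hm hF hU huU hu1).1
  calc u ^ 4 = (u * u) * (u * u) := by
        simp only [pow_succ, pow_zero, one_mul, mul_assoc]
    _ = 1 := by rw [hu2, mul_one]

/-- Commutators of elements of the normaliser of a torus lie in the torus. -/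
theorem torus_comm_mem {m : ℕ} (hm : 1 ≤ m) (hF : Fintype.card F = 2 ^ (2 * m + 1))
    {U : Subgroup ↥(Cfsg.Sz F m)} (hU : IsTorus m U) {a b : ↥(Cfsg.Sz F m)}
    (ha : a ∈ Subgroup.normalizer (U : Set ↥(Cfsg.Sz F m)))
    (hb : b ∈ Subgroup.normalizer (U : Set ↥(Cfsg.Sz F m))) : a⁻¹ * b⁻¹ * a * b ∈ U := by
  have hcyc := hU.1
  obtain ⟨g, hg⟩ := hcyc.exists_generator
  have hg1 : g.1 ≠ 1 := by
    intro e
    have hg1' : g = 1 := Subtype.ext e
    have hsub : ∀ x : ↥U, x = 1 := by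
      intro x
      obtain ⟨i, hi⟩ := Subgroup.mem_zpowers_iff.1 (hg x)
      rw [← hi, hg1', _root_.one_zpow]
    have hcard : Nat.card ↥U = 1 := by
      have : Subsingleton ↥U := ⟨fun x y => by rw [hsub x, hsub y]⟩
      exact Nat.card_of_subsingleton 1
    have := tori_gt_one hm hU.2
    omega
  obtain ⟨-, hUC⟩ := torus_eq_cent hm hF hU g.2 hg1
  have key : ∀ x ∈ Subgroup.normalizer (U : Set ↥(Cfsg.Sz F m)),
      ∃ i : ℤ, x * g.1 * x⁻¹ = g.1 ^ i := by
    intro x hx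
    have hmem : x * g.1 * x⁻¹ ∈ U := (Subgroup.mem_normalizer_iff.1 hx g.1).1 g.2
    obtain ⟨i, hi⟩ := Subgroup.mem_zpowers_iff.1 (hg ⟨_, hmem⟩)
    refine ⟨i, ?_⟩
    have h2 := congrArg Subtype.val hi
    rw [Subgroup.coe_zpow] at h2
    exact h2.symm
  obtain ⟨i, hi⟩ := key a ha
  obtain ⟨j, hj⟩ := key b hb
  have e1 : a * b * g.1 * (a * b)⁻¹ = g.1 ^ (i * j) := by
    calc a * b * g.1 * (a * b)⁻¹ = a * (b * g.1 * b⁻¹) * a⁻¹ := by group
      _ = a * g.1 ^ j * a⁻¹ := by rw [hj]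
      _ = (a * g.1 * a⁻¹) ^ j := by rw [conj_zpow]
      _ = g.1 ^ (i * j) := by rw [hi, ← _root_.zpow_mul]
  have e2 : b * a * g.1 * (b * a)⁻¹ = g.1 ^ (i * j) := by
    calc b * a * g.1 * (b * a)⁻¹ = b * (a * g.1 * a⁻¹) * b⁻¹ := by group
      _ = b * g.1 ^ i * b⁻¹ := by rw [hi]
      _ = (b * g.1 * b⁻¹) ^ i := by rw [conj_zpow]
      _ = g.1 ^ (i * j) := by rw [hj, ← _root_.zpow_mul, mul_comm]
  rw [hUC, Subgroup.mem_centralizer_iff]
  intro y hy
  rw [Set.mem_singleton_iff.1 hy]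
  calc g.1 * (a⁻¹ * b⁻¹ * a * b) = a⁻¹ * b⁻¹ * (b * a * g.1 * (b * a)⁻¹) * a * b := by group
    _ = a⁻¹ * b⁻¹ * (a * b * g.1 * (a * b)⁻¹) * a * b := by rw [e2, e1]
    _ = a⁻¹ * b⁻¹ * a * b * g.1 := by group

/-- The stabiliser of a point. -/
def stabPt (m : ℕ) (p : Projectivization F (Fin 4 → F)) : Subgroup ↥(Cfsg.Sz F m) where
  carrier := {g | g.1 • p = p}
  mul_mem' := by
    intro a b ha hb
    show (a.1 * b.1) • p = p
    rw [mul_smul, hb, ha]
  one_mem' := one_smul _ _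
  inv_mem' := by
    intro a ha
    show a.1⁻¹ • p = p
    rw [inv_smul_eq_iff]
    exact ha.symm

omit [Fintype F] in
theorem mem_stabPt {m : ℕ} (p : Projectivization F (Fin 4 → F)) (g : ↥(Cfsg.Sz F m)) :
    g ∈ stabPt m p ↔ g.1 • p = p := Iff.rfl

omit [Fintype F] in
theorem torus_exists_ne_one {m : ℕ} (hm : 1 ≤ m) {U : Subgroup ↥(Cfsg.Sz F m)}
    (hU : IsTorus m U) : ∃ v ∈ U, v ≠ 1 := by
  by_contra hcon
  push Not at hcon
  have hcard : Nat.card ↥U = 1 := by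
    have : Subsingleton ↥U :=
      ⟨fun x y => Subtype.ext ((hcon x.1 x.2).trans (hcon y.1 y.2).symm)⟩
    exact Nat.card_of_subsingleton 1
  have := tori_gt_one hm hU.2
  omega

/-- A torus contains no involution. -/
theorem torus_sq {m : ℕ} (hm : 1 ≤ m) (hF : Fintype.card F = 2 ^ (2 * m + 1))
    {U : Subgroup ↥(Cfsg.Sz F m)} (hU : IsTorus m U) {v : ↥(Cfsg.Sz F m)} (hv : v ∈ U)
    (h2 : v * v = 1) : v = 1 := by
  by_contra hv1
  apply (torus_eq_cent hm hF hU hv hv1).1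
  calc v ^ 4 = (v * v) * (v * v) := by simp only [pow_succ, pow_zero, one_mul, mul_assoc]
    _ = 1 := by rw [h2, mul_one]

/-- The product of two distinct involutions normalising a torus is a non-identity element of
the torus. -/
theorem torus_invol_mul {m : ℕ} (hm : 1 ≤ m) (hF : Fintype.card F = 2 ^ (2 * m + 1))
    {U : Subgroup ↥(Cfsg.Sz F m)} (hU : IsTorus m U) {u u' : ↥(Cfsg.Sz F m)}
    (hu : u ∈ Subgroup.normalizer (U : Set ↥(Cfsg.Sz F m))) (hu1 : u ≠ 1) (hu2 : u * u = 1)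
    (hu' : u' ∈ Subgroup.normalizer (U : Set ↥(Cfsg.Sz F m))) (hu'1 : u' ≠ 1)
    (hu'2 : u' * u' = 1) (hne : u ≠ u') : u * u' ∈ U ∧ u * u' ≠ 1 := by
  obtain ⟨v, hv, hv1⟩ := torus_exists_ne_one hm hU
  obtain ⟨-, hUC⟩ := torus_eq_cent hm hF hU hv hv1
  have e1 := torus_invol_inv hm hF hU hu' hu'1 hu'2 hv
  have e2 := torus_invol_inv hm hF hU hu hu1 hu2 (inv_mem hv)
  refine ⟨?_, ?_⟩
  · rw [hUC, Subgroup.mem_centralizer_iff]
    intro y hy
    rw [Set.mem_singleton_iff.1 hy]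
    have e3 : u * u' * v * (u * u')⁻¹ = v := by
      calc u * u' * v * (u * u')⁻¹ = u * (u' * v * u'⁻¹) * u⁻¹ := by group
        _ = u * v⁻¹ * u⁻¹ := by rw [e1]
        _ = v := by rw [e2, inv_inv]
    calc v * (u * u') = (u * u' * v * (u * u')⁻¹) * (u * u') := by rw [e3]
      _ = u * u' * v := by group
  · intro e
    exact hne ((inv_eq_of_mul_eq_one_right hu2).symm.trans (eq_inv_of_mul_eq_one_right e).symm)

/-- The normaliser of a torus is a proper subgroup. -/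
theorem normalizer_torus_ne_top {m : ℕ} (hm : 1 ≤ m) (hF : Fintype.card F = 2 ^ (2 * m + 1))
    {U : Subgroup ↥(Cfsg.Sz F m)} (hU : IsTorus m U) :
    Subgroup.normalizer (U : Set ↥(Cfsg.Sz F m)) ≠ ⊤ := by
  intro htop
  have h := szHyp_of_card hF
  obtain ⟨z, hz⟩ := exists_unit_ne_one hm hF
  have hmemN : ∀ g : ↥(Cfsg.Sz F m), g ∈ Subgroup.normalizer (U : Set ↥(Cfsg.Sz F m)) :=
    fun g => by rw [htop]; exact Subgroup.mem_top g
  have hne1 : ∀ b : F, b ≠ 0 → gT h 0 b ≠ 1 := by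
    intro b hb e
    have e' : sT m 0 b = 1 := congrArg Subtype.val e
    exact hb ((sT_eq_one_iff h).1 e').2
  have hzz : (z : F) ≠ 1 := fun e => hz (Units.ext e)
  have hne : gT h 0 1 ≠ gT h 0 (z : F) := by
    intro e
    have e' : sT m (0 : F) 1 = sT m 0 (z : F) := congrArg Subtype.val e
    exact hzz ((sT_inj h e').2).symm
  obtain ⟨h1, h2⟩ := torus_invol_mul hm hF hU (hmemN (gT h 0 1)) (hne1 1 one_ne_zero)
    (gT_zero_sq h 1) (hmemN (gT h 0 z)) (hne1 z z.ne_zero) (gT_zero_sq h _) hne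
  apply h2
  apply torus_sq hm hF hU h1
  apply Subtype.ext
  show (sT m 0 1 * sT m 0 (z : F)) * (sT m 0 1 * sT m 0 (z : F)) = 1
  rw [sT_zero_mul h, sT_zero_sq h]

/-- Characterisation of the solubilizer relation when `2m+1` is prime. -/
theorem sol_iff {m : ℕ} (hm : 1 ≤ m) (hp : (2 * m + 1).Prime)
    (hF : Fintype.card F = 2 ^ (2 * m + 1)) (x y : ↥(Cfsg.Sz F m)) :
    Group.IsSolvable ↥(Subgroup.closure ({x, y} : Set ↥(Cfsg.Sz F m))) ↔
      ((∃ p ∈ Cfsg.suzukiOvoid F m, x.1 • p = p ∧ y.1 • p = p) ∨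
       ∃ U : Subgroup ↥(Cfsg.Sz F m), IsTorus m U ∧
        x ∈ Subgroup.normalizer (U : Set ↥(Cfsg.Sz F m)) ∧
        y ∈ Subgroup.normalizer (U : Set ↥(Cfsg.Sz F m))) := by
  have hxM : x ∈ Subgroup.closure ({x, y} : Set ↥(Cfsg.Sz F m)) :=
    Subgroup.subset_closure (Set.mem_insert _ _)
  have hyM : y ∈ Subgroup.closure ({x, y} : Set ↥(Cfsg.Sz F m)) :=
    Subgroup.subset_closure (Set.mem_insert_of_mem _ rfl)
  constructor
  · intro hsol
    have hM := (solvable_iff_ne_top hm hp hF _).1 hsol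
    by_cases hfix : ∃ p ∈ Cfsg.suzukiOvoid F m,
        ∀ g ∈ Subgroup.closure ({x, y} : Set ↥(Cfsg.Sz F m)), g.1 • p = p
    · obtain ⟨p, hp', hf⟩ := hfix
      exact Or.inl ⟨p, hp', hf x hxM, hf y hyM⟩
    · right
      rcases sub_main hm hF (Subgroup.closure ({x, y} : Set ↥(Cfsg.Sz F m))) with
        hfix' | hZ | ⟨k, hk, hdiv, c, ι, hMc⟩
      · exact absurd hfix' hfix
      · have := hZ
        push Not at hfix
        obtain ⟨U, hcyc, hcard, hle⟩ := le_normalizer_of_isZGroup hm hF _ hfix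
        exact ⟨U, ⟨hcyc, hcard⟩, hle hxM, hle hyM⟩
      · exfalso
        have hkm : k = m := by
          have h1 := (Nat.dvd_prime hp).1 hdiv
          omega
        subst hkm
        exact hM (eq_top_of_full hk hF hdiv c ι _ hMc)
  · rintro (⟨p, hp', hxp, hyp⟩ | ⟨U, hU, hxU, hyU⟩)
    · apply solvable_of_fix hm hF _ hp'
      have hle : Subgroup.closure ({x, y} : Set ↥(Cfsg.Sz F m)) ≤ stabPt m p := by
        rw [Subgroup.closure_le]
        intro g hg
        rcases Set.mem_insert_iff.1 hg with rfl | hg'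
        · exact hxp
        · rw [Set.mem_singleton_iff.1 hg']
          exact hyp
      exact fun g hg => hle hg
    · rw [solvable_iff_ne_top hm hp hF]
      intro htop
      apply normalizer_torus_ne_top hm hF hU
      rw [eq_top_iff, ← htop, Subgroup.closure_le]
      intro g hg
      rcases Set.mem_insert_iff.1 hg with rfl | hg'
      · exact hxU
      · rw [Set.mem_singleton_iff.1 hg']
        exact hyU

/-- The centraliser of a non-identity element fixing two points is the two-point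
stabiliser. -/
theorem cent_iff_fix_two {m : ℕ} (hm : 1 ≤ m) (hF : Fintype.card F = 2 ^ (2 * m + 1))
    {g y : ↥(Cfsg.Sz F m)} (hg1 : g ≠ 1) {a b : Projectivization F (Fin 4 → F)}
    (ha : a ∈ Cfsg.suzukiOvoid F m) (hb : b ∈ Cfsg.suzukiOvoid F m) (hab : a ≠ b)
    (hga : g.1 • a = a) (hgb : g.1 • b = b) :
    y ∈ Subgroup.centralizer ({g} : Set ↥(Cfsg.Sz F m)) ↔ y.1 • a = a ∧ y.1 • b = b := by
  constructor
  · intro hy
    have hcomm : y * g = g * y := (Subgroup.mem_centralizer_iff.1 hy g rfl).symm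
    exact cent_two_fix hm hF g.2 y.2 (fun e => hg1 (Subtype.ext e)) ha hb hab hga hgb
      (congrArg Subtype.val hcomm)
  · rintro ⟨hya, hyb⟩
    obtain ⟨k, hk, hka, hkb, z, hz⟩ := conj_two_fix hm hF g.2 ha hb hab hga hgb
    have h1 : (k * y.1 * k⁻¹) • (pinf : Projectivization F (Fin 4 → F)) = pinf := by
      rw [mul_smul, mul_smul, ← hka, inv_smul_smul, hya]
    have h2 : (k * y.1 * k⁻¹) • paff m (0 : F) 0 = paff m 0 0 := by
      rw [mul_smul, mul_smul, ← hkb, inv_smul_smul, hyb]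
    obtain ⟨w, hw⟩ := two_point_stab hm hF (mul_mem (mul_mem hk y.2) (inv_mem hk)) h1 h2
    rw [Subgroup.mem_centralizer_iff]
    intro t ht
    rw [Set.mem_singleton_iff.1 ht]
    apply Subtype.ext
    show g.1 * y.1 = y.1 * g.1
    have e1 : g.1 = k⁻¹ * sD m z * k := by rw [← hz]; group
    have e2 : y.1 = k⁻¹ * sD m w * k := by rw [← hw]; group
    rw [e1, e2]
    calc k⁻¹ * sD m z * k * (k⁻¹ * sD m w * k) = k⁻¹ * (sD m z * sD m w) * k := by group
      _ = k⁻¹ * (sD m w * sD m z) * k := by rw [← sD_mul, mul_comm, sD_mul]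
      _ = k⁻¹ * sD m w * k * (k⁻¹ * sD m z * k) := by group

/-- The normaliser of a two-point stabiliser: elements fixing or swapping the two points. -/
theorem normalizer_iff_fix_two {m : ℕ} (hm : 1 ≤ m) (hF : Fintype.card F = 2 ^ (2 * m + 1))
    {g y : ↥(Cfsg.Sz F m)} (hg1 : g ≠ 1) {a b : Projectivization F (Fin 4 → F)}
    (ha : a ∈ Cfsg.suzukiOvoid F m) (hb : b ∈ Cfsg.suzukiOvoid F m) (hab : a ≠ b)
    (hga : g.1 • a = a) (hgb : g.1 • b = b) :
    y ∈ Subgroup.normalizer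
        ((Subgroup.centralizer ({g} : Set ↥(Cfsg.Sz F m)) : Subgroup ↥(Cfsg.Sz F m)) :
          Set ↥(Cfsg.Sz F m)) ↔
      (y.1 • a = a ∧ y.1 • b = b) ∨ (y.1 • a = b ∧ y.1 • b = a) := by
  have hg4 : g ^ 4 ≠ 1 := fun e4 => hg1 (two_elt_fix_two hm hF e4 ha hb hab hga hgb)
  rw [mem_normalizer_cent_iff hm hF hg4, cent_iff_fix_two hm hF hg1 ha hb hab hga hgb]
  have hval : (y * g * y⁻¹).1 = y.1 * g.1 * y.1⁻¹ := rfl
  rw [hval]
  constructor
  · rintro ⟨h1, h2⟩
    rw [mul_smul, mul_smul] at h1 h2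
    have h1' : g.1 • (y.1⁻¹ • a) = y.1⁻¹ • a := (inv_smul_eq_iff.2 h1.symm).symm
    have h2' : g.1 • (y.1⁻¹ • b) = y.1⁻¹ • b := (inv_smul_eq_iff.2 h2.symm).symm
    have hya : y.1⁻¹ • a ∈ Cfsg.suzukiOvoid F m := smul_mem_ovoid (inv_mem y.2) ha
    have hyb : y.1⁻¹ • b ∈ Cfsg.suzukiOvoid F m := smul_mem_ovoid (inv_mem y.2) hb
    have hgne : g.1 ≠ 1 := fun e => hg1 (Subtype.ext e)
    rcases fix_two hm hF g.2 hgne ha hb hya hab hga hgb h1' with e1 | e1 <;>
    rcases fix_two hm hF g.2 hgne ha hb hyb hab hga hgb h2' with e2 | e2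
    · exfalso; exact hab (smul_left_cancel _ (e1.trans e2.symm))
    · left; exact ⟨(inv_smul_eq_iff.1 e1).symm, (inv_smul_eq_iff.1 e2).symm⟩
    · right; exact ⟨(inv_smul_eq_iff.1 e2).symm, (inv_smul_eq_iff.1 e1).symm⟩
    · exfalso; exact hab (smul_left_cancel _ (e1.trans e2.symm))
  · rintro (⟨h1, h2⟩ | ⟨h1, h2⟩)
    · constructor
      · rw [mul_smul, mul_smul, inv_smul_eq_iff.2 h1.symm, hga, h1]
      · rw [mul_smul, mul_smul, inv_smul_eq_iff.2 h2.symm, hgb, h2]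
    · constructor
      · rw [mul_smul, mul_smul, inv_smul_eq_iff.2 h2.symm, hgb, h2]
      · rw [mul_smul, mul_smul, inv_smul_eq_iff.2 h1.symm, hga, h1]

/-- An element of order not dividing `4` with a fixed point has two fixed points. -/
theorem exists_two_fix_of_fix {m : ℕ} (hm : 1 ≤ m) (hF : Fintype.card F = 2 ^ (2 * m + 1))
    {v : ↥(Cfsg.Sz F m)} (hv4 : v ^ 4 ≠ 1) {p : Projectivization F (Fin 4 → F)}
    (hp : p ∈ Cfsg.suzukiOvoid F m) (hfix : v.1 • p = p) :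
    ∃ a ∈ Cfsg.suzukiOvoid F m, ∃ b ∈ Cfsg.suzukiOvoid F m, a ≠ b ∧ v.1 • a = a ∧
      v.1 • b = b := by
  have h := szHyp_of_card hF
  have hv1 : v.1 ≠ 1 := by
    intro e
    apply hv4
    rw [show v = 1 from Subtype.ext e, one_pow]
  rcases fix_classify hm hF v.2 hv1 hp hfix with ⟨k, hk, a, b, -, e⟩ | ⟨k, hk, z, hz, e⟩
  · exfalso
    apply hv4
    apply Subtype.ext
    show v.1 ^ 4 = 1
    have e4 : k * v.1 ^ 4 * k⁻¹ = 1 := by rw [← conj_pow, e, sT_pow_four h]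
    exact eq_one_of_conj_eq_one e4
  · have e1 : v.1 = k⁻¹ * sD m z * k := by rw [← e]; group
    refine ⟨k⁻¹ • pinf, smul_mem_ovoid (inv_mem hk) (pinf_mem m), k⁻¹ • paff m 0 0,
      smul_mem_ovoid (inv_mem hk) (paff_mem m 0 0), ?_, ?_, ?_⟩
    · intro e'
      exact paff_ne_pinf m 0 0 (smul_left_cancel _ e').symm
    · rw [e1, mul_smul, mul_smul, smul_inv_smul, sD_pinf]
    · rw [e1, mul_smul, mul_smul, smul_inv_smul, sD_paff_zero h]

theorem cent_conj_eq_map {G : Type*} [Group G] (c g : G) :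
    Subgroup.centralizer ({c * g * c⁻¹} : Set G) =
      (Subgroup.centralizer ({g} : Set G)).map (MulAut.conj c).toMonoidHom := by
  ext t
  rw [Subgroup.mem_map]
  constructor
  · intro hh
    refine ⟨c⁻¹ * t * c, ?_, ?_⟩
    · rw [Subgroup.mem_centralizer_iff] at hh ⊢
      intro y hy
      rw [Set.mem_singleton_iff.1 hy]
      have e := hh (c * g * c⁻¹) rfl
      calc g * (c⁻¹ * t * c) = c⁻¹ * ((c * g * c⁻¹) * t) * c := by group
        _ = c⁻¹ * (t * (c * g * c⁻¹)) * c := by rw [e]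
        _ = c⁻¹ * t * c * g := by group
    · show c * (c⁻¹ * t * c) * c⁻¹ = t
      group
  · rintro ⟨s, hs, rfl⟩
    show c * s * c⁻¹ ∈ _
    rw [Subgroup.mem_centralizer_iff] at hs ⊢
    intro y hy
    rw [Set.mem_singleton_iff.1 hy]
    have e := hs g rfl
    calc c * g * c⁻¹ * (c * s * c⁻¹) = c * (g * s) * c⁻¹ := by group
      _ = c * (s * g) * c⁻¹ := by rw [e]
      _ = c * s * c⁻¹ * (c * g * c⁻¹) := by group

theorem card_normalizer_cent_conj {G : Type*} [Group G] (c g : G) :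
    Nat.card (Subgroup.normalizer
        ((Subgroup.centralizer ({c * g * c⁻¹} : Set G) : Subgroup G) : Set G)) =
      Nat.card (Subgroup.normalizer
        ((Subgroup.centralizer ({g} : Set G) : Subgroup G) : Set G)) := by
  rw [cent_conj_eq_map, ← Subgroup.map_equiv_normalizer_eq]
  exact Subgroup.card_map_of_injective (MulAut.conj c).injective

/-- The normaliser of a torus of fixed-point-free type has index `4`. -/
theorem card_normalizer_fpf {m : ℕ} (hm : 1 ≤ m) (hF : Fintype.card F = 2 ^ (2 * m + 1))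
    (g : ↥(Cfsg.Sz F m)) (hfpf : IsFpf m g.1) :
    Nat.card (Subgroup.normalizer
        ((Subgroup.centralizer ({g} : Set ↥(Cfsg.Sz F m)) : Subgroup ↥(Cfsg.Sz F m)) :
          Set ↥(Cfsg.Sz F m))) =
      4 * Nat.card (Subgroup.centralizer ({g} : Set ↥(Cfsg.Sz F m))) := by
  obtain ⟨g₁, g₂, hf₁, hf₂, -, -, hn₁, hn₂, hall⟩ := tori_structure hm hF
  have hg1 := fpf_ne_one hfpf
  rcases hall g hfpf with ⟨c, hc⟩ | ⟨c, hc⟩
  · have h1 : c * g * c⁻¹ ≠ 1 := fun e => hg1 (eq_one_of_conj_eq_one e)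
    have hceq := (torus_props hm hF g₁ hf₁ _ hc h1).2
    rw [← card_normalizer_cent_conj c g, ← card_centralizer_conj c g, hceq, hn₁]
  · have h1 : c * g * c⁻¹ ≠ 1 := fun e => hg1 (eq_one_of_conj_eq_one e)
    have hceq := (torus_props hm hF g₂ hf₂ _ hc h1).2
    rw [← card_normalizer_cent_conj c g, ← card_centralizer_conj c g, hceq, hn₂]

theorem pow_four_mem_of_card {G : Type*} [Group G] [Finite G] (U : Subgroup G)
    (hcard : Nat.card (Subgroup.normalizer (U : Set G)) = 4 * Nat.card U) {x : G}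
    (hx : x ∈ Subgroup.normalizer (U : Set G)) : x ^ 4 ∈ U := by
  have hidx : (U.subgroupOf (Subgroup.normalizer (U : Set G))).index = 4 := by
    have h1 := Subgroup.index_mul_card (U.subgroupOf (Subgroup.normalizer (U : Set G)))
    have h2 : Nat.card (U.subgroupOf (Subgroup.normalizer (U : Set G))) = Nat.card U :=
      Nat.card_congr (Subgroup.subgroupOfEquivOfLe Subgroup.le_normalizer).toEquiv
    rw [h2, hcard] at h1
    have hpos : 0 < Nat.card U := Nat.card_pos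
    exact Nat.eq_of_mul_eq_mul_right hpos h1
  have h3 : ((⟨x, hx⟩ : Subgroup.normalizer (U : Set G)) :
      _ ⧸ U.subgroupOf (Subgroup.normalizer (U : Set G))) ^ 4 = 1 := by
    rw [← hidx]
    exact pow_card_eq_one'
  rw [← QuotientGroup.mk_pow, QuotientGroup.eq_one_iff] at h3
  exact Subgroup.mem_subgroupOf.1 h3

/-- An element of the normaliser of a torus whose fourth power is non-trivial lies in the
torus. -/
theorem mem_torus_of_normalizer {m : ℕ} (hm : 1 ≤ m) (hF : Fintype.card F = 2 ^ (2 * m + 1))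
    {U : Subgroup ↥(Cfsg.Sz F m)} (hU : IsTorus m U) {x : ↥(Cfsg.Sz F m)}
    (hx : x ∈ Subgroup.normalizer (U : Set ↥(Cfsg.Sz F m))) (hx4 : x ^ 4 ≠ 1) : x ∈ U := by
  obtain ⟨v, hv, hv1⟩ := torus_exists_ne_one hm hU
  obtain ⟨hv4, hUC⟩ := torus_eq_cent hm hF hU hv hv1
  have key : x ^ 4 ∈ U := by
    by_cases hfpf : IsFpf m v.1
    · have hc := card_normalizer_fpf hm hF v hfpf
      rw [← hUC] at hc
      exact pow_four_mem_of_card U hc hx
    · unfold IsFpf at hfpf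
      push Not at hfpf
      obtain ⟨p, hp, hfix⟩ := hfpf
      obtain ⟨a, ha, b, hb, hab, hva, hvb⟩ := exists_two_fix_of_fix hm hF hv4 hp hfix
      rw [hUC] at hx ⊢
      have hcases := (normalizer_iff_fix_two hm hF hv1 ha hb hab hva hvb).1 hx
      rw [cent_iff_fix_two hm hF hv1 ha hb hab hva hvb]
      have hval : (x ^ 4).1 = x.1 * x.1 * (x.1 * x.1) := by
        show x.1 ^ 4 = _
        simp only [pow_succ, pow_zero, one_mul, mul_assoc]
      rw [hval]
      rcases hcases with ⟨h1, h2⟩ | ⟨h1, h2⟩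
      · constructor
        · simp only [mul_smul, h1]
        · simp only [mul_smul, h2]
      · constructor
        · simp only [mul_smul, h1, h2]
        · simp only [mul_smul, h1, h2]
  obtain ⟨-, hUC'⟩ := torus_eq_cent hm hF hU key hx4
  rw [hUC', Subgroup.mem_centralizer_iff]
  intro y hy
  rw [Set.mem_singleton_iff.1 hy]
  exact pow_mul_comm' x 4

end Cfsg.Agent.Lib.helper8
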