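/-
Suzuki group: solubilizers of elements of odd order.
-/
import Cfsg.Agent.Lib.helper8.SzSol2

set_option autoImplicit false

namespace Cfsg.Agent.Lib.helper8

open Matrix
open scoped Pointwise

theorem solv_equiv {G H : Type*} [Group G] [Group H] (e : G ≃* H) (x y : G) :
    Group.IsSolvable ↥(Subgroup.closure ({e x, e y} : Set H)) ↔
      Group.IsSolvable ↥(Subgroup.closure ({x, y} : Set G)) := by
  have hmap : Subgroup.closure ({e x, e y} : Set H) =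
      (Subgroup.closure ({x, y} : Set G)).map (e : G →* H) := by
    rw [MonoidHom.map_closure, Set.image_pair]
    rfl
  rw [hmap]
  constructor
  · intro hs
    exact Group.isSolvable_of_isSolvable_injective (f := (e.subgroupMap _).toMonoidHom)
      (MulEquiv.injective _)
  · intro hs
    exact Group.isSolvable_of_isSolvable_injective (f := (e.subgroupMap _).symm.toMonoidHom)
      (MulEquiv.injective _)

/-- The size of a solubilizer is invariant under isomorphism. -/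
theorem solCount_equiv {G H : Type*} [Group G] [Group H] (e : G ≃* H) (x : G) :
    Nat.card {y : H // Group.IsSolvable ↥(Subgroup.closure ({e x, y} : Set H))} =
      Nat.card {y : G // Group.IsSolvable ↥(Subgroup.closure ({x, y} : Set G))} := by
  apply Nat.card_congr
  refine (Equiv.subtypeEquiv e.toEquiv ?_).symm
  intro y
  exact (solv_equiv e x y).symm

theorem tori_coprime_aux {A B : ℕ} (hodd : ¬ 2 ∣ A) (k : ℕ) (u v : ℤ)
    (e : u * (A : ℤ) + v * (B : ℤ) = 2 ^ k) : Nat.Coprime A B := by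
  by_contra h
  obtain ⟨p, hp, hpA, hpB⟩ := Nat.Prime.not_coprime_iff_dvd.1 h
  have h1 : (p : ℤ) ∣ 2 ^ k := by
    rw [← e]
    exact dvd_add (Dvd.dvd.mul_left (Int.natCast_dvd_natCast.2 hpA) u)
      (Dvd.dvd.mul_left (Int.natCast_dvd_natCast.2 hpB) v)
  have h2 : p ∣ 2 ^ k := by exact_mod_cast h1
  have h3 := (Nat.prime_dvd_prime_iff_eq hp Nat.prime_two).1 (hp.dvd_of_dvd_pow h2)
  subst h3
  exact hodd hpA

/-- The three torus orders are pairwise coprime. -/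
theorem tori_coprime {m : ℕ} (hm : 1 ≤ m) {A B : ℕ}
    (hA : A ∈ ({2 ^ (2 * m + 1) - 1, 2 ^ (2 * m + 1) + 2 ^ (m + 1) + 1,
      2 ^ (2 * m + 1) - 2 ^ (m + 1) + 1} : Set ℕ))
    (hB : B ∈ ({2 ^ (2 * m + 1) - 1, 2 ^ (2 * m + 1) + 2 ^ (m + 1) + 1,
      2 ^ (2 * m + 1) - 2 ^ (m + 1) + 1} : Set ℕ)) (hAB : A ≠ B) : Nat.Coprime A B := by
  have hle : 2 ^ (m + 1) ≤ 2 ^ (2 * m + 1) := Nat.pow_le_pow_right (by norm_num) (by omega)
  have hq1 : 1 ≤ 2 ^ (2 * m + 1) := Nat.one_le_two_pow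
  have hoddA := tori_odd hm hA
  have hoddB := tori_odd hm hB
  have c1 : ((2 ^ (2 * m + 1) - 1 : ℕ) : ℤ) = 2 ^ (2 * m + 1) - 1 := by
    push_cast [Nat.cast_sub hq1]; ring
  have c2 : ((2 ^ (2 * m + 1) + 2 ^ (m + 1) + 1 : ℕ) : ℤ) =
      2 ^ (2 * m + 1) + 2 ^ (m + 1) + 1 := by push_cast; ring
  have c3 : ((2 ^ (2 * m + 1) - 2 ^ (m + 1) + 1 : ℕ) : ℤ) =
      2 ^ (2 * m + 1) - 2 ^ (m + 1) + 1 := by
    push_cast [Nat.cast_sub hle]; ring
  have hrz : (2 : ℤ) ^ (m + 1) * 2 ^ (m + 1) = 2 * 2 ^ (2 * m + 1) := by ring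
  simp only [Set.mem_insert_iff, Set.mem_singleton_iff] at hA hB
  rcases hA with rfl | rfl | rfl <;> rcases hB with rfl | rfl | rfl
  · exact absurd rfl hAB
  · exact tori_coprime_aux hoddA 1 (-(2 ^ (2 * m + 1) + 1))
      (2 ^ (2 * m + 1) - 2 ^ (m + 1) + 1) (by rw [c1, c2]; linear_combination (-1 : ℤ) * hrz)
  · exact tori_coprime_aux hoddA 1 (-(2 ^ (2 * m + 1) + 1))
      (2 ^ (2 * m + 1) + 2 ^ (m + 1) + 1) (by rw [c1, c3]; linear_combination (-1 : ℤ) * hrz)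
  · exact tori_coprime_aux hoddA 1 (2 ^ (2 * m + 1) - 2 ^ (m + 1) + 1)
      (-(2 ^ (2 * m + 1) + 1)) (by rw [c1, c2]; linear_combination (-1 : ℤ) * hrz)
  · exact absurd rfl hAB
  · exact tori_coprime_aux hoddA (m + 2) 1 (-1) (by rw [c2, c3]; ring)
  · exact tori_coprime_aux hoddA 1 (2 ^ (2 * m + 1) + 2 ^ (m + 1) + 1)
      (-(2 ^ (2 * m + 1) + 1)) (by rw [c1, c3]; linear_combination (-1 : ℤ) * hrz)
  · exact (tori_coprime_aux hoddB (m + 2) 1 (-1) (by rw [c2, c3]; ring)).symm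
  · exact absurd rfl hAB

variable {F : Type*} [Field F] [Fintype F]

/-- A non-identity element whose order divides a torus order has a centraliser of that
order. -/
theorem type_of_order {m : ℕ} (hm : 1 ≤ m) (hF : Fintype.card F = 2 ^ (2 * m + 1))
    {x : ↥(Cfsg.Sz F m)} (hx1 : x ≠ 1) {A : ℕ}
    (hA : A ∈ ({2 ^ (2 * m + 1) - 1, 2 ^ (2 * m + 1) + 2 ^ (m + 1) + 1,
      2 ^ (2 * m + 1) - 2 ^ (m + 1) + 1} : Set ℕ)) (hord : orderOf x ∣ A) :
    x ^ 4 ≠ 1 ∧ Nat.card ↥(Subgroup.centralizer ({x} : Set ↥(Cfsg.Sz F m))) = A := by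
  have hx4 : x ^ 4 ≠ 1 := by
    intro e4
    have h1 : orderOf x ∣ 2 ^ 2 := orderOf_dvd_of_pow_eq_one e4
    have hodd := tori_odd hm hA
    have hcop : Nat.Coprime A (2 ^ 2) :=
      Nat.Coprime.pow_right 2
        (Nat.coprime_comm.1 ((Nat.Prime.coprime_iff_not_dvd Nat.prime_two).2 hodd))
    have h3 : orderOf x ∣ Nat.gcd A (2 ^ 2) := Nat.dvd_gcd hord h1
    rw [hcop] at h3
    exact hx1 (orderOf_eq_one_iff.1 (Nat.dvd_one.1 h3))
  refine ⟨hx4, ?_⟩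
  obtain ⟨hcyc, hcard⟩ := cent_torus hm hF x hx4
  by_contra hne
  have hcop := tori_coprime hm hcard hA hne
  have hxC : x ∈ Subgroup.centralizer ({x} : Set ↥(Cfsg.Sz F m)) :=
    Subgroup.mem_centralizer_iff.2 (fun y hy => by rw [Set.mem_singleton_iff.1 hy])
  have h2 : orderOf x ∣ Nat.card ↥(Subgroup.centralizer ({x} : Set ↥(Cfsg.Sz F m))) := by
    have := orderOf_dvd_natCard (⟨x, hxC⟩ : Subgroup.centralizer ({x} : Set ↥(Cfsg.Sz F m)))
    rwa [Subgroup.orderOf_mk] at this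
  have h3 : orderOf x ∣
      Nat.gcd (Nat.card ↥(Subgroup.centralizer ({x} : Set ↥(Cfsg.Sz F m)))) A :=
    Nat.dvd_gcd h2 hord
  rw [hcop] at h3
  exact hx1 (orderOf_eq_one_iff.1 (Nat.dvd_one.1 h3))

theorem not_fpf_of_card {m : ℕ} (hm : 1 ≤ m) (hF : Fintype.card F = 2 ^ (2 * m + 1))
    {x : ↥(Cfsg.Sz F m)}
    (hc : Nat.card ↥(Subgroup.centralizer ({x} : Set ↥(Cfsg.Sz F m))) = 2 ^ (2 * m + 1) - 1) :
    ¬ IsFpf m x.1 := by
  intro hfpf
  have hle : 2 ^ (m + 1) ≤ 2 ^ (2 * m + 1) := Nat.pow_le_pow_right (by norm_num) (by omega)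
  have hr4 : 2 ^ 2 ≤ 2 ^ (m + 1) := Nat.pow_le_pow_right (by norm_num) (by omega)
  have hq1 : 1 ≤ 2 ^ (2 * m + 1) := Nat.one_le_two_pow
  rcases card_cent_fpf hm hF x hfpf with e | e <;> rw [hc] at e <;> omega

theorem fpf_of_card {m : ℕ} (hm : 1 ≤ m) (hF : Fintype.card F = 2 ^ (2 * m + 1))
    {x : ↥(Cfsg.Sz F m)} (hx4 : x ^ 4 ≠ 1)
    (hc : Nat.card ↥(Subgroup.centralizer ({x} : Set ↥(Cfsg.Sz F m))) ≠ 2 ^ (2 * m + 1) - 1) :
    IsFpf m x.1 := by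
  by_contra hnf
  unfold IsFpf at hnf
  push Not at hnf
  obtain ⟨p, hp, hfix⟩ := hnf
  obtain ⟨a, ha, b, hb, hab, hxa, hxb⟩ := exists_two_fix_of_fix hm hF hx4 hp hfix
  obtain ⟨k, hk, -, -, z, hz⟩ := conj_two_fix hm hF x.2 ha hb hab hxa hxb
  have hz1 : z ≠ 1 := by
    rintro rfl
    rw [sD_one] at hz
    apply hx4
    rw [show x = 1 from Subtype.ext (eq_one_of_conj_eq_one hz), one_pow]
  exact hc (card_cent_torus hm hF x hk hz1 hz)

theorem sol_iff_of_pow_four {m : ℕ} (hm : 1 ≤ m) (hp : (2 * m + 1).Prime)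
    (hF : Fintype.card F = 2 ^ (2 * m + 1)) {x : ↥(Cfsg.Sz F m)} (hx4 : x ^ 4 ≠ 1)
    (y : ↥(Cfsg.Sz F m)) :
    Group.IsSolvable ↥(Subgroup.closure ({x, y} : Set ↥(Cfsg.Sz F m))) ↔
      ((∃ p ∈ Cfsg.suzukiOvoid F m, x.1 • p = p ∧ y.1 • p = p) ∨
        y ∈ Subgroup.normalizer
          ((Subgroup.centralizer ({x} : Set ↥(Cfsg.Sz F m)) : Subgroup ↥(Cfsg.Sz F m)) :
            Set ↥(Cfsg.Sz F m))) := by
  rw [sol_iff hm hp hF]
  have hxC : x ∈ Subgroup.centralizer ({x} : Set ↥(Cfsg.Sz F m)) :=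
    Subgroup.mem_centralizer_iff.2 (fun t ht => by rw [Set.mem_singleton_iff.1 ht])
  have hx1 : x ≠ 1 := fun e => hx4 (by rw [e, one_pow])
  constructor
  · rintro (h1 | ⟨U, hU, hxU, hyU⟩)
    · exact Or.inl h1
    · right
      have hxU' := mem_torus_of_normalizer hm hF hU hxU hx4
      rw [← (torus_eq_cent hm hF hU hxU' hx1).2]
      exact hyU
  · rintro (h1 | h2)
    · exact Or.inl h1
    · exact Or.inr ⟨_, cent_isTorus hm hF x hx4, Subgroup.le_normalizer hxC, h2⟩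

theorem card_stabPt_inf {m : ℕ} (hm : 1 ≤ m) (hF : Fintype.card F = 2 ^ (2 * m + 1)) :
    Nat.card ↥(stabPt m (pinf : Projectivization F (Fin 4 → F))) =
      (2 ^ (2 * m + 1)) ^ 2 * (2 ^ (2 * m + 1) - 1) := by
  classical
  have h := szHyp_of_card hF
  have hbij : Function.Bijective (fun w : (F × F) × Fˣ =>
      (⟨gT h w.1.1 w.1.2 * gD h w.2, by
        show (sT m w.1.1 w.1.2 * sD m w.2) • (pinf : Projectivization F (Fin 4 → F)) = pinf
        rw [mul_smul, sD_pinf, sT_pinf]⟩ :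
        ↥(stabPt m (pinf : Projectivization F (Fin 4 → F))))) := by
    constructor
    · intro w w' e
      have e1 : sT m w.1.1 w.1.2 * sD m w.2 = sT m w'.1.1 w'.1.2 * sD m w'.2 :=
        congrArg (fun t : ↥(stabPt m (pinf : Projectivization F (Fin 4 → F))) => t.1.1) e
      obtain ⟨h1, h2, h3⟩ := sT_sD_inj h e1
      exact Prod.ext (Prod.ext h1 h2) h3
    · intro g
      obtain ⟨a, b, z, e⟩ := stab_inf hm hF g.1.2 g.2
      exact ⟨((a, b), z), Subtype.ext (Subtype.ext e.symm)⟩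
  rw [← Nat.card_congr (Equiv.ofBijective _ hbij), Nat.card_prod, Nat.card_prod,
    Nat.card_units, Nat.card_eq_fintype_card, hF]
  ring

/-- The stabiliser of a point of the ovoid has order `q² (q - 1)`. -/
theorem card_stabPt {m : ℕ} (hm : 1 ≤ m) (hF : Fintype.card F = 2 ^ (2 * m + 1))
    {p : Projectivization F (Fin 4 → F)} (hp : p ∈ Cfsg.suzukiOvoid F m) :
    Nat.card ↥(stabPt m p) = (2 ^ (2 * m + 1)) ^ 2 * (2 ^ (2 * m + 1) - 1) := by
  have h := szHyp_of_card hF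
  obtain ⟨k, hk, hkp⟩ := exists_to_inf h hp
  rw [← card_stabPt_inf hm hF]
  apply Nat.card_congr
  refine ⟨fun y => ⟨⟨k, hk⟩ * y.1 * ⟨k, hk⟩⁻¹, ?_⟩, fun y => ⟨⟨k, hk⟩⁻¹ * y.1 * ⟨k, hk⟩, ?_⟩,
    ?_, ?_⟩
  · have hy : y.1.1 • p = p := y.2
    show (k * y.1.1 * k⁻¹) • (pinf : Projectivization F (Fin 4 → F)) = pinf
    rw [mul_smul, mul_smul, ← hkp, inv_smul_smul, hy]
  · have hy : y.1.1 • (pinf : Projectivization F (Fin 4 → F)) = pinf := y.2
    show (k⁻¹ * y.1.1 * k) • p = p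
    rw [mul_smul, mul_smul, hkp, hy, ← hkp, inv_smul_smul]
  · intro y
    apply Subtype.ext
    show _⁻¹ * (_ * y.1 * _⁻¹) * _ = y.1
    group
  · intro y
    apply Subtype.ext
    show _ * (_⁻¹ * y.1 * _) * _⁻¹ = y.1
    group

/-- The elements swapping two points are as many as those fixing both. -/
theorem card_swap {m : ℕ} (hm : 1 ≤ m) (hF : Fintype.card F = 2 ^ (2 * m + 1))
    {a b : Projectivization F (Fin 4 → F)} (ha : a ∈ Cfsg.suzukiOvoid F m)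
    (hb : b ∈ Cfsg.suzukiOvoid F m) (hab : a ≠ b) :
    Nat.card {y : ↥(Cfsg.Sz F m) // y.1 • a = b ∧ y.1 • b = a} =
      Nat.card {y : ↥(Cfsg.Sz F m) // y.1 • a = a ∧ y.1 • b = b} := by
  have h := szHyp_of_card hF
  obtain ⟨k, hk, hka, hkb⟩ := exists_to_inf_zero h ha hb hab
  have hwa : (k⁻¹ * sW * k) • a = b := by
    rw [mul_smul, mul_smul, hka, sW_pinf m, ← hkb, inv_smul_smul]
  have hwb : (k⁻¹ * sW * k) • b = a := by
    rw [mul_smul, mul_smul, hkb, sW_paff_zero m, ← hka, inv_smul_smul]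
  have hwS : k⁻¹ * sW * k ∈ Cfsg.Sz F m := mul_mem (mul_mem (inv_mem hk) (sW_mem h)) hk
  have hwa' : (k⁻¹ * sW * k)⁻¹ • b = a := by rw [inv_smul_eq_iff]; exact hwa.symm
  have hwb' : (k⁻¹ * sW * k)⁻¹ • a = b := by rw [inv_smul_eq_iff]; exact hwb.symm
  apply Nat.card_congr
  refine ⟨fun y => ⟨⟨_, hwS⟩⁻¹ * y.1, ?_⟩, fun y => ⟨⟨_, hwS⟩ * y.1, ?_⟩, ?_, ?_⟩
  · rcases y with ⟨y, hy1, hy2⟩
    constructor
    · show ((k⁻¹ * sW * k)⁻¹ * y.1) • a = a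
      rw [mul_smul, hy1, hwa']
    · show ((k⁻¹ * sW * k)⁻¹ * y.1) • b = b
      rw [mul_smul, hy2, hwb']
  · rcases y with ⟨y, hy1, hy2⟩
    constructor
    · show ((k⁻¹ * sW * k) * y.1) • a = b
      rw [mul_smul, hy1, hwa]
    · show ((k⁻¹ * sW * k) * y.1) • b = a
      rw [mul_smul, hy2, hwb]
  · intro y
    apply Subtype.ext
    show _ * (_⁻¹ * y.1) = y.1
    group
  · intro y
    apply Subtype.ext
    show _⁻¹ * (_ * y.1) = y.1
    group

/-- Solubilizer of a fixed-point-free element. -/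
theorem solCount_fpf {m : ℕ} (hm : 1 ≤ m) (hp : (2 * m + 1).Prime)
    (hF : Fintype.card F = 2 ^ (2 * m + 1)) (x : ↥(Cfsg.Sz F m)) (hfpf : IsFpf m x.1) :
    Nat.card {y : ↥(Cfsg.Sz F m) //
        Group.IsSolvable ↥(Subgroup.closure ({x, y} : Set ↥(Cfsg.Sz F m)))} =
      4 * Nat.card ↥(Subgroup.centralizer ({x} : Set ↥(Cfsg.Sz F m))) := by
  have hx1 := fpf_ne_one hfpf
  have hxC : x ∈ Subgroup.centralizer ({x} : Set ↥(Cfsg.Sz F m)) :=
    Subgroup.mem_centralizer_iff.2 (fun t ht => by rw [Set.mem_singleton_iff.1 ht])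
  have hT : IsTorus m (Subgroup.centralizer ({x} : Set ↥(Cfsg.Sz F m))) :=
    ⟨cent_cyclic_fpf hm hF x hfpf, by
      rcases card_cent_fpf hm hF x hfpf with e | e <;> rw [e] <;> simp⟩
  have hx4 := (torus_eq_cent hm hF hT hxC hx1).1
  have hiff : ∀ y : ↥(Cfsg.Sz F m),
      Group.IsSolvable ↥(Subgroup.closure ({x, y} : Set ↥(Cfsg.Sz F m))) ↔
        y ∈ Subgroup.normalizer
          ((Subgroup.centralizer ({x} : Set ↥(Cfsg.Sz F m)) : Subgroup ↥(Cfsg.Sz F m)) :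
            Set ↥(Cfsg.Sz F m)) := by
    intro y
    rw [sol_iff_of_pow_four hm hp hF hx4]
    constructor
    · rintro (⟨p, hp', hxp, -⟩ | h2)
      · exact absurd hxp (hfpf p hp')
      · exact h2
    · exact fun h2 => Or.inr h2
  rw [Nat.card_congr (Equiv.subtypeEquivRight hiff)]
  exact card_normalizer_fpf hm hF x hfpf

/-- Solubilizer of a non-identity element with two fixed points. -/
theorem solCount_two_fix {m : ℕ} (hm : 1 ≤ m) (hp : (2 * m + 1).Prime)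
    (hF : Fintype.card F = 2 ^ (2 * m + 1)) (x : ↥(Cfsg.Sz F m)) (hx1 : x ≠ 1)
    {a b : Projectivization F (Fin 4 → F)} (ha : a ∈ Cfsg.suzukiOvoid F m)
    (hb : b ∈ Cfsg.suzukiOvoid F m) (hab : a ≠ b) (hxa : x.1 • a = a) (hxb : x.1 • b = b) :
    Nat.card {y : ↥(Cfsg.Sz F m) //
        Group.IsSolvable ↥(Subgroup.closure ({x, y} : Set ↥(Cfsg.Sz F m)))} =
      2 * (2 ^ (2 * m + 1)) ^ 2 * (2 ^ (2 * m + 1) - 1) := by
  classical
  have hx4 : x ^ 4 ≠ 1 := fun e4 => hx1 (two_elt_fix_two hm hF e4 ha hb hab hxa hxb)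
  have hxne : x.1 ≠ 1 := fun e => hx1 (Subtype.ext e)
  have hiff : ∀ y : ↥(Cfsg.Sz F m),
      Group.IsSolvable ↥(Subgroup.closure ({x, y} : Set ↥(Cfsg.Sz F m))) ↔
        ((y.1 • a = a ∨ y.1 • b = b) ∨ (y.1 • a = b ∧ y.1 • b = a)) := by
    intro y
    rw [sol_iff_of_pow_four hm hp hF hx4, normalizer_iff_fix_two hm hF hx1 ha hb hab hxa hxb]
    constructor
    · rintro (⟨p, hp', hxp, hyp⟩ | (⟨h1, h2⟩ | h3))
      · rcases fix_two hm hF x.2 hxne ha hb hp' hab hxa hxb hxp with rfl | rfl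
        · exact Or.inl (Or.inl hyp)
        · exact Or.inl (Or.inr hyp)
      · exact Or.inl (Or.inl h1)
      · exact Or.inr h3
    · rintro ((h1 | h1) | h3)
      · exact Or.inl ⟨a, ha, hxa, h1⟩
      · exact Or.inl ⟨b, hb, hxb, h1⟩
      · exact Or.inr (Or.inr h3)
  rw [Nat.card_congr (Equiv.subtypeEquivRight hiff)]
  have hset : Nat.card {y : ↥(Cfsg.Sz F m) //
      (y.1 • a = a ∨ y.1 • b = b) ∨ (y.1 • a = b ∧ y.1 • b = a)} =
      (({y : ↥(Cfsg.Sz F m) | y.1 • a = a} ∪ {y : ↥(Cfsg.Sz F m) | y.1 • b = b}) ∪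
        {y : ↥(Cfsg.Sz F m) | y.1 • a = b ∧ y.1 • b = a}).ncard := by
    rw [← Nat.card_coe_set_eq]; rfl
  have hA : ({y : ↥(Cfsg.Sz F m) | y.1 • a = a}).ncard =
      (2 ^ (2 * m + 1)) ^ 2 * (2 ^ (2 * m + 1) - 1) := by
    rw [← card_stabPt hm hF ha, ← Nat.card_coe_set_eq]; rfl
  have hB : ({y : ↥(Cfsg.Sz F m) | y.1 • b = b}).ncard =
      (2 ^ (2 * m + 1)) ^ 2 * (2 ^ (2 * m + 1) - 1) := by
    rw [← card_stabPt hm hF hb, ← Nat.card_coe_set_eq]; rfl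
  have hcard : Nat.card ↥(Subgroup.centralizer ({x} : Set ↥(Cfsg.Sz F m))) =
      2 ^ (2 * m + 1) - 1 := by
    obtain ⟨k, hk, -, -, z, hz⟩ := conj_two_fix hm hF x.2 ha hb hab hxa hxb
    have hz1 : z ≠ 1 := by
      rintro rfl
      rw [sD_one] at hz
      exact hxne (eq_one_of_conj_eq_one hz)
    exact card_cent_torus hm hF x hk hz1 hz
  have hAB : (({y : ↥(Cfsg.Sz F m) | y.1 • a = a} ∩ {y : ↥(Cfsg.Sz F m) | y.1 • b = b})).ncard
      = 2 ^ (2 * m + 1) - 1 := by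
    rw [← hcard, ← Nat.card_coe_set_eq]
    exact Nat.card_congr (Equiv.subtypeEquivRight
      (fun y => (cent_iff_fix_two hm hF hx1 ha hb hab hxa hxb).symm))
  have hSw : ({y : ↥(Cfsg.Sz F m) | y.1 • a = b ∧ y.1 • b = a}).ncard =
      2 ^ (2 * m + 1) - 1 := by
    rw [← hAB, ← Nat.card_coe_set_eq, ← Nat.card_coe_set_eq]
    exact card_swap hm hF ha hb hab
  have hdisj : Disjoint ({y : ↥(Cfsg.Sz F m) | y.1 • a = a} ∪
      {y : ↥(Cfsg.Sz F m) | y.1 • b = b}) {y : ↥(Cfsg.Sz F m) | y.1 • a = b ∧ y.1 • b = a} := by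
    rw [Set.disjoint_left]
    rintro y (hy | hy) ⟨h1, h2⟩
    · exact hab (hy.symm.trans h1)
    · exact hab (h2.symm.trans hy)
  rw [hset, Set.ncard_union_eq hdisj, hSw]
  have h1 := Set.ncard_union_add_ncard_inter {y : ↥(Cfsg.Sz F m) | y.1 • a = a}
    {y : ↥(Cfsg.Sz F m) | y.1 • b = b}
  rw [hA, hB, hAB] at h1
  rw [h1]
  ring

/-- Solubilizer of a non-identity element of order dividing `q - 1`. -/
theorem solCount_split {m : ℕ} (hm : 1 ≤ m) (hp : (2 * m + 1).Prime)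
    (hF : Fintype.card F = 2 ^ (2 * m + 1)) (x : ↥(Cfsg.Sz F m)) (hx1 : x ≠ 1)
    (hord : orderOf x ∣ 2 ^ (2 * m + 1) - 1) :
    Nat.card {y : ↥(Cfsg.Sz F m) //
        Group.IsSolvable ↥(Subgroup.closure ({x, y} : Set ↥(Cfsg.Sz F m)))} =
      2 * (2 ^ (2 * m + 1)) ^ 2 * (2 ^ (2 * m + 1) - 1) := by
  obtain ⟨hx4, hcard⟩ := type_of_order hm hF hx1 (A := 2 ^ (2 * m + 1) - 1) (by simp) hord
  have hnf := not_fpf_of_card hm hF hcard
  unfold IsFpf at hnf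
  push Not at hnf
  obtain ⟨p, hp', hfix⟩ := hnf
  obtain ⟨a, ha, b, hb, hab, hxa, hxb⟩ := exists_two_fix_of_fix hm hF hx4 hp' hfix
  exact solCount_two_fix hm hp hF x hx1 ha hb hab hxa hxb

/-- Solubilizer of a non-identity element of order dividing `q + r + 1`. -/
theorem solCount_plus {m : ℕ} (hm : 1 ≤ m) (hp : (2 * m + 1).Prime)
    (hF : Fintype.card F = 2 ^ (2 * m + 1)) (x : ↥(Cfsg.Sz F m)) (hx1 : x ≠ 1)
    (hord : orderOf x ∣ 2 ^ (2 * m + 1) + 2 ^ (m + 1) + 1) :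
    Nat.card {y : ↥(Cfsg.Sz F m) //
        Group.IsSolvable ↥(Subgroup.closure ({x, y} : Set ↥(Cfsg.Sz F m)))} =
      4 * (2 ^ (2 * m + 1) + 2 ^ (m + 1) + 1) := by
  obtain ⟨hx4, hcard⟩ := type_of_order hm hF hx1
    (A := 2 ^ (2 * m + 1) + 2 ^ (m + 1) + 1) (by simp) hord
  have hq1 : 1 ≤ 2 ^ (2 * m + 1) := Nat.one_le_two_pow
  have hr1 : 1 ≤ 2 ^ (m + 1) := Nat.one_le_two_pow
  have hfpf := fpf_of_card hm hF hx4 (by rw [hcard]; omega)
  rw [solCount_fpf hm hp hF x hfpf, hcard]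

/-- Solubilizer of a non-identity element of order dividing `q - r + 1`. -/
theorem solCount_minus {m : ℕ} (hm : 1 ≤ m) (hp : (2 * m + 1).Prime)
    (hF : Fintype.card F = 2 ^ (2 * m + 1)) (x : ↥(Cfsg.Sz F m)) (hx1 : x ≠ 1)
    (hord : orderOf x ∣ 2 ^ (2 * m + 1) - 2 ^ (m + 1) + 1) :
    Nat.card {y : ↥(Cfsg.Sz F m) //
        Group.IsSolvable ↥(Subgroup.closure ({x, y} : Set ↥(Cfsg.Sz F m)))} =
      4 * (2 ^ (2 * m + 1) - 2 ^ (m + 1) + 1) := by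
  obtain ⟨hx4, hcard⟩ := type_of_order hm hF hx1
    (A := 2 ^ (2 * m + 1) - 2 ^ (m + 1) + 1) (by simp) hord
  have hle : 2 ^ (m + 1) ≤ 2 ^ (2 * m + 1) := Nat.pow_le_pow_right (by norm_num) (by omega)
  have hr4 : 2 ^ 2 ≤ 2 ^ (m + 1) := Nat.pow_le_pow_right (by norm_num) (by omega)
  have hq1 : 1 ≤ 2 ^ (2 * m + 1) := Nat.one_le_two_pow
  have hfpf := fpf_of_card hm hF hx4 (by rw [hcard]; omega)
  rw [solCount_fpf hm hp hF x hfpf, hcard]

end Cfsg.Agent.Lib.helper8
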