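/-
Suzuki group: involutions, tori normalised by an involution.
-/
import Cfsg.Agent.Lib.helper8.SzSol3

set_option autoImplicit false

namespace Cfsg.Agent.Lib.helper8

open Matrix
open scoped Pointwise

variable {F : Type*} [Field F] [Fintype F]

theorem fpf_pow_four {m : ℕ} (hm : 1 ≤ m) (hF : Fintype.card F = 2 ^ (2 * m + 1))
    {x : ↥(Cfsg.Sz F m)} (hfpf : IsFpf m x.1) : x ^ 4 ≠ 1 := by
  have hx1 := fpf_ne_one hfpf
  have hxC : x ∈ Subgroup.centralizer ({x} : Set ↥(Cfsg.Sz F m)) :=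
    Subgroup.mem_centralizer_iff.2 (fun t ht => by rw [Set.mem_singleton_iff.1 ht])
  have hT : IsTorus m (Subgroup.centralizer ({x} : Set ↥(Cfsg.Sz F m))) :=
    ⟨cent_cyclic_fpf hm hF x hfpf, by
      rcases card_cent_fpf hm hF x hfpf with e | e <;> rw [e] <;> simp⟩
  exact (torus_eq_cent hm hF hT hxC hx1).1

/-- The product of an involution fixing `∞` and an involution not fixing `∞` has order not
dividing `4`. -/
theorem invol_mul_pow_four {m : ℕ} (hm : 1 ≤ m) (hF : Fintype.card F = 2 ^ (2 * m + 1))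
    {u x' : ↥(Cfsg.Sz F m)} (hu1 : u ≠ 1) (hu2 : u * u = 1)
    (hfix : u.1 • (pinf : Projectivization F (Fin 4 → F)) = pinf)
    (hx'2 : x' * x' = 1) (hoff : x'.1 • (pinf : Projectivization F (Fin 4 → F)) ≠ pinf) :
    (u * x') ^ 4 ≠ 1 := by
  intro e4
  have huinv : u⁻¹ = u := inv_eq_of_mul_eq_one_right hu2
  have hx'inv : x'⁻¹ = x' := inv_eq_of_mul_eq_one_right hx'2
  have hv1 : u * x' ≠ 1 := by
    intro e
    have : x' = u := by rw [← huinv]; exact eq_inv_of_mul_eq_one_right e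
    exact hoff (by rw [this]; exact hfix)
  have hnf : ¬ IsFpf m (u * x').1 := fun hf => fpf_pow_four hm hF hf e4
  unfold IsFpf at hnf
  push Not at hnf
  obtain ⟨p₁, hp₁, hvp⟩ := hnf
  have hconj : u * (u * x') * u⁻¹ = (u * x')⁻¹ := by
    rw [_root_.mul_inv_rev, hx'inv, huinv]
    calc u * (u * x') * u = (u * u) * x' * u := by group
      _ = x' * u := by rw [hu2, one_mul]
  have h1 : ((u * x')⁻¹).1 • p₁ = p₁ := by
    show (u * x').1⁻¹ • p₁ = p₁
    rw [inv_smul_eq_iff]; exact hvp.symm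
  have h2 : ((u * x')⁻¹).1 • (u.1 • p₁) = u.1 • p₁ := by
    rw [← hconj]
    show (u.1 * (u * x').1 * u.1⁻¹) • (u.1 • p₁) = u.1 • p₁
    rw [mul_smul, mul_smul, inv_smul_smul, hvp]
  have hinv4 : ((u * x')⁻¹) ^ 4 = 1 := by rw [inv_pow, e4, inv_one]
  have hinv1 : (u * x')⁻¹ ≠ 1 := fun e => hv1 (inv_eq_one.1 e)
  have hup : u.1 • p₁ = p₁ := by
    by_contra hne
    exact hinv1 (two_elt_fix_two hm hF hinv4 hp₁ (smul_mem_ovoid u.2 hp₁) (Ne.symm hne) h1 h2)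
  have hpinf : p₁ = pinf := invol_fix_unique hm hF u.2 (fun e => hu1 (Subtype.ext e))
    (congrArg Subtype.val hu2) hp₁ (pinf_mem m) hup hfix
  rw [hpinf] at hvp
  apply hoff
  have hvp' : u.1 • (x'.1 • (pinf : Projectivization F (Fin 4 → F))) = pinf := by
    rw [← mul_smul]; exact hvp
  have h3 := congrArg (fun p => u.1⁻¹ • p) hvp'
  simp only [inv_smul_smul] at h3
  rw [h3, inv_smul_eq_iff]
  exact hfix.symm

/-- Two involutions normalise the centraliser of their product. -/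
theorem invol_normalizes {m : ℕ} (hm : 1 ≤ m) (hF : Fintype.card F = 2 ^ (2 * m + 1))
    {u x' : ↥(Cfsg.Sz F m)} (hu2 : u * u = 1) (hx'2 : x' * x' = 1) (hv4 : (u * x') ^ 4 ≠ 1) :
    u ∈ Subgroup.normalizer
        ((Subgroup.centralizer ({u * x'} : Set ↥(Cfsg.Sz F m)) : Subgroup ↥(Cfsg.Sz F m)) :
          Set ↥(Cfsg.Sz F m)) ∧
      x' ∈ Subgroup.normalizer
        ((Subgroup.centralizer ({u * x'} : Set ↥(Cfsg.Sz F m)) : Subgroup ↥(Cfsg.Sz F m)) :
          Set ↥(Cfsg.Sz F m)) := by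
  have huinv : u⁻¹ = u := inv_eq_of_mul_eq_one_right hu2
  have hx'inv : x'⁻¹ = x' := inv_eq_of_mul_eq_one_right hx'2
  have hvC : u * x' ∈ Subgroup.centralizer ({u * x'} : Set ↥(Cfsg.Sz F m)) :=
    Subgroup.mem_centralizer_iff.2 (fun t ht => by rw [Set.mem_singleton_iff.1 ht])
  have hinvC : (u * x')⁻¹ ∈ Subgroup.centralizer ({u * x'} : Set ↥(Cfsg.Sz F m)) :=
    inv_mem hvC
  constructor
  · rw [mem_normalizer_cent_iff hm hF hv4]
    have e : u * (u * x') * u⁻¹ = (u * x')⁻¹ := by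
      rw [_root_.mul_inv_rev, hx'inv, huinv]
      calc u * (u * x') * u = (u * u) * x' * u := by group
        _ = x' * u := by rw [hu2, one_mul]
    rw [e]; exact hinvC
  · rw [mem_normalizer_cent_iff hm hF hv4]
    have e : x' * (u * x') * x'⁻¹ = (u * x')⁻¹ := by
      rw [_root_.mul_inv_rev, hx'inv, huinv]
      calc x' * (u * x') * x' = x' * u * (x' * x') := by group
        _ = x' * u := by rw [hx'2, mul_one]
    rw [e]; exact hinvC

/-- Solubilizer membership for elements not fixing the fixed point of an involution. -/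
theorem sol_off_iff {m : ℕ} (hm : 1 ≤ m) (hp : (2 * m + 1).Prime)
    (hF : Fintype.card F = 2 ^ (2 * m + 1)) {u : ↥(Cfsg.Sz F m)} (hu1 : u ≠ 1)
    (hu2 : u * u = 1) (hfix : u.1 • (pinf : Projectivization F (Fin 4 → F)) = pinf)
    (y : ↥(Cfsg.Sz F m)) (hy : y.1 • (pinf : Projectivization F (Fin 4 → F)) ≠ pinf) :
    Group.IsSolvable ↥(Subgroup.closure ({u, y} : Set ↥(Cfsg.Sz F m))) ↔
      y ∈ Subgroup.normalizer
        ((Subgroup.centralizer ({u * (y * u * y⁻¹)} : Set ↥(Cfsg.Sz F m)) :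
          Subgroup ↥(Cfsg.Sz F m)) : Set ↥(Cfsg.Sz F m)) := by
  have hx'2 : (y * u * y⁻¹) * (y * u * y⁻¹) = 1 := by
    calc (y * u * y⁻¹) * (y * u * y⁻¹) = y * (u * u) * y⁻¹ := by group
      _ = 1 := by rw [hu2]; group
  have hx'fix : (y * u * y⁻¹).1 • (y.1 • (pinf : Projectivization F (Fin 4 → F))) =
      y.1 • pinf := by
    show (y.1 * u.1 * y.1⁻¹) • (y.1 • (pinf : Projectivization F (Fin 4 → F))) = _
    rw [mul_smul, mul_smul, inv_smul_smul, hfix]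
  have hx'1 : y * u * y⁻¹ ≠ 1 := fun e => hu1 (eq_one_of_conj_eq_one e)
  have hoff : (y * u * y⁻¹).1 • (pinf : Projectivization F (Fin 4 → F)) ≠ pinf := by
    intro e
    exact hy (invol_fix_unique hm hF (y * u * y⁻¹).2 (fun e' => hx'1 (Subtype.ext e'))
      (congrArg Subtype.val hx'2) (smul_mem_ovoid y.2 (pinf_mem m)) (pinf_mem m) hx'fix e)
  have hv4 := invol_mul_pow_four hm hF hu1 hu2 hfix hx'2 hoff
  obtain ⟨huN, hx'N⟩ := invol_normalizes hm hF hu2 hx'2 hv4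
  rw [sol_iff hm hp hF]
  constructor
  · rintro (⟨p, hp', hup, hyp⟩ | ⟨U, hU, huU, hyU⟩)
    · exfalso
      have hpp : p = pinf := invol_fix_unique hm hF u.2 (fun e => hu1 (Subtype.ext e))
        (congrArg Subtype.val hu2) hp' (pinf_mem m) hup hfix
      rw [hpp] at hyp
      exact hy hyp
    · have hx'U : y * u * y⁻¹ ∈ Subgroup.normalizer (U : Set ↥(Cfsg.Sz F m)) :=
        mul_mem (mul_mem hyU huU) (inv_mem hyU)
      have hne : u ≠ y * u * y⁻¹ := by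
        intro e
        apply hoff
        rw [← e]; exact hfix
      obtain ⟨hvU, hv1⟩ := torus_invol_mul hm hF hU huU hu1 hu2 hx'U hx'1 hx'2 hne
      rw [← (torus_eq_cent hm hF hU hvU hv1).2]
      exact hyU
  · intro hyN
    exact Or.inr ⟨_, cent_isTorus hm hF _ hv4, huN, hyN⟩

/-- The fibre of conjugation over an involution `x'`: a coset of `N(C(u x')) ∩ C(u)`. -/
theorem card_fib {m : ℕ} (hm : 1 ≤ m) (hF : Fintype.card F = 2 ^ (2 * m + 1))
    {u x' : ↥(Cfsg.Sz F m)} (hu1 : u ≠ 1) (hu2 : u * u = 1)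
    (hfix : u.1 • (pinf : Projectivization F (Fin 4 → F)) = pinf)
    (hx'1 : x' ≠ 1) (hx'2 : x' * x' = 1)
    (hoff : x'.1 • (pinf : Projectivization F (Fin 4 → F)) ≠ pinf) :
    Nat.card {y : ↥(Cfsg.Sz F m) // y * u * y⁻¹ = x' ∧ y ∈ Subgroup.normalizer
        ((Subgroup.centralizer ({u * x'} : Set ↥(Cfsg.Sz F m)) : Subgroup ↥(Cfsg.Sz F m)) :
          Set ↥(Cfsg.Sz F m))} =
      Nat.card {t : ↥(Cfsg.Sz F m) // t ∈ Subgroup.normalizer
        ((Subgroup.centralizer ({u * x'} : Set ↥(Cfsg.Sz F m)) : Subgroup ↥(Cfsg.Sz F m)) :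
          Set ↥(Cfsg.Sz F m)) ∧ t * u = u * t} := by
  have hv4 := invol_mul_pow_four hm hF hu1 hu2 hfix hx'2 hoff
  obtain ⟨huN, hx'N⟩ := invol_normalizes hm hF hu2 hx'2 hv4
  obtain ⟨β, hβ, hx'β⟩ := invol_exists_fix hm hF x'.2 (congrArg Subtype.val hx'2)
  have hne : (pinf : Projectivization F (Fin 4 → F)) ≠ β := by
    rintro rfl
    exact hoff hx'β
  obtain ⟨k, -, hconj, -, -⟩ :=
    dihedral_conj hm hF hu1 hu2 hx'1 hx'2 (pinf_mem m) hβ hne hfix hx'β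
  have hvC : u * x' ∈ Subgroup.centralizer ({u * x'} : Set ↥(Cfsg.Sz F m)) :=
    Subgroup.mem_centralizer_iff.2 (fun t ht => by rw [Set.mem_singleton_iff.1 ht])
  have hy₀N : (u * x') ^ k * u ∈ Subgroup.normalizer
      ((Subgroup.centralizer ({u * x'} : Set ↥(Cfsg.Sz F m)) : Subgroup ↥(Cfsg.Sz F m)) :
        Set ↥(Cfsg.Sz F m)) := mul_mem (Subgroup.le_normalizer (pow_mem hvC k)) huN
  generalize (u * x') ^ k * u = y₀ at hconj hy₀N
  apply Nat.card_congr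
  refine ⟨fun y => ⟨y₀⁻¹ * y.1, ?_, ?_⟩, fun t => ⟨y₀ * t.1, ?_, ?_⟩, ?_, ?_⟩
  · exact mul_mem (inv_mem hy₀N) y.2.2
  · rcases y with ⟨y, hy1, hy2⟩
    show y₀⁻¹ * y * u = u * (y₀⁻¹ * y)
    calc y₀⁻¹ * y * u = y₀⁻¹ * (y * u * y⁻¹) * y := by group
      _ = y₀⁻¹ * (y₀ * u * y₀⁻¹) * y := by rw [hy1, hconj]
      _ = u * (y₀⁻¹ * y) := by group
  · rcases t with ⟨t, ht1, ht2⟩
    show y₀ * t * u * (y₀ * t)⁻¹ = x'
    calc y₀ * t * u * (y₀ * t)⁻¹ = y₀ * (t * u) * t⁻¹ * y₀⁻¹ := by group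
      _ = y₀ * (u * t) * t⁻¹ * y₀⁻¹ := by rw [ht2]
      _ = y₀ * u * y₀⁻¹ := by group
      _ = x' := hconj
  · exact mul_mem hy₀N t.2.1
  · intro y
    apply Subtype.ext
    show y₀ * (y₀⁻¹ * y.1) = y.1
    group
  · intro t
    apply Subtype.ext
    show y₀⁻¹ * (y₀ * t.1) = t.1
    group

/-- The normaliser of a torus is the product of the torus with the centraliser of an
involution. -/
theorem card_cent_in_normalizer {m : ℕ} (hm : 1 ≤ m) (hF : Fintype.card F = 2 ^ (2 * m + 1))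
    {U : Subgroup ↥(Cfsg.Sz F m)} (hU : IsTorus m U) {u : ↥(Cfsg.Sz F m)}
    (huN : u ∈ Subgroup.normalizer (U : Set ↥(Cfsg.Sz F m))) (hu1 : u ≠ 1) (hu2 : u * u = 1) :
    Nat.card {t : ↥(Cfsg.Sz F m) // t ∈ Subgroup.normalizer (U : Set ↥(Cfsg.Sz F m)) ∧
        t * u = u * t} * Nat.card ↥U =
      Nat.card ↥(Subgroup.normalizer (U : Set ↥(Cfsg.Sz F m))) := by
  rw [← Nat.card_prod]
  apply Nat.card_congr
  have huinv : u⁻¹ = u := inv_eq_of_mul_eq_one_right hu2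
  have hodd := tori_odd hm hU.2
  refine Equiv.ofBijective (fun tw : {t : ↥(Cfsg.Sz F m) //
      t ∈ Subgroup.normalizer (U : Set ↥(Cfsg.Sz F m)) ∧ t * u = u * t} × ↥U =>
    (⟨tw.1.1 * tw.2.1, mul_mem tw.1.2.1 (Subgroup.le_normalizer tw.2.2)⟩ :
      ↥(Subgroup.normalizer (U : Set ↥(Cfsg.Sz F m))))) ⟨?_, ?_⟩
  · rintro ⟨⟨t, htN, htu⟩, ⟨w, hw⟩⟩ ⟨⟨t', ht'N, ht'u⟩, ⟨w', hw'⟩⟩ e
    have e1 : t * w = t' * w' := congrArg Subtype.val e
    have ht : t'⁻¹ * t = w' * w⁻¹ := by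
      calc t'⁻¹ * t = t'⁻¹ * (t * w) * w⁻¹ := by group
        _ = t'⁻¹ * (t' * w') * w⁻¹ := by rw [e1]
        _ = w' * w⁻¹ := by group
    have htU : t'⁻¹ * t ∈ U := by rw [ht]; exact mul_mem hw' (inv_mem hw)
    have ht'u' : t'⁻¹ * u = u * t'⁻¹ := by
      calc t'⁻¹ * u = t'⁻¹ * (u * t') * t'⁻¹ := by group
        _ = t'⁻¹ * (t' * u) * t'⁻¹ := by rw [ht'u]
        _ = u * t'⁻¹ := by group
    have hcu : u * (t'⁻¹ * t) * u⁻¹ = t'⁻¹ * t := by
      calc u * (t'⁻¹ * t) * u⁻¹ = (u * t'⁻¹) * (t * u⁻¹) := by group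
        _ = (t'⁻¹ * u) * (t * u⁻¹) := by rw [ht'u']
        _ = t'⁻¹ * (u * t) * u⁻¹ := by group
        _ = t'⁻¹ * (t * u) * u⁻¹ := by rw [htu]
        _ = t'⁻¹ * t := by group
    have hinv := torus_invol_inv hm hF hU huN hu1 hu2 htU
    have ht1 : t'⁻¹ * t = 1 := by
      apply torus_sq hm hF hU htU
      have h3 : (t'⁻¹ * t)⁻¹ = t'⁻¹ * t := by rw [← hinv, hcu]
      calc (t'⁻¹ * t) * (t'⁻¹ * t) = (t'⁻¹ * t)⁻¹ * (t'⁻¹ * t) := by rw [h3]
        _ = 1 := inv_mul_cancel _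
    have hh : t = t' := by
      calc t = t' * (t'⁻¹ * t) := by group
        _ = t' := by rw [ht1, mul_one]
    subst hh
    have hww : w = w' := mul_left_cancel e1
    subst hww
    rfl
  · rintro ⟨y, hy⟩
    have hc : y⁻¹ * u⁻¹ * y * u ∈ U := torus_comm_mem hm hF hU hy huN
    obtain ⟨k, hk⟩ : ∃ k, Nat.card ↥U = 2 * k + 1 := ⟨Nat.card ↥U / 2, by omega⟩
    have hcpow : (y⁻¹ * u⁻¹ * y * u) ^ (2 * k + 1) = 1 := by
      rw [← hk]
      have h4 := congrArg Subtype.val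
        (pow_card_eq_one' (G := ↥U) (x := ⟨y⁻¹ * u⁻¹ * y * u, hc⟩))
      exact h4
    have e_c : u * y = y * (y⁻¹ * u⁻¹ * y * u) * u := by
      rw [huinv]
      calc u * y = u * y * (u * u) := by rw [hu2, mul_one]
        _ = y * (y⁻¹ * u * y * u) * u := by group
    generalize y⁻¹ * u⁻¹ * y * u = c at hc hcpow e_c
    have hsU : c ^ (k + 1) ∈ U := pow_mem hc _
    have hss : c ^ (k + 1) * c ^ (k + 1) = c := by
      calc c ^ (k + 1) * c ^ (k + 1) = c ^ (2 * k + 1) * c := by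
            rw [← pow_add, ← pow_succ]; congr 1; ring
        _ = c := by rw [hcpow, one_mul]
    have e_s : u * c ^ (k + 1) = (c ^ (k + 1))⁻¹ * u := by
      have h5 := torus_invol_inv hm hF hU huN hu1 hu2 hsU
      calc u * c ^ (k + 1) = (u * c ^ (k + 1) * u⁻¹) * u := by group
        _ = (c ^ (k + 1))⁻¹ * u := by rw [h5]
    have hcomm : y * c ^ (k + 1) * u = u * (y * c ^ (k + 1)) := by
      calc y * c ^ (k + 1) * u = y * (c ^ (k + 1) * c ^ (k + 1)) * ((c ^ (k + 1))⁻¹ * u) := by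
            group
        _ = y * c * (u * c ^ (k + 1)) := by rw [hss, e_s]
        _ = (y * c * u) * c ^ (k + 1) := by group
        _ = (u * y) * c ^ (k + 1) := by rw [← e_c]
        _ = u * (y * c ^ (k + 1)) := by group
    refine ⟨⟨⟨y * c ^ (k + 1), mul_mem hy (Subgroup.le_normalizer hsU), hcomm⟩,
      ⟨(c ^ (k + 1))⁻¹, inv_mem hsU⟩⟩, ?_⟩
    apply Subtype.ext
    show y * c ^ (k + 1) * (c ^ (k + 1))⁻¹ = y
    group

/-- The normaliser of a two-point stabiliser has twice its order. -/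
theorem card_normalizer_two_fix {m : ℕ} (hm : 1 ≤ m) (hF : Fintype.card F = 2 ^ (2 * m + 1))
    {g : ↥(Cfsg.Sz F m)} (hg1 : g ≠ 1) {a b : Projectivization F (Fin 4 → F)}
    (ha : a ∈ Cfsg.suzukiOvoid F m) (hb : b ∈ Cfsg.suzukiOvoid F m) (hab : a ≠ b)
    (hga : g.1 • a = a) (hgb : g.1 • b = b) :
    Nat.card ↥(Subgroup.normalizer
        ((Subgroup.centralizer ({g} : Set ↥(Cfsg.Sz F m)) : Subgroup ↥(Cfsg.Sz F m)) :
          Set ↥(Cfsg.Sz F m))) =
      2 * Nat.card ↥(Subgroup.centralizer ({g} : Set ↥(Cfsg.Sz F m))) := by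
  have e1 : Nat.card ↥(Subgroup.normalizer
        ((Subgroup.centralizer ({g} : Set ↥(Cfsg.Sz F m)) : Subgroup ↥(Cfsg.Sz F m)) :
          Set ↥(Cfsg.Sz F m))) =
      ({y : ↥(Cfsg.Sz F m) | y.1 • a = a ∧ y.1 • b = b} ∪
        {y : ↥(Cfsg.Sz F m) | y.1 • a = b ∧ y.1 • b = a}).ncard := by
    rw [← Nat.card_coe_set_eq]
    exact Nat.card_congr (Equiv.subtypeEquivRight
      (fun y => normalizer_iff_fix_two hm hF hg1 ha hb hab hga hgb))
  have e2 : Nat.card ↥(Subgroup.centralizer ({g} : Set ↥(Cfsg.Sz F m))) =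
      ({y : ↥(Cfsg.Sz F m) | y.1 • a = a ∧ y.1 • b = b}).ncard := by
    rw [← Nat.card_coe_set_eq]
    exact Nat.card_congr (Equiv.subtypeEquivRight
      (fun y => cent_iff_fix_two hm hF hg1 ha hb hab hga hgb))
  have e3 : ({y : ↥(Cfsg.Sz F m) | y.1 • a = b ∧ y.1 • b = a}).ncard =
      ({y : ↥(Cfsg.Sz F m) | y.1 • a = a ∧ y.1 • b = b}).ncard := by
    rw [← Nat.card_coe_set_eq, ← Nat.card_coe_set_eq]
    exact card_swap hm hF ha hb hab
  have hdisj : Disjoint {y : ↥(Cfsg.Sz F m) | y.1 • a = a ∧ y.1 • b = b}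
      {y : ↥(Cfsg.Sz F m) | y.1 • a = b ∧ y.1 • b = a} := by
    rw [Set.disjoint_left]
    rintro y ⟨h1, -⟩ ⟨h2, -⟩
    exact hab (h1.symm.trans h2)
  rw [e1, Set.ncard_union_eq hdisj, e3, ← e2]
  ring

/-- The fibre over `x'` has `4` elements when `u x'` is fixed-point-free. -/
theorem card_fib_fpf {m : ℕ} (hm : 1 ≤ m) (hF : Fintype.card F = 2 ^ (2 * m + 1))
    {u x' : ↥(Cfsg.Sz F m)} (hu1 : u ≠ 1) (hu2 : u * u = 1)
    (hfix : u.1 • (pinf : Projectivization F (Fin 4 → F)) = pinf)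
    (hx'1 : x' ≠ 1) (hx'2 : x' * x' = 1)
    (hoff : x'.1 • (pinf : Projectivization F (Fin 4 → F)) ≠ pinf)
    (hfpf : IsFpf m (u * x').1) :
    Nat.card {t : ↥(Cfsg.Sz F m) // t ∈ Subgroup.normalizer
        ((Subgroup.centralizer ({u * x'} : Set ↥(Cfsg.Sz F m)) : Subgroup ↥(Cfsg.Sz F m)) :
          Set ↥(Cfsg.Sz F m)) ∧ t * u = u * t} = 4 := by
  have hv4 := invol_mul_pow_four hm hF hu1 hu2 hfix hx'2 hoff
  obtain ⟨huN, -⟩ := invol_normalizes hm hF hu2 hx'2 hv4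
  have h1 := card_cent_in_normalizer hm hF (cent_isTorus hm hF _ hv4) huN hu1 hu2
  rw [card_normalizer_fpf hm hF _ hfpf] at h1
  have hpos : 0 < Nat.card ↥(Subgroup.centralizer ({u * x'} : Set ↥(Cfsg.Sz F m))) :=
    Nat.card_pos
  exact Nat.eq_of_mul_eq_mul_right hpos h1

/-- The fibre over `x'` has `2` elements when `u x'` has a fixed point. -/
theorem card_fib_nonfpf {m : ℕ} (hm : 1 ≤ m) (hF : Fintype.card F = 2 ^ (2 * m + 1))
    {u x' : ↥(Cfsg.Sz F m)} (hu1 : u ≠ 1) (hu2 : u * u = 1)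
    (hfix : u.1 • (pinf : Projectivization F (Fin 4 → F)) = pinf)
    (hx'1 : x' ≠ 1) (hx'2 : x' * x' = 1)
    (hoff : x'.1 • (pinf : Projectivization F (Fin 4 → F)) ≠ pinf)
    (hfpf : ¬ IsFpf m (u * x').1) :
    Nat.card {t : ↥(Cfsg.Sz F m) // t ∈ Subgroup.normalizer
        ((Subgroup.centralizer ({u * x'} : Set ↥(Cfsg.Sz F m)) : Subgroup ↥(Cfsg.Sz F m)) :
          Set ↥(Cfsg.Sz F m)) ∧ t * u = u * t} = 2 := by
  have hv4 := invol_mul_pow_four hm hF hu1 hu2 hfix hx'2 hoff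
  obtain ⟨huN, -⟩ := invol_normalizes hm hF hu2 hx'2 hv4
  have h1 := card_cent_in_normalizer hm hF (cent_isTorus hm hF _ hv4) huN hu1 hu2
  unfold IsFpf at hfpf
  push Not at hfpf
  obtain ⟨p, hp, hvp⟩ := hfpf
  obtain ⟨a, ha, b, hb, hab, hva, hvb⟩ := exists_two_fix_of_fix hm hF hv4 hp hvp
  have hv1 : u * x' ≠ 1 := fun e => hv4 (by rw [e, one_pow])
  rw [card_normalizer_two_fix hm hF hv1 ha hb hab hva hvb] at h1
  have hpos : 0 < Nat.card ↥(Subgroup.centralizer ({u * x'} : Set ↥(Cfsg.Sz F m))) :=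
    Nat.card_pos
  exact Nat.eq_of_mul_eq_mul_right hpos h1

/-- The involution fixing `paff c d` with parameter `z`. -/
def invAt {m : ℕ} (h : SzHyp F m) (w : (F × F) × Fˣ) : ↥(Cfsg.Sz F m) :=
  (gT h w.1.1 w.1.2 * gW h) * gT h 0 (w.2 : F) * (gT h w.1.1 w.1.2 * gW h)⁻¹

theorem gTW_pinf {m : ℕ} (h : SzHyp F m) (c d : F) :
    (gT h c d * gW h).1 • (pinf : Projectivization F (Fin 4 → F)) = paff m c d := by
  show (sT m c d * sW) • (pinf : Projectivization F (Fin 4 → F)) = paff m c d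
  rw [mul_smul, sW_pinf m, sT_paff_zero h]

theorem gT_zero_ne_one {m : ℕ} (h : SzHyp F m) {b : F} (hb : b ≠ 0) : gT h 0 b ≠ 1 := by
  intro e
  have e' : sT m 0 b = 1 := congrArg Subtype.val e
  exact hb ((sT_eq_one_iff h).1 e').2

theorem invAt_ne_one {m : ℕ} (h : SzHyp F m) (w : (F × F) × Fˣ) : invAt h w ≠ 1 :=
  fun e => gT_zero_ne_one h w.2.ne_zero (eq_one_of_conj_eq_one e)

theorem invAt_sq {m : ℕ} (h : SzHyp F m) (w : (F × F) × Fˣ) : invAt h w * invAt h w = 1 := by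
  unfold invAt
  calc _ = (gT h w.1.1 w.1.2 * gW h) * (gT h 0 (w.2 : F) * gT h 0 (w.2 : F)) *
        (gT h w.1.1 w.1.2 * gW h)⁻¹ := by group
    _ = 1 := by rw [gT_zero_sq h]; group

theorem invAt_fix {m : ℕ} (h : SzHyp F m) (w : (F × F) × Fˣ) :
    (invAt h w).1 • paff m w.1.1 w.1.2 = paff m w.1.1 w.1.2 := by
  show ((gT h w.1.1 w.1.2 * gW h).1 * sT m 0 (w.2 : F) * (gT h w.1.1 w.1.2 * gW h).1⁻¹) •
    paff m w.1.1 w.1.2 = paff m w.1.1 w.1.2
  rw [mul_smul, mul_smul, ← gTW_pinf h w.1.1 w.1.2, inv_smul_smul, sT_pinf]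

theorem invAt_off {m : ℕ} (hm : 1 ≤ m) (hF : Fintype.card F = 2 ^ (2 * m + 1))
    (w : (F × F) × Fˣ) :
    (invAt (szHyp_of_card hF) w).1 • (pinf : Projectivization F (Fin 4 → F)) ≠ pinf := by
  intro e
  have h := szHyp_of_card hF
  exact paff_ne_pinf m w.1.1 w.1.2 (invol_fix_unique hm hF (invAt h w).2
    (fun e' => invAt_ne_one h w (Subtype.ext e')) (congrArg Subtype.val (invAt_sq h w))
    (paff_mem m _ _) (pinf_mem m) (invAt_fix h w) e)

theorem invAt_bijective {m : ℕ} (hm : 1 ≤ m) (hF : Fintype.card F = 2 ^ (2 * m + 1)) :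
    Function.Bijective (fun w : (F × F) × Fˣ =>
      (⟨invAt (szHyp_of_card hF) w, invAt_ne_one _ w, invAt_sq _ w, invAt_off hm hF w⟩ :
        {x' : ↥(Cfsg.Sz F m) // x' ≠ 1 ∧ x' * x' = 1 ∧
          x'.1 • (pinf : Projectivization F (Fin 4 → F)) ≠ pinf})) := by
  have h := szHyp_of_card hF
  constructor
  · intro w w' e
    have e1 : invAt h w = invAt h w' := congrArg Subtype.val e
    have hfix' : (invAt h w).1 • paff m w'.1.1 w'.1.2 = paff m w'.1.1 w'.1.2 := by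
      rw [e1]; exact invAt_fix h w'
    have hpt := invol_fix_unique hm hF (invAt h w).2
      (fun e' => invAt_ne_one h w (Subtype.ext e')) (congrArg Subtype.val (invAt_sq h w))
      (paff_mem m _ _) (paff_mem m _ _) (invAt_fix h w) hfix'
    obtain ⟨hc, hd⟩ := paff_inj.1 hpt
    have hw1 : w.1 = w'.1 := Prod.ext hc hd
    have e2 : gT h 0 (w.2 : F) = gT h 0 (w'.2 : F) := by
      unfold invAt at e1
      rw [hw1] at e1
      exact mul_left_cancel (mul_right_cancel e1)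
    have e3 : sT m (0 : F) (w.2 : F) = sT m 0 (w'.2 : F) := congrArg Subtype.val e2
    exact Prod.ext hw1 (Units.ext (sT_inj h e3).2)
  · rintro ⟨x', hx'1, hx'2, hoff⟩
    obtain ⟨β, hβ, hx'β⟩ := invol_exists_fix hm hF x'.2 (congrArg Subtype.val hx'2)
    rcases (mem_ovoid_iff' β).1 hβ with rfl | ⟨c, d, rfl⟩
    · exact absurd hx'β hoff
    · have ht1 : (gT h c d * gW h)⁻¹ * x' * (gT h c d * gW h) ≠ 1 := by
        intro e
        apply hx'1
        calc x' = (gT h c d * gW h) * ((gT h c d * gW h)⁻¹ * x' * (gT h c d * gW h)) *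
              (gT h c d * gW h)⁻¹ := by group
          _ = 1 := by rw [e]; group
      have ht2 : ((gT h c d * gW h)⁻¹ * x' * (gT h c d * gW h)) *
          ((gT h c d * gW h)⁻¹ * x' * (gT h c d * gW h)) = 1 := by
        calc _ = (gT h c d * gW h)⁻¹ * (x' * x') * (gT h c d * gW h) := by group
          _ = 1 := by rw [hx'2]; group
      have ht3 : ((gT h c d * gW h)⁻¹ * x' * (gT h c d * gW h)).1 •
          (pinf : Projectivization F (Fin 4 → F)) = pinf := by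
        show ((gT h c d * gW h).1⁻¹ * x'.1 * (gT h c d * gW h).1) •
          (pinf : Projectivization F (Fin 4 → F)) = pinf
        rw [mul_smul, mul_smul, gTW_pinf h c d, hx'β, ← gTW_pinf h c d, inv_smul_smul]
      obtain ⟨b, hb, e⟩ := invol_at_inf hm hF ht1 ht2 ht3
      refine ⟨((c, d), Units.mk0 b hb), Subtype.ext ?_⟩
      show (gT h c d * gW h) * gT h 0 b * (gT h c d * gW h)⁻¹ = x'
      rw [← e]
      group

/-- The number of involutions not fixing `∞`. -/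
theorem card_invol_off {m : ℕ} (hm : 1 ≤ m) (hF : Fintype.card F = 2 ^ (2 * m + 1)) :
    Nat.card {x' : ↥(Cfsg.Sz F m) // x' ≠ 1 ∧ x' * x' = 1 ∧
        x'.1 • (pinf : Projectivization F (Fin 4 → F)) ≠ pinf} =
      (2 ^ (2 * m + 1)) ^ 2 * (2 ^ (2 * m + 1) - 1) := by
  rw [← Nat.card_congr (Equiv.ofBijective _ (invAt_bijective hm hF)), Nat.card_prod,
    Nat.card_prod, Nat.card_units, Nat.card_eq_fintype_card, hF]
  ring

end Cfsg.Agent.Lib.helper8
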