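import Cfsg.Agent.S3335
import Mathlib

set_option autoImplicit false
open Cfsg Cfsg.Agent.S3335

namespace Cfsg.Agent.Lib.helper70.SM

universe u

theorem h8_conj_central {G : Type*} [Group G] (A c X : G) (hc : ∀ z : G, c * z = z * c) :
    (A * c) * X * (A * c)⁻¹ = A * X * A⁻¹ := by
  rw [mul_inv_rev, mul_assoc A c X, hc X]; group

theorem h8_comm_of_sq {G : Type*} [Group G] (a b : G) (ha : a ^ 2 = 1) (hb : b ^ 2 = 1)
    (hab : (a * b) ^ 2 = 1) : a * b = b * a := by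
  have ha' : a⁻¹ = a := inv_eq_of_mul_eq_one_left (by rw [← pow_two]; exact ha)
  have hb' : b⁻¹ = b := inv_eq_of_mul_eq_one_left (by rw [← pow_two]; exact hb)
  have h : (a * b)⁻¹ = a * b := inv_eq_of_mul_eq_one_left (by rw [← pow_two]; exact hab)
  calc a * b = (a * b)⁻¹ := h.symm
    _ = b⁻¹ * a⁻¹ := mul_inv_rev _ _
    _ = b * a := by rw [ha', hb']

theorem h8_braid_conj {G : Type*} [Group G] (a b : G) (ha : a ^ 2 = 1) (hb : b ^ 2 = 1)
    (hab : (a * b) ^ 3 = 1) : (a * b) * a * (a * b)⁻¹ = b := by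
  have haa : a * a = 1 := by rw [← pow_two]; exact ha
  have hbb : b * b = 1 := by rw [← pow_two]; exact hb
  have h3 : (a * b)⁻¹ = (a * b) * (a * b) :=
    inv_eq_of_mul_eq_one_left (by rw [← pow_two, ← pow_succ]; exact hab)
  rw [h3]
  calc a * b * a * (a * b * (a * b)) = a * b * (a * a) * b * (a * b) := by group
    _ = a * (b * b) * (a * b) := by rw [haa]; group
    _ = (a * a) * b := by rw [hbb]; group
    _ = b := by rw [haa, one_mul]

/-- Local copy of G4 (prefixed). -/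
theorem h8_comm_eq_of_conj {Γ : Type u} [Group Γ] {P : Type*} [Group P] (π : Γ →* P)
    (hc : π.ker ≤ Subgroup.center Γ) (g h g' h' t : Γ)
    (hcomm : π g * π h = π h * π g)
    (hg : π g' = π t * π g * (π t)⁻¹) (hh : π h' = π t * π h * (π t)⁻¹) :
    g' * h' * g'⁻¹ * h'⁻¹ = g * h * g⁻¹ * h⁻¹ := by
  have key : ∀ (a a' : Γ), π a' = π t * π a * (π t)⁻¹ →
      ∃ c : Γ, (∀ z : Γ, c * z = z * c) ∧ a' = (t * a * t⁻¹) * c := by
    intro a a' ha
    refine ⟨(t * a * t⁻¹)⁻¹ * a', ?_, by group⟩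
    have hmem : (t * a * t⁻¹)⁻¹ * a' ∈ π.ker := by
      rw [MonoidHom.mem_ker]
      simp only [map_mul, map_inv, ha]
      group
    have := hc hmem
    rw [Subgroup.mem_center_iff] at this
    intro z; exact (this z).symm
  obtain ⟨c, hcz, rfl⟩ := key g g' hg
  obtain ⟨d, hdz, rfl⟩ := key h h' hh
  have he : g * h * g⁻¹ * h⁻¹ ∈ π.ker := by
    rw [MonoidHom.mem_ker]
    simp only [map_mul, map_inv]
    rw [hcomm]; group
  have hez := hc he
  rw [Subgroup.mem_center_iff] at hez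
  have e1 : (t * g * t⁻¹ * c) * (t * h * t⁻¹ * d) * (t * g * t⁻¹ * c)⁻¹ =
      (t * g * t⁻¹) * (t * h * t⁻¹ * d) * (t * g * t⁻¹)⁻¹ := h8_conj_central _ _ _ hcz
  rw [e1]
  have e2 : (t * h * t⁻¹ * d) * (t * g * t⁻¹)⁻¹ * (t * h * t⁻¹ * d)⁻¹ =
      (t * h * t⁻¹) * (t * g * t⁻¹)⁻¹ * (t * h * t⁻¹)⁻¹ := h8_conj_central _ _ _ hdz
  calc t * g * t⁻¹ * (t * h * t⁻¹ * d) * (t * g * t⁻¹)⁻¹ * (t * h * t⁻¹ * d)⁻¹
      = t * g * t⁻¹ * ((t * h * t⁻¹ * d) * (t * g * t⁻¹)⁻¹ * (t * h * t⁻¹ * d)⁻¹) := by group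
    _ = t * g * t⁻¹ * ((t * h * t⁻¹) * (t * g * t⁻¹)⁻¹ * (t * h * t⁻¹)⁻¹) := by rw [e2]
    _ = t * (g * h * g⁻¹ * h⁻¹) * t⁻¹ := by group
    _ = g * h * g⁻¹ * h⁻¹ := by rw [hez t]; group

/-- T5 (the commutators of far lifts are all equal). -/
theorem far_comm_const {Γ : Type u} [Group Γ] (k : ℕ) (π : Γ →* PresentedGroup (rels k))
    (hc : π.ker ≤ Subgroup.center Γ)
    (y : Fin (k + 1) → Γ) (hy : ∀ i, π (y i) = x k i)
    (i1 i3 : Fin (k + 1)) (h1 : i1.val = 1) (h3 : i3.val = 3)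
    (i j : Fin (k + 1)) (hi : 1 ≤ i.val) (hij : i.val + 1 < j.val) :
    y i * y j * (y i)⁻¹ * (y j)⁻¹ = y i1 * y i3 * (y i1)⁻¹ * (y i3)⁻¹ := by
  have xcomm : ∀ a b : Fin (k + 1), 1 ≤ a.val → a.val + 1 < b.val →
      x k a * x k b = x k b * x k a := by
    intro a b ha hab
    exact h8_comm_of_sq _ _ (x_sq k a ha) (x_sq k b (by omega)) (x_far k a b hab)
  have xbraid : ∀ a b : Fin (k + 1), 1 ≤ a.val → b.val = a.val + 1 →
      (x k a * x k b) * x k a * (x k a * x k b)⁻¹ = x k b := by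
    intro a b ha hab
    exact h8_braid_conj _ _ (x_sq k a ha) (x_sq k b (by omega)) (x_adj k a b hab)
  have claimA : ∀ (i j j' : Fin (k + 1)), 1 ≤ i.val → i.val + 1 < j.val → j'.val = j.val + 1 →
      y i * y j' * (y i)⁻¹ * (y j')⁻¹ = y i * y j * (y i)⁻¹ * (y j)⁻¹ := by
    intro i j j' hi hij hj'
    apply h8_comm_eq_of_conj π hc (y i) (y j) (y i) (y j') (y j * y j')
    · rw [hy, hy]; exact xcomm i j hi hij
    · simp only [map_mul, hy]
      have c1 := xcomm i j hi hij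
      have c2 := xcomm i j' hi (by omega)
      calc x k i = x k i * (x k j * x k j') * (x k j * x k j')⁻¹ := by group
        _ = x k j * x k j' * x k i * (x k j * x k j')⁻¹ := by
          rw [← mul_assoc (x k i), c1, mul_assoc (x k j), c2, ← mul_assoc (x k j)]
    · simp only [map_mul, hy]
      exact (xbraid j j' (by omega) hj').symm
  have claimB : ∀ (i i' j : Fin (k + 1)), 1 ≤ i.val → i'.val = i.val + 1 → i.val + 2 < j.val →
      y i' * y j * (y i')⁻¹ * (y j)⁻¹ = y i * y j * (y i)⁻¹ * (y j)⁻¹ := by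
    intro i i' j hi hi' hij
    apply h8_comm_eq_of_conj π hc (y i) (y j) (y i') (y j) (y i * y i')
    · rw [hy, hy]; exact xcomm i j hi (by omega)
    · simp only [map_mul, hy]
      exact (xbraid i i' hi hi').symm
    · simp only [map_mul, hy]
      have c1 := xcomm i j hi (by omega)
      have c2 := xcomm i' j (by omega) (by omega)
      calc x k j = x k j * (x k i * x k i') * (x k i * x k i')⁻¹ := by group
        _ = x k i * x k i' * x k j * (x k i * x k i')⁻¹ := by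
          rw [← mul_assoc (x k j), ← c1, mul_assoc (x k i), ← c2, ← mul_assoc (x k i)]
  have claimC : ∀ d : ℕ, ∀ i j j0 : Fin (k + 1), 1 ≤ i.val → j0.val = i.val + 2 →
      j.val = i.val + 2 + d →
      y i * y j * (y i)⁻¹ * (y j)⁻¹ = y i * y j0 * (y i)⁻¹ * (y j0)⁻¹ := by
    intro d
    induction d with
    | zero =>
      intro i j j0 hi hj0 hj
      have : j = j0 := Fin.ext (by omega)
      rw [this]
    | succ d ih =>
      intro i j j0 hi hj0 hj
      have hlt : i.val + 2 + d < k + 1 := by have := j.isLt; omega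
      rw [claimA i ⟨i.val + 2 + d, hlt⟩ j hi (show i.val + 1 < i.val + 2 + d by omega)
        (show j.val = i.val + 2 + d + 1 by omega)]
      exact ih i ⟨i.val + 2 + d, hlt⟩ j0 hi hj0 rfl
  have claimD : ∀ n : ℕ, ∀ i j : Fin (k + 1), i.val = n + 1 → j.val = n + 3 →
      y i * y j * (y i)⁻¹ * (y j)⁻¹ = y i1 * y i3 * (y i1)⁻¹ * (y i3)⁻¹ := by
    intro n
    induction n with
    | zero =>
      intro i j hi hj
      have e1 : i = i1 := Fin.ext (by omega)
      have e3 : j = i3 := Fin.ext (by omega)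
      rw [e1, e3]
    | succ n ih =>
      intro i j hi hj
      have hlt1 : n + 1 < k + 1 := by have := i.isLt; omega
      have hlt3 : n + 3 < k + 1 := by have := j.isLt; omega
      rw [claimB ⟨n + 1, hlt1⟩ i j (show 1 ≤ n + 1 by omega) (show i.val = n + 1 + 1 by omega)
        (show n + 1 + 2 < j.val by omega)]
      rw [claimA ⟨n + 1, hlt1⟩ ⟨n + 3, hlt3⟩ j (show 1 ≤ n + 1 by omega)
        (show n + 1 + 1 < n + 3 by omega) (show j.val = n + 3 + 1 by omega)]
      exact ih _ _ rfl rfl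
  have hlt : i.val + 2 < k + 1 := by have := j.isLt; omega
  rw [claimC (j.val - i.val - 2) i j ⟨i.val + 2, hlt⟩ hi rfl (by omega)]
  exact claimD (i.val - 1) i ⟨i.val + 2, hlt⟩ (by omega) (show i.val + 2 = i.val - 1 + 3 by omega)

end Cfsg.Agent.Lib.helper70.SM
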