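import Mathlib
import Cfsg.Agent.Lib.helper95.APDefs

/-! S2276 split (architect helper95), piece GREEDY, racing copy (helper8): a greedy sub-list of
parts filling `p ^ e`. -/

set_option autoImplicit false

namespace Cfsg.Agent.Lib.helper95.AP

open Equiv

theorem h8_greedy (p : ℕ) (hp : p.Prime) (e n : ℕ) (μ : Multiset ℕ) (hμ0 : μ ≠ 0)
    (hμ : ∀ c ∈ μ, ∃ j : ℕ, 1 ≤ j ∧ c = p ^ j ∧ c < p ^ e) (hn : p ^ e ≤ n) (hsum : μ.sum ≤ n) :
    ∃ L : List ℕ, L ≠ [] ∧ L.Pairwise (· ≥ ·) ∧ (L : Multiset ℕ) ≤ μ ∧ L.sum ≤ p ^ e ∧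
      p ^ e - L.sum ≤ n - μ.sum := by
  classical
  set l := μ.sort (· ≥ ·) with hl
  have hlμ : (l : Multiset ℕ) = μ := Multiset.sort_eq _ _
  have hsorted : l.Pairwise (· ≥ ·) := Multiset.pairwise_sort _ _
  have hpe : 0 < p ^ e := pow_pos hp.pos e
  have hmem : ∀ c ∈ l, ∃ j, 1 ≤ j ∧ c = p ^ j ∧ c < p ^ e := fun c hc =>
    hμ c (by rw [← hlμ]; exact hc)
  have hlsum : l.sum = μ.sum := by rw [← hlμ]; rfl
  by_cases hall : ∀ k ≤ l.length, (l.take k).sum ≤ p ^ e
  · refine ⟨l, ?_, hsorted, by rw [hlμ], ?_, ?_⟩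
    · intro h
      apply hμ0
      rw [← hlμ, h]
      rfl
    · have h1 := hall l.length le_rfl
      rwa [List.take_length] at h1
    · rw [hlsum]
      omega
  · push Not at hall
    have hex : ∃ k, k ≤ l.length ∧ p ^ e < (l.take k).sum := hall
    obtain ⟨hk_le, hk⟩ := Nat.find_spec hex
    have hk0 : Nat.find hex ≠ 0 := by
      intro h
      rw [h] at hk
      simp at hk
    obtain ⟨k', hk'⟩ := Nat.exists_eq_succ_of_ne_zero hk0
    have hprev : (l.take k').sum ≤ p ^ e := by
      by_contra hcon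
      push Not at hcon
      exact Nat.find_min hex (m := k') (by omega) ⟨by omega, hcon⟩
    have hk'lt : k' < l.length := by omega
    have htake : l.take (k' + 1) = l.take k' ++ [l[k']] := by
      rw [List.take_succ_eq_append_getElem hk'lt]
    have hsum' : (l.take (k' + 1)).sum = (l.take k').sum + l[k'] := by
      rw [htake, List.sum_append, List.sum_singleton]
    obtain ⟨i, hi1, hci, hclt⟩ := hmem (l[k']) (List.getElem_mem hk'lt)
    have hdvd : ∀ d ∈ l.take k', l[k'] ∣ d := by
      intro d hd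
      obtain ⟨j, hj, rfl⟩ := List.getElem_of_mem hd
      have hjk : j < k' := by
        rw [List.length_take] at hj
        omega
      have hjl : j < l.length := by omega
      rw [List.getElem_take]
      have hge : l[j] ≥ l[k'] := List.pairwise_iff_getElem.1 hsorted j k' hjl hk'lt hjk
      obtain ⟨j', _, hdj, _⟩ := hmem (l[j]) (List.getElem_mem hjl)
      rw [hdj, hci]
      apply pow_dvd_pow
      have h3 : p ^ i ≤ p ^ j' := by rw [← hdj, ← hci]; exact hge
      exact (Nat.pow_le_pow_iff_right hp.one_lt).1 h3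
    have hdvdsum : l[k'] ∣ (l.take k').sum := List.dvd_sum hdvd
    have hcpe : l[k'] ∣ p ^ e := by
      rw [hci]
      apply pow_dvd_pow
      have h3 : p ^ i < p ^ e := by rw [← hci]; exact hclt
      exact le_of_lt ((Nat.pow_lt_pow_iff_right hp.one_lt).1 h3)
    have heq : (l.take k').sum = p ^ e := by
      have h1 : l[k'] ∣ p ^ e - (l.take k').sum := Nat.dvd_sub hcpe hdvdsum
      have h2 : p ^ e - (l.take k').sum < l[k'] := by
        rw [hk', hsum'] at hk
        omega
      have h3 := Nat.eq_zero_of_dvd_of_lt h1 h2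
      omega
    refine ⟨l.take k', ?_, hsorted.sublist (List.take_sublist _ _), ?_, heq.le, ?_⟩
    · intro h
      rw [h] at heq
      simp at heq
      omega
    · rw [← hlμ]
      exact Multiset.coe_le.2 (List.take_sublist _ _).subperm
    · rw [heq]
      simp

end Cfsg.Agent.Lib.helper95.AP
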