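import Mathlib
import Cfsg.Agent.Lib.helper12.PGroupCentral

/-!
# The line lemma (pure group theory; for S1376 / S1436)

`B` elementary abelian of order `q ^ 2`, `n` a `q`-element normalizing `B`, `u, v ∈ B` both not
centralized by `n`.  Then the line `⟨v⟩` is a conjugate `n ^ t ⟨u⟩ n ^ (-t)` of the line `⟨u⟩`.
-/

set_option autoImplicit false

namespace Cfsg.Agent.Lib.helper8.BG1376

variable {G : Type*} [Group G]

/-- In an abelian group of order `q ^ 2`, `w ≠ 1` and `u ∉ ⟨w⟩` generate: every element is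
`w ^ a * u ^ c`. -/
theorem mem_mul_zpowers [Finite G] (q : ℕ) [hq : Fact q.Prime] (B : Subgroup G)
    (hBc : ∀ a ∈ B, ∀ b ∈ B, a * b = b * a) (hBcard : Nat.card B = q ^ 2)
    (w u : G) (hw : w ∈ B) (hu : u ∈ B) (hw1 : w ≠ 1) (huw : u ∉ Subgroup.zpowers w) :
    ∀ y ∈ B, ∃ a c : ℤ, y = w ^ a * u ^ c := by
  have hqp : q.Prime := hq.out
  let _ : CommGroup ↥B :=
    { (inferInstance : Group ↥B) with
      mul_comm := fun a b => Subtype.ext (hBc a a.2 b b.2) }
  set w' : ↥B := ⟨w, hw⟩ with hw'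
  set u' : ↥B := ⟨u, hu⟩ with hu'
  have hw'1 : w' ≠ 1 := fun h => hw1 (congrArg Subtype.val h)
  have hu'w : u' ∉ Subgroup.zpowers w' := by
    intro h
    obtain ⟨k, hk⟩ := Subgroup.mem_zpowers_iff.mp h
    apply huw
    rw [Subgroup.mem_zpowers_iff]
    refine ⟨k, ?_⟩
    have := congrArg Subtype.val hk
    simpa [hw', hu'] using this
  set H : Subgroup ↥B := Subgroup.zpowers w' ⊔ Subgroup.zpowers u' with hH
  have hHtop : H = ⊤ := by
    apply Subgroup.eq_top_of_card_eq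
    have hdvd : Nat.card H ∣ q ^ 2 := hBcard ▸ Subgroup.card_subgroup_dvd_card H
    obtain ⟨k, hk, hk'⟩ := (Nat.dvd_prime_pow hqp).mp hdvd
    have hZle : Subgroup.zpowers w' ≤ H := le_sup_left
    have hZne : Subgroup.zpowers w' ≠ H := by
      intro h
      apply hu'w
      rw [h]
      exact Subgroup.mem_sup_right (Subgroup.mem_zpowers u')
    have hZdvd : Nat.card (Subgroup.zpowers w') ∣ q ^ 2 :=
      hBcard ▸ Subgroup.card_subgroup_dvd_card _
    obtain ⟨j, hj, hj'⟩ := (Nat.dvd_prime_pow hqp).mp hZdvd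
    have hj0 : j ≠ 0 := by
      intro h0
      rw [h0, pow_zero] at hj'
      have : Subgroup.zpowers w' = ⊥ := Subgroup.card_eq_one.mp hj'
      exact hw'1 (Subgroup.zpowers_eq_bot.mp this)
    have hle : Nat.card (Subgroup.zpowers w') ≤ Nat.card H := Subgroup.card_le_of_le hZle
    have hlt : Nat.card (Subgroup.zpowers w') < Nat.card H := by
      rcases Nat.lt_or_ge (Nat.card (Subgroup.zpowers w')) (Nat.card H) with h | h
      · exact h
      · exact absurd (Subgroup.eq_of_le_of_card_ge hZle h) hZne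
    rw [hj', hk'] at hlt
    have hjk : j < k := (Nat.pow_lt_pow_iff_right hqp.one_lt).mp hlt
    have hk2 : k = 2 := by omega
    rw [hk', hk2, hBcard]
  intro y hy
  have hy' : (⟨y, hy⟩ : ↥B) ∈ H := by rw [hHtop]; exact Subgroup.mem_top _
  obtain ⟨a', ha', b', hb', hab⟩ := Subgroup.mem_sup.mp hy'
  obtain ⟨a, rfl⟩ := Subgroup.mem_zpowers_iff.mp ha'
  obtain ⟨c, rfl⟩ := Subgroup.mem_zpowers_iff.mp hb'
  refine ⟨a, c, ?_⟩
  have := congrArg Subtype.val hab
  simpa [hw', hu'] using this.symm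

/-- If `x ^ q = 1` and `x ^ c ≠ 1` then `x` is a power of `x ^ c`. -/
theorem exists_zpow_zpow_eq (q : ℕ) [hq : Fact q.Prime] {x : G} (hx : x ^ q = 1) (c : ℤ)
    (hc : x ^ c ≠ 1) : ∃ d : ℤ, (x ^ c) ^ d = x := by
  have hqp : q.Prime := hq.out
  have hndvd : ¬ (q : ℤ) ∣ c := by
    rintro ⟨k, rfl⟩
    apply hc
    rw [zpow_mul, zpow_natCast, hx, one_zpow]
  have hcop : IsCoprime c (q : ℤ) := by
    rw [Int.isCoprime_iff_gcd_eq_one]
    have h1 : ¬ q ∣ c.natAbs := fun h => hndvd (Int.natCast_dvd.mpr h)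
    have h2 : Nat.Coprime q c.natAbs := (Nat.Prime.coprime_iff_not_dvd hqp).mpr h1
    rw [Int.gcd_comm]
    simpa [Int.gcd] using h2
  obtain ⟨a, b, hab⟩ := hcop
  refine ⟨a, ?_⟩
  have h3 : c * a = 1 - b * q := by linarith
  rw [← zpow_mul, h3, zpow_sub, zpow_one, zpow_mul]
  have : (x ^ b) ^ (q : ℤ) = 1 := by
    rw [← zpow_mul, mul_comm, zpow_mul, zpow_natCast, hx, one_zpow]
  rw [this, inv_one, mul_one]

/-- **The line lemma.** -/
theorem line_conj [Finite G] (q : ℕ) [hq : Fact q.Prime] (B : Subgroup G)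
    (hBc : ∀ a ∈ B, ∀ b ∈ B, a * b = b * a) (hBe : ∀ a ∈ B, a ^ q = 1)
    (hBcard : Nat.card B = q ^ 2)
    (n : G) (m : ℕ) (hnm : n ^ (q ^ m) = 1) (hnB : ∀ y ∈ B, n * y * n⁻¹ ∈ B)
    (u v : G) (hu : u ∈ B) (hv : v ∈ B) (hnu : n * u * n⁻¹ ≠ u) (hnv : n * v * n⁻¹ ≠ v) :
    ∃ t : ℕ, Subgroup.zpowers v = Subgroup.zpowers (n ^ t * u * (n ^ t)⁻¹) := by
  have hqp : q.Prime := hq.out
  -- (a) a nontrivial fixed point
  obtain ⟨w, hwB, hw1, hwn⟩ : ∃ w ∈ B, w ≠ 1 ∧ n * w * n⁻¹ = w := by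
    have hnN : n ∈ Subgroup.normalizer (B : Set G) :=
      Subgroup.mem_normalizer_fintype (fun y hy => hnB y hy)
    have hnorm : (B.subgroupOf (Subgroup.normalizer (B : Set G))).Normal :=
      Subgroup.normal_in_normalizer
    have hL : IsPGroup q (Subgroup.zpowers (⟨n, hnN⟩ : ↥(Subgroup.normalizer (B : Set G)))) := by
      have hord : orderOf (⟨n, hnN⟩ : ↥(Subgroup.normalizer (B : Set G))) ∣ q ^ m := by
        apply orderOf_dvd_of_pow_eq_one
        apply Subtype.ext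
        simpa using hnm
      obtain ⟨k, -, hk⟩ := (Nat.dvd_prime_pow hqp).mp hord
      exact IsPGroup.of_card (n := k) (by rw [Nat.card_zpowers, hk])
    have hcardN : Nat.card (B.subgroupOf (Subgroup.normalizer (B : Set G))) = q ^ 2 := by
      rw [Nat.card_congr (Subgroup.subgroupOfEquivOfLe Subgroup.le_normalizer).toEquiv, hBcard]
    have hN : IsPGroup q (B.subgroupOf (Subgroup.normalizer (B : Set G))) :=
      IsPGroup.of_card (n := 2) hcardN
    have hNne : B.subgroupOf (Subgroup.normalizer (B : Set G)) ≠ ⊥ := by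
      intro h
      rw [h, Subgroup.card_bot] at hcardN
      have : 1 < q ^ 2 := Nat.one_lt_pow (by norm_num) hqp.one_lt
      omega
    obtain ⟨x, hx, hx1, hxl⟩ := Cfsg.Agent.Lib.helper12.exists_central_of_normal_pgroup
      (Subgroup.zpowers (⟨n, hnN⟩ : ↥(Subgroup.normalizer (B : Set G))))
      (B.subgroupOf (Subgroup.normalizer (B : Set G))) hL hN hNne
    refine ⟨x, Subgroup.mem_subgroupOf.mp hx, fun h => hx1 (Subtype.ext h), ?_⟩
    have h := hxl ⟨n, hnN⟩ (Subgroup.mem_zpowers _)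
    have h2 : n * (x : G) = (x : G) * n := congrArg Subtype.val h
    rw [h2]; group
  have hfixw : ∀ k : ℤ, n * w ^ k * n⁻¹ = w ^ k := fun k => by rw [← conj_zpow, hwn]
  have huw : u ∉ Subgroup.zpowers w := by
    intro h
    obtain ⟨k, rfl⟩ := Subgroup.mem_zpowers_iff.mp h
    exact hnu (hfixw k)
  have dec := mem_mul_zpowers q B hBc hBcard w u hwB hu hw1 huw
  have huq : u ^ q = 1 := hBe u hu
  have hwq : w ^ q = 1 := hBe w hwB
  -- `⟨w⟩ ∩ ⟨u⟩ = 1`
  have hdisj : ∀ a c : ℤ, w ^ a = u ^ c → u ^ c = 1 := by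
    intro a c hac
    by_contra hne
    obtain ⟨d, hd⟩ := exists_zpow_zpow_eq q huq c hne
    apply huw
    rw [Subgroup.mem_zpowers_iff]
    exact ⟨a * d, by rw [zpow_mul, hac, hd]⟩
  obtain ⟨i, j, hij⟩ := dec (n * u * n⁻¹) (hnB u hu)
  have hcomm : ∀ a c : ℤ, Commute (w ^ a) (u ^ c) := fun a c =>
    hBc _ (B.zpow_mem hwB a) _ (B.zpow_mem hu c)
  -- (d) the iterates
  have hF : ∀ t : ℕ, ∃ a : ℤ, n ^ t * u * (n ^ t)⁻¹ = w ^ a * u ^ (j ^ t) := by
    intro t
    induction t with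
    | zero => exact ⟨0, by simp⟩
    | succ t ih =>
      obtain ⟨a, ha⟩ := ih
      refine ⟨a + i * j ^ t, ?_⟩
      have e1 : n ^ (t + 1) * u * (n ^ (t + 1))⁻¹ = n * (n ^ t * u * (n ^ t)⁻¹) * n⁻¹ := by
        rw [pow_succ']; group
      rw [e1, ha]
      have e2 : n * (w ^ a * u ^ (j ^ t)) * n⁻¹ = (n * w ^ a * n⁻¹) * (n * u * n⁻¹) ^ (j ^ t) := by
        rw [conj_zpow]; group
      rw [e2, hfixw, hij, (hcomm i j).mul_zpow, ← zpow_mul, ← zpow_mul, ← mul_assoc, ← zpow_add,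
        pow_succ, mul_comm (j ^ t) j]
  -- (e) `j ≡ 1`
  have hj : u ^ j = u := by
    obtain ⟨a, ha⟩ := hF (q ^ m)
    rw [hnm, inv_one, one_mul, mul_one] at ha
    have h1 : w ^ (-a) = u ^ (j ^ (q ^ m) - 1) := by
      rw [zpow_sub, zpow_one, zpow_neg]
      have : u ^ (j ^ (q ^ m)) = (w ^ a)⁻¹ * u := by conv_rhs => rw [ha]
                                                     group
      rw [this]; group
    have h2 := hdisj _ _ h1
    have hu1 : u ≠ 1 := by
      intro h; apply hnu; rw [h]; group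
    have hordu : orderOf u = q := by
      have hd : orderOf u ∣ q := orderOf_dvd_of_pow_eq_one huq
      rcases (Nat.dvd_prime hqp).mp hd with h | h
      · exact absurd (orderOf_eq_one_iff.mp h) hu1
      · exact h
    have h3 : (q : ℤ) ∣ j ^ (q ^ m) - 1 := by
      have := (orderOf_dvd_iff_zpow_eq_one).mpr h2
      rwa [hordu] at this
    have h4 : ((j ^ (q ^ m) - 1 : ℤ) : ZMod q) = 0 := (ZMod.intCast_zmod_eq_zero_iff_dvd _ q).mpr h3
    push_cast at h4
    rw [ZMod.pow_card_pow] at h4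
    have h5 : ((j - 1 : ℤ) : ZMod q) = 0 := by push_cast; exact h4
    obtain ⟨k, hk⟩ := (ZMod.intCast_zmod_eq_zero_iff_dvd _ q).mp h5
    have h6 : j = 1 + q * k := by linarith
    rw [h6, zpow_add, zpow_one, zpow_mul, zpow_natCast, huq, one_zpow, mul_one]
  rw [hj] at hij
  have hwi1 : w ^ i ≠ 1 := by
    intro h; apply hnu; rw [hij, h, one_mul]
  -- (f)
  have hG : ∀ t : ℕ, n ^ t * u * (n ^ t)⁻¹ = w ^ (i * t) * u := by
    intro t
    induction t with
    | zero => simp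
    | succ t ih =>
      have e1 : n ^ (t + 1) * u * (n ^ (t + 1))⁻¹ = n * (n ^ t * u * (n ^ t)⁻¹) * n⁻¹ := by
        rw [pow_succ']; group
      rw [e1, ih]
      have e2 : n * (w ^ (i * (t : ℤ)) * u) * n⁻¹ = (n * w ^ (i * (t : ℤ)) * n⁻¹) * (n * u * n⁻¹) := by
        group
      rw [e2, hfixw, hij, ← mul_assoc, ← zpow_add]
      push_cast
      ring_nf
  -- (g)
  obtain ⟨a, c, hv'⟩ := dec v hv
  have huc : u ^ c ≠ 1 := by
    intro h
    apply hnv
    rw [hv', h, mul_one]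
    exact hfixw a
  obtain ⟨d, hd⟩ := exists_zpow_zpow_eq q huq c huc
  have hvd : v ^ d = w ^ (a * d) * u := by
    rw [hv', (hcomm a c).mul_zpow, hd, ← zpow_mul]
  obtain ⟨e, he⟩ := exists_zpow_zpow_eq q hwq i hwi1
  set z : ℤ := e * (a * d) with hz
  have hqpos : (0 : ℤ) < q := by exact_mod_cast hqp.pos
  refine ⟨(z % q).toNat, ?_⟩
  have ht : (((z % q).toNat : ℕ) : ℤ) = z % q := Int.toNat_of_nonneg (Int.emod_nonneg z hqpos.ne')
  have hkey : n ^ (z % q).toNat * u * (n ^ (z % q).toNat)⁻¹ = v ^ d := by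
    rw [hG, hvd, ht]
    have h1 : w ^ (a * d) = w ^ (i * z) := by
      rw [hz, ← mul_assoc, zpow_mul w (i * e), zpow_mul w i e, he]
    have h2 : i * z = i * (z % q) + (q : ℤ) * (i * (z / q)) := by
      calc i * z = i * (z % q + q * (z / q)) := by rw [Int.emod_add_mul_ediv]
        _ = i * (z % q) + (q : ℤ) * (i * (z / q)) := by ring
    have h3 : w ^ (i * (z % q)) = w ^ (a * d) := by
      rw [h1, h2, zpow_add, zpow_mul w (q : ℤ), zpow_natCast, hwq, one_zpow, mul_one]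
    rw [h3]
  rw [hkey]
  apply le_antisymm
  · rw [Subgroup.zpowers_le]
    have hvq : v ^ q = 1 := hBe v hv
    have hvd1 : v ^ d ≠ 1 := by
      rw [← hkey]
      intro h
      apply hnu
      have : u = 1 := by
        have h' := congrArg (fun g => (n ^ (z % q).toNat)⁻¹ * g * n ^ (z % q).toNat) h
        simpa [mul_assoc] using h'
      rw [this]; group
    obtain ⟨f, hf⟩ := exists_zpow_zpow_eq q hvq d hvd1
    rw [Subgroup.mem_zpowers_iff]
    exact ⟨f, hf⟩
  · rw [Subgroup.zpowers_le]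
    exact Subgroup.zpow_mem_zpowers v d

end Cfsg.Agent.Lib.helper8.BG1376
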