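import Mathlib
import Cfsg.Prelude.Def_OddOrderLocal
import Cfsg.Agent.Lib.helper8.BG1376L
import Cfsg.Agent.Lib.helper8.BGTwelve
import Cfsg.Agent.Lib.helper13.BG11a
import Cfsg.Agent.Lib.helper71.BGTenB
import Cfsg.Agent.Lib.helper71.BGTwelveFour
import Cfsg.Agent.Lib.helper54.BGSigmaNe
import Cfsg.Agent.Lib.helper59.BGConj
import Cfsg.Agent.Lib.helper87.BG1425Main
import Cfsg.Agent.S1418
import Cfsg.Agent.S1417
import Cfsg.Agent.S0058

/-!
# S1376 / S1436: `τ₂(M) = ∅` when `N` is of type `𝒫₂` -- the common context (helper8)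

`N*` (`Ns`) is a maximal subgroup of type `𝒫` with `σ`-decomposition `(K*, U*)` (`Ks`, `Us`),
`K = C_{N*_σ}(K*)` has prime order `q`, `C_G(K) ≤ N*`; `M ≠ N*` is a maximal subgroup such that
`E = M ∩ N*` is a complement of `M_σ` in `M`, and `K ≤ M`.  `B ≤ E` is elementary abelian of order
`s ^ 2` with `s ∈ τ₂(M)`.
-/

set_option autoImplicit false
open Cfsg

namespace Cfsg.Agent.Lib.helper8.BG1376

variable {G : Type*} [Group G]

/-- The context. -/
structure Ctx (M Ns E K Ks Us B : Subgroup G) (s q : ℕ) : Prop where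
  hM : IsCoatom M
  hNs : IsCoatom Ns
  hne : M ≠ Ns
  hE : IsComplIn E (sigmaCore M) M
  hEN : M ⊓ Ns = E
  hdec : IsSigmaDecomposition Ns Ks Us
  hKs1 : Ks ≠ ⊥
  hK : K = sigmaCore Ns ⊓ Subgroup.centralizer (Ks : Set G)
  hKM : K ≤ M
  hq : q.Prime
  hKq : Nat.card K = q
  hKcent : Subgroup.centralizer (K : Set G) ≤ Ns
  hs : s ∈ tau2 M
  hBE : B ≤ E
  hBel : IsElementaryAbelian s B
  hBcard : Nat.card B = s ^ 2

namespace Ctx

variable {M Ns E K Ks Us B : Subgroup G} {s q : ℕ}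

theorem sP (c : Ctx M Ns E K Ks Us B s q) : s.Prime := c.hs.1

theorem E_le_Ns (c : Ctx M Ns E K Ks Us B s q) : E ≤ Ns := c.hEN ▸ inf_le_right

theorem E_le_M (c : Ctx M Ns E K Ks Us B s q) : E ≤ M := c.hEN ▸ inf_le_left

theorem K_le_sigma (c : Ctx M Ns E K Ks Us B s q) : K ≤ sigmaCore Ns := c.hK ▸ inf_le_left

theorem K_le_E (c : Ctx M Ns E K Ks Us B s q) : K ≤ E :=
  c.hEN ▸ le_inf c.hKM (c.K_le_sigma.trans (Cfsg.Agent.Lib.helper71.BGA.sigmaCore_le Ns))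

theorem K_ne_bot (c : Ctx M Ns E K Ks Us B s q) : K ≠ ⊥ := by
  intro h
  have h1 := c.hKq
  rw [h, Subgroup.card_bot] at h1
  exact c.hq.one_lt.ne h1

theorem orderOf_eq (c : Ctx M Ns E K Ks Us B s q) {b : G} (hb : b ∈ B) (hb1 : b ≠ 1) :
    orderOf b = s := by
  have hd : orderOf b ∣ s := orderOf_dvd_of_pow_eq_one (c.hBel.2 b hb)
  rcases (Nat.dvd_prime c.sP).mp hd with h | h
  · exact absurd (orderOf_eq_one_iff.mp h) hb1
  · exact h

/-- singular elements of `B` have their centralizer in `M` only -/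
theorem sing [Finite G] (hG : IsMinSimpleOddOrder G) (c : Ctx M Ns E K Ks Us B s q) {b : G}
    (hb : b ∈ B) (hb1 : b ≠ 1)
    (hsg : sigmaCore M ⊓ Subgroup.centralizer ({b} : Set G) ≠ ⊥) :
    Subgroup.centralizer ({b} : Set G) ≤ M ∧
      ∀ L : Subgroup G, IsCoatom L → Subgroup.centralizer ({b} : Set G) ≤ L → L = M := by
  have : Fact s.Prime := ⟨c.sP⟩
  obtain ⟨-, -, h3⟩ := Cfsg.Agent.S1418.result hG M c.hM E c.hE s c.hs B ⟨c.hBE, c.hBel, c.hBcard⟩
  have h4 := h3 (Subgroup.zpowers b) ((Subgroup.zpowers_le).mpr hb)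
    (by rw [Nat.card_zpowers, c.orderOf_eq hb hb1])
    (by rw [Cfsg.Agent.Lib.helper71.BGA.centralizer_zpowers]; exact hsg)
  rwa [Cfsg.Agent.Lib.helper71.BGA.centralizer_zpowers] at h4

theorem norm [Finite G] (hG : IsMinSimpleOddOrder G) (c : Ctx M Ns E K Ks Us B s q) :
    E ≤ Subgroup.normalizer (B : Set G) ∧
      ∀ X : Subgroup G, X ≤ E → Nat.card X = s → X ≤ B := by
  have : Fact s.Prime := ⟨c.sP⟩
  exact (Cfsg.Agent.S1418.result hG M c.hM E c.hE s c.hs B ⟨c.hBE, c.hBel, c.hBcard⟩).1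

theorem B_pgroup (c : Ctx M Ns E K Ks Us B s q) : IsPGroup s B := by
  have : Fact s.Prime := ⟨c.sP⟩
  exact IsPGroup.of_card (n := 2) c.hBcard

/-- `s ∈ σ(N*)`, hence `B ≤ N*_σ`. -/
theorem B_le_sigmaCore [Finite G] (hG : IsMinSimpleOddOrder G)
    (c : Ctx M Ns E K Ks Us B s q) : B ≤ sigmaCore Ns := by
  have : Fact s.Prime := ⟨c.sP⟩
  have hBN : B ≤ Ns := c.hBE.trans c.E_le_Ns
  by_cases hsσ : s ∈ sigma Ns
  · exact Cfsg.Agent.Lib.helper8.bg_pgroup_le_sigmaCore hG (Cfsg.Agent.Lib.helper13.bgx_uniq hG)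
      (Cfsg.Agent.Lib.helper13.bgx_fus hG) Ns c.hNs hsσ B hBN c.B_pgroup
  · exfalso
    have hτ : s ∈ tau2 Ns :=
      Cfsg.Agent.Lib.helper87.BG133.mem_tau2_of hG Ns c.hNs c.sP hsσ hBN c.hBel c.hBcard
    obtain ⟨-, -, -, -, h5, -⟩ :=
      Cfsg.Agent.S1417.result hG Ns c.hNs s hτ B ⟨hBN, c.hBel, c.hBcard⟩
    have h6 := h5 M c.hM c.hne (c.hBE.trans c.E_le_M)
    have h7 : K ≤ sigmaCore Ns ⊓ M := le_inf c.K_le_sigma c.hKM
    rw [h6] at h7
    exact c.K_ne_bot (le_bot_iff.mp h7)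

theorem not_cyclic (c : Ctx M Ns E K Ks Us B s q) : ¬ IsCyclic B := by
  intro hc
  obtain ⟨g, hg⟩ := hc.exists_generator
  have h1 : orderOf g = Nat.card B := orderOf_eq_card_of_forall_mem_zpowers hg
  have h2 : g ^ s = 1 := Subtype.ext (by simpa using c.hBel.2 g g.2)
  have h3 : orderOf g ∣ s := orderOf_dvd_of_pow_eq_one h2
  rw [h1, c.hBcard] at h3
  have h4 := Nat.le_of_dvd c.sP.pos h3
  have h5 : s < s ^ 2 := by
    have := c.sP.one_lt
    nlinarith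
  omega

/-- generation of `M_σ` by the centralizers of the elements of `B` -/
theorem gen [Finite G] (hG : IsMinSimpleOddOrder G) (c : Ctx M Ns E K Ks Us B s q) :
    (⨆ a ∈ {a : G | a ∈ B ∧ a ≠ 1}, sigmaCore M ⊓ Subgroup.centralizer {a}) = sigmaCore M := by
  have : IsMulCommutative B := c.hBel.1
  apply Cfsg.Agent.S0058.result B (sigmaCore M) c.not_cyclic
  · exact (c.hBE.trans c.E_le_M).trans (Cfsg.Agent.Lib.helper71.BGA.le_normalizer_sigmaCore M)
  · rw [c.hBcard]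
    apply Nat.Coprime.pow_left
    rw [Nat.Prime.coprime_iff_not_dvd c.sP]
    intro hd
    exact c.hs.2.1 (Cfsg.Agent.Lib.helper71.BG12.mem_sigma_of_dvd_card_sigmaCore M c.sP hd)

theorem exists_sing [Finite G] (hG : IsMinSimpleOddOrder G) (c : Ctx M Ns E K Ks Us B s q) :
    ∃ b ∈ B, b ≠ 1 ∧ sigmaCore M ⊓ Subgroup.centralizer ({b} : Set G) ≠ ⊥ := by
  by_contra hcon
  push Not at hcon
  have h1 := c.gen hG
  have h2 : (⨆ a ∈ {a : G | a ∈ B ∧ a ≠ 1}, sigmaCore M ⊓ Subgroup.centralizer {a}) = ⊥ := by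
    rw [eq_bot_iff]
    apply iSup₂_le
    intro a ha
    rw [hcon a ha.1 ha.2]
  rw [h2] at h1
  exact Cfsg.Agent.Lib.helper54.sigmaCore_ne_bot hG M c.hM h1.symm

theorem le_cent_of_sing [Finite G] (hG : IsMinSimpleOddOrder G)
    (c : Ctx M Ns E K Ks Us B s q) (b₀ : G)
    (h : ∀ b ∈ B, b ≠ 1 → sigmaCore M ⊓ Subgroup.centralizer ({b} : Set G) ≠ ⊥ →
      b₀ ∈ Subgroup.zpowers b) :
    sigmaCore M ≤ Subgroup.centralizer ({b₀} : Set G) := by
  rw [← c.gen hG]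
  apply iSup₂_le
  intro a ha
  by_cases hsg : sigmaCore M ⊓ Subgroup.centralizer ({a} : Set G) = ⊥
  · rw [hsg]; exact bot_le
  · have h1 := h a ha.1 ha.2 hsg
    refine inf_le_right.trans ?_
    rw [← Cfsg.Agent.Lib.helper71.BGA.centralizer_zpowers a]
    apply Subgroup.centralizer_le
    intro y hy
    rw [Set.mem_singleton_iff] at hy
    rw [hy]
    exact h1

theorem cent_le_E (c : Ctx M Ns E K Ks Us B s q) {b : G}
    (h : Subgroup.centralizer ({b} : Set G) ≤ M) :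
    Ns ⊓ Subgroup.centralizer ({b} : Set G) ≤ E := by
  rw [← c.hEN]
  exact le_inf (inf_le_right.trans h) inf_le_left

end Ctx

end Cfsg.Agent.Lib.helper8.BG1376
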