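import Mathlib
import Cfsg.Agent.Lib.helper8.BG1376C
import Cfsg.Agent.Lib.helper1.ThompsonFpf
import Cfsg.Agent.Lib.helper28.Layer
import Cfsg.Agent.S1431

/-!
# S1376 / S1436: `τ₂(M) = ∅` when `N` is of type `𝒫₂` -- Case A: `N*_σ` nilpotent (helper8)
-/

set_option autoImplicit false
open Cfsg

namespace Cfsg.Agent.Lib.helper8.BG1376

variable {G : Type*} [Group G]

namespace Ctx

variable {M Ns E K Ks Us B : Subgroup G} {s q : ℕ}

/-- a Sylow `q`-subgroup of `N*_σ` is not contained in `M` -/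
theorem sylow_not_le [Finite G] (hG : IsMinSimpleOddOrder G) (c : Ctx M Ns E K Ks Us B s q)
    (S : Sylow q ↥(sigmaCore Ns)) :
    ¬ (S : Subgroup ↥(sigmaCore Ns)).map (sigmaCore Ns).subtype ≤ M := by
  intro hSM
  obtain ⟨-, -, h3, -⟩ := Cfsg.Agent.S1431.result hG Ns c.hNs Ks c.hdec.hall c.hKs1
  have hqdvd : q ∣ Nat.card ↥(sigmaCore Ns ⊓ Subgroup.centralizer (Ks : Set G)) := by
    rw [← c.hK, c.hKq]
  obtain ⟨⟨L, -, huniq⟩, hSN, -⟩ := h3 q c.hq hqdvd S
  have h1 := huniq M ⟨c.hM, hSM⟩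
  have h2 := huniq Ns ⟨c.hNs, hSN⟩
  exact c.hne (h1.trans h2.symm)

/-- **Case `s = q`** (no nilpotency hypothesis). -/
theorem caseEq [Finite G] (hG : IsMinSimpleOddOrder G) (c : Ctx M Ns E K Ks Us B s q)
    (hsq : s = q)
    (x : G) (hx : x ∈ sigmaCore M) (hxE : ∀ e ∈ E, e * x = x * e → e = 1) : False := by
  have hqF : Fact q.Prime := ⟨c.hq⟩
  have hsF : Fact s.Prime := ⟨c.sP⟩
  obtain ⟨-, hsimple, -, -⟩ := id hG
  have : IsSimpleGroup G := hsimple
  obtain ⟨b, hbB, hb1, hbs⟩ := c.exists_sing hG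
  obtain ⟨hbM, hbu⟩ := c.sing hG hbB hb1 hbs
  have hBσ := c.B_le_sigmaCore hG
  · subst hsq
    have hB' : IsPGroup s (B.subgroupOf (sigmaCore Ns)) := c.B_pgroup.comap_subtype
    obtain ⟨S, hS⟩ := hB'.exists_le_sylow
    obtain ⟨Sg, hSg⟩ : ∃ Sg : Subgroup G,
        Sg = (S : Subgroup ↥(sigmaCore Ns)).map (sigmaCore Ns).subtype := ⟨_, rfl⟩
    have hBSg : B ≤ Sg := by
      intro y hy
      rw [hSg]
      exact Subgroup.mem_map.mpr ⟨⟨y, hBσ hy⟩, hS (Subgroup.mem_subgroupOf.mpr hy), rfl⟩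
    have hSgN : Sg ≤ Ns := by
      rw [hSg]
      exact (Subgroup.map_subtype_le _).trans (Cfsg.Agent.Lib.helper71.BGA.sigmaCore_le Ns)
    have hSgp : IsPGroup s Sg := by
      rw [hSg]; exact S.isPGroup'.map _
    have hSgM : ¬ Sg ≤ M := by
      rw [hSg]; exact c.sylow_not_le hG S
    obtain ⟨ES, hES⟩ : ∃ ES : Subgroup G, ES = E ⊓ Sg := ⟨_, rfl⟩
    have hESle : ES ≤ Sg := hES ▸ inf_le_right
    have hESE : ES ≤ E := hES ▸ inf_le_left
    have hESne : ES ≠ Sg := by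
      intro h
      exact hSgM (h ▸ hESE.trans c.E_le_M)
    -- normalizer growth
    obtain ⟨n, hnSg, hnN, hnES⟩ : ∃ n ∈ Sg, (∀ y ∈ ES, n * y * n⁻¹ ∈ ES) ∧ n ∉ ES := by
      have hnilS : Group.IsNilpotent ↥Sg := hSgp.isNilpotent
      have hnc : NormalizerCondition ↥Sg := Group.normalizerCondition_of_isNilpotent
      have hlt : ES.subgroupOf Sg < ⊤ := by
        rw [lt_top_iff_ne_top]
        intro h
        rw [Subgroup.subgroupOf_eq_top] at h
        exact hESne (le_antisymm hESle h)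
      obtain ⟨n', hn'N, hn'H⟩ := SetLike.exists_of_lt (hnc _ hlt)
      refine ⟨n', n'.2, ?_, fun h => hn'H (Subgroup.mem_subgroupOf.mpr h)⟩
      intro y hy
      have hy' : (⟨y, hESle hy⟩ : ↥Sg) ∈ ES.subgroupOf Sg := Subgroup.mem_subgroupOf.mpr hy
      have h1 := (Subgroup.mem_normalizer_iff.mp hn'N _).mp hy'
      exact Subgroup.mem_subgroupOf.mp h1
    -- `n` normalizes `B`
    have hnB : ∀ y ∈ B, n * y * n⁻¹ ∈ B := by
      intro y hy
      by_cases hy1 : y = 1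
      · rw [hy1]; simp
      have hyES : y ∈ ES := hES ▸ Subgroup.mem_inf.mpr ⟨c.hBE hy, hBSg hy⟩
      have h1 := hESE (hnN y hyES)
      have hord : orderOf (n * y * n⁻¹) = s := by
        have := orderOf_injective (MulAut.conj n).toMonoidHom (MulAut.conj n).injective y
        rw [← c.orderOf_eq hy hy1, ← this]
        rfl
      exact (c.norm hG).2 (Subgroup.zpowers (n * y * n⁻¹)) ((Subgroup.zpowers_le).mpr h1)
        (by rw [Nat.card_zpowers, hord]) (Subgroup.mem_zpowers _)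
    obtain ⟨m, hm⟩ : ∃ m : ℕ, n ^ (s ^ m) = 1 := by
      obtain ⟨m, hm⟩ := hSgp ⟨n, hnSg⟩
      exact ⟨m, by simpa using congrArg Subtype.val hm⟩
    -- singular elements are not centralized by `n`
    have hsingES : ∀ b₂ ∈ B, b₂ ≠ 1 →
        sigmaCore M ⊓ Subgroup.centralizer ({b₂} : Set G) ≠ ⊥ → n * b₂ * n⁻¹ ≠ b₂ := by
      intro b₂ hb₂ hb₂1 hb₂s hcon
      obtain ⟨hb₂M, -⟩ := c.sing hG hb₂ hb₂1 hb₂s
      apply hnES
      rw [hES]
      refine Subgroup.mem_inf.mpr ⟨?_, hnSg⟩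
      apply c.cent_le_E hb₂M
      refine Subgroup.mem_inf.mpr ⟨hSgN hnSg, ?_⟩
      rw [Subgroup.mem_centralizer_iff]
      intro z hz
      rw [Set.mem_singleton_iff] at hz
      subst hz
      calc z * n = n * z * n⁻¹ * n := by rw [hcon]
        _ = n * z := by group
    -- `ES` centralizes `B`
    have hEScomm : ∀ y ∈ ES, ∀ b₂ ∈ B, y * b₂ = b₂ * y := by
      intro y hy b₂ hb₂
      have hESM : ES ≤ M := hESE.trans c.E_le_M
      have hESp : IsPGroup s (ES.subgroupOf M) := (hSgp.to_le hESle).comap_subtype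
      obtain ⟨P, hP⟩ := hESp.exists_le_sylow
      obtain ⟨-, h2, -⟩ := Cfsg.Agent.S1417.result hG M c.hM s c.hs B
        ⟨c.hBE.trans c.E_le_M, c.hBel, c.hBcard⟩
      have hPc : IsMulCommutative (P : Subgroup M) := (h2 P).1
      have hb₂ES : b₂ ∈ ES := hES ▸ Subgroup.mem_inf.mpr ⟨c.hBE hb₂, hBSg hb₂⟩
      have hy' : (⟨y, hESM hy⟩ : M) ∈ (P : Subgroup M) := hP (Subgroup.mem_subgroupOf.mpr hy)
      have hb' : (⟨b₂, hESM hb₂ES⟩ : M) ∈ (P : Subgroup M) :=
        hP (Subgroup.mem_subgroupOf.mpr hb₂ES)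
      have h3 := mul_comm' (⟨_, hy'⟩ : (P : Subgroup M)) ⟨_, hb'⟩
      exact congrArg (fun z : (P : Subgroup M) => ((z : M) : G)) h3
    -- a generator of `K`
    have hKB : K ≤ B := (c.norm hG).2 K c.K_le_E c.hKq
    obtain ⟨k, hk⟩ := (Subgroup.ne_bot_iff_exists_ne_one).mp c.K_ne_bot
    have hkK' : (k : G) ∈ K := k.2
    have hk1' : (k : G) ≠ 1 := fun h => hk (Subtype.ext h)
    have hKz : Subgroup.zpowers (k : G) = K := by
      apply Subgroup.eq_of_le_of_card_ge ((Subgroup.zpowers_le).mpr hkK')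
      rw [c.hKq, Nat.card_zpowers, c.orderOf_eq (hKB hkK') hk1']
    have hBc : ∀ a ∈ B, ∀ b' ∈ B, a * b' = b' * a := by
      intro a ha b' hb'
      have := c.hBel.1
      exact congrArg Subtype.val (mul_comm' (⟨a, ha⟩ : B) ⟨b', hb'⟩)
    have hbn := hsingES b hbB hb1 hbs
    by_cases hnk : n * (k : G) * n⁻¹ = k
    · have hall : ∀ b₂ ∈ B, b₂ ≠ 1 →
          sigmaCore M ⊓ Subgroup.centralizer ({b₂} : Set G) ≠ ⊥ → b ∈ Subgroup.zpowers b₂ := by
        intro b₂ hb₂ hb₂1 hb₂s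
        obtain ⟨t, ht⟩ := line_conj s B hBc c.hBel.2 c.hBcard n m hm hnB b b₂ hbB hb₂ hbn
          (hsingES b₂ hb₂ hb₂1 hb₂s)
        obtain ⟨-, hb₂u⟩ := c.sing hG hb₂ hb₂1 hb₂s
        have h1 : Subgroup.centralizer ({b₂} : Set G) ≤
            M.map (MulAut.conj (n ^ t)).toMonoidHom := by
          rw [← Cfsg.Agent.Lib.helper71.BGA.centralizer_zpowers b₂, ht,
            Cfsg.Agent.Lib.helper71.BGA.centralizer_zpowers,
            Cfsg.Agent.Lib.helper59.BGConj.centralizer_singleton_conj]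
          exact Subgroup.map_mono hbM
        have h2 := hb₂u _ (Cfsg.Agent.Lib.helper71.BGA.isCoatom_map_conj c.hM (n ^ t)) h1
        have h3 : n ^ t ∈ Subgroup.normalizer (M : Set G) :=
          (Cfsg.Agent.Lib.helper28.map_conj_eq_self_iff_mem_normalizer (n ^ t) M).mp h2
        have hMbot : M ≠ ⊥ := by
          intro h
          have h1 := Cfsg.Agent.Lib.helper54.coatom_card_gt_one hG M c.hM
          rw [h, Subgroup.card_bot] at h1
          exact lt_irrefl _ h1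
        rw [Cfsg.Agent.Lib.helper71.BGA.normalizer_eq_of_isCoatom c.hM hMbot] at h3
        have hntSg : n ^ t ∈ Sg := Sg.pow_mem hnSg t
        have h4 : n ^ t ∈ ES := by
          rw [hES, ← c.hEN]
          exact Subgroup.mem_inf.mpr ⟨Subgroup.mem_inf.mpr ⟨h3, hSgN hntSg⟩, hntSg⟩
        have h5 := hEScomm _ h4 b hbB
        have h6 : n ^ t * b * (n ^ t)⁻¹ = b := by rw [h5]; group
        rw [h6] at ht
        rw [ht]
        exact Subgroup.mem_zpowers b
      have h7 := c.le_cent_of_sing hG b hall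
      have h8 : b * x = x * b := Subgroup.mem_centralizer_iff.mp (h7 hx) b rfl
      exact hb1 (hxE b (c.hBE hbB) h8)
    · obtain ⟨t, ht⟩ := line_conj s B hBc c.hBel.2 c.hBcard n m hm hnB k b (hKB hkK') hbB hnk hbn
      have h1 : Subgroup.centralizer ({b} : Set G) ≤ Ns := by
        rw [← Cfsg.Agent.Lib.helper71.BGA.centralizer_zpowers b, ht,
          Cfsg.Agent.Lib.helper71.BGA.centralizer_zpowers,
          Cfsg.Agent.Lib.helper59.BGConj.centralizer_singleton_conj]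
        intro y hy
        obtain ⟨z, hz, rfl⟩ := Subgroup.mem_map.mp hy
        have hzN : z ∈ Ns := c.hKcent (by
          rw [← hKz, Cfsg.Agent.Lib.helper71.BGA.centralizer_zpowers]; exact hz)
        have hnN' : n ^ t ∈ Ns := hSgN (Sg.pow_mem hnSg t)
        show n ^ t * z * (n ^ t)⁻¹ ∈ Ns
        exact Ns.mul_mem (Ns.mul_mem hnN' hzN) (Ns.inv_mem hnN')
      exact c.hne (hbu Ns c.hNs h1).symm

/-- **Case `s ≠ q`, `N*_σ` nilpotent.** -/
theorem caseNil [Finite G] (hG : IsMinSimpleOddOrder G) (c : Ctx M Ns E K Ks Us B s q)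
    (hsq : s ≠ q) (hnil : Group.IsNilpotent ↥(sigmaCore Ns)) : False := by
  have hqF : Fact q.Prime := ⟨c.hq⟩
  have hsF : Fact s.Prime := ⟨c.sP⟩
  obtain ⟨b, hbB, hb1, hbs⟩ := c.exists_sing hG
  obtain ⟨hbM, hbu⟩ := c.sing hG hbB hb1 hbs
  have hBσ := c.B_le_sigmaCore hG
  · obtain ⟨S⟩ : Nonempty (Sylow q ↥(sigmaCore Ns)) := inferInstance
    apply c.sylow_not_le hG S
    refine le_trans ?_ hbM
    intro y hy
    obtain ⟨y', hy', rfl⟩ := Subgroup.mem_map.mp hy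
    rw [Subgroup.mem_centralizer_iff]
    intro z hz
    rw [Set.mem_singleton_iff] at hz
    subst hz
    have hcop : (orderOf (⟨z, hBσ hbB⟩ : ↥(sigmaCore Ns))).Coprime (orderOf y') := by
      rw [Subgroup.orderOf_mk, c.orderOf_eq hbB hb1]
      obtain ⟨k, hk⟩ := (IsPGroup.iff_orderOf.mp S.isPGroup') ⟨y', hy'⟩
      rw [Subgroup.orderOf_mk] at hk
      rw [hk]
      exact Nat.Coprime.pow_right _ ((Nat.coprime_primes c.sP c.hq).mpr hsq)
    have h1 := Cfsg.Agent.Lib.helper1.commute_of_coprime_orderOf_of_isNilpotent ↥(sigmaCore Ns)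
      ⟨z, hBσ hbB⟩ y' hcop
    exact congrArg Subtype.val h1.eq

end Ctx

end Cfsg.Agent.Lib.helper8.BG1376
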