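import Mathlib
import Cfsg.Prelude.Def_OddOrderLocal
import Cfsg.Prelude.Def_OddOrderChar
import Cfsg.Agent.S1350
import Cfsg.Agent.S1351
import Cfsg.Agent.S1352
import Cfsg.Agent.S1361
import Cfsg.Agent.S1374
import Cfsg.Agent.S1375
import Cfsg.Agent.S1378
import Cfsg.Agent.S1436
import Cfsg.Agent.Lib.helper28.Layer
import Cfsg.Agent.Lib.helper28.BG1436Base
import Cfsg.Agent.Lib.helper29.FittingHall
import Cfsg.Agent.Lib.helper59.BGConj
import Cfsg.Agent.Lib.helper69.BGKappaA
import Cfsg.Agent.Lib.helper25.BG1367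
import Cfsg.Agent.Lib.helper71.BGTenA
import Cfsg.Agent.Lib.helper71.BGTenB
import Cfsg.Agent.Lib.helper87.BG1425Main
import Cfsg.Agent.Lib.helper88.BG1376AB
import Cfsg.Agent.Lib.helper54.BGSigmaNe

/-!
# S1537: the Dade hypothesis for a maximal subgroup with `κ(M) = ∅` (helper8)

`dade_kappa_empty`: for a maximal subgroup `M` with `κ(M) = ∅`, the set of non-identity elements of
`M` centralizing a non-identity element of `M_σ` satisfies the Dade hypothesis with respect to `M`
and `supportR M`.  Generic helpers: `dade_mono`, `supportR_of_le`, `supportR_eq`,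
`supportR_le_centralizer`, `supportR_conj_mem`.
-/

set_option autoImplicit false

namespace Cfsg.Agent.Lib.helper8.BGDade

open Cfsg Subgroup

variable {G : Type*} [Group G]

/-! ## Generic helpers -/

/-- The Dade hypothesis passes to `L`-invariant subsets. -/
theorem dade_mono {A A' : Set G} {L : Subgroup G} {H : G → Subgroup G} (h : DadeHypothesis A L H)
    (hsub : A' ⊆ A) (hconj : ∀ x ∈ L, ∀ a ∈ A', x * a * x⁻¹ ∈ A') : DadeHypothesis A' L H where
  one_not_mem := fun h1 => h.one_not_mem (hsub h1)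
  subset := hsub.trans h.subset
  conj_mem := hconj
  fusion := fun a ha g hg => h.fusion a (hsub ha) g (hsub hg)
  le_centralizer := fun a ha => h.le_centralizer a (hsub ha)
  conj_mem_H := fun a ha => h.conj_mem_H a (hsub ha)
  inf_eq_bot := fun a ha => h.inf_eq_bot a (hsub ha)
  sup_eq := fun a ha => h.sup_eq a (hsub ha)
  coprime := fun a ha b hb => h.coprime a (hsub ha) b (hsub hb)

theorem supportR_of_le {M : Subgroup G} {a : G} (h : centralizer ({a} : Set G) ≤ M) :
    supportR M a = ⊥ := by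
  unfold supportR
  rw [dif_neg]
  intro h'
  exact h'.1 h

theorem supportR_eq {M N : Subgroup G} {a : G} (h : ¬ centralizer ({a} : Set G) ≤ M)
    (hN : IsCoatom N) (haN : centralizer ({a} : Set G) ≤ N)
    (hu : ∀ L : Subgroup G, IsCoatom L → centralizer ({a} : Set G) ≤ L → L = N) :
    supportR M a = fittingHallOf N ⊓ centralizer ({a} : Set G) := by
  have hex : ∃! L : Subgroup G, IsCoatom L ∧ centralizer ({a} : Set G) ≤ L :=
    ⟨N, ⟨hN, haN⟩, fun L hL => hu L hL.1 hL.2⟩
  unfold supportR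
  rw [dif_pos ⟨h, hex⟩]
  have hspec := Classical.choose_spec hex.exists
  have hch : Classical.choose hex.exists = N := hu _ hspec.1 hspec.2
  rw [hch]

theorem supportR_le_centralizer (M : Subgroup G) (a : G) :
    supportR M a ≤ centralizer ({a} : Set G) := by
  unfold supportR
  split_ifs with h
  · exact inf_le_right
  · exact bot_le

theorem supportR_conj_mem (M : Subgroup G) (a c u : G) (hc : c ∈ centralizer ({a} : Set G))
    (hu : u ∈ supportR M a) : c * u * c⁻¹ ∈ supportR M a := by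
  unfold supportR at hu ⊢
  split_ifs at hu ⊢ with h
  · have hspec := Classical.choose_spec h.2.exists
    refine mem_inf.mpr ⟨?_, ?_⟩
    · have hcL := hspec.2 hc
      have hn := Cfsg.Agent.Lib.helper29.le_normalizer_fittingHallOf _ hcL
      exact (mem_normalizer_iff.mp hn u).mp (mem_inf.mp hu).1
    · exact (centralizer _).mul_mem ((centralizer _).mul_mem hc (mem_inf.mp hu).2)
        ((centralizer _).inv_mem hc)
  · rw [mem_bot] at hu ⊢
    rw [hu]
    group

theorem centralizer_le_pow (a : G) (k : ℕ) :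
    centralizer ({a} : Set G) ≤ centralizer ({a ^ k} : Set G) := by
  intro c hc
  rw [mem_centralizer_iff] at hc ⊢
  intro z hz
  rw [Set.mem_singleton_iff] at hz
  subst hz
  have h1 : Commute a c := hc a rfl
  exact (h1.pow_left k).eq

theorem orderOf_conj' (g a : G) : orderOf (g * a * g⁻¹) = orderOf a := by
  have := orderOf_injective (MulAut.conj g).toMonoidHom (MulAut.conj g).injective a
  rw [← this]
  rfl

/-- transport of "`M` is the only maximal subgroup over `C_G(a)`" along conjugation by `m ∈ M` -/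
theorem cent_unique_conj {M : Subgroup G} {a m : G} (hm : m ∈ M)
    (h : centralizer ({m * a * m⁻¹} : Set G) ≤ M ∧ ∀ L : Subgroup G, IsCoatom L →
      centralizer ({m * a * m⁻¹} : Set G) ≤ L → L = M) :
    centralizer ({a} : Set G) ≤ M ∧ ∀ L : Subgroup G, IsCoatom L →
      centralizer ({a} : Set G) ≤ L → L = M := by
  rw [Cfsg.Agent.Lib.helper59.BGConj.centralizer_singleton_conj] at h
  have hMm : M.map (MulAut.conj m).toMonoidHom = M :=
    (Cfsg.Agent.Lib.helper28.map_conj_eq_self_iff_mem_normalizer m M).mpr (le_normalizer hm)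
  constructor
  · intro c hc
    have h1 : m * c * m⁻¹ ∈ M := h.1 ⟨c, hc, rfl⟩
    have h2 : c = m⁻¹ * (m * c * m⁻¹) * m := by group
    rw [h2]
    exact M.mul_mem (M.mul_mem (M.inv_mem hm) h1) hm
  · intro L hL hcL
    have h3 := h.2 (L.map (MulAut.conj m).toMonoidHom)
      (Cfsg.Agent.Lib.helper71.BGA.isCoatom_map_conj hL m) (Subgroup.map_mono hcL)
    rw [← hMm] at h3
    exact Subgroup.map_injective (MulAut.conj m).injective h3

/-! ## The case `κ(M) = ∅` -/

/-- an element of prime order `q ∉ σ(M)` of `M` is `M`-conjugate into `U` (when `κ(M) = ∅`) -/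
theorem conj_into_U [Finite G] (hG : IsMinSimpleOddOrder G) (M : Subgroup G) (hM : IsCoatom M)
    (hκ : kappa M = ∅) (K U : Subgroup G) (hKU : IsSigmaDecomposition M K U) {c : G} (hcM : c ∈ M)
    {q : ℕ} (hq : q.Prime) (hqσ : q ∉ sigma M) (hco : orderOf c = q) :
    ∃ m ∈ M, m * c * m⁻¹ ∈ U := by
  have hqF : Fact q.Prime := ⟨hq⟩
  have hHall : IsPiHallOf (sigma M) (sigmaCore M) M := (Cfsg.Agent.S1350.result hG M hM).1
  have hUH := Cfsg.Agent.Lib.helper69.bgk_decomp_hall hHall hKU
  have hqπ : q ∈ {q | q.Prime ∧ q ∉ kappa M ∧ q ∉ sigma M} :=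
    ⟨hq, by rw [hκ]; exact fun h => h, hqσ⟩
  have hB : IsPGroup q (zpowers c) :=
    IsPGroup.of_card (n := 1) (by rw [Nat.card_zpowers, hco, pow_one])
  obtain ⟨m, hm, hmU⟩ :=
    Cfsg.Agent.Lib.helper69.bgk_conj_into_hall hUH hqπ (zpowers_le.mpr hcM) hB
  exact ⟨m, hm, hmU c (mem_zpowers c)⟩

/-- an element of prime order `q ∉ σ(M)` of `M` centralizing a non-identity element of `M_σ`:
`M` is the only maximal subgroup over its centralizer (S1361) -/
theorem cent_unique_of_prime [Finite G] (hG : IsMinSimpleOddOrder G) (M : Subgroup G)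
    (hM : IsCoatom M) (hκ : kappa M = ∅) {a : G} (haM : a ∈ M) {q : ℕ} (hq : q.Prime)
    (hqσ : q ∉ sigma M) (hao : orderOf a = q) {y : G} (hy : y ∈ sigmaCore M) (hy1 : y ≠ 1)
    (hay : a * y = y * a) :
    centralizer ({a} : Set G) ≤ M ∧ ∀ L : Subgroup G, IsCoatom L →
      centralizer ({a} : Set G) ≤ L → L = M := by
  obtain ⟨⟨K, hK⟩, hcyc⟩ := Cfsg.Agent.S1351.result hG M hM
  obtain ⟨⟨U, hKU⟩, -⟩ := Cfsg.Agent.S1352.result hG M hM K (hcyc K hK) hK
  obtain ⟨m, hm, hmU⟩ := conj_into_U hG M hM hκ K U hKU haM hq hqσ hao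
  apply cent_unique_conj hm
  have hX : zpowers (m * a * m⁻¹) ≤ U := zpowers_le.mpr hmU
  have hX1 : zpowers (m * a * m⁻¹) ≠ ⊥ := by
    intro h
    rw [zpowers_eq_bot] at h
    have ho := orderOf_conj' m a
    rw [h, orderOf_one, hao] at ho
    exact hq.one_lt.ne ho
  have hXc : sigmaCore M ⊓ centralizer ((zpowers (m * a * m⁻¹) : Subgroup G) : Set G) ≠ ⊥ := by
    intro h
    have hmem : m * y * m⁻¹ ∈
        sigmaCore M ⊓ centralizer ((zpowers (m * a * m⁻¹) : Subgroup G) : Set G) := by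
      refine mem_inf.mpr ⟨?_, ?_⟩
      · exact (mem_normalizer_iff.mp
          (Cfsg.Agent.Lib.helper71.BGA.le_normalizer_sigmaCore M hm) y).mp hy
      · rw [Cfsg.Agent.Lib.helper71.BGA.centralizer_zpowers, mem_centralizer_iff]
        intro z hz
        rw [Set.mem_singleton_iff] at hz
        subst hz
        calc m * a * m⁻¹ * (m * y * m⁻¹) = m * (a * y) * m⁻¹ := by group
          _ = m * (y * a) * m⁻¹ := by rw [hay]
          _ = m * y * m⁻¹ * (m * a * m⁻¹) := by group
    rw [h, mem_bot] at hmem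
    apply hy1
    have e : y = m⁻¹ * (m * y * m⁻¹) * m := by group
    rw [e, hmem]
    group
  have h61 := Cfsg.Agent.S1361.result hG M hM K U hKU _ hX hX1 hXc
  rwa [Cfsg.Agent.Lib.helper71.BGA.centralizer_zpowers] at h61

/-- an element of `M ∖ M_σ` centralizing a non-identity element of `M_σ` has a power of prime order
`q ∉ σ(M)` -/
theorem exists_pow_prime [Finite G] (hG : IsMinSimpleOddOrder G) (M : Subgroup G)
    (hM : IsCoatom M) {a : G} (haM : a ∈ M) (haσ : a ∉ sigmaCore M) :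
    ∃ q : ℕ, q.Prime ∧ q ∉ sigma M ∧ orderOf (a ^ (orderOf a / q)) = q := by
  have hex : ∃ q : ℕ, q.Prime ∧ q ∣ orderOf a ∧ q ∉ sigma M := by
    by_contra hcon
    push Not at hcon
    apply haσ
    have h1 := Cfsg.Agent.Lib.helper87.BG133.le_sigmaCore_of_pi hG M hM (zpowers a)
      (zpowers_le.mpr haM) (fun p hp hpd => hcon p hp (by rwa [Nat.card_zpowers] at hpd))
    exact h1 (mem_zpowers a)
  obtain ⟨q, hq, hqd, hqσ⟩ := hex
  have hfin : orderOf a ≠ 0 := (orderOf_pos a).ne'
  exact ⟨q, hq, hqσ, orderOf_pow_orderOf_div hfin hqd⟩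

/-- under the fixed-point-free hypothesis no element of prime order `q ∉ σ(M)` centralizes a
non-identity element of `M_σ` -/
theorem fpf_false [Finite G] (hG : IsMinSimpleOddOrder G) (M : Subgroup G) (hM : IsCoatom M)
    (hκ : kappa M = ∅) (K U E : Subgroup G) (hKU : IsSigmaDecomposition M K U) (hUE : U ≤ E)
    (hfpf : ∀ e ∈ E, e ≠ 1 → ∀ y ∈ sigmaCore M, e * y = y * e → y = 1)
    {c : G} (hcM : c ∈ M) {q : ℕ} (hq : q.Prime) (hqσ : q ∉ sigma M) (hco : orderOf c = q)
    {y : G} (hy : y ∈ sigmaCore M) (hy1 : y ≠ 1) (hcy : c * y = y * c) : False := by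
  obtain ⟨m, hm, hmU⟩ := conj_into_U hG M hM hκ K U hKU hcM hq hqσ hco
  have he1 : m * c * m⁻¹ ≠ 1 := by
    intro h
    have ho := orderOf_conj' m c
    rw [h, orderOf_one, hco] at ho
    exact hq.one_lt.ne ho
  have hyσ : m * y * m⁻¹ ∈ sigmaCore M :=
    (mem_normalizer_iff.mp (Cfsg.Agent.Lib.helper71.BGA.le_normalizer_sigmaCore M hm) y).mp hy
  have hcomm : m * c * m⁻¹ * (m * y * m⁻¹) = m * y * m⁻¹ * (m * c * m⁻¹) := by
    calc m * c * m⁻¹ * (m * y * m⁻¹) = m * (c * y) * m⁻¹ := by group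
      _ = m * (y * c) * m⁻¹ := by rw [hcy]
      _ = m * y * m⁻¹ * (m * c * m⁻¹) := by group
  have h1 := hfpf _ (hUE hmU) he1 _ hyσ hcomm
  apply hy1
  have e : y = m⁻¹ * (m * y * m⁻¹) * m := by group
  rw [e, h1]
  group

/-- The structure of `supportR M a` for `a` in the master set. -/
theorem supportR_struct [Finite G] (hG : IsMinSimpleOddOrder G) (M : Subgroup G) (hM : IsCoatom M)
    (hκ : kappa M = ∅) {a : G}
    (ha : a ∈ {a : G | a ∈ M ∧ a ≠ 1 ∧ ∃ x ∈ sigmaCore M, x ≠ 1 ∧ a * x = x * a}) :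
    (centralizer ({a} : Set G) ≤ M ∧ supportR M a = ⊥) ∨
    (a ∈ sigmaCore M ∧ ¬ centralizer ({a} : Set G) ≤ M ∧ ∃ N : Subgroup G, IsCoatom N ∧
      centralizer ({a} : Set G) ≤ N ∧
      supportR M a = sigmaCore N ⊓ centralizer ({a} : Set G) ∧
      IsComplIn (M ⊓ centralizer ({a} : Set G)) (sigmaCore N ⊓ centralizer ({a} : Set G))
        (centralizer ({a} : Set G))) := by
  obtain ⟨haM, ha1, y, hy, hy1, hay⟩ := ha
  by_cases hc : centralizer ({a} : Set G) ≤ M
  · exact Or.inl ⟨hc, supportR_of_le hc⟩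
  · right
    have haσ : a ∈ sigmaCore M := by
      by_contra haσ
      obtain ⟨q, hq, hqσ, hao⟩ := exists_pow_prime hG M hM haM haσ
      have hcu := cent_unique_of_prime hG M hM hκ (M.pow_mem haM _) hq hqσ hao hy hy1
        ((show Commute a y from hay).pow_left _).eq
      exact hc ((centralizer_le_pow a _).trans hcu.1)
    obtain ⟨N, ⟨hN, haN⟩, huniq, hσF, -, hcompl, -, -⟩ :=
      Cfsg.Agent.S1375.result hG M hM a haσ ha1 hc
    refine ⟨haσ, hc, N, hN, haN, ?_, hcompl⟩
    rw [supportR_eq hc hN haN huniq, hσF]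

/-- **The Dade hypothesis for `κ(M) = ∅`.** -/
theorem dade_kappa_empty [Finite G] (hG : IsMinSimpleOddOrder G) (M : Subgroup G)
    (hM : IsCoatom M) (hκ : kappa M = ∅) :
    DadeHypothesis {a : G | a ∈ M ∧ a ≠ 1 ∧ ∃ x ∈ sigmaCore M, x ≠ 1 ∧ a * x = x * a} M
      (supportR M) := by
  obtain ⟨-, hsimple, -, -⟩ := id hG
  have : IsSimpleGroup G := hsimple
  have hMbot : M ≠ ⊥ := by
    intro h
    have h1 := Cfsg.Agent.Lib.helper54.coatom_card_gt_one hG M hM
    rw [h, Subgroup.card_bot] at h1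
    exact lt_irrefl _ h1
  have hNM : normalizer (M : Set G) = M :=
    Cfsg.Agent.Lib.helper71.BGA.normalizer_eq_of_isCoatom hM hMbot
  have hHall : IsPiHallOf (sigma M) (sigmaCore M) M := (Cfsg.Agent.S1350.result hG M hM).1
  refine
    { one_not_mem := fun h => h.2.1 rfl
      subset := fun a ha => ha.1
      conj_mem := ?_
      fusion := ?_
      le_centralizer := fun a _ => supportR_le_centralizer M a
      conj_mem_H := fun a _ c hc u hu => supportR_conj_mem M a c u hc hu
      inf_eq_bot := ?_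
      sup_eq := ?_
      coprime := ?_ }
  · -- conj_mem
    intro x hx a ha
    obtain ⟨haM, ha1, y, hy, hy1, hay⟩ := ha
    refine ⟨M.mul_mem (M.mul_mem hx haM) (M.inv_mem hx), ?_, x * y * x⁻¹, ?_, ?_, ?_⟩
    · intro h
      apply ha1
      have e : a = x⁻¹ * (x * a * x⁻¹) * x := by group
      rw [e, h]
      group
    · exact (mem_normalizer_iff.mp
        (Cfsg.Agent.Lib.helper71.BGA.le_normalizer_sigmaCore M hx) y).mp hy
    · intro h
      apply hy1
      have e : y = x⁻¹ * (x * y * x⁻¹) * x := by group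
      rw [e, h]
      group
    · calc x * a * x⁻¹ * (x * y * x⁻¹) = x * (a * y) * x⁻¹ := by group
        _ = x * (y * a) * x⁻¹ := by rw [hay]
        _ = x * y * x⁻¹ * (x * a * x⁻¹) := by group
  · -- fusion
    intro a ha g hg
    by_cases haσ : a ∈ sigmaCore M
    · obtain ⟨-, R, -, hcompl, huniq⟩ := Cfsg.Agent.S1374.result hG M hM a haσ ha.2.1
      have hmem : a ∈ M.map (MulAut.conj g⁻¹).toMonoidHom :=
        ⟨g * a * g⁻¹, hg.1, by show g⁻¹ * (g * a * g⁻¹) * g⁻¹⁻¹ = a; group⟩
      obtain ⟨r, ⟨hrR, hrM⟩, -⟩ := huniq g⁻¹ hmem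
      have hrc : r ∈ centralizer ({a} : Set G) := hcompl.2.1 hrR
      have hgr : g * r ∈ M := by
        have h1 : M.map (MulAut.conj (g * r)).toMonoidHom = M := by
          have e1 : M.map (MulAut.conj (g * r)).toMonoidHom =
              (M.map (MulAut.conj r).toMonoidHom).map (MulAut.conj g).toMonoidHom := by
            rw [Subgroup.map_map]
            congr 1
            ext z
            show g * r * z * (g * r)⁻¹ = g * (r * z * r⁻¹) * g⁻¹
            group
          rw [e1, hrM, Subgroup.map_map]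
          have e2 : (MulAut.conj g).toMonoidHom.comp (MulAut.conj g⁻¹).toMonoidHom =
              MonoidHom.id G := by
            ext z
            show g * (g⁻¹ * z * g⁻¹⁻¹) * g⁻¹ = z
            group
          rw [e2, Subgroup.map_id]
        have h2 := (Cfsg.Agent.Lib.helper28.map_conj_eq_self_iff_mem_normalizer (g * r) M).mp h1
        rwa [hNM] at h2
      refine ⟨g * r, hgr, ?_⟩
      have hra : a * r = r * a := mem_centralizer_iff.mp hrc a rfl
      calc g * r * a * (g * r)⁻¹ = g * (r * a) * r⁻¹ * g⁻¹ := by group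
        _ = g * (a * r) * r⁻¹ * g⁻¹ := by rw [hra]
        _ = g * a * g⁻¹ := by group
    · obtain ⟨y, hy, hy1, hay⟩ := ha.2.2
      obtain ⟨q, hq, hqσ, hao⟩ := exists_pow_prime hG M hM ha.1 haσ
      have hcu := cent_unique_of_prime hG M hM hκ (M.pow_mem ha.1 _) hq hqσ hao hy hy1
        ((show Commute a y from hay).pow_left _).eq
      obtain ⟨y₂, hy₂, hy₂1, hby⟩ := hg.2.2
      have hb' : (g * a * g⁻¹) ^ (orderOf a / q) = g * a ^ (orderOf a / q) * g⁻¹ := conj_pow
      have hbo : orderOf (g * a ^ (orderOf a / q) * g⁻¹) = q := by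
        rw [orderOf_conj', hao]
      have hbM : g * a ^ (orderOf a / q) * g⁻¹ ∈ M := by
        rw [← hb']
        exact M.pow_mem hg.1 _
      have hbc : g * a ^ (orderOf a / q) * g⁻¹ * y₂ = y₂ * (g * a ^ (orderOf a / q) * g⁻¹) := by
        rw [← hb']
        exact ((show Commute (g * a * g⁻¹) y₂ from hby).pow_left _).eq
      have hbu := cent_unique_of_prime hG M hM hκ hbM hq hqσ hbo hy₂ hy₂1 hbc
      have h1 : centralizer ({g * a ^ (orderOf a / q) * g⁻¹} : Set G) ≤
          M.map (MulAut.conj g).toMonoidHom := by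
        rw [Cfsg.Agent.Lib.helper59.BGConj.centralizer_singleton_conj]
        exact Subgroup.map_mono hcu.1
      have h2 := hbu.2 _ (Cfsg.Agent.Lib.helper71.BGA.isCoatom_map_conj hM g) h1
      have h3 := (Cfsg.Agent.Lib.helper28.map_conj_eq_self_iff_mem_normalizer g M).mp h2
      rw [hNM] at h3
      exact ⟨g, h3, rfl⟩
  · -- inf_eq_bot
    intro a ha
    rcases supportR_struct hG M hM hκ ha with ⟨-, hs⟩ | ⟨-, -, N, -, -, hs, hcompl⟩
    · rw [hs, bot_inf_eq]
    · rw [hs, inf_comm]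
      exact hcompl.2.2.1
  · -- sup_eq
    intro a ha
    rcases supportR_struct hG M hM hκ ha with ⟨hle, hs⟩ | ⟨-, -, N, -, -, hs, hcompl⟩
    · rw [hs, bot_sup_eq]
      exact inf_eq_right.mpr hle
    · rw [hs]
      apply le_antisymm (sup_le inf_le_right inf_le_right)
      intro c hc
      obtain ⟨m, hm, n, hn, rfl⟩ := hcompl.2.2.2 c hc
      rw [sup_comm]
      exact Subgroup.mul_mem_sup hm hn
  · -- coprime
    intro a ha b hb
    rcases supportR_struct hG M hM hκ ha with ⟨-, hs⟩ | ⟨haσ, hc, N, hN, haN, hs, -⟩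
    · rw [hs, Subgroup.card_bot]
      exact Nat.coprime_one_left _
    · rw [hs]
      by_contra hnc
      obtain ⟨q, hq, hq1, hq2⟩ := Nat.Prime.not_coprime_iff_dvd.mp hnc
      have hqσN : q ∈ sigma N :=
        (Cfsg.Agent.S1350.result hG N hN).1.2.1 q hq
          (hq1.trans (Subgroup.card_dvd_of_le inf_le_left))
      have hqM : q ∣ Nat.card M := hq2.trans (Subgroup.card_dvd_of_le inf_le_left)
      by_cases hqσM : q ∈ sigma M
      · obtain ⟨g, hg⟩ := (Cfsg.Agent.S1378.result hG).2 M N hM hN ⟨q, hqσM, hqσN⟩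
        obtain ⟨r, A', hF⟩ :=
          Cfsg.Agent.Lib.helper28.BG1436.pairFacts hG M hM a haσ ha.2.1 hc N hN haN
        exact hF.hnc g hg
      · obtain ⟨-, hτ⟩ :=
          (Cfsg.Agent.S1436.result hG M hM a haσ ha.2.1 hc N hN haN).1 ⟨q, hqσN, hqM⟩
        obtain ⟨⟨K, hK⟩, hcyc⟩ := Cfsg.Agent.S1351.result hG M hM
        obtain ⟨⟨U, hKU⟩, -⟩ := Cfsg.Agent.S1352.result hG M hM K (hcyc K hK) hK
        have hUH := Cfsg.Agent.Lib.helper69.bgk_decomp_hall hHall hKU
        have hE : IsComplIn (U ⊔ K) (sigmaCore M) M :=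
          Cfsg.Agent.Lib.helper25.BG1367.compl_of_halls M K U hHall hKU.hall hUH hKU.normal
        have hfpf := Cfsg.Agent.Lib.helper88.BG1376.fpf_of_tau2_empty hG M hM (U ⊔ K) hE hκ hτ
        obtain ⟨hbM, hb1, y, hy, hy1, hby⟩ := hb
        have hbσ : b ∈ sigmaCore M := by
          by_contra hbσ
          obtain ⟨q₂, hq₂, hq₂σ, hbo⟩ := exists_pow_prime hG M hM hbM hbσ
          exact fpf_false hG M hM hκ K U (U ⊔ K) hKU le_sup_left hfpf (M.pow_mem hbM _) hq₂
            hq₂σ hbo hy hy1 ((show Commute b y from hby).pow_left _).eq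
        have hqF : Fact q.Prime := ⟨hq⟩
        obtain ⟨c, hco⟩ := exists_prime_orderOf_dvd_card'
          (G := ↥(M ⊓ centralizer ({b} : Set G))) q hq2
        have hcM : (c : G) ∈ M := (mem_inf.mp c.2).1
        have hcb : b * (c : G) = (c : G) * b := mem_centralizer_iff.mp (mem_inf.mp c.2).2 b rfl
        have hco' : orderOf (c : G) = q := by rw [Subgroup.orderOf_coe, hco]
        exact fpf_false hG M hM hκ K U (U ⊔ K) hKU le_sup_left hfpf hcM hq hqσM hco' hbσ hb1
          hcb.symm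

end Cfsg.Agent.Lib.helper8.BGDade
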