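import Mathlib
import Cfsg.Prelude.Def_Classical
import Cfsg.Prelude.Def_GeometricClasses
import Cfsg.Agent.Lib.helper17.CartanDieudonne
import Cfsg.Agent.Lib.helper42.FormsNondeg

/-!
S5977 / S5978, block [A], interface hypothesis `HSQ`: every square of an isometry lies in `Ω`
(Cartan–Dieudonné: the isometry group is generated by reflections, which are involutions, so the
abelianisation has exponent 2).
-/

set_option autoImplicit false

namespace Cfsg.Agent.Lib.helper8

open Cfsg Cfsg.Agent.Lib.helper17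

/-- In odd characteristic, the square of every isometry of a nondegenerate quadratic form lies in `Ω`. -/
theorem h8_sq_mem_omegaGL {ι : Type} [Fintype ι] [DecidableEq ι] {F : Type*} [Field F]
    (h2 : (2 : F) ≠ 0) (Q : QuadraticForm F (ι → F))
    (hQ : (QuadraticMap.polarBilin Q).Nondegenerate)
    (x : GL ι F) (hx : x ∈ Cfsg.isometryGroup F ⇑Q) : x * x ∈ Cfsg.Geo.omegaGL ⇑Q := by
  let φ : Cfsg.isometryGroup F ⇑Q →* Abelianization (Cfsg.isometryGroup F ⇑Q) := Abelianization.of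
  let S : Subgroup (Cfsg.isometryGroup F ⇑Q) := ((powMonoidHom 2).comp φ).ker
  have hS : reflSubgroup Q ≤ S := by
    unfold reflSubgroup
    rw [Subgroup.closure_le]
    rintro g ⟨v, hv, rfl⟩
    show ((powMonoidHom 2).comp φ) (reflectionIsom Q v hv) = 1
    simp only [MonoidHom.comp_apply, powMonoidHom_apply]
    rw [pow_two, ← map_mul, reflectionIsom_mul_self, map_one]
  have hxS : (⟨x, hx⟩ : Cfsg.isometryGroup F ⇑Q) ∈ S := hS (cartan_dieudonne h2 Q hQ ⟨x, hx⟩)
  have h1 : φ (⟨x, hx⟩ * ⟨x, hx⟩) = 1 := by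
    have h0 : ((powMonoidHom 2).comp φ) ⟨x, hx⟩ = 1 := hxS
    simp only [MonoidHom.comp_apply, powMonoidHom_apply] at h0
    rw [map_mul, ← pow_two]
    exact h0
  have h3 : (⟨x, hx⟩ * ⟨x, hx⟩ : Cfsg.isometryGroup F ⇑Q) ∈
      commutator (Cfsg.isometryGroup F ⇑Q) := by
    rw [← Abelianization.ker_of]
    exact h1
  exact ⟨_, h3, rfl⟩

/-- `HSQ` for the plus-type form. -/
theorem h8_hsq_plus {F : Type*} [Field F] (h2 : (2 : F) ≠ 0) (d : ℕ) :
    ∀ x ∈ Cfsg.isometryGroup F (Cfsg.quadFormPlus d F),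
      x * x ∈ Cfsg.Geo.omegaGL (Cfsg.quadFormPlus d F) :=
  fun x hx => h8_sq_mem_omegaGL h2 (Cfsg.Agent.Lib.helper49.plusForm d F)
    (Cfsg.Agent.Lib.helper42.plusForm_nondegenerate d) x hx

/-- `HSQ` for the minus-type form. -/
theorem h8_hsq_minus {F : Type*} [Field F] [Fintype F] (h2 : (2 : F) ≠ 0) (k : ℕ) (a b : F)
    (hab : ∀ x y : F, x ^ 2 + a * x * y + b * y ^ 2 = 0 → x = 0 ∧ y = 0) :
    ∀ x ∈ Cfsg.isometryGroup F (Cfsg.quadFormMinus k F a b),
      x * x ∈ Cfsg.Geo.omegaGL (Cfsg.quadFormMinus k F a b) :=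
  fun x hx => h8_sq_mem_omegaGL h2 (Cfsg.Agent.Lib.helper49.minusForm k F a b)
    (Cfsg.Agent.Lib.helper42.minusForm_nondegenerate k a b hab) x hx

end Cfsg.Agent.Lib.helper8
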