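import Mathlib
import Cfsg.Agent.Lib.helper52.BrAlABCE

/-!
S4504, R sub-split, piece R08 (helper8 racing copy): with `p + 1` Sylow `p`-subgroups, the
`p`-regular elements of `C_G(P)` are central as soon as `C_G(normalClosure {x}) ≤ Z(G)`.
-/

set_option autoImplicit false

open Cfsg

namespace Cfsg.Agent.Lib.helper2.BG

universe u

/-- R8 (V5). -/
theorem h8_R_cent_central {G : Type u} [Group G] [Finite G] (p : ℕ) [Fact p.Prime]
    (hnn : ∀ H : Subgroup G, H.Normal → Nat.card H ≠ p) (P : Sylow p G)
    (hP : Nat.card P = p) (hn : Nat.card (Sylow p G) = p + 1) (x : G)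
    (hx : x ∈ (P : Subgroup G)) (hx1 : x ≠ 1)
    (hcent : Subgroup.centralizer ((Subgroup.normalClosure ({x} : Set G) : Subgroup G) : Set G) ≤
      Subgroup.center G) :
    ∀ k ∈ Subgroup.centralizer ((P : Subgroup G) : Set G), ¬ p ∣ orderOf k →
      k ∈ Subgroup.center G := by
  classical
  have hp : p.Prime := Fact.out
  have hn' : Nat.card (Sylow p G) = 1 + p := by rw [hn, add_comm]
  intro k hk hkp
  have hcardQ : ∀ Q : Sylow p G, Nat.card Q = p := fun Q =>
    (Q.card_eq_multiplicity.trans P.card_eq_multiplicity.symm).trans hP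
  -- Step 1: `k` fixes every Sylow `p`-subgroup
  have hkP : k • P = P :=
    Sylow.smul_eq_iff_mem_normalizer.mpr (Subgroup.centralizer_le_normalizer _ hk)
  have hfix : ∀ Q : Sylow p G, k • Q = Q := by
    intro Q
    by_cases hQ : Q = P
    · rw [hQ]; exact hkP
    have hkQ : k • Q ≠ P := by
      intro h
      apply hQ
      exact smul_left_cancel k (h.trans hkP.symm)
    obtain ⟨u, hu, -⟩ := Cfsg.Agent.Lib.helper52.BrAl.al_reg P hP hn' Q (k • Q) hQ hkQ
    have hcomm : ∀ j : ℕ, k * (u : G) ^ j = (u : G) ^ j * k := by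
      intro j
      have huP : (u : G) ^ j ∈ (P : Subgroup G) := (P : Subgroup G).pow_mem u.2 j
      exact ((Subgroup.mem_centralizer_iff.1 hk) _ huP).symm
    have hpow : ∀ j : ℕ, k ^ j • Q = (u : G) ^ j • Q := by
      intro j
      induction j with
      | zero => simp
      | succ j ih =>
        rw [pow_succ', mul_smul, ih, ← mul_smul, hcomm j, mul_smul, ← hu, ← mul_smul, ← pow_succ]
    have h1 := hpow (orderOf k)
    rw [pow_orderOf_eq_one, one_smul] at h1
    have hu1 : (u : G) ^ orderOf k = 1 := by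
      by_contra hne
      exact hQ (Cfsg.Agent.Lib.helper52.BrAl.al_fix P hP _
        ((P : Subgroup G).pow_mem u.2 _) hne Q h1.symm)
    have hou : orderOf (u : G) ∣ orderOf k := orderOf_dvd_of_pow_eq_one hu1
    have hou2 : orderOf (u : G) ∣ p := by
      have h0 := Subgroup.orderOf_dvd_natCard (P : Subgroup G) u.2
      have hP' : Nat.card (P : Subgroup G) = p := hP
      rwa [hP'] at h0
    have hu_one : (u : G) = 1 := by
      rcases (Nat.dvd_prime hp).1 hou2 with h | h
      · exact orderOf_eq_one_iff.1 h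
      · exact absurd (h ▸ hou) hkp
    rw [← hu, hu_one, one_smul]
  -- Step 2: `k` commutes with every conjugate of `x`
  have hconj : ∀ g : G, k * (g * x * g⁻¹) = (g * x * g⁻¹) * k := by
    intro g
    set y := g * x * g⁻¹ with hy
    have hyQ : y ∈ ((g • P : Sylow p G) : Subgroup G) := by
      rw [Sylow.coe_subgroup_smul]
      have := Subgroup.smul_mem_pointwise_smul x (MulAut.conj g) _ hx
      simpa [MulAut.smul_def, hy] using this
    set Q : Sylow p G := g • P with hQdef
    -- the commutator `c = k y k⁻¹ y⁻¹`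
    have hkN : k ∈ Subgroup.normalizer ((Q : Subgroup G) : Set G) :=
      Sylow.smul_eq_iff_mem_normalizer.mp (hfix Q)
    have hcQ : k * y * k⁻¹ * y⁻¹ ∈ (Q : Subgroup G) :=
      (Q : Subgroup G).mul_mem ((Subgroup.mem_normalizer_iff.1 hkN y).1 hyQ)
        ((Q : Subgroup G).inv_mem hyQ)
    have hcfix : ∀ R : Sylow p G, (k * y * k⁻¹ * y⁻¹) • R = R := by
      intro R
      have h1 : k⁻¹ • (y⁻¹ • R) = y⁻¹ • R := by
        rw [inv_smul_eq_iff]; exact (hfix _).symm
      rw [mul_smul, mul_smul, mul_smul, h1, smul_inv_smul, hfix]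
    obtain ⟨R, hR⟩ : ∃ R : Sylow p G, R ≠ Q := by
      have : Nontrivial (Sylow p G) := by
        apply (Finite.one_lt_card_iff_nontrivial).1
        rw [hn]
        have := hp.two_le
        omega
      exact exists_ne Q
    have hc1 : k * y * k⁻¹ * y⁻¹ = 1 := by
      by_contra hne
      exact hR (Cfsg.Agent.Lib.helper52.BrAl.al_fix Q (hcardQ Q) _ hcQ hne R (hcfix R))
    calc k * y = (k * y * k⁻¹ * y⁻¹) * (y * k) := by group
      _ = y * k := by rw [hc1, one_mul]
  -- Step 3
  apply hcent
  rw [Subgroup.mem_centralizer_iff]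
  intro h hh
  have hle : Subgroup.normalClosure ({x} : Set G) ≤ Subgroup.centralizer ({k} : Set G) := by
    rw [Subgroup.normalClosure]
    rw [Subgroup.closure_le]
    intro a ha
    rw [Group.mem_conjugatesOfSet_iff] at ha
    obtain ⟨b, hb, hba⟩ := ha
    rw [Set.mem_singleton_iff] at hb
    subst hb
    obtain ⟨c, rfl⟩ := isConj_iff.1 hba
    show _ ∈ Subgroup.centralizer ({k} : Set G)
    rw [Subgroup.mem_centralizer_iff]
    intro m hm
    rw [Set.mem_singleton_iff] at hm
    subst hm
    exact hconj c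
  have := (Subgroup.mem_centralizer_iff.1 (hle hh)) k (Set.mem_singleton k)
  exact this.symm

end Cfsg.Agent.Lib.helper2.BG
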