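import Mathlib
import Cfsg.Agent.Lib.helper40.BGO00

/-!
S4504, R sub-split, piece R13 (helper8 racing copy): normalizer and number of Sylow subgroups in
`G / Z(G)`.
-/

set_option autoImplicit false

open Cfsg

namespace Cfsg.Agent.Lib.helper2.BG

universe u

/-- a central subgroup of order `p` would be normal: the centre is a `p'`-group. -/
theorem h8_center_pprime {G : Type u} [Group G] [Finite G] (p : ℕ) [Fact p.Prime]
    (hnn : ∀ H : Subgroup G, H.Normal → Nat.card H ≠ p) :
    ∀ z ∈ Subgroup.center G, ¬ p ∣ orderOf z := by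
  intro z hz hdvd
  obtain ⟨m, hm⟩ := hdvd
  have hp : p.Prime := Fact.out
  have hzpos : 0 < orderOf z := orderOf_pos z
  have hm0 : m ≠ 0 := by
    rintro rfl
    rw [mul_zero] at hm
    omega
  have hw : orderOf (z ^ m) = p := by
    rw [orderOf_pow' z hm0, hm, Nat.gcd_mul_left_left, Nat.mul_div_cancel _ (Nat.pos_of_ne_zero hm0)]
  have hwZ : z ^ m ∈ Subgroup.center G := (Subgroup.center G).pow_mem hz m
  have hnorm : (Subgroup.zpowers (z ^ m)).Normal := by
    refine ⟨fun n hn g => ?_⟩
    have hnZ : n ∈ Subgroup.center G := (Subgroup.zpowers_le.2 hwZ) hn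
    have : g * n * g⁻¹ = n := by
      rw [(Subgroup.mem_center_iff.1 hnZ g), mul_inv_cancel_right]
    rw [this]; exact hn
  exact hnn _ hnorm (by rw [Nat.card_zpowers, hw])

theorem h8_relIndex_mul_card {G : Type u} [Group G] {H K : Subgroup G} (h : H ≤ K) :
    H.relIndex K * Nat.card H = Nat.card K := by
  have h1 := Subgroup.card_mul_index (H.subgroupOf K)
  have h2 : Nat.card (H.subgroupOf K) = Nat.card H :=
    Nat.card_congr (Subgroup.subgroupOfEquivOfLe h).toEquiv
  rw [h2] at h1
  show (H.subgroupOf K).index * _ = _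
  rw [mul_comm]; exact h1

/-- R13 (V7b): normalizer and number of Sylow subgroups in `G / Z(G)`. -/
theorem h8_R_quot_norm {G : Type u} [Group G] [Finite G] (p : ℕ) [Fact p.Prime]
    (hnn : ∀ H : Subgroup G, H.Normal → Nat.card H ≠ p) (P : Sylow p G)
    (hP : Nat.card P = p)
    (hK : ∀ k ∈ Subgroup.centralizer ((P : Subgroup G) : Set G), ¬ p ∣ orderOf k →
      k ∈ Subgroup.center G) (d : ℕ)
    (hd : (Subgroup.centralizer ((P : Subgroup G) : Set G)).relIndex
      (Subgroup.normalizer ((P : Subgroup G) : Set G)) = d)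
    (hn : Nat.card (Sylow p G) = p + 1) (Q : Sylow p (G ⧸ Subgroup.center G))
    (hQ : (Q : Subgroup (G ⧸ Subgroup.center G)) =
      (P : Subgroup G).map (QuotientGroup.mk' (Subgroup.center G))) :
    Nat.card (Subgroup.normalizer ((Q : Subgroup (G ⧸ Subgroup.center G)) :
        Set (G ⧸ Subgroup.center G))) = d * p ∧
      Nat.card (Sylow p (G ⧸ Subgroup.center G)) = p + 1 := by
  classical
  have hp : p.Prime := Fact.out
  have hZ := h8_center_pprime p hnn
  let _ : Fintype G := Fintype.ofFinite G
  have hcc := (card_centralizer p P hP hK hZ).1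
  have hπ : Function.Surjective (QuotientGroup.mk' (Subgroup.center G)) :=
    QuotientGroup.mk'_surjective _
  have hpowP : ∀ x ∈ (P : Subgroup G), x ^ p = 1 := by
    intro x hx
    have h1 := orderOf_dvd_natCard (⟨x, hx⟩ : ↥(P : Subgroup G))
    rw [hP, Subgroup.orderOf_mk] at h1
    exact orderOf_dvd_iff_pow_eq_one.1 h1
  -- key claim: a `p`-torsion element whose image lies in `Q` lies in `P`
  have key : ∀ y : G, QuotientGroup.mk' (Subgroup.center G) y ∈ (Q : Subgroup (G ⧸ Subgroup.center G)) →
      y ^ p = 1 → y ∈ (P : Subgroup G) := by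
    intro y hy hyp
    rw [hQ] at hy
    obtain ⟨x, hx, hxy⟩ := Subgroup.mem_map.1 hy
    have hz : x⁻¹ * y ∈ Subgroup.center G := by
      have := hxy
      rw [QuotientGroup.mk'_apply, QuotientGroup.mk'_apply, QuotientGroup.eq] at this
      exact this
    have hcomm : Commute x (x⁻¹ * y) := (Subgroup.mem_center_iff.1 hz) x
    have hyx : y = x * (x⁻¹ * y) := by group
    have hzp : (x⁻¹ * y) ^ p = 1 := by
      have h1 : y ^ p = x ^ p * (x⁻¹ * y) ^ p := by
        conv_lhs => rw [hyx]
        exact hcomm.mul_pow p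
      rw [hyp, hpowP x hx, one_mul] at h1
      exact h1.symm
    have hz1 : x⁻¹ * y = 1 := by
      have hdv : orderOf (x⁻¹ * y) ∣ p := orderOf_dvd_of_pow_eq_one hzp
      rcases (Nat.dvd_prime hp).1 hdv with h1 | h1
      · exact orderOf_eq_one_iff.1 h1
      · exact absurd (h1 ▸ dvd_rfl) (hZ _ hz)
    have : y = x := by rw [hyx, hz1, mul_one]
    rw [this]; exact hx
  -- the normalizer of `Q` pulls back to the normalizer of `P`
  have hcomap : (Subgroup.normalizer ((Q : Subgroup (G ⧸ Subgroup.center G)) :
        Set (G ⧸ Subgroup.center G))).comap (QuotientGroup.mk' (Subgroup.center G)) =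
      Subgroup.normalizer ((P : Subgroup G) : Set G) := by
    ext g
    rw [Subgroup.mem_comap]
    constructor
    · intro hg
      have hg' := Subgroup.inv_mem _ hg
      rw [Subgroup.mem_normalizer_iff] at hg hg' ⊢
      have hfwd : ∀ (g : G), (∀ h, h ∈ (Q : Subgroup (G ⧸ Subgroup.center G)) ↔
          QuotientGroup.mk' (Subgroup.center G) g * h * (QuotientGroup.mk' (Subgroup.center G) g)⁻¹ ∈
            (Q : Subgroup (G ⧸ Subgroup.center G))) →
          ∀ x ∈ (P : Subgroup G), g * x * g⁻¹ ∈ (P : Subgroup G) := by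
        intro g hg x hx
        apply key
        · have hxQ : QuotientGroup.mk' (Subgroup.center G) x ∈ (Q : Subgroup (G ⧸ Subgroup.center G)) := by
            rw [hQ]; exact Subgroup.mem_map_of_mem _ hx
          have := (hg _).1 hxQ
          simpa using this
        · rw [conj_pow, hpowP x hx, mul_one, mul_inv_cancel]
      intro x
      constructor
      · exact hfwd g hg x
      · intro hx
        have hg'' : ∀ h, h ∈ (Q : Subgroup (G ⧸ Subgroup.center G)) ↔
            QuotientGroup.mk' (Subgroup.center G) g⁻¹ * h *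
              (QuotientGroup.mk' (Subgroup.center G) g⁻¹)⁻¹ ∈
              (Q : Subgroup (G ⧸ Subgroup.center G)) := by
          intro h
          have := hg' h
          simpa using this
        have := hfwd g⁻¹ hg'' _ hx
        simpa [mul_assoc] using this
    · intro hg
      have hg' := Subgroup.inv_mem _ hg
      rw [Subgroup.mem_normalizer_iff] at hg hg' ⊢
      have hfwd : ∀ (g : G), (∀ x, x ∈ (P : Subgroup G) ↔ g * x * g⁻¹ ∈ (P : Subgroup G)) →
          ∀ h ∈ (Q : Subgroup (G ⧸ Subgroup.center G)),
            QuotientGroup.mk' (Subgroup.center G) g * h * (QuotientGroup.mk' (Subgroup.center G) g)⁻¹ ∈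
              (Q : Subgroup (G ⧸ Subgroup.center G)) := by
        intro g hg h hh
        rw [hQ] at hh ⊢
        obtain ⟨x, hx, rfl⟩ := Subgroup.mem_map.1 hh
        refine Subgroup.mem_map.2 ⟨g * x * g⁻¹, (hg x).1 hx, ?_⟩
        simp
      intro h
      constructor
      · exact hfwd g hg h
      · intro hh
        have := hfwd g⁻¹ hg' _ hh
        simpa [mul_assoc] using this
  -- indices
  have hidx : (Subgroup.normalizer ((Q : Subgroup (G ⧸ Subgroup.center G)) :
        Set (G ⧸ Subgroup.center G))).index =
      (Subgroup.normalizer ((P : Subgroup G) : Set G)).index := by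
    rw [← hcomap, Subgroup.index_comap_of_surjective _ hπ]
  have hsP : (Subgroup.normalizer ((P : Subgroup G) : Set G)).index = p + 1 := by
    have h0 := Sylow.card_eq_index_normalizer P
    rw [hn] at h0
    exact h0.symm
  have hsQ : Nat.card (Sylow p (G ⧸ Subgroup.center G)) = p + 1 := by
    have h0 := Sylow.card_eq_index_normalizer Q
    rw [h0]
    exact hidx.trans hsP
  refine ⟨?_, hsQ⟩
  have h1 := Subgroup.card_mul_index (Subgroup.normalizer ((Q : Subgroup (G ⧸ Subgroup.center G)) :
        Set (G ⧸ Subgroup.center G)))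
  have h2 := Subgroup.card_eq_card_quotient_mul_card_subgroup (Subgroup.center G)
  have h3 := Subgroup.card_mul_index (Subgroup.normalizer ((P : Subgroup G) : Set G))
  have h4 : d * Nat.card (Subgroup.centralizer ((P : Subgroup G) : Set G)) =
      Nat.card (Subgroup.normalizer ((P : Subgroup G) : Set G)) := by
    rw [← hd]
    exact h8_relIndex_mul_card (Subgroup.centralizer_le_normalizer _)
  rw [hidx, hsP] at h1
  rw [hsP] at h3
  have hZpos : 0 < Nat.card (Subgroup.center G) := Nat.card_pos
  have hfin : Nat.card (Subgroup.normalizer ((Q : Subgroup (G ⧸ Subgroup.center G)) :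
        Set (G ⧸ Subgroup.center G))) * ((p + 1) * Nat.card (Subgroup.center G)) =
      d * p * ((p + 1) * Nat.card (Subgroup.center G)) := by
    calc Nat.card (Subgroup.normalizer ((Q : Subgroup (G ⧸ Subgroup.center G)) :
          Set (G ⧸ Subgroup.center G))) * ((p + 1) * Nat.card (Subgroup.center G))
        = Nat.card (G ⧸ Subgroup.center G) * Nat.card (Subgroup.center G) := by
          rw [← h1]; ring
      _ = Nat.card G := h2.symm
      _ = Nat.card (Subgroup.normalizer ((P : Subgroup G) : Set G)) * (p + 1) := h3.symm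
      _ = d * p * ((p + 1) * Nat.card (Subgroup.center G)) := by
          rw [← h4, hcc]; ring
  exact Nat.eq_of_mul_eq_mul_right (by positivity) hfin

end Cfsg.Agent.Lib.helper2.BG
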