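import Mathlib
import Cfsg.Agent.Lib.helper8.BGT3Main
import Cfsg.Agent.Lib.helper87.BGOC2
import Cfsg.Agent.Lib.helper86.BGNA
import Cfsg.Agent.S1378

/-!
# S1430 (O-c): `T3Hyp M` for every maximal subgroup `M` with a prime in `κ(M) ∩ τ₃(M)` (helper8)

Final assembly: pieces A, B, C, X, E3, K1--K5, Z (see `BGT3Main`) and helper87's `killA`
(Lemma Y of helper28's route; inputs `NAHyp`, the `σ`-partition S1378 and the asymmetry lemma).
-/

set_option autoImplicit false
open Cfsg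

namespace Cfsg.Agent.Lib.helper8.BGT3

variable {G : Type*} [Group G]

theorem t3_main_killA [Finite G] (hG : IsMinSimpleOddOrder G) : HKillA G :=
  Cfsg.Agent.Lib.helper87.BGOC.killA hG (Cfsg.Agent.Lib.helper86.BGNA.naHyp hG)
    (Cfsg.Agent.S1378.result hG).2 (Cfsg.Agent.Lib.helper70.asHyp hG) (t3_main_norm hG)
    (t3_main_H hG) (t3_main_tau2 hG) (t3_main_cross hG) (t3_main_E3 hG)

/-- **(O-c)**: the `τ₃`-singular structure. -/
theorem t3Hyp [Finite G] (hG : IsMinSimpleOddOrder G) (M : Subgroup G) (hM : IsCoatom M)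
    (h : ∃ p ∈ kappa M, p ∈ tau3 M) : Cfsg.Agent.Lib.helper87.BG142.T3Hyp M :=
  t3Hyp_of_killA hG (t3_main_killA hG) M hM h

end Cfsg.Agent.Lib.helper8.BGT3
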