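import Mathlib
import Cfsg.Agent.Lib.helper8.BGTwelve
import Cfsg.Agent.Lib.helper37.CoprimeGen
import Cfsg.Agent.Lib.helper71.BGTenA

/-!
# B-G Theorem 12.? / nonabelian Sylow subgroups are uniqueness subgroups (towards S1422)

A nonabelian Sylow `p`-subgroup `S` of a minimal simple group of odd order whose normalizer lies
in two maximal subgroups forces them to be equal.  (The reduction of a general nonabelian
`p`-subgroup to this case is separate.)
-/

set_option autoImplicit false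

open Cfsg

namespace Cfsg.Agent.Lib.helper8

section abstract

variable {H : Type*} [Group H]

theorem bg_card_map_mk (Z A : Subgroup H) [Z.Normal] :
    Nat.card (A.map (QuotientGroup.mk' Z)) = Z.relIndex A := by
  have := Subgroup.relIndex_ker (K := A) (QuotientGroup.mk' Z)
  rw [QuotientGroup.ker_mk'] at this
  exact this.symm

/-- Coprime generation modulo a normal `p`-subgroup `Z`: if `A / Z` is elementary abelian of
order more than `p` and `A` normalizes the `p'`-subgroup `X`, then `X` lies in any subgroup `Y`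
containing the centralizers in `X` of the elements of `A` outside `Z`. -/
theorem bg_coprime_gen_mod [Finite H] (p : ℕ) [Fact p.Prime] (Z A X Y : Subgroup H) [Z.Normal]
    (hZp : IsPGroup p Z) (hZA : Z ≤ A)
    (hAc : ∀ a ∈ A, ∀ b ∈ A, a * b * a⁻¹ * b⁻¹ ∈ Z) (hAp : ∀ a ∈ A, a ^ p = 1)
    (hcard : p * Nat.card Z < Nat.card A) (hX : ¬ p ∣ Nat.card X)
    (hAX : A ≤ Subgroup.normalizer (X : Set H))
    (hY : ∀ w ∈ X, ∀ b ∈ A, b ∉ Z → w * b = b * w → w ∈ Y) : X ≤ Y := by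
  have hpp : p.Prime := Fact.out
  have hZX : ∀ z ∈ Z, z ∈ X → z = 1 := by
    intro z hz hzX
    obtain ⟨k, hk⟩ := hZp ⟨z, hz⟩
    have hk' : z ^ p ^ k = 1 := congrArg Subtype.val hk
    have h1 : orderOf z ∣ p ^ k := orderOf_dvd_of_pow_eq_one hk'
    have h2 : orderOf z ∣ Nat.card X := by
      have := orderOf_dvd_natCard (⟨z, hzX⟩ : X)
      rwa [Subgroup.orderOf_mk] at this
    have hcop : (Nat.card X).Coprime (p ^ k) :=
      ((Nat.Prime.coprime_iff_not_dvd hpp).mpr hX).symm.pow_right k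
    exact orderOf_eq_one_iff.mp (Nat.eq_one_of_dvd_coprimes hcop h2 h1)
  have hidx : p < Z.relIndex A := by
    have h1 := Subgroup.relIndex_mul_relIndex (⊥ : Subgroup H) Z A bot_le hZA
    rw [Subgroup.relIndex_bot_left, Subgroup.relIndex_bot_left] at h1
    rw [← h1, mul_comm] at hcard
    exact lt_of_mul_lt_mul_left hcard (Nat.zero_le _)
  have hgen := Cfsg.Agent.Lib.helper37.coprime_gen_hyperplane p (A.map (QuotientGroup.mk' Z))
    (X.map (QuotientGroup.mk' Z)) ?_ ?_ ?_ ?_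
  · have hle : X.map (QuotientGroup.mk' Z) ≤ (X ⊓ Y).map (QuotientGroup.mk' Z) := by
      rw [hgen]
      apply iSup_le
      rintro ⟨B, hBA, hBi⟩
      rintro w ⟨hwX, hwB⟩
      have hB1 : B ≠ ⊥ := by
        rintro rfl
        rw [Subgroup.relIndex_bot_left, bg_card_map_mk] at hBi
        omega
      obtain ⟨⟨b', hb'B⟩, hb'1⟩ := (Subgroup.ne_bot_iff_exists_ne_one.mp hB1)
      have hb'1' : b' ≠ 1 := fun h => hb'1 (Subtype.ext h)
      obtain ⟨b, hbA, rfl⟩ := hBA hb'B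
      obtain ⟨w₀, hw₀X, rfl⟩ := hwX
      have hbZ : b ∉ Z := fun h => hb'1' ((QuotientGroup.eq_one_iff b).mpr h)
      have hcomm : (QuotientGroup.mk' Z) b * (QuotientGroup.mk' Z) w₀ =
          (QuotientGroup.mk' Z) w₀ * (QuotientGroup.mk' Z) b :=
        Subgroup.mem_centralizer_iff.mp hwB _ hb'B
      have h3 : (w₀ * b)⁻¹ * (b * w₀) ∈ Z := by
        apply QuotientGroup.eq.mp
        have := hcomm
        rw [← map_mul, ← map_mul] at this
        exact this.symm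
      have h4 : (w₀ * b)⁻¹ * (b * w₀) ∈ X := by
        have hbn := hAX (A.inv_mem hbA)
        have h5 := (Subgroup.mem_normalizer_iff.mp hbn w₀⁻¹).mp (X.inv_mem hw₀X)
        have h6 : (w₀ * b)⁻¹ * (b * w₀) = b⁻¹ * w₀⁻¹ * b⁻¹⁻¹ * w₀ := by group
        rw [h6]
        exact X.mul_mem h5 hw₀X
      have h5 := hZX _ h3 h4
      have h6 : w₀ * b = b * w₀ := inv_mul_eq_one.mp h5
      exact ⟨w₀, ⟨hw₀X, hY w₀ hw₀X b hbA hbZ h6⟩, rfl⟩
    intro w hw
    obtain ⟨w₂, ⟨hw₂X, hw₂Y⟩, hw₂⟩ := hle ⟨w, hw, rfl⟩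
    have h7 : w₂⁻¹ * w ∈ Z := QuotientGroup.eq.mp hw₂
    have h8 := hZX _ h7 (X.mul_mem (X.inv_mem hw₂X) hw)
    have h9 : w₂ = w := inv_mul_eq_one.mp h8
    rw [← h9]
    exact hw₂Y
  · rintro _ ⟨a, ha, rfl⟩ _ ⟨b, hb, rfl⟩
    have h1 := (QuotientGroup.eq_one_iff (N := Z) _).mpr (hAc a ha b hb)
    have h2 : (QuotientGroup.mk' Z) a * (QuotientGroup.mk' Z) b * ((QuotientGroup.mk' Z) a)⁻¹ *
        ((QuotientGroup.mk' Z) b)⁻¹ = 1 := by
      rw [← map_inv, ← map_inv, ← map_mul, ← map_mul, ← map_mul]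
      exact h1
    exact mul_inv_eq_iff_eq_mul.mp (mul_inv_eq_one.mp h2)
  · rintro _ ⟨a, ha, rfl⟩
    rw [← map_pow, hAp a ha, map_one]
  · exact fun h => hX (h.trans (Subgroup.card_map_dvd _ _))
  · exact (Subgroup.map_mono hAX).trans (Subgroup.le_normalizer_map _)

/-- Conjugating by powers of `y` when the commutator `c = [y, x]` commutes with `y`. -/
theorem bg_conj_pow (x y c : H) (hc : y * x * y⁻¹ = c * x) (hcy : c * y = y * c) (k : ℕ) :
    y ^ k * x * (y ^ k)⁻¹ = c ^ k * x := by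
  induction k with
  | zero => simp
  | succ k ih =>
    have hck : c ^ k * y = y * c ^ k := by
      have : Commute c y := hcy
      exact (this.pow_left k).eq
    calc y ^ (k + 1) * x * (y ^ (k + 1))⁻¹ = y * (y ^ k * x * (y ^ k)⁻¹) * y⁻¹ := by
          rw [pow_succ']; group
      _ = y * (c ^ k * x) * y⁻¹ := by rw [ih]
      _ = (y * c ^ k) * x * y⁻¹ := by group
      _ = (c ^ k * y) * x * y⁻¹ := by rw [hck]
      _ = c ^ k * (y * x * y⁻¹) := by group
      _ = c ^ k * (c * x) := by rw [hc]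
      _ = c ^ (k + 1) * x := by rw [pow_succ]; group

end abstract

section main

variable {G : Type*} [Group G]

/-- The structure of a nonabelian Sylow `p`-subgroup `S` of rank two (B-G 10.7(c)), in the form
used below: `S₁` is the extraspecial part and `Z₀` its centre. -/
structure BGRankTwoData (p : ℕ) (S S₁ Z₀ : Subgroup G) : Prop where
  le : S₁ ≤ S
  Z_le : Z₀ ≤ S₁
  card_S₁ : Nat.card S₁ = p ^ 3
  exp : ∀ a ∈ S₁, a ^ p = 1
  card_Z : Nat.card Z₀ = p
  central : ∀ z ∈ Z₀, ∀ s ∈ S, z * s = s * z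
  comm : ∀ a ∈ S₁, ∀ b ∈ S₁, a * b * a⁻¹ * b⁻¹ ∈ Z₀
  noncentral : ∀ x ∈ S₁, x ∉ Z₀ → ∃ y ∈ S₁, y * x ≠ x * y
  char : Subgroup.normalizer (S : Set G) ≤ Subgroup.normalizer (Z₀ : Set G)

theorem bg_rankTwoData_of_statement [Finite G] (p : ℕ) [Fact p.Prime] (S P₁ P₂ Z₀ : Subgroup G)
    (hsup : P₁ ⊔ P₂ = S) (hcomm : ∀ a ∈ P₁, ∀ b ∈ P₂, a * b = b * a)
    (hnc : ¬ IsMulCommutative P₁) (hcard : Nat.card P₁ = p ^ 3) (hexp : Monoid.exponent P₁ = p)
    (hcyc : IsCyclic P₂)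
    (hcl : Subgroup.closure {x : G | x ∈ P₂ ∧ x ^ p = 1} = P₁ ⊓ Subgroup.centralizer (P₁ : Set G))
    (hZ₀ : Z₀ = P₁ ⊓ Subgroup.centralizer (P₁ : Set G)) :
    BGRankTwoData p S P₁ Z₀ := by
  have hpp : p.Prime := Fact.out
  have hcz := bg_comm_eq_center_of_card_cube p P₁ hcard hnc
  rw [← hZ₀] at hcz hcl
  have hZP₁ : Z₀ ≤ P₁ := hZ₀ ▸ inf_le_left
  have hZcent : ∀ z ∈ Z₀, ∀ a ∈ P₁, a * z = z * a := by
    intro z hz a ha
    rw [hZ₀] at hz
    exact Subgroup.mem_centralizer_iff.mp (Subgroup.mem_inf.mp hz).2 a ha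
  have hZP₂ : Z₀ ≤ P₂ := by
    rw [← hcl, Subgroup.closure_le]
    exact fun x hx => hx.1
  have hexp' : ∀ a ∈ P₁, a ^ p = 1 := by
    intro a ha
    have := Monoid.pow_exponent_eq_one (⟨a, ha⟩ : P₁)
    rw [hexp] at this
    exact congrArg Subtype.val this
  have hZ1 : Z₀ ≠ ⊥ := by
    intro h
    apply hnc
    rw [isMulCommutative_iff]
    intro a b
    have hc := Subgroup.commutator_mem_commutator a.2 b.2
    rw [hcz, h, Subgroup.mem_bot, commutatorElement_def] at hc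
    exact Subtype.ext (mul_inv_eq_iff_eq_mul.mp (mul_inv_eq_one.mp hc))
  have hcentral : ∀ z ∈ Z₀, ∀ s ∈ S, z * s = s * z := by
    intro z hz s hs
    have hle : S ≤ Subgroup.centralizer {z} := by
      rw [← hsup]
      apply sup_le
      · intro a ha
        rw [Subgroup.mem_centralizer_iff]
        rintro _ rfl
        exact (hZcent _ hz a ha).symm
      · intro b hb
        rw [Subgroup.mem_centralizer_iff]
        rintro _ rfl
        exact hcomm _ (hZP₁ hz) b hb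
    exact Subgroup.mem_centralizer_iff.mp (hle hs) z rfl
  refine ⟨?_, hZP₁, hcard, hexp', ?_, hcentral, ?_, ?_, ?_⟩
  · rw [← hsup]; exact le_sup_left
  · have hcycZ : IsCyclic Z₀ := Subgroup.isCyclic_of_le hZP₂
    obtain ⟨g, hg⟩ := hcycZ.exists_generator
    have h1 : Nat.card Z₀ = orderOf g := (orderOf_eq_card_of_forall_mem_zpowers hg).symm
    have h2 : orderOf g ∣ p := by
      apply orderOf_dvd_of_pow_eq_one
      exact Subtype.ext (by simpa using hexp' g (hZP₁ g.2))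
    rcases (Nat.dvd_prime hpp).mp h2 with h3 | h3
    · exfalso
      apply hZ1
      rw [h3] at h1
      exact Subgroup.card_eq_one.mp h1
    · rw [h1, h3]
  · intro a ha b hb
    have hc := Subgroup.commutator_mem_commutator ha hb
    rw [hcz, commutatorElement_def] at hc
    exact hc
  · intro x hx hxZ
    by_contra hcon
    push Not at hcon
    apply hxZ
    rw [hZ₀]
    refine Subgroup.mem_inf.mpr ⟨hx, ?_⟩
    rw [Subgroup.mem_centralizer_iff]
    exact fun y hy => hcon y hy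
  · have key : ∀ g ∈ Subgroup.normalizer (S : Set G), ∀ z ∈ Z₀, g * z * g⁻¹ ∈ Z₀ := by
      intro g hg z hz
      have hzS : z ∈ S := by rw [← hsup]; exact (le_sup_left : P₁ ≤ P₁ ⊔ P₂) (hZP₁ hz)
      have htS : g * z * g⁻¹ ∈ S := (Subgroup.mem_normalizer_iff.mp hg z).mp hzS
      have htc : ∀ s ∈ S, (g * z * g⁻¹) * s = s * (g * z * g⁻¹) := by
        intro s hs
        have hs' : g⁻¹ * s * g ∈ S := by
          have := (Subgroup.mem_normalizer_iff.mp (Subgroup.inv_mem _ hg) s).mp hs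
          simpa using this
        have h1 := hcentral z hz _ hs'
        calc g * z * g⁻¹ * s = g * (z * (g⁻¹ * s * g)) * g⁻¹ := by group
          _ = g * ((g⁻¹ * s * g) * z) * g⁻¹ := by rw [h1]
          _ = s * (g * z * g⁻¹) := by group
      have htp : (g * z * g⁻¹) ^ p = 1 := by
        rw [conj_pow, hexp' z (hZP₁ hz)]
        group
      obtain ⟨a, ha, b, hb, hab⟩ :=
        Cfsg.Agent.Lib.helper40.exists_mul_of_mem_sup_of_commute hcomm (hsup ▸ htS)
      have haZ : a ∈ Z₀ := by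
        rw [hZ₀]
        refine Subgroup.mem_inf.mpr ⟨ha, ?_⟩
        rw [Subgroup.mem_centralizer_iff]
        intro c hc
        have hcS : c ∈ S := by rw [← hsup]; exact (le_sup_left : P₁ ≤ P₁ ⊔ P₂) hc
        have h1 := htc c hcS
        rw [hab] at h1
        have h2 := hcomm c hc b hb
        have h3 : a * c * b = c * a * b := by
          calc a * c * b = a * (c * b) := by group
            _ = a * (b * c) := by rw [h2]
            _ = a * b * c := by group
            _ = c * (a * b) := h1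
            _ = c * a * b := by group
        exact (mul_right_cancel h3).symm
      have htP₂ : g * z * g⁻¹ ∈ P₂ := by
        rw [hab]
        exact P₂.mul_mem (hZP₂ haZ) hb
      rw [← hcl]
      exact Subgroup.subset_closure ⟨htP₂, htp⟩
    intro g hg
    rw [Subgroup.mem_normalizer_iff]
    intro z
    constructor
    · exact fun hz => key g hg z hz
    · intro hz
      have := key g⁻¹ (Subgroup.inv_mem _ hg) _ hz
      have h2 : g⁻¹ * (g * z * g⁻¹) * g⁻¹⁻¹ = z := by group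
      rwa [h2] at this

theorem bg_rankTwo_elemAb [Finite G] {p : ℕ} [Fact p.Prime] {S S₁ Z₀ : Subgroup G}
    (hD : BGRankTwoData p S S₁ Z₀) (x : G) (hx : x ∈ S₁) (hxZ : x ∉ Z₀) :
    Z₀ ⊔ Subgroup.zpowers x ≤ S₁ ∧ IsElementaryAbelian p (Z₀ ⊔ Subgroup.zpowers x) ∧
      Nat.card ↥(Z₀ ⊔ Subgroup.zpowers x) = p ^ 2 := by
  have hpp : p.Prime := Fact.out
  have hle : Z₀ ⊔ Subgroup.zpowers x ≤ S₁ := sup_le hD.Z_le (Subgroup.zpowers_le.mpr hx)
  have hZel : IsElementaryAbelian p Z₀ := by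
    rw [bg_elemAb_iff]
    exact ⟨fun a ha b hb => hD.central a ha b (hD.le (hD.Z_le hb)),
      fun a ha => hD.exp a (hD.Z_le ha)⟩
  have hxel : IsElementaryAbelian p (Subgroup.zpowers x) := by
    rw [bg_elemAb_iff]
    refine ⟨?_, fun a ha => hD.exp a (Subgroup.zpowers_le.mpr hx ha)⟩
    rintro _ ⟨i, rfl⟩ _ ⟨j, rfl⟩
    exact (Commute.zpow_zpow_self x i j).eq
  have hel : IsElementaryAbelian p (Z₀ ⊔ Subgroup.zpowers x) :=
    bg_elemAb_sup Z₀ (Subgroup.zpowers x) hZel hxel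
      (fun z hz y hy => hD.central z hz y (hD.le (Subgroup.zpowers_le.mpr hx hy)))
  refine ⟨hle, hel, ?_⟩
  have hAp : IsPGroup p ↥(Z₀ ⊔ Subgroup.zpowers x) := (IsPGroup.of_card hD.card_S₁).to_le hle
  obtain ⟨k, hk⟩ := IsPGroup.iff_card.mp hAp
  have hk3 : p ^ k ∣ p ^ 3 := by
    rw [← hk, ← hD.card_S₁]
    exact Subgroup.card_dvd_of_le hle
  have hkle : k ≤ 3 := (Nat.pow_dvd_pow_iff_le_right hpp.one_lt).mp hk3
  have hk_ne3 : k ≠ 3 := by
    intro h
    have heq : Z₀ ⊔ Subgroup.zpowers x = S₁ :=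
      Subgroup.eq_of_le_of_card_ge hle (by rw [hk, h, hD.card_S₁])
    obtain ⟨y, hy, hyx⟩ := hD.noncentral x hx hxZ
    apply hyx
    have hy' : y ∈ Z₀ ⊔ Subgroup.zpowers x := heq ▸ hy
    have hx' : x ∈ Z₀ ⊔ Subgroup.zpowers x :=
      (le_sup_right : Subgroup.zpowers x ≤ Z₀ ⊔ Subgroup.zpowers x) (Subgroup.mem_zpowers x)
    exact ((bg_elemAb_iff _).mp hel).1 y hy' x hx'
  have hk_ge2 : 2 ≤ k := by
    by_contra hlt
    have hk1 : k ≤ 1 := by omega
    have hcardle : Nat.card ↥(Z₀ ⊔ Subgroup.zpowers x) ≤ Nat.card Z₀ := by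
      rw [hk, hD.card_Z]
      calc p ^ k ≤ p ^ 1 := Nat.pow_le_pow_right hpp.pos hk1
        _ = p := pow_one p
    have heq : Z₀ = Z₀ ⊔ Subgroup.zpowers x := Subgroup.eq_of_le_of_card_ge le_sup_left hcardle
    apply hxZ
    rw [heq]
    exact (le_sup_right : Subgroup.zpowers x ≤ Z₀ ⊔ Subgroup.zpowers x) (Subgroup.mem_zpowers x)
  have : k = 2 := by omega
  rw [hk, this]

theorem bg_center_eq_bot [Finite G] (hG : IsMinSimpleOddOrder G) : Subgroup.center G = ⊥ := by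
  obtain ⟨-, hsimple, hna, -⟩ := id hG
  have := hsimple
  have hZn : (Subgroup.center G).Normal := inferInstance
  rcases hZn.eq_bot_or_eq_top with h1 | h1
  · exact h1
  · exfalso
    apply hna
    rw [isMulCommutative_iff]
    intro a b
    have ha : a ∈ Subgroup.center G := h1 ▸ Subgroup.mem_top a
    exact (Subgroup.mem_center_iff.mp ha b).symm

/-- `C_G(Z₀) ≤ M` for every maximal subgroup `M` containing `N_G(S)`. -/
theorem bg_rank_two_cent_le [Finite G] (hG : IsMinSimpleOddOrder G) (hL : BGPLenHyp G)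
    (h16 : BGTwelveFourHyp G) (p : ℕ) [Fact p.Prime] (S : Sylow p G) (S₁ Z₀ : Subgroup G)
    (hD : BGRankTwoData p (S : Subgroup G) S₁ Z₀) (M : Subgroup G) (hM : IsCoatom M)
    (hNM : Subgroup.normalizer ((S : Subgroup G) : Set G) ≤ M) :
    Subgroup.centralizer (Z₀ : Set G) ≤ M := by
  have hpp : p.Prime := Fact.out
  have hSM : (S : Subgroup G) ≤ M := Subgroup.le_normalizer.trans hNM
  have hZfin : Finite Z₀ := inferInstance
  have hZ1 : Z₀ ≠ ⊥ := by
    intro h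
    have := hD.card_Z
    rw [h, Subgroup.card_bot] at this
    exact hpp.one_lt.ne this
  set C := Subgroup.centralizer (Z₀ : Set G) with hC
  have hSC : (S : Subgroup G) ≤ C := by
    intro s hs
    rw [hC, Subgroup.mem_centralizer_iff]
    intro z hz
    exact hD.central z hz s hs
  have hCtop : C ≠ ⊤ := by
    intro h
    rw [hC, Subgroup.centralizer_eq_top_iff_subset, bg_center_eq_bot hG] at h
    exact hZ1 (le_bot_iff.mp h)
  have hplen : PLengthLE p 1 ↥C := hL p hpp C hCtop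
  obtain ⟨K, hKn, hKcop, hNK⟩ := Cfsg.Agent.S1461.exists_K p hplen (S.subtype hSC)
  have := hKn
  have hZC : Z₀ ≤ C := (hD.Z_le.trans hD.le).trans hSC
  have hS₁C : S₁ ≤ C := hD.le.trans hSC
  have hZn : (Z₀.subgroupOf C).Normal := by
    constructor
    intro z hz c
    rw [Subgroup.mem_subgroupOf] at hz ⊢
    have h1 := Subgroup.mem_centralizer_iff.mp c.2 (z : G) hz
    have h2 : ((c * z * c⁻¹ : C) : G) = (z : G) := by
      rw [Subgroup.coe_mul, Subgroup.coe_mul, Subgroup.coe_inv, ← h1]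
      group
    rw [h2]
    exact hz
  have hKM : K ≤ M.subgroupOf C := by
    apply bg_coprime_gen_mod p (Z₀.subgroupOf C) (S₁.subgroupOf C) K (M.subgroupOf C)
    · exact (IsPGroup.of_card (n := 1) (by rw [pow_one]; exact hD.card_Z)).comap_of_injective
        C.subtype C.subtype_injective
    · exact fun z hz => Subgroup.mem_subgroupOf.mpr (hD.Z_le (Subgroup.mem_subgroupOf.mp hz))
    · intro a ha b hb
      rw [Subgroup.mem_subgroupOf] at ha hb ⊢
      simpa using hD.comm a ha b hb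
    · intro a ha
      exact Subtype.ext (by simpa using hD.exp a (Subgroup.mem_subgroupOf.mp ha))
    · rw [Nat.card_congr (Subgroup.subgroupOfEquivOfLe hZC).toEquiv,
        Nat.card_congr (Subgroup.subgroupOfEquivOfLe hS₁C).toEquiv, hD.card_Z, hD.card_S₁]
      have h2 : 2 ≤ p := hpp.two_le
      nlinarith [Nat.pos_of_ne_zero hpp.ne_zero]
    · exact (Nat.Prime.coprime_iff_not_dvd hpp).mp hKcop.symm
    · rw [Subgroup.normalizer_eq_top]
      exact le_top
    · intro w hw b hb hbZ hwb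
      rw [Subgroup.mem_subgroupOf] at hb hbZ ⊢
      have hA := bg_rankTwo_elemAb hD (b : G) hb hbZ
      have hcent := (h16 M hM p (Z₀ ⊔ Subgroup.zpowers (b : G))
        ⟨(hA.1.trans hD.le).trans hSM, hA.2.1, hA.2.2⟩).1
      apply hcent
      rw [Subgroup.mem_centralizer_iff]
      have hle : Z₀ ⊔ Subgroup.zpowers (b : G) ≤ Subgroup.centralizer {(w : G)} := by
        apply sup_le
        · intro z hz
          rw [Subgroup.mem_centralizer_iff]
          rintro _ rfl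
          exact (Subgroup.mem_centralizer_iff.mp w.2 z hz).symm
        · rw [Subgroup.zpowers_le, Subgroup.mem_centralizer_iff]
          rintro _ rfl
          exact congrArg Subtype.val hwb
      intro a ha
      exact (Subgroup.mem_centralizer_iff.mp (hle ha) w rfl).symm
  intro c hc
  obtain ⟨n, hn, k, hk, hnk⟩ := Cfsg.Agent.S1461.exists_mul hNK (⟨c, hc⟩ : C)
  have h1 : (n : G) ∈ M := hNM (bg_mem_normalizer_of_subtype S hSC n hn)
  have h2 : (k : G) ∈ M := Subgroup.mem_subgroupOf.mp (hKM hk)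
  have h3 : c = (n : G) * (k : G) := by
    rw [← Subgroup.coe_mul, hnk]
  rw [h3]
  exact M.mul_mem h1 h2

/-- `N_G(Z₀) ≤ M` for every maximal subgroup `M` containing `N_G(S)`. -/
theorem bg_rank_two_norm_le [Finite G] (hG : IsMinSimpleOddOrder G) (hF : BGFusHyp G)
    (hL : BGPLenHyp G) (h16 : BGTwelveFourHyp G) (p : ℕ) [Fact p.Prime] (S : Sylow p G)
    (S₁ Z₀ : Subgroup G) (hD : BGRankTwoData p (S : Subgroup G) S₁ Z₀) (M : Subgroup G)
    (hM : IsCoatom M) (hNM : Subgroup.normalizer ((S : Subgroup G) : Set G) ≤ M) :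
    Subgroup.normalizer (Z₀ : Set G) ≤ M := by
  have hpp : p.Prime := Fact.out
  have hZ1 : Z₀ ≠ ⊥ := by
    intro h
    have := hD.card_Z
    rw [h, Subgroup.card_bot] at this
    exact hpp.one_lt.ne this
  intro g hg
  obtain ⟨y, hy, c, hc, rfl⟩ := bg_sylow_fusion_strong hG hF hL p S Z₀ hZ1
    (hD.Z_le.trans hD.le) g
    (fun q hq => hD.le (hD.Z_le ((Subgroup.mem_normalizer_iff.mp hg q).mp hq)))
  exact M.mul_mem (hNM hy) (bg_rank_two_cent_le hG hL h16 p S S₁ Z₀ hD M hM hNM hc)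

/-- The subgroups of order `p` of `Z₀ × ⟨x⟩` other than `Z₀` are `S₁`-conjugates of `⟨x⟩`. -/
theorem bg_rankTwo_conj [Finite G] {p : ℕ} [Fact p.Prime] {S S₁ Z₀ : Subgroup G}
    (hD : BGRankTwoData p S S₁ Z₀) (x : G) (hx : x ∈ S₁) (hxZ : x ∉ Z₀) (A₀ : Subgroup G)
    (hA₀ : A₀ ≤ Z₀ ⊔ Subgroup.zpowers x) (hcard : Nat.card A₀ = p) (hne : A₀ ≠ Z₀) :
    ∃ u ∈ S₁, A₀ = (Subgroup.zpowers x).map (MulAut.conj u).toMonoidHom := by
  have hpp : p.Prime := Fact.out
  have hx1 : x ≠ 1 := fun h => hxZ (h ▸ Z₀.one_mem)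
  have hxp : x ^ p = 1 := hD.exp x hx
  have hgenA : ∀ a ∈ A₀, a ≠ 1 → ∀ a' ∈ A₀, ∃ m : ℤ, a ^ m = a' := by
    intro a ha ha1 a' ha'
    have h1 : (⟨a', ha'⟩ : A₀) ∈ Subgroup.zpowers (⟨a, ha⟩ : A₀) :=
      mem_zpowers_of_prime_card hcard (fun h => ha1 (congrArg Subtype.val h))
    obtain ⟨m, hm⟩ := Subgroup.mem_zpowers_iff.mp h1
    exact ⟨m, by simpa using congrArg Subtype.val hm⟩
  have hA1 : A₀ ≠ ⊥ := by
    intro h
    rw [h, Subgroup.card_bot] at hcard
    exact hpp.one_lt.ne hcard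
  obtain ⟨⟨a, haA⟩, ha1⟩ := Subgroup.ne_bot_iff_exists_ne_one.mp hA1
  have ha1' : a ≠ 1 := fun h => ha1 (Subtype.ext h)
  have hcomm : ∀ z ∈ Z₀, ∀ b ∈ Subgroup.zpowers x, z * b = b * z :=
    fun z hz b hb => hD.central z hz b (hD.le (Subgroup.zpowers_le.mpr hx hb))
  obtain ⟨z, hz, b, hb, hab⟩ :=
    Cfsg.Agent.Lib.helper40.exists_mul_of_mem_sup_of_commute hcomm (hA₀ haA)
  have hb1 : b ≠ 1 := by
    intro h
    rw [h, mul_one] at hab
    apply hne
    apply Subgroup.eq_of_le_of_card_ge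
    · intro a' ha'
      obtain ⟨m, hm⟩ := hgenA a haA ha1' a' ha'
      rw [← hm, hab]
      exact Z₀.zpow_mem hz m
    · rw [hcard, hD.card_Z]
  have hcardx : Nat.card (Subgroup.zpowers x) = p := by
    rw [Nat.card_zpowers, orderOf_eq_prime hxp hx1]
  have h2 : (⟨x, Subgroup.mem_zpowers x⟩ : Subgroup.zpowers x) ∈
      Subgroup.zpowers (⟨b, hb⟩ : Subgroup.zpowers x) :=
    mem_zpowers_of_prime_card hcardx (fun h => hb1 (congrArg Subtype.val h))
  obtain ⟨j, hj⟩ := Subgroup.mem_zpowers_iff.mp h2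
  have hj' : b ^ j = x := by simpa using congrArg Subtype.val hj
  have haj : a ^ j = z ^ j * x := by
    rw [hab, (show Commute z b from hcomm z hz b hb).mul_zpow, hj']
  have hz'Z : z ^ j ∈ Z₀ := Z₀.zpow_mem hz j
  have ha'A : z ^ j * x ∈ A₀ := haj ▸ A₀.zpow_mem haA j
  have ha'1 : z ^ j * x ≠ 1 := by
    intro h
    apply hxZ
    have h3 : x = (z ^ j)⁻¹ := eq_inv_of_mul_eq_one_right h
    rw [h3]
    exact Z₀.inv_mem hz'Z
  obtain ⟨y, hy, hyx⟩ := hD.noncentral x hx hxZ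
  have hcZ : y * x * y⁻¹ * x⁻¹ ∈ Z₀ := hD.comm y hy x hx
  have hc1 : y * x * y⁻¹ * x⁻¹ ≠ 1 := by
    intro h
    apply hyx
    exact mul_inv_eq_iff_eq_mul.mp (mul_inv_eq_one.mp h)
  have hcx : y * x * y⁻¹ = (y * x * y⁻¹ * x⁻¹) * x := by group
  have hcy : (y * x * y⁻¹ * x⁻¹) * y = y * (y * x * y⁻¹ * x⁻¹) := hD.central _ hcZ y (hD.le hy)
  have h3 : (⟨z ^ j, hz'Z⟩ : Z₀) ∈ Subgroup.zpowers (⟨y * x * y⁻¹ * x⁻¹, hcZ⟩ : Z₀) :=
    mem_zpowers_of_prime_card hD.card_Z (fun h => hc1 (congrArg Subtype.val h))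
  rw [← mem_powers_iff_mem_zpowers] at h3
  obtain ⟨k, hk⟩ := h3
  have hk' : (y * x * y⁻¹ * x⁻¹) ^ k = z ^ j := by simpa using congrArg Subtype.val hk
  have hconj := bg_conj_pow x y (y * x * y⁻¹ * x⁻¹) hcx hcy k
  rw [hk'] at hconj
  refine ⟨y ^ k, S₁.pow_mem hy k, ?_⟩
  rw [MonoidHom.map_zpowers]
  have hux : (MulAut.conj (y ^ k)).toMonoidHom x = z ^ j * x := by
    rw [← hconj]
    rfl
  rw [hux]
  apply le_antisymm
  · intro a'' ha''
    obtain ⟨m, hm⟩ := hgenA (z ^ j * x) ha'A ha'1 a'' ha''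
    rw [← hm]
    exact Subgroup.zpow_mem_zpowers _ m
  · exact Subgroup.zpowers_le.mpr ha'A

/-- The trichotomy for a maximal subgroup `M ⊇ N_G(S)` given by Proposition 12.4(b). -/
theorem bg_rank_two_tri [Finite G] (hG : IsMinSimpleOddOrder G) (hU : BGUniqHyp G)
    (hF : BGFusHyp G) (h16 : BGTwelveFourHyp G) (p : ℕ) [Fact p.Prime] (S : Sylow p G)
    (S₁ Z₀ : Subgroup G) (hD : BGRankTwoData p (S : Subgroup G) S₁ Z₀) (x : G) (hx : x ∈ S₁)
    (hxZ : x ∉ Z₀) (M : Subgroup G) (hM : IsCoatom M)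
    (hNM : Subgroup.normalizer ((S : Subgroup G) : Set G) ≤ M) :
    M ≤ Subgroup.normalizer ((S : Subgroup G) : Set G) ∨
    (∀ L : Subgroup G, IsCoatom L → Subgroup.normalizer (Z₀ : Set G) ≤ L → L = M) ∨
    ∃ u ∈ S₁, Subgroup.normalizer
        (((Subgroup.zpowers x).map (MulAut.conj u).toMonoidHom : Subgroup G) : Set G) ≤ M ∧
      ∀ L : Subgroup G, IsCoatom L → Subgroup.normalizer
        (((Subgroup.zpowers x).map (MulAut.conj u).toMonoidHom : Subgroup G) : Set G) ≤ L →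
          L = M := by
  have hpp : p.Prime := Fact.out
  have hSM : (S : Subgroup G) ≤ M := Subgroup.le_normalizer.trans hNM
  have hA := bg_rankTwo_elemAb hD x hx hxZ
  have h16b := (h16 M hM p (Z₀ ⊔ Subgroup.zpowers x)
    ⟨(hA.1.trans hD.le).trans hSM, hA.2.1, hA.2.2⟩).2
  by_cases hex : ∀ A₀ : Subgroup G, A₀ ≤ Z₀ ⊔ Subgroup.zpowers x → Nat.card A₀ = p →
          ¬ (Subgroup.normalizer (A₀ : Set G) ≤ M ∧
            ∀ L : Subgroup G, IsCoatom L → Subgroup.normalizer (A₀ : Set G) ≤ L → L = M)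
  · left
    obtain ⟨hσ, -, hnil⟩ := h16b hex
    have hSsig : (S : Subgroup G) ≤ sigmaCore M :=
      bg_pgroup_le_sigmaCore hG hU hF M hM hσ S hSM S.isPGroup'
    have htfae : Group.IsNilpotent ↥(sigmaCore M) ↔
        ∀ (q : ℕ) (_hq : Fact q.Prime) (Q : Sylow q ↥(sigmaCore M)),
          (↑Q : Subgroup ↥(sigmaCore M)).Normal :=
      (Group.isNilpotent_of_finite_tfae (G := ↥(sigmaCore M))).out 0 3
    have hPn : ((S.subtype hSsig : Sylow p ↥(sigmaCore M)) : Subgroup ↥(sigmaCore M)).Normal :=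
      htfae.mp hnil p inferInstance (S.subtype hSsig)
    have key : ∀ m ∈ M, ∀ s ∈ (S : Subgroup G), m * s * m⁻¹ ∈ (S : Subgroup G) := by
      intro m hm s hs
      have hmsig := Cfsg.Agent.Lib.helper71.BGA.le_normalizer_sigmaCore M hm
      have hQ : IsPGroup p ((S : Subgroup G).map (MulAut.conj m).toMonoidHom) :=
        S.isPGroup'.map _
      have hQ' : IsPGroup p
          (((S : Subgroup G).map (MulAut.conj m).toMonoidHom).subgroupOf (sigmaCore M)) :=
        hQ.comap_of_injective _ (Subgroup.subtype_injective _)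
      have hle := bg_le_of_not_dvd_index
        ((S.subtype hSsig : Sylow p ↥(sigmaCore M)) : Subgroup ↥(sigmaCore M))
        (S.subtype hSsig).not_dvd_index _ hQ'
      have hmem : m * s * m⁻¹ ∈ sigmaCore M :=
        (Subgroup.mem_normalizer_iff.mp hmsig s).mp (hSsig hs)
      have h1 : (⟨m * s * m⁻¹, hmem⟩ : sigmaCore M) ∈
          ((S : Subgroup G).map (MulAut.conj m).toMonoidHom).subgroupOf (sigmaCore M) := by
        rw [Subgroup.mem_subgroupOf]
        exact ⟨s, hs, by simp [MulAut.conj_apply]⟩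
      have h2 := hle h1
      rw [Sylow.coe_subtype, Subgroup.mem_subgroupOf] at h2
      exact h2
    intro m hm
    rw [Subgroup.mem_normalizer_iff]
    intro s
    constructor
    · exact fun hs => key m hm s hs
    · intro hs
      have := key m⁻¹ (M.inv_mem hm) _ hs
      have h2 : m⁻¹ * (m * s * m⁻¹) * m⁻¹⁻¹ = s := by group
      rwa [h2] at this
  · right
    push Not at hex
    obtain ⟨A₀, hA₀le, hA₀card, hA₀N, hA₀u⟩ := hex
    by_cases hAZ : A₀ = Z₀
    · left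
      subst hAZ
      exact hA₀u
    · right
      obtain ⟨u, hu, rfl⟩ := bg_rankTwo_conj hD x hx hxZ A₀ hA₀le hA₀card hAZ
      exact ⟨u, hu, hA₀N, hA₀u⟩

/-- The rank-two case: two maximal subgroups containing `N_G(S)` coincide. -/
theorem bg_rank_two_uniq [Finite G] (hG : IsMinSimpleOddOrder G) (hU : BGUniqHyp G)
    (hF : BGFusHyp G) (hL : BGPLenHyp G) (h16 : BGTwelveFourHyp G) (p : ℕ) [Fact p.Prime]
    (S : Sylow p G) (S₁ Z₀ : Subgroup G) (hD : BGRankTwoData p (S : Subgroup G) S₁ Z₀)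
    (M₁ M₂ : Subgroup G) (hM₁ : IsCoatom M₁) (hM₂ : IsCoatom M₂)
    (h1 : Subgroup.normalizer ((S : Subgroup G) : Set G) ≤ M₁)
    (h2 : Subgroup.normalizer ((S : Subgroup G) : Set G) ≤ M₂) : M₁ = M₂ := by
  have hpp : p.Prime := Fact.out
  have hex : ∃ x ∈ S₁, x ∉ Z₀ := by
    by_contra hcon
    push Not at hcon
    have hle : S₁ ≤ Z₀ := hcon
    have h3 := Subgroup.card_le_of_le hle
    rw [hD.card_S₁, hD.card_Z] at h3
    have h4 : p ^ 1 < p ^ 3 := Nat.pow_lt_pow_right hpp.one_lt (by norm_num)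
    rw [pow_one] at h4
    omega
  obtain ⟨x, hx, hxZ⟩ := hex
  have hS₁M₁ : S₁ ≤ M₁ := hD.le.trans (Subgroup.le_normalizer.trans h1)
  rcases bg_rank_two_tri hG hU hF h16 p S S₁ Z₀ hD x hx hxZ M₁ hM₁ h1 with
    a1 | b1 | ⟨u₁, hu₁, hn₁, huq₁⟩
  · exact ((hM₁.le_iff_eq hM₂.1).mp (a1.trans h2)).symm
  · exact (b1 M₂ hM₂ (bg_rank_two_norm_le hG hF hL h16 p S S₁ Z₀ hD M₂ hM₂ h2)).symm
  · rcases bg_rank_two_tri hG hU hF h16 p S S₁ Z₀ hD x hx hxZ M₂ hM₂ h2 with
      a2 | b2 | ⟨u₂, hu₂, hn₂, huq₂⟩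
    · exact (hM₂.le_iff_eq hM₁.1).mp (a2.trans h1)
    · exact b2 M₁ hM₁ (bg_rank_two_norm_le hG hF hL h16 p S S₁ Z₀ hD M₁ hM₁ h1)
    · apply huq₂ M₁ hM₁
      intro g hg
      rw [← Subgroup.map_equiv_normalizer_eq] at hg
      obtain ⟨g', hg', rfl⟩ := hg
      have h3 : (MulAut.conj u₁).toMonoidHom g' ∈ Subgroup.normalizer
          ((((Subgroup.zpowers x).map (MulAut.conj u₁).toMonoidHom : Subgroup G)) : Set G) := by
        rw [← Subgroup.map_equiv_normalizer_eq]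
        exact ⟨g', hg', rfl⟩
      have h4 := hn₁ h3
      have hu₁M := hS₁M₁ hu₁
      have hu₂M := hS₁M₁ hu₂
      have h5 : (MulAut.conj u₂).toMonoidHom g' =
          u₂ * u₁⁻¹ * ((MulAut.conj u₁).toMonoidHom g') * u₁ * u₂⁻¹ := by
        simp only [MulEquiv.coe_toMonoidHom, MulAut.conj_apply]
        group
      rw [h5]
      exact M₁.mul_mem (M₁.mul_mem (M₁.mul_mem (M₁.mul_mem hu₂M (M₁.inv_mem hu₁M)) h4) hu₁M)
        (M₁.inv_mem hu₂M)

/-- **Nonabelian Sylow subgroups are uniqueness subgroups**: two maximal subgroups containing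
the normalizer of a nonabelian Sylow `p`-subgroup coincide. -/
theorem bg_nonab_sylow_uniq [Finite G] (hG : IsMinSimpleOddOrder G) (hU : BGUniqHyp G)
    (hF : BGFusHyp G) (hL : BGPLenHyp G) (h16 : BGTwelveFourHyp G) (p : ℕ) [Fact p.Prime]
    (S : Sylow p G) (hS : ¬ IsMulCommutative (S : Subgroup G)) (M₁ M₂ : Subgroup G)
    (hM₁ : IsCoatom M₁) (hM₂ : IsCoatom M₂)
    (h1 : Subgroup.normalizer ((S : Subgroup G) : Set G) ≤ M₁)
    (h2 : Subgroup.normalizer ((S : Subgroup G) : Set G) ≤ M₂) : M₁ = M₂ := by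
  have hpp : p.Prime := Fact.out
  by_cases hr : PRankLE p 2 (S : Subgroup G)
  · rcases bg_sylow_rank_two_statement hG hF hL p S hr with
      h | ⟨P₁, P₂, hsup, hcomm, hnc, hcard, hexp, hcyc, hcl⟩
    · exact absurd h hS
    · exact bg_rank_two_uniq hG hU hF hL h16 p S P₁ _
        (bg_rankTwoData_of_statement p S P₁ P₂ _ hsup hcomm hnc hcard hexp hcyc hcl rfl)
        M₁ M₂ hM₁ hM₂ h1 h2
  · have hStop : (S : Subgroup G) ≠ ⊤ := by
      intro h
      apply bg_not_pgroup_top hG p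
      intro g
      obtain ⟨k, hk⟩ := S.isPGroup' ⟨g, h ▸ Subgroup.mem_top g⟩
      exact ⟨k, congrArg Subtype.val hk⟩
    have hr2 : ¬ RankLE 2 (S : Subgroup G) := fun h => hr (h p hpp)
    have hr1 : ¬ RankLE 1 (S : Subgroup G) := by
      intro h
      apply hr
      intro A hA hAp
      exact (h p hpp A hA hAp).trans (Nat.pow_le_pow_right hpp.pos (by norm_num))
    have hu := hU (S : Subgroup G) hStop hr1 (Or.inl hr2)
    exact hu.unique ⟨hM₁, Subgroup.le_normalizer.trans h1⟩ ⟨hM₂, Subgroup.le_normalizer.trans h2⟩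

end main



end Cfsg.Agent.Lib.helper8
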