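import Mathlib
import Cfsg.Agent.Lib.helper8.BGTwelveB

/-!
# Nonabelian `p`-subgroups are uniqueness subgroups (S1422), from 12.4 and 12.5(b)
-/

set_option autoImplicit false

open Cfsg

namespace Cfsg.Agent.Lib.helper8

variable {G : Type*} [Group G]

/-- Clause (b) of B-G Theorem 12.5 (first half), as a hypothesis: for `p ∈ τ₂(M)` the Sylow
`p`-subgroups of `M` are abelian. -/
def BGTwelveFiveBHyp (G : Type*) [Group G] : Prop :=
  ∀ (M : Subgroup G), IsCoatom M → ∀ (p : ℕ) [Fact p.Prime], p ∈ tau2 M → ∀ A : Subgroup G,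
    (A ≤ M ∧ IsElementaryAbelian p A ∧ Nat.card A = p ^ 2) →
    ∀ P : Sylow p M, IsMulCommutative (P : Subgroup M)

/-- A subgroup of `p`-rank at least two contains an elementary abelian subgroup of order `p²`. -/
theorem bg_exists_elemAb_sq' [Finite G] (Q : Subgroup G) (p : ℕ) [Fact p.Prime]
    (hr1 : ¬ PRankLE p 1 Q) :
    ∃ A : Subgroup G, A ≤ Q ∧ IsElementaryAbelian p A ∧ Nat.card A = p ^ 2 := by
  have hpp : p.Prime := Fact.out
  unfold PRankLE at hr1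
  push Not at hr1
  obtain ⟨A₀, hc, he, hcard⟩ := hr1
  have hA₀p : IsPGroup p A₀ := by
    intro a
    exact ⟨1, by rw [pow_one]; exact Subtype.ext (by simpa using he a a.2)⟩
  obtain ⟨n, hn⟩ := IsPGroup.iff_card.mp hA₀p
  have hn2 : 2 ≤ n := by
    rw [hn] at hcard
    have h3 := (Nat.pow_lt_pow_iff_right hpp.one_lt).mp hcard
    omega
  obtain ⟨K, hK⟩ := Sylow.exists_subgroup_card_pow_prime p (G := A₀) (n := 2)
    (by rw [hn]; exact pow_dvd_pow p hn2)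
  refine ⟨(K.map A₀.subtype).map Q.subtype, Subgroup.map_subtype_le _, ?_, ?_⟩
  · apply bg_elemAb_map
    rw [bg_elemAb_iff]
    have hc' := isMulCommutative_iff.mp hc
    refine ⟨?_, ?_⟩
    · rintro _ ⟨a, ha, rfl⟩ _ ⟨b, hb, rfl⟩
      exact congrArg Subtype.val (hc' a b)
    · rintro _ ⟨a, ha, rfl⟩
      exact he a a.2
  · rw [Subgroup.card_subtype, Subgroup.card_subtype, hK]

/-- `p`-subgroups of `p`-rank at most one are abelian (odd order). -/
theorem bg_comm_of_prank_one [Finite G] (hodd : Odd (Nat.card G)) (Q : Subgroup G) (p : ℕ)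
    [Fact p.Prime] (hQ : IsPGroup p Q) (hr : PRankLE p 1 Q) : IsMulCommutative Q := by
  have hcyc : IsCyclic Q := by
    by_cases hp2 : p = 2
    · have h1 : Nat.card Q ∣ Nat.card G := Subgroup.card_subgroup_dvd_card Q
      obtain ⟨n, hn⟩ := IsPGroup.iff_card.mp hQ
      have h2 : Nat.card Q = 1 := by
        rcases Nat.eq_zero_or_pos n with h0 | h0
        · rw [hn, h0, pow_zero]
        · exfalso
          have h3 : 2 ∣ Nat.card G := by
            refine Dvd.dvd.trans ?_ h1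
            rw [hn, hp2]
            exact dvd_pow_self 2 h0.ne'
          exact (Nat.not_even_iff_odd.mpr hodd) (even_iff_two_dvd.mpr h3)
      have : Subsingleton Q := (Nat.card_eq_one_iff_unique.mp h2).1
      exact isCyclic_of_subsingleton
    · exact Cfsg.Agent.Lib.helper71.BGA.isCyclic_of_prankLE_one p hp2 hQ hr
  exact IsCyclic.isMulCommutative

/-- Every maximal subgroup `M` containing a nonabelian `p`-subgroup has `p ∈ σ(M)`. -/
theorem bg_nonab_mem_sigma [Finite G] (hG : IsMinSimpleOddOrder G) (hU : BGUniqHyp G)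
    (h17b : BGTwelveFiveBHyp G) (p : ℕ) [Fact p.Prime] (P : Subgroup G) (hP : IsPGroup p P)
    (hPna : ¬ IsMulCommutative P) (M : Subgroup G) (hM : IsCoatom M) (hPM : P ≤ M) :
    p ∈ sigma M := by
  have hpp : p.Prime := Fact.out
  by_contra hσ
  have hα : p ∉ alpha M := fun h => hσ (bg_alpha_sub_sigma hG hU M hM h)
  have hr2 : PRankLE p 2 M := by
    by_contra h
    exact hα ⟨hpp, h⟩
  have hP' : IsPGroup p (P.subgroupOf M) := hP.comap_of_injective M.subtype M.subtype_injective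
  obtain ⟨Q, hQ⟩ := hP'.exists_le_sylow
  have hQcomm : IsMulCommutative (Q : Subgroup M) := by
    by_cases hr1 : PRankLE p 1 M
    · have hcyc : IsCyclic (Q : Subgroup M) :=
        bg_sylow_cyclic_of_prank_one hG.1 (le_refl M) p hr1 Q
      exact IsCyclic.isMulCommutative
    · obtain ⟨A, hAM, hA, hA2⟩ := bg_exists_elemAb_sq M p hr2 hr1
      exact h17b M hM p ⟨hpp, hσ, hr2, hr1⟩ A ⟨hAM, hA, hA2⟩ Q
  apply hPna
  rw [isMulCommutative_iff]
  intro a b
  have ha : (⟨a, hPM a.2⟩ : M) ∈ (Q : Subgroup M) := hQ (Subgroup.mem_subgroupOf.mpr a.2)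
  have hb : (⟨b, hPM b.2⟩ : M) ∈ (Q : Subgroup M) := hQ (Subgroup.mem_subgroupOf.mpr b.2)
  have h := isMulCommutative_iff.mp hQcomm ⟨_, ha⟩ ⟨_, hb⟩
  exact Subtype.ext (congrArg (fun x : (Q : Subgroup M) => ((x : M) : G)) h)

/-- For `p ∈ σ(M)`, the normalizer of a noncyclic `p`-subgroup of `M` lies in `M`. -/
theorem bg_sigma_normalizer_le [Finite G] (hF : BGFusHyp G) (h16 : BGTwelveFourHyp G)
    (M : Subgroup G) (hM : IsCoatom M) (p : ℕ) [Fact p.Prime] (hσ : p ∈ sigma M)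
    (Q : Subgroup G) (hQ : IsPGroup p Q) (hQM : Q ≤ M) (hr1 : ¬ PRankLE p 1 Q) :
    Subgroup.normalizer (Q : Set G) ≤ M := by
  have hpp : p.Prime := Fact.out
  obtain ⟨B, hBQ, hB, hB2⟩ := bg_exists_elemAb_sq' Q p hr1
  have hcent := (h16 M hM p B ⟨hBQ.trans hQM, hB, hB2⟩).1
  have hQ1 : Q ≠ ⊥ := by
    rintro rfl
    have hB0 : B = ⊥ := le_bot_iff.mp hBQ
    rw [hB0, Subgroup.card_bot] at hB2
    have := Nat.one_lt_pow (n := 2) (by norm_num) hpp.one_lt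
    omega
  intro g hg
  have hgM : Q.map (MulAut.conj g).toMonoidHom ≤ M := by
    rintro _ ⟨q, hq, rfl⟩
    exact hQM ((Subgroup.mem_normalizer_iff.mp hg q).mp hq)
  obtain ⟨m, hm, c, hc, rfl⟩ := hF M hM p hσ Q hQ hQ1 hQM g hgM
  exact M.mul_mem hm (hcent (Subgroup.centralizer_le (SetLike.coe_subset_coe.mpr hBQ) hc))

theorem bg_nonab_uniq_aux [Finite G] (hG : IsMinSimpleOddOrder G) (hU : BGUniqHyp G)
    (hF : BGFusHyp G) (hL : BGPLenHyp G) (h16 : BGTwelveFourHyp G) (h17b : BGTwelveFiveBHyp G)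
    (p : ℕ) [Fact p.Prime] (P : Subgroup G) (hP : IsPGroup p P) (hPna : ¬ IsMulCommutative P)
    (M₁ M₂ : Subgroup G) (hM₁ : IsCoatom M₁) (hM₂ : IsCoatom M₂) (h1 : P ≤ M₁) (h2 : P ≤ M₂) :
    M₁ = M₂ := by
  have hpp : p.Prime := Fact.out
  have hσ₁ := bg_nonab_mem_sigma hG hU h17b p P hP hPna M₁ hM₁ h1
  have hσ₂ := bg_nonab_mem_sigma hG hU h17b p P hP hPna M₂ hM₂ h2
  have hPD : P ≤ M₁ ⊓ M₂ := le_inf h1 h2
  have hP' : IsPGroup p (P.subgroupOf (M₁ ⊓ M₂)) :=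
    hP.comap_of_injective (M₁ ⊓ M₂).subtype (M₁ ⊓ M₂).subtype_injective
  obtain ⟨T', hT'⟩ := hP'.exists_le_sylow
  obtain ⟨T, hT⟩ : ∃ T : Subgroup G, T = (T' : Subgroup ↥(M₁ ⊓ M₂)).map (M₁ ⊓ M₂).subtype :=
    ⟨_, rfl⟩
  have hTD : T ≤ M₁ ⊓ M₂ := hT ▸ Subgroup.map_subtype_le _
  have hPT : P ≤ T := by
    intro x hx
    rw [hT]
    exact ⟨⟨x, hPD hx⟩, hT' (Subgroup.mem_subgroupOf.mpr hx), rfl⟩
  have hTp : IsPGroup p T := hT ▸ T'.isPGroup'.map _
  have hTna : ¬ IsMulCommutative T := by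
    intro h
    apply hPna
    rw [isMulCommutative_iff] at h ⊢
    intro a b
    have h3 : (a : G) * (b : G) = (b : G) * (a : G) :=
      congrArg Subtype.val (h ⟨a, hPT a.2⟩ ⟨b, hPT b.2⟩)
    exact Subtype.ext h3
  have hTr1 : ¬ PRankLE p 1 T := fun h => hTna (bg_comm_of_prank_one hG.1 T p hTp h)
  have hN₁ : Subgroup.normalizer (T : Set G) ≤ M₁ :=
    bg_sigma_normalizer_le hF h16 M₁ hM₁ p hσ₁ T hTp (hTD.trans inf_le_left) hTr1
  have hN₂ : Subgroup.normalizer (T : Set G) ≤ M₂ :=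
    bg_sigma_normalizer_le hF h16 M₂ hM₂ p hσ₂ T hTp (hTD.trans inf_le_right) hTr1
  obtain ⟨S, hTS⟩ := hTp.exists_le_sylow
  have hST : (S : Subgroup G) ≤ T := by
    by_contra hnot
    have hnil : Group.IsNilpotent ↥(S : Subgroup G) := S.isPGroup'.isNilpotent
    have hlt : T.subgroupOf (S : Subgroup G) < ⊤ := by
      rw [lt_top_iff_ne_top]
      intro h
      exact hnot (Subgroup.subgroupOf_eq_top.mp h)
    have hnc := Group.normalizerCondition_of_isNilpotent (G := ↥(S : Subgroup G)) _ hlt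
    obtain ⟨n, hn, hnT⟩ := SetLike.exists_of_lt hnc
    rw [← Subgroup.subgroupOf_normalizer_eq hTS, Subgroup.mem_subgroupOf] at hn
    apply hnT
    rw [Subgroup.mem_subgroupOf]
    have hR : IsPGroup p ↥((S : Subgroup G) ⊓ Subgroup.normalizer (T : Set G)) :=
      S.isPGroup'.to_le inf_le_left
    have hRD : (S : Subgroup G) ⊓ Subgroup.normalizer (T : Set G) ≤ M₁ ⊓ M₂ :=
      inf_le_right.trans (le_inf hN₁ hN₂)
    have hR' : IsPGroup p
        (((S : Subgroup G) ⊓ Subgroup.normalizer (T : Set G)).subgroupOf (M₁ ⊓ M₂)) :=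
      hR.comap_of_injective (M₁ ⊓ M₂).subtype (M₁ ⊓ M₂).subtype_injective
    have hle : (T' : Subgroup ↥(M₁ ⊓ M₂)) ≤
        ((S : Subgroup G) ⊓ Subgroup.normalizer (T : Set G)).subgroupOf (M₁ ⊓ M₂) := by
      intro t ht
      rw [Subgroup.mem_subgroupOf]
      have htT : (t : G) ∈ T := by
        rw [hT]
        exact ⟨t, ht, rfl⟩
      exact ⟨hTS htT, Subgroup.le_normalizer htT⟩
    have heq := T'.is_maximal' hR' hle
    have hnR : (⟨(n : G), hRD ⟨n.2, hn⟩⟩ : ↥(M₁ ⊓ M₂)) ∈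
        ((S : Subgroup G) ⊓ Subgroup.normalizer (T : Set G)).subgroupOf (M₁ ⊓ M₂) :=
      Subgroup.mem_subgroupOf.mpr ⟨n.2, hn⟩
    rw [heq] at hnR
    rw [hT]
    exact ⟨_, hnR, rfl⟩
  have hTeq : T = (S : Subgroup G) := le_antisymm hTS hST
  have hSna : ¬ IsMulCommutative (S : Subgroup G) := hTeq ▸ hTna
  exact bg_nonab_sylow_uniq hG hU hF hL h16 p S hSna M₁ M₂ hM₁ hM₂ (hTeq ▸ hN₁) (hTeq ▸ hN₂)

/-- **S1422**: a nonabelian `p`-subgroup lies in a unique maximal subgroup (given 12.4 and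
12.5(b) as hypotheses). -/
theorem bg_nonab_uniq [Finite G] (hG : IsMinSimpleOddOrder G) (hU : BGUniqHyp G)
    (hF : BGFusHyp G) (hL : BGPLenHyp G) (h16 : BGTwelveFourHyp G) (h17b : BGTwelveFiveBHyp G)
    (p : ℕ) [Fact p.Prime] (P : Subgroup G) (hP : IsPGroup p P) (hPna : ¬ IsMulCommutative P) :
    InUniqueMaximal P := by
  have hPtop : P ≠ ⊤ := by
    rintro rfl
    apply bg_not_pgroup_top hG p
    intro g
    obtain ⟨k, hk⟩ := hP ⟨g, Subgroup.mem_top g⟩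
    exact ⟨k, congrArg Subtype.val hk⟩
  obtain ⟨M₀, hM₀, hPM₀⟩ := (eq_top_or_exists_le_coatom P).resolve_left hPtop
  refine ⟨M₀, ⟨hM₀, hPM₀⟩, ?_⟩
  rintro M₁ ⟨hM₁, hPM₁⟩
  exact bg_nonab_uniq_aux hG hU hF hL h16 h17b p P hP hPna M₁ M₀ hM₁ hM₀ hPM₁ hPM₀

end Cfsg.Agent.Lib.helper8
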