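import Mathlib
import Cfsg.Prelude.Def_Classical
import Cfsg.Prelude.Def_GeometricClasses
import Cfsg.Agent.S0288

set_option autoImplicit false

namespace Cfsg.Agent.Lib.helper96.FE

open Polynomial

/-- A sum over `Fin m` of a function supported on the first `j` indices. -/
theorem helper8_fe_sum_dite {F : Type*} [Field F] (j m : ℕ) (hjm : j ≤ m) (f : Fin j → F) :
    ∑ k : Fin m, (if h : k.val < j then f ⟨k.val, h⟩ else 0) = ∑ k : Fin j, f k := by
  have h1 := Fin.sum_univ_eq_sum_range (fun n => if h : n < j then f ⟨n, h⟩ else 0) m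
  have h2 := Fin.sum_univ_eq_sum_range (fun n => if h : n < j then f ⟨n, h⟩ else 0) j
  have h3 : ∑ k : Fin j, f k
      = ∑ k : Fin j, (fun n => if h : n < j then f ⟨n, h⟩ else 0) k.val := by
    refine Finset.sum_congr rfl (fun k _ => ?_)
    simp [k.isLt]
  rw [h3, h2]
  refine Eq.trans h1 ?_
  symm
  apply Finset.sum_subset (Finset.range_subset_range.mpr hjm)
  intro n hn hn'
  have hnj : ¬ n < j := by simpa using hn'
  simp [hnj]

/-- The block inclusion of the `2j+2`-dimensional minus space into the `2m+2`-dimensional one. -/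
noncomputable def helper8_feincl (F : Type*) [Field F] (j m : ℕ) :
    (((Fin j ⊕ Fin j) ⊕ Fin 2) → F) →ₗ[F] (((Fin m ⊕ Fin m) ⊕ Fin 2) → F) where
  toFun u := Sum.elim (Sum.elim (fun k => if h : k.val < j then u (.inl (.inl ⟨k.val, h⟩)) else 0)
      (fun k => if h : k.val < j then u (.inl (.inr ⟨k.val, h⟩)) else 0)) (fun t => u (.inr t))
  map_add' u v := by
    funext idx
    rcases idx with (k | k) | t
    · simp only [Sum.elim_inl, Pi.add_apply]; split_ifs <;> simp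
    · simp only [Sum.elim_inl, Sum.elim_inr, Pi.add_apply]; split_ifs <;> simp
    · simp
  map_smul' c u := by
    funext idx
    rcases idx with (k | k) | t
    · simp only [Sum.elim_inl, Pi.smul_apply, RingHom.id_apply]; split_ifs <;> simp
    · simp only [Sum.elim_inl, Sum.elim_inr, Pi.smul_apply, RingHom.id_apply]; split_ifs <;> simp
    · simp

theorem helper8_feincl_quad {F : Type*} [Field F] (j m : ℕ) (hjm : j ≤ m) (a b : F)
    (u : ((Fin j ⊕ Fin j) ⊕ Fin 2) → F) :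
    Cfsg.quadFormMinus m F a b (helper8_feincl F j m u) = Cfsg.quadFormMinus j F a b u := by
  unfold Cfsg.quadFormMinus
  have hs : ∑ k : Fin m, (helper8_feincl F j m u) (.inl (.inl k)) * (helper8_feincl F j m u) (.inl (.inr k))
      = ∑ k : Fin j, u (.inl (.inl k)) * u (.inl (.inr k)) := by
    rw [← helper8_fe_sum_dite j m hjm (fun k => u (.inl (.inl k)) * u (.inl (.inr k)))]
    refine Finset.sum_congr rfl (fun k _ => ?_)
    simp only [helper8_feincl, LinearMap.coe_mk, AddHom.coe_mk, Sum.elim_inl, Sum.elim_inr]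
    split_ifs <;> simp
  rw [hs]
  simp [helper8_feincl]

/-- `r ∣ q^(i/2) + 1` when `i = ord_r(q)` is even. -/
theorem helper8_fe_dvd_pow_add_one (q r : ℕ) [Fact r.Prime] (j : ℕ)
    (hi : orderOf ((q : ℕ) : ZMod r) = 2 * j + 2) : r ∣ q ^ (j + 1) + 1 := by
  have h1 : ((q : ZMod r)) ^ (2 * j + 2) = 1 := by rw [← hi]; exact pow_orderOf_eq_one _
  have h2 : ((q : ZMod r) ^ (j + 1) - 1) * ((q : ZMod r) ^ (j + 1) + 1) = 0 := by
    have : ((q : ZMod r) ^ (j + 1) - 1) * ((q : ZMod r) ^ (j + 1) + 1) = (q : ZMod r) ^ (2 * j + 2) - 1 := by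
      ring
    rw [this, h1, sub_self]
  rcases mul_eq_zero.mp h2 with h | h
  · exfalso
    have h' : (q : ZMod r) ^ (j + 1) = 1 := sub_eq_zero.mp h
    have := orderOf_dvd_of_pow_eq_one h'
    rw [hi] at this
    have := Nat.le_of_dvd (by omega) this
    omega
  · have : ((q ^ (j + 1) + 1 : ℕ) : ZMod r) = 0 := by push_cast; exact h
    exact (ZMod.natCast_eq_zero_iff _ _).mp this

theorem helper8_fe_good_b_minus_core {F : Type*} [Field F] [Fintype F] (m : ℕ)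
    (a b : F) (hab : ∀ x y : F, x ^ 2 + a * x * y + b * y ^ 2 = 0 → x = 0 ∧ y = 0)
    (r : ℕ) [Fact r.Prime]
    (hi : orderOf ((Fintype.card F : ℕ) : ZMod r) % 4 = 2)
    (hid : orderOf ((Fintype.card F : ℕ) : ZMod r) ≤ 2 * m + 2)
    (hBDIM : ∀ (j : ℕ),
      Fintype.card ((Fin j ⊕ Fin j) ⊕ Fin 2) = orderOf ((Fintype.card F : ℕ) : ZMod r) →
      ∀ x : GL ((Fin j ⊕ Fin j) ⊕ Fin 2) F, x ≠ 1 → x ^ r = 1 →
        aeval (Matrix.toLin' (x : Matrix ((Fin j ⊕ Fin j) ⊕ Fin 2) ((Fin j ⊕ Fin j) ⊕ Fin 2) F))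
          (cyclotomic r F) = 0)
    (hBEXT : ∀ (j : ℕ)
      (φ : (((Fin j ⊕ Fin j) ⊕ Fin 2) → F) →ₗ[F] (((Fin m ⊕ Fin m) ⊕ Fin 2) → F)),
      (∀ u, Cfsg.quadFormMinus m F a b (φ u) = Cfsg.quadFormMinus j F a b u) →
      ∀ x₀ : GL ((Fin j ⊕ Fin j) ⊕ Fin 2) F,
        x₀ ∈ Cfsg.isometryGroup F (Cfsg.quadFormMinus j F a b) → x₀ ^ r = 1 →
        ∃ x : GL ((Fin m ⊕ Fin m) ⊕ Fin 2) F,
          x ∈ Cfsg.isometryGroup F (Cfsg.quadFormMinus m F a b) ∧ x ^ r = 1 ∧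
          Module.finrank F (LinearMap.ker
            (aeval (Matrix.toLin' (x : Matrix ((Fin m ⊕ Fin m) ⊕ Fin 2) ((Fin m ⊕ Fin m) ⊕ Fin 2) F))
              (cyclotomic r F)))
          = Module.finrank F (LinearMap.ker
            (aeval (Matrix.toLin' (x₀ : Matrix ((Fin j ⊕ Fin j) ⊕ Fin 2) ((Fin j ⊕ Fin j) ⊕ Fin 2) F))
              (cyclotomic r F)))) :
    ∃ x : GL ((Fin m ⊕ Fin m) ⊕ Fin 2) F,
      x ∈ Cfsg.isometryGroup F (Cfsg.quadFormMinus m F a b) ∧ x ^ r = 1 ∧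
      Module.finrank F (LinearMap.ker
        (aeval (Matrix.toLin' (x : Matrix ((Fin m ⊕ Fin m) ⊕ Fin 2) ((Fin m ⊕ Fin m) ⊕ Fin 2) F)) (cyclotomic r F)))
        = orderOf ((Fintype.card F : ℕ) : ZMod r) := by
  obtain ⟨j, hj⟩ : ∃ j, orderOf ((Fintype.card F : ℕ) : ZMod r) = 2 * j + 2 :=
    ⟨orderOf ((Fintype.card F : ℕ) : ZMod r) / 2 - 1, by omega⟩
  have hjm : j ≤ m := by omega
  have hrp : r.Prime := Fact.out
  -- Cauchy
  have hdvd : r ∣ Fintype.card F ^ (j + 1) + 1 := helper8_fe_dvd_pow_add_one _ r j hj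
  have hcard := Cfsg.Agent.S0288.result (F := F) (q := Fintype.card F) rfl (j + 1) (by omega) a b hab
  rw [Nat.add_sub_cancel] at hcard
  have hdvd2 : r ∣ Nat.card (Cfsg.isometryGroup F (Cfsg.quadFormMinus j F a b)) := by
    rw [hcard]
    exact Dvd.dvd.mul_right (Dvd.dvd.mul_left hdvd _) _
  obtain ⟨x₀', hx₀'⟩ := exists_prime_orderOf_dvd_card' r hdvd2
  have hx₀mem : (x₀' : GL ((Fin j ⊕ Fin j) ⊕ Fin 2) F) ∈
      Cfsg.isometryGroup F (Cfsg.quadFormMinus j F a b) := x₀'.2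
  have hx₀r : (x₀' : GL ((Fin j ⊕ Fin j) ⊕ Fin 2) F) ^ r = 1 := by
    have : x₀' ^ r = 1 := by rw [← hx₀']; exact pow_orderOf_eq_one _
    have h2 := congrArg (Subtype.val) this
    simpa using h2
  have hx₀1 : (x₀' : GL ((Fin j ⊕ Fin j) ⊕ Fin 2) F) ≠ 1 := by
    intro h
    have : x₀' = 1 := Subtype.ext h
    rw [this, orderOf_one] at hx₀'
    exact hrp.one_lt.ne hx₀'
  have hκ : Fintype.card ((Fin j ⊕ Fin j) ⊕ Fin 2) = orderOf ((Fintype.card F : ℕ) : ZMod r) := by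
    rw [hj]; simp; ring
  have hzero := hBDIM j hκ _ hx₀1 hx₀r
  obtain ⟨x, hx, hxr, hfin⟩ := hBEXT j (helper8_feincl F j m)
    (helper8_feincl_quad j m hjm a b) _ hx₀mem hx₀r
  refine ⟨x, hx, hxr, ?_⟩
  rw [hfin, hzero, LinearMap.ker_zero, finrank_top, Module.finrank_pi, hκ]
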