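import Mathlib
import Cfsg.Prelude.Def_Classical
import Cfsg.Prelude.Def_GeometricClasses
import Cfsg.Agent.Lib.helper8.FeGOODBMcore
import Cfsg.Agent.Lib.helper85.FeBDIM
import Cfsg.Agent.Lib.helper19.FeBEXT
import Cfsg.Agent.Lib.helper69.FeNDM

set_option autoImplicit false

namespace Cfsg.Agent.Lib.helper96.FE

open Polynomial

/-- GOODBM (L+; uses BDIM, BEXT, Cauchy in `O^-` via S0288): case (b), minus type. -/
theorem fe_good_b_minus {F : Type*} [Field F] [Fintype F] (hodd : Odd (Fintype.card F)) (m : ℕ)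
    (a b : F) (hab : ∀ x y : F, x ^ 2 + a * x * y + b * y ^ 2 = 0 → x = 0 ∧ y = 0)
    (r : ℕ) [Fact r.Prime] (hr2 : r ≠ 2) (hrF : (r : F) ≠ 0)
    (hi : orderOf ((Fintype.card F : ℕ) : ZMod r) % 4 = 2)
    (hid : orderOf ((Fintype.card F : ℕ) : ZMod r) ≤ 2 * m + 2) :
    ∃ x : GL ((Fin m ⊕ Fin m) ⊕ Fin 2) F,
      x ∈ Cfsg.isometryGroup F (Cfsg.quadFormMinus m F a b) ∧ x ^ r = 1 ∧
      Module.finrank F (LinearMap.ker
        (aeval (Matrix.toLin' (x : Matrix ((Fin m ⊕ Fin m) ⊕ Fin 2) ((Fin m ⊕ Fin m) ⊕ Fin 2) F)) (cyclotomic r F)))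
        = orderOf ((Fintype.card F : ℕ) : ZMod r) := by
  have h2 : (2 : F) ≠ 0 := by
    intro h0
    have h2' : ((2 : ℕ) : F) = 0 := by exact_mod_cast h0
    have hd : ringChar F ∣ 2 := ringChar.dvd h2'
    have hpr : (ringChar F).Prime := CharP.char_is_prime F (ringChar F)
    have he : ringChar F = 2 := (Nat.prime_dvd_prime_iff_eq hpr Nat.prime_two).mp hd
    have hev := FiniteField.even_card_of_char_two he
    rcases hodd with ⟨k, hk⟩
    omega
  exact helper8_fe_good_b_minus_core m a b hab r hi hid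
    (fun j hκ x hx1 hxr => fe_cyc_zero r hrF hκ x hx1 hxr)
    (fun j φ hφ x₀ hx₀ hx₀r =>
      fe_extend h2 _ (fe_nd_minus h2 m a b hab) _ (fe_nd_minus h2 j a b hab) φ hφ r hrF x₀ hx₀ hx₀r)

end Cfsg.Agent.Lib.helper96.FE
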