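import Mathlib
import Cfsg.Agent.Lib.helper86.IvDefs
import Cfsg.Agent.Lib.helper8.IvBF

/-! S3928 split (architect helper86), piece BFS (racing copy, prefixed name): BF for an
`α`-invariant subgroup. -/

set_option autoImplicit false

namespace Cfsg.Agent.Lib.helper86.IV

/-- BFS : BF for an `α`-invariant subgroup (uses BF on `↥N` with `α` restricted). -/
theorem helper8_iv_bf_sub {G : Type*} [Group G] [Finite G] (α : MulAut G) (h2 : ∀ g, α (α g) = g)
    (N : Subgroup G) (hN : ∀ n ∈ N, α n ∈ N) (hne : ∃ n ∈ N, α n ≠ n) :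
    ∃ g ∈ N, g ≠ 1 ∧
      (Subgroup.centralizer {g}).relIndex N ≤ 2 * (Nat.card {c : N // α (c : G) = c}) ^ 2 := by
  classical
  let β : MulAut N :=
    { toFun := fun n => ⟨α n, hN n n.2⟩
      invFun := fun n => ⟨α n, hN n n.2⟩
      left_inv := fun n => Subtype.ext (h2 n)
      right_inv := fun n => Subtype.ext (h2 n)
      map_mul' := fun a b => Subtype.ext (map_mul α (a : G) (b : G)) }
  have hβ : ∀ n : N, ((β n : N) : G) = α (n : G) := fun _ => rfl
  have hβ2 : ∀ g, β (β g) = g := fun g => Subtype.ext (h2 g)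
  have hβne : ∃ g, β g ≠ g := by
    obtain ⟨n, hn, hnn⟩ := hne
    refine ⟨⟨n, hn⟩, fun h => hnn ?_⟩
    have := congrArg (Subtype.val) h
    simpa [hβ] using this
  obtain ⟨g, hg1, hg⟩ := iv_bf β hβ2 hβne
  refine ⟨(g : G), g.2, fun h => hg1 (Subtype.ext h), ?_⟩
  have e1 : (Subgroup.centralizer ({(g : G)} : Set G)).relIndex N =
      (Subgroup.centralizer ({g} : Set N)).index := by
    rw [Subgroup.relIndex]
    congr 1
    ext x
    rw [Subgroup.mem_subgroupOf, Subgroup.mem_centralizer_iff, Subgroup.mem_centralizer_iff]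
    constructor
    · intro h y hy
      rw [Set.mem_singleton_iff] at hy
      subst hy
      exact Subtype.ext (h _ (Set.mem_singleton _))
    · intro h y hy
      rw [Set.mem_singleton_iff] at hy
      subst hy
      have := congrArg (Subtype.val) (h g (Set.mem_singleton _))
      simpa using this
  have e2 : Nat.card {c : N // β c = c} = Nat.card {c : N // α (c : G) = c} :=
    Nat.card_congr (Equiv.subtypeEquivRight (fun c => by
      rw [Subtype.ext_iff, hβ]))
  rw [e1, ← e2]
  exact hg

end Cfsg.Agent.Lib.helper86.IV
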