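/-
A criterion showing that a group has no minimal cover by proper subgroups all of whose members
are nilpotent: many elements `d j` whose "double centralisers" are covered by few proper subgroups.
-/
import Mathlib

set_option autoImplicit false

namespace Cfsg.Agent.Lib.helper8

theorem no_min_nilpotent_cover {G : Type*} [Group G] {ι κ : Type*} (I : Finset ι) (J : Finset κ)
    (B : ι → Subgroup G) (d : κ → G) (hB : ∀ i ∈ I, B i ≠ ⊤) (hd : ∀ j ∈ J, d j ≠ 1)
    (hcard : I.card < J.card)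
    (H : ∀ j ∈ J, ∀ z y : G, z ≠ 1 → z * d j = d j * z → y * z = z * y →
      (∃ i ∈ I, y ∈ B i) ∧ (∀ j' ∈ J, y = d j' → j' = j)) :
    ¬ ∃ 𝓐 : Finset (Subgroup G), ((∀ A ∈ 𝓐, A ≠ ⊤) ∧ (∀ g : G, ∃ A ∈ 𝓐, g ∈ A)) ∧
      (∀ 𝓑 : Finset (Subgroup G), (∀ A ∈ 𝓑, A ≠ ⊤) ∧ (∀ g : G, ∃ A ∈ 𝓑, g ∈ A) →
        𝓐.card ≤ 𝓑.card) ∧
      (∀ A ∈ 𝓐, Group.IsNilpotent ↥A) := by
  classical
  rintro ⟨𝓐, ⟨hprop, hcov⟩, hmin, hnil⟩
  choose f hf hdf using hcov
  have key : ∀ j ∈ J, ∀ y ∈ f (d j),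
      (∃ i ∈ I, y ∈ B i) ∧ (∀ j' ∈ J, y = d j' → j' = j) := by
    intro j hj y hy
    have hA := hnil _ (hf (d j))
    have hnt : Nontrivial ↥(f (d j)) :=
      ⟨⟨⟨d j, hdf (d j)⟩, 1, fun e => hd j hj (congrArg Subtype.val e)⟩⟩
    have hc := Group.IsNilpotent.center_ne_bot (G := ↥(f (d j)))
    obtain ⟨z, hz1⟩ := (Subgroup.ne_bot_iff_exists_ne_one).1 hc
    have hzc := Subgroup.mem_center_iff.1 z.2
    refine H j hj (z.1.1) y ?_ ?_ ?_
    · intro e
      apply hz1
      exact Subtype.ext (Subtype.ext e)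
    · have := hzc ⟨d j, hdf (d j)⟩
      exact (congrArg Subtype.val this).symm
    · have := hzc ⟨y, hy⟩
      exact congrArg Subtype.val this
  have hinj : Set.InjOn (fun j => f (d j)) (J : Set κ) := by
    intro j hj j' hj' e
    simp only at e
    have h1 : d j' ∈ f (d j) := by rw [e]; exact hdf (d j')
    exact ((key j hj (d j') h1).2 j' hj' rfl).symm
  set S : Finset (Subgroup G) := J.image (fun j => f (d j)) with hS
  have hSsub : S ⊆ 𝓐 := by
    intro A hA
    obtain ⟨j, -, rfl⟩ := Finset.mem_image.1 hA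
    exact hf _
  have hScard : S.card = J.card := Finset.card_image_of_injOn hinj
  set 𝓑 : Finset (Subgroup G) := (𝓐 \ S) ∪ I.image B with h𝓑
  have h1 : 𝓑.card ≤ (𝓐.card - J.card) + I.card := by
    calc 𝓑.card ≤ (𝓐 \ S).card + (I.image B).card := Finset.card_union_le _ _
      _ ≤ (𝓐.card - J.card) + I.card := by
        rw [Finset.card_sdiff_of_subset hSsub, hScard]
        exact Nat.add_le_add_left Finset.card_image_le _
  have h2 : J.card ≤ 𝓐.card := hScard ▸ Finset.card_le_card hSsub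
  have h3 : 𝓐.card ≤ 𝓑.card := by
    apply hmin
    constructor
    · intro A hA
      rcases Finset.mem_union.1 hA with hA | hA
      · exact hprop A (Finset.mem_sdiff.1 hA).1
      · obtain ⟨i, hi, rfl⟩ := Finset.mem_image.1 hA
        exact hB i hi
    · intro g
      by_cases hg : f g ∈ S
      · obtain ⟨j, hj, e⟩ := Finset.mem_image.1 hg
        have hgj : g ∈ f (d j) := by rw [e]; exact hdf g
        obtain ⟨i, hi, hgi⟩ := (key j hj g hgj).1
        exact ⟨B i, Finset.mem_union_right _ (Finset.mem_image_of_mem B hi), hgi⟩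
      · exact ⟨f g, Finset.mem_union_left _ (Finset.mem_sdiff.2 ⟨hf g, hg⟩), hdf g⟩
  omega

end Cfsg.Agent.Lib.helper8
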