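/-
Generic facts: the number of automorphisms of a finite field of characteristic `2`, and invariance
of the order of the outer automorphism group under isomorphism.
-/
import Mathlib
import Cfsg.Prelude.Def_KGroupFacts

set_option autoImplicit false

namespace Cfsg.Agent.Lib.helper8

/-- A field with `2 ^ n` elements has exactly `n` automorphisms. -/
theorem card_ringAut_of_card {F : Type*} [Field F] [Fintype F] {n : ℕ}
    (hF : Fintype.card F = 2 ^ n) (hn : n ≠ 0) : Nat.card (F ≃+* F) = n := by
  have h2 : (2 : F) = 0 := by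
    have h1 : ((Fintype.card F : ℕ) : F) = 0 := Nat.cast_card_eq_zero F
    rw [hF] at h1
    push_cast at h1
    exact pow_eq_zero_iff hn |>.1 h1
  have hchar : CharP F 2 := CharTwo.of_one_ne_zero_of_two_eq_zero one_ne_zero h2
  letI : Algebra (ZMod 2) F := ZMod.algebra F 2
  have hfin : Module.finrank (ZMod 2) F = n := by
    have h1 := Module.card_eq_pow_finrank (K := ZMod 2) (V := F)
    rw [hF, ZMod.card] at h1
    exact (Nat.pow_right_injective (le_refl 2) h1).symm
  have hb := FiniteField.bijective_frobeniusAlgEquivOfAlgebraic_pow (ZMod 2) F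
  have h1 : Nat.card (F ≃ₐ[ZMod 2] F) = n := by
    rw [← Nat.card_eq_of_bijective _ hb, Nat.card_fin, hfin]
  rw [← h1]
  symm
  apply Nat.card_eq_of_bijective (fun e : F ≃ₐ[ZMod 2] F => e.toRingEquiv)
  constructor
  · intro e e' hee
    ext x
    exact congrArg (fun r : F ≃+* F => r x) hee
  · intro φ
    refine ⟨AlgEquiv.ofRingEquiv (f := φ) ?_, ?_⟩
    · intro x
      have : ((φ : F →+* F).comp (algebraMap (ZMod 2) F)) = algebraMap (ZMod 2) F :=
        Subsingleton.elim _ _
      exact RingHom.congr_fun this x
    · ext x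
      rfl

/-- The order of the outer automorphism group is invariant under isomorphism. -/
theorem card_out_congr {G H : Type*} [Group G] [Group H] (e : G ≃* H) :
    Nat.card (Cfsg.Out G) = Nat.card (Cfsg.Out H) := by
  have he : (Cfsg.Inn G).map (MulAut.congr e).toMonoidHom = Cfsg.Inn H := by
    ext a
    constructor
    · rintro ⟨_, ⟨g, rfl⟩, rfl⟩
      refine ⟨e g, ?_⟩
      ext x
      simp [MulAut.congr]
    · rintro ⟨k, rfl⟩
      refine ⟨MulAut.conj (e.symm k), ⟨e.symm k, rfl⟩, ?_⟩
      ext x
      simp [MulAut.congr]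
  exact Nat.card_congr (QuotientGroup.congr (Cfsg.Inn G) (Cfsg.Inn H) (MulAut.congr e) he).toEquiv

end Cfsg.Agent.Lib.helper8
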