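import Mathlib
import Cfsg.Agent.Lib.helper68.HallPet
import Cfsg.Agent.Lib.helper18.PearlBase
import Cfsg.Agent.Lib.helper40.PearlUni
import Cfsg.Agent.Lib.helper8.PearlF3
import Cfsg.Agent.Lib.helper8.PearlF4

/-!
S5238, block G, steps (1)-(6) glued (helper8): for a group `G` of order `p ^ n` (`p` odd) with an
element `x` of order dividing `p` whose centralizer has order `p ^ 2`, the lower central series
`gam G i` has orders `p ^ (n - i)` and the `p`-th power map shifts it by exactly `p - 1`.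
-/

set_option autoImplicit false

namespace Cfsg.Agent.Lib.helper8

open Cfsg.Agent.Lib.helper68

theorem h8_pearl_chain {G : Type*} [Group G] [Finite G] (p : ℕ) [Fact p.Prime] (hp2 : p ≠ 2) (n : ℕ) (hG : Nat.card G = p ^ n) (x : G) (hx : x ^ p = 1) (hC : Nat.card (Subgroup.centralizer ({x} : Set G)) = p ^ 2) : (∀ i, 2 ≤ i → i ≤ n → Nat.card (gam G i) = p ^ (n - i)) ∧ (∀ i, 2 ≤ i → i + p ≤ n → ∀ m ∈ gam G i, m ∉ gam G (i + 1) → m ^ p ∈ gam G (i + p - 1) ∧ m ^ p ∉ gam G (i + p)) := by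
  have hp : p.Prime := Fact.out
  obtain ⟨hcard, hxn, honto1, hconj⟩ := Cfsg.Agent.Lib.helper18.PearlBase.h18_pearl_base p n hG x hC
  refine ⟨hcard, ?_⟩
  intro i hi hin m hm hm'
  have hp2' := hp.two_le
  have hn3 : 3 ≤ n := by omega
  have hnil : gam G n = ⊥ := by
    have h1 := hcard n (by omega) le_rfl
    rw [Nat.sub_self, pow_zero] at h1
    exact (Subgroup.card_eq_one).1 h1
  have hanti : ∀ i, gam G (i + 1) ≤ gam G i := fun i => gam_antitone (Nat.le_succ i)
  have hcomm : ∀ i, 2 ≤ i → ∀ g ∈ gam G i, ∀ h : G,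
      com g h ∈ gam G (i + 1) ∧ com h g ∈ gam G (i + 1) := by
    intro i _ g hg h
    refine ⟨com_mem hg (h8_mem_gam_one h), ?_⟩
    have := com_mem (h8_mem_gam_one h) hg
    rwa [add_comm] at this
  have hxn' : x ∉ gam G 2 := hxn hn3
  have hF3 : ∀ i, 2 ≤ i → ∀ m ∈ gam G i, m ^ p ∈ gam G (i + p - 1) :=
    fun i hi m hm => h8_pearl_f3 p n hnil x hx (hconj hx) i hi m hm
  have honto : ∀ i, 1 ≤ i → ∀ m ∈ gam G (i + 1), ∃ g ∈ gam G i, com x g = m := by
    intro w hw m hm
    rcases Nat.lt_or_ge w 2 with hw2 | hw2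
    · have hw1 : w = 1 := by omega
      subst hw1
      obtain ⟨g, hg⟩ := honto1 m hm
      exact ⟨g, h8_mem_gam_one g, hg⟩
    · rcases Nat.lt_or_ge n (w + 1) with hwn | hwn
      · have h1 : m ∈ gam G n := gam_antitone (by omega) hm
        rw [hnil, Subgroup.mem_bot] at h1
        refine ⟨1, Subgroup.one_mem _, ?_⟩
        rw [h1]
        unfold com
        group
      · exact Cfsg.Agent.Lib.helper40.PearlUni.pearl_onto p n (gam G) hanti hcard hcomm x hxn' hC
          w hw2 hwn m hm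
  have huni : ∀ i, 2 ≤ i → i + 2 ≤ n → ∀ m ∈ gam G i, m ∉ gam G (i + 1) →
      com m x ∉ gam G (i + 2) :=
    fun i hi hin m hm hm' =>
      Cfsg.Agent.Lib.helper40.PearlUni.pearl_uniserial p n (gam G) hanti hcard hcomm x hxn' hC
        i hi hin m hm hm'
  exact ⟨hF3 i hi m hm, h8_pearl_f4 p hp2 n hnil x hx honto huni hF3 i hi hin m hm hm'⟩

end Cfsg.Agent.Lib.helper8
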