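import Mathlib
import Cfsg.Prelude.Def_FusionSystem
import Cfsg.Agent.Lib.helper88.Saturated
import Cfsg.Agent.Lib.helper68.HallPet
import Cfsg.Agent.Lib.helper18.PearlBase
import Cfsg.Agent.Lib.helper18.PearlRankFinal
import Cfsg.Agent.Lib.helper85.PearlFG
import Cfsg.Agent.Lib.helper34.PearlFB
import Cfsg.Agent.Lib.helper38.PearlFC
import Cfsg.Agent.Lib.helper11.PearlFD

/-!
S5238 (pearls): racer copy of the final assembly (helper8), from the landed blocks
F (helper88's split: pearl_transfer, pearl_x_ab, pearl_x_nonab, pearl_exp) and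
G (helper18's `h18_pearl_rank`, `h18_pearl_base`).
-/

set_option autoImplicit false

namespace Cfsg.Agent.Lib.helper8

open Cfsg Cfsg.FusionSystem Cfsg.Agent.Lib.helper68

theorem h8_pearl_main {Ω : Type*} [Group Ω] {S : Subgroup Ω} [Finite S] (p : ℕ) [Fact p.Prime] (hS : IsPGroup p S) (F : Cfsg.FusionSystem S) (hF : F.IsSaturated p) (hp : p ≠ 2) (E : Subgroup Ω) (hE : F.IsEssential p E) (hpearl : (Nat.card E = p ^ 2 ∧ ∀ x ∈ E, x ^ p = 1 ∧ IsMulCommutative ↥E) ∨ (Nat.card E = p ^ 3 ∧ ¬ IsMulCommutative ↥E)) : (∀ n : ℕ, Nat.card S = p ^ n → 3 ≤ n → Subgroup.lowerCentralSeries S (n - 2) ≠ ⊥) ∧ ∀ H : Subgroup Ω, H ≤ S → ∃ T : Finset Ω, T.card ≤ p ∧ Subgroup.closure (T : Set Ω) = H := by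
  have hpp : p.Prime := Fact.out
  have hES : E ≤ S := hE.1.1
  have hC : centralizerIn S E ≤ E := hE.1.2 E (Cfsg.Agent.Lib.helper88.isConj_refl F hES)
  obtain ⟨hcardE, hCent, hcomm, hexpT⟩ :=
    Cfsg.Agent.Lib.helper88.PearlF.pearl_transfer p S E hES hC
  obtain ⟨n, hn⟩ := (IsPGroup.iff_card).1 hS
  have hx : ∃ x : ↥S, x ^ p = 1 ∧ Nat.card (Subgroup.centralizer ({x} : Set ↥S)) = p ^ 2 := by
    rcases hpearl with ⟨hc, hex⟩ | ⟨hc, hna⟩
    · exact Cfsg.Agent.Lib.helper88.PearlF.h34_pearl_x_ab p n hn (E.subgroupOf S)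
        (hcardE.trans hc) (hexpT (fun x hx => (hex x hx).1)) hCent
    · have hexp := Cfsg.Agent.Lib.helper88.PearlF.pearl_exp p F hp E hE hc hna
      exact Cfsg.Agent.Lib.helper88.PearlF.h38_pearl_x_nonab p n hn (E.subgroupOf S)
        (hcardE.trans hc) (fun h => hna (hcomm h)) (hexpT hexp) hCent
  obtain ⟨x, hxp, hxC⟩ := hx
  refine ⟨?_, ?_⟩
  · intro n' hn' h3
    have hnn : n' = n := Nat.pow_right_injective hpp.two_le (hn'.symm.trans hn)
    subst hnn
    obtain ⟨hcard, -, -, -⟩ := Cfsg.Agent.Lib.helper18.PearlBase.h18_pearl_base p n' hn x hxC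
    have h1 := hcard (n' - 1) (by omega) (by omega)
    intro hbot
    have h2 := Subgroup.top_subtype_lowerCentralSeries S (n' - 2)
    rw [hbot] at h2
    have h3' : (⊤ : Subgroup ↥S).lowerCentralSeries (n' - 2) = ⊥ :=
      (Subgroup.map_eq_bot_iff_of_injective _ S.subtype_injective).1 h2
    have h4 : gam ↥S (n' - 1) = ⊥ := by
      unfold gam
      rw [show n' - 1 - 1 = n' - 2 by omega]
      exact h3'
    rw [h4, show n' - (n' - 1) = 1 by omega, pow_one, Subgroup.card_bot] at h1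
    exact hpp.one_lt.ne h1
  · intro H hHS
    obtain ⟨T, hT, hcl⟩ :=
      Cfsg.Agent.Lib.helper18.PearlRank.h18_pearl_rank p hp n hn x hxp hxC (H.subgroupOf S)
    classical
    refine ⟨T.map ⟨S.subtype, S.subtype_injective⟩, by rw [Finset.card_map]; exact hT, ?_⟩
    rw [Finset.coe_map]
    show Subgroup.closure (S.subtype '' (T : Set ↥S)) = H
    rw [← MonoidHom.map_closure, hcl, Subgroup.subgroupOf_map_subtype]
    exact inf_eq_left.2 hHS

end Cfsg.Agent.Lib.helper8
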