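import Mathlib
import Cfsg.Agent.Lib.helper45.RUDefs

set_option autoImplicit false

namespace Cfsg.Agent.Lib.helper45.RU

open Matrix Cfsg.Agent.Lib.helper44

variable {n : ℕ} {F : Type*} [Field F] {S : Set (Matrix (Fin n) (Fin n) F)}

/-- GC (racer copy by helper8, prefixed name). -/
theorem h8_abs_GC (n : ℕ) (hn : 4 ≤ n) (Ω : ℕ → Set F) (c : F) (p : ℕ) [Fact p.Prime] [CharP F p]
    (e n' : ℕ) (hnp : n = p ^ e * n') (hn' : ¬ p ∣ n')
    (hluc : ¬ p ∣ (n + p ^ e - 1).choose (p ^ e))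
    (m : ℕ) (hm : 0 < m) (hcm : c ^ m = 1)
    (h0 : ∀ k, k + 2 ≤ n → (0 : F) ∈ Ω k)
    (hadd : ∀ k, k + 2 ≤ n → ∀ x y, x ∈ Ω k → y ∈ Ω k → x + y ∈ Ω k)
    (hc0 : c ∈ Ω 0) (hA : c ^ (n - 1) ∈ Ω (n - 2))
    (hB : ∀ y, y ∈ Ω 0 → c ^ n * y ∈ Ω 0)
    (hmul : ∀ x y, c * x ∈ Ω 0 → c * y ∈ Ω 0 → c * (x * y) ∈ Ω 0)
    (hwrap : ∀ i i', i + 2 ≤ n → i' + 2 ≤ n → n ≤ i + i' + 1 →
      ∀ x y, x ∈ Ω i → y ∈ Ω i' → x * y ∈ Ω (i + i' + 1 - n))
    (hshift : ∀ j i', 1 ≤ j → i' + j + 2 ≤ n → ∀ x y, x ∈ Ω 0 → y ∈ Ω i' →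
      ((n + j - 2).choose (j - 1) : F) * x * y ∈ Ω (i' + j)) :
    c * c ^ (p ^ e) ∈ Ω 0 := by
  have hp : p.Prime := Fact.out
  have hnsmul : ∀ k, k + 2 ≤ n → ∀ x, x ∈ Ω k → ∀ N : ℕ, (N : F) * x ∈ Ω k := by
    intro k hk x hx N
    induction N with
    | zero => simpa using h0 k hk
    | succ N ih =>
      have h1 := hadd k hk _ _ ih hx
      have e1 : ((N + 1 : ℕ) : F) * x = (N : F) * x + x := by push_cast; ring
      rw [e1]; exact h1
  by_cases h1 : n' = 1
  · have hnpe : n = p ^ e := by rw [hnp, h1, mul_one]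
    have h2 := hB c hc0
    rw [hnpe] at h2
    rw [mul_comm]; exact h2
  · have hn0 : n' ≠ 0 := by
      rintro rfl
      rw [mul_zero] at hnp
      omega
    have hn2 : 2 ≤ n' := by omega
    have hpe : 1 ≤ p ^ e := Nat.one_le_pow _ _ hp.pos
    have hj : p ^ e + 3 ≤ n := by
      rcases Nat.lt_or_ge n' 3 with h3 | h3
      · have hn'2 : n' = 2 := by omega
        have hp2 : p ≠ 2 := by
          rintro rfl
          exact hn' (by rw [hn'2])
        rcases Nat.eq_zero_or_pos e with he | he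
        · subst he
          rw [pow_zero, one_mul] at hnp
          omega
        · have hp3 : 3 ≤ p := by
            have := hp.two_le
            omega
          have h3' : 3 ≤ p ^ e := le_trans hp3 (Nat.le_self_pow (by omega) p)
          rw [hnp, hn'2]; omega
      · have h4 : p ^ e * 3 ≤ p ^ e * n' := Nat.mul_le_mul_left _ h3
        rcases Nat.eq_or_lt_of_le hpe with h | h
        · rw [← h, one_mul] at hnp
          rw [← h]; omega
        · rw [hnp]; omega
    -- the shift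
    have hb := hshift (p ^ e + 1) 0 (by omega) (by omega) c c hc0 hc0
    have e1 : n + (p ^ e + 1) - 2 = n + p ^ e - 1 := by omega
    rw [e1, Nat.add_sub_cancel, zero_add] at hb
    have hcop : Nat.Coprime ((n + p ^ e - 1).choose (p ^ e)) p :=
      ((Nat.Prime.coprime_iff_not_dvd hp).mpr hluc).symm
    obtain ⟨b', -, hb'⟩ := Nat.exists_mul_mod_eq_one_of_coprime hcop hp.one_lt
    have hbF : (((n + p ^ e - 1).choose (p ^ e) : ℕ) : F) * (b' : F) = 1 := by
      have h5 : ((((n + p ^ e - 1).choose (p ^ e)) * b' : ℕ) : F) = ((1 : ℕ) : F) := by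
        rw [CharP.natCast_eq_natCast F p]
        unfold Nat.ModEq
        rw [hb', Nat.mod_eq_of_lt hp.one_lt]
      simpa using h5
    have hcc : c * c ∈ Ω (p ^ e + 1) := by
      have h6 := hnsmul (p ^ e + 1) (by omega) _ hb b'
      have e2 : (b' : F) * ((((n + p ^ e - 1).choose (p ^ e) : ℕ) : F) * c * c) = c * c := by
        calc (b' : F) * ((((n + p ^ e - 1).choose (p ^ e) : ℕ) : F) * c * c)
            = ((((n + p ^ e - 1).choose (p ^ e) : ℕ) : F) * (b' : F)) * (c * c) := by ring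
          _ = c * c := by rw [hbF, one_mul]
      rw [e2] at h6; exact h6
    -- wrap down
    have hdown : ∀ k, k ≤ p ^ e + 1 → c * c * (c ^ (n - 1)) ^ k ∈ Ω (p ^ e + 1 - k) := by
      intro k
      induction k with
      | zero => intro _; simpa using hcc
      | succ k ih =>
        intro hk
        have h7 := hwrap (p ^ e + 1 - k) (n - 2) (by omega) (by omega) (by omega) _ _
          (ih (by omega)) hA
        have e3 : p ^ e + 1 - k + (n - 2) + 1 - n = p ^ e + 1 - (k + 1) := by omega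
        rw [e3] at h7
        rw [pow_succ, ← mul_assoc]; exact h7
    have hw0 := hdown (p ^ e + 1) le_rfl
    rw [Nat.sub_self, mul_assoc] at hw0
    -- powers of w
    have hpow : ∀ k : ℕ, c * (c * (c ^ (n - 1)) ^ (p ^ e + 1)) ^ k ∈ Ω 0 := by
      intro k
      induction k with
      | zero => simpa using hc0
      | succ k ih =>
        rw [pow_succ]; exact hmul _ _ ih hw0
    have hBj : ∀ k : ℕ, ∀ y, y ∈ Ω 0 → (c ^ n) ^ k * y ∈ Ω 0 := by
      intro k
      induction k with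
      | zero => intro y hy; simpa using hy
      | succ k ih =>
        intro y hy
        rw [pow_succ', mul_assoc]; exact hB _ (ih y hy)
    have hfin := hBj (p ^ e + 1) _ (hpow (m - 1))
    obtain ⟨m', rfl⟩ : ∃ m', m = m' + 1 := ⟨m - 1, by omega⟩
    obtain ⟨n1, rfl⟩ : ∃ n1, n = n1 + 1 := ⟨n - 1, by omega⟩
    simp only [Nat.add_sub_cancel] at hfin
    have e4 : (c ^ (n1 + 1)) ^ (p ^ e + 1) * (c * (c * (c ^ n1) ^ (p ^ e + 1)) ^ m')
        = c * c ^ ((n1 * (p ^ e + 1) + 1) * (m' + 1) + p ^ e) := by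
      ring
    rw [e4, pow_add, pow_mul', hcm, one_pow, one_mul] at hfin
    exact hfin

end Cfsg.Agent.Lib.helper45.RU
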