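import Mathlib
import Cfsg.Agent.Lib.helper92.S3664Defs

/-!
S3664 piece NO3 (helper8 copy): no elements of order 21, 39 in `G = Sz(8) ⋊ C₃`.
-/

set_option autoImplicit false

namespace Cfsg.Agent.Lib.helper8.S3664

open Cfsg.Agent.Lib.helper92.S3664 Cfsg.Agent.Lib.helper17 Cfsg.Agent.Lib.helper8

theorem h8_right_pow_three (q : Multiplicative (ZMod 3)) : q ^ 3 = 1 := by
  have h := pow_card_eq_one' (G := Multiplicative (ZMod 3)) (x := q)
  have hc : Nat.card (Multiplicative (ZMod 3)) = 3 := by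
    rw [Nat.card_eq_fintype_card]; rfl
  rwa [hc] at h

theorem h8_no_order
    (hS : ∀ n : S, orderOf n = 1 ∨ orderOf n = 2 ∨ orderOf n = 4 ∨ orderOf n = 5 ∨
      orderOf n = 7 ∨ orderOf n = 13)
    (p : ℕ) (hp : ∀ u : S, orderOf u = p → (trS u ≠ 0 ∧ trS u ≠ 1))
    (hcomm : ∀ (g : G) (u : S), g.right ≠ 1 →
      g * SemidirectProduct.inl u = SemidirectProduct.inl u * g → (trS u = 0 ∨ trS u = 1))
    (g : G) : orderOf g ≠ 3 * p := by
  intro hg
  have hright : g.right ≠ 1 := by
    intro h1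
    have e : g = SemidirectProduct.inl g.left := by
      apply SemidirectProduct.ext
      · rfl
      · rw [h1]; rfl
    have ho : orderOf g = orderOf g.left := by
      rw [e]
      exact orderOf_injective (SemidirectProduct.inl : S →* G) SemidirectProduct.inl_injective _
    rw [hg] at ho
    rcases hS g.left with h | h | h | h | h | h <;> omega
  have hr3 : (g ^ 3).right = 1 := by
    have : (g ^ 3).right = g.right ^ 3 := map_pow (SemidirectProduct.rightHom : G →* _) g 3
    rw [this]; exact h8_right_pow_three _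
  have e3 : g ^ 3 = SemidirectProduct.inl (g ^ 3).left := by
    apply SemidirectProduct.ext
    · rfl
    · rw [hr3]; rfl
  have ho3 : orderOf (g ^ 3) = p := by
    rw [orderOf_pow' g (by norm_num), hg, Nat.gcd_mul_right_left,
      Nat.mul_div_cancel_left _ (by norm_num)]
  have hu : orderOf (g ^ 3).left = p := by
    rw [← ho3]
    conv_rhs => rw [e3]
    exact (orderOf_injective (SemidirectProduct.inl : S →* G) SemidirectProduct.inl_injective _).symm
  have hc : g * SemidirectProduct.inl (g ^ 3).left = SemidirectProduct.inl (g ^ 3).left * g := by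
    rw [← e3, ← pow_succ', ← pow_succ]
  rcases hcomm g _ hright hc with h | h
  · exact (hp _ hu).1 h
  · exact (hp _ hu).2 h

theorem no_three_orders
    (hS : ∀ n : S, orderOf n = 1 ∨ orderOf n = 2 ∨ orderOf n = 4 ∨ orderOf n = 5 ∨
      orderOf n = 7 ∨ orderOf n = 13)
    (h7 : ∀ u : S, orderOf u = 7 → (trS u ≠ 0 ∧ trS u ≠ 1))
    (h13 : ∀ u : S, orderOf u = 13 → (trS u ≠ 0 ∧ trS u ≠ 1))
    (hcomm : ∀ (g : G) (u : S), g.right ≠ 1 →
      g * SemidirectProduct.inl u = SemidirectProduct.inl u * g → (trS u = 0 ∨ trS u = 1))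
    (g : G) : orderOf g ≠ 21 ∧ orderOf g ≠ 39 :=
  ⟨h8_no_order hS 7 h7 hcomm g, h8_no_order hS 13 h13 hcomm g⟩

end Cfsg.Agent.Lib.helper8.S3664
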