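import Mathlib
import Cfsg.Agent.Lib.helper92.S3664Defs
import Cfsg.Agent.S2238
import Cfsg.Agent.S0330

/-!
S3664 piece ORDS (helper8 copy): element orders of `Sz(8)`.
-/

set_option autoImplicit false

namespace Cfsg.Agent.Lib.helper8.S3664

open Cfsg.Agent.Lib.helper92.S3664 Cfsg.Agent.Lib.helper17 Cfsg.Agent.Lib.helper8

theorem orders_S (n : S) : orderOf n = 1 ∨ orderOf n = 2 ∨ orderOf n = 4 ∨ orderOf n = 5 ∨
    orderOf n = 7 ∨ orderOf n = 13 := by
  by_cases hn : n = 1
  · left; rw [hn, orderOf_one]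
  obtain ⟨U, ⟨hU, hnU⟩, -⟩ := Cfsg.Agent.S2238.result (le_refl 1) hK n hn
  have hpos : 0 < orderOf n := orderOf_pos n
  have hne1 : orderOf n ≠ 1 := fun h => hn (orderOf_eq_one_iff.1 h)
  rcases hU with ⟨P, rfl⟩ | ⟨-, hcard⟩
  · have hexp := (Cfsg.Agent.S0330.result (le_refl 1) hK P).2.1
    have hd : orderOf (⟨n, hnU⟩ : ↥(P : Subgroup S)) ∣ Monoid.exponent ↥(P : Subgroup S) :=
      Monoid.order_dvd_exponent _
    rw [hexp, Subgroup.orderOf_mk] at hd
    have hle := Nat.le_of_dvd (by norm_num) hd
    have h3 : orderOf n ≠ 3 := by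
      intro h; rw [h] at hd; omega
    omega
  · have hd : orderOf (⟨n, hnU⟩ : ↥U) ∣ Nat.card ↥U := orderOf_dvd_natCard _
    rw [Subgroup.orderOf_mk] at hd
    simp only [Set.mem_insert_iff, Set.mem_singleton_iff] at hcard
    rcases hcard with h | h | h
    · have h7 : Nat.card ↥U = 7 := by rw [h]; norm_num
      rw [h7] at hd
      rcases (Nat.dvd_prime (by norm_num : Nat.Prime 7)).1 hd with h1 | h1
      · exact absurd h1 hne1
      · right; right; right; right; left; exact h1
    · have h13 : Nat.card ↥U = 13 := by rw [h]; norm_num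
      rw [h13] at hd
      rcases (Nat.dvd_prime (by norm_num : Nat.Prime 13)).1 hd with h1 | h1
      · exact absurd h1 hne1
      · right; right; right; right; right; exact h1
    · have h5 : Nat.card ↥U = 5 := by rw [h]; norm_num
      rw [h5] at hd
      rcases (Nat.dvd_prime (by norm_num : Nat.Prime 5)).1 hd with h1 | h1
      · exact absurd h1 hne1
      · right; right; right; left; exact h1

end Cfsg.Agent.Lib.helper8.S3664
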