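import Mathlib
import Cfsg.Agent.Lib.helper92.S3664Defs

/-!
S3664 piece X7 (helper8 copy): the explicit torus element of order 7 and the traces of its powers.
-/

set_option autoImplicit false

namespace Cfsg.Agent.Lib.helper8.S3664

open Cfsg.Agent.Lib.helper92.S3664 Cfsg.Agent.Lib.helper17 Cfsg.Agent.Lib.helper8

theorem h8_tr_matD : ∀ w : K, w ≠ 0 → w = 1 ∨
    (w * th 1 w + w + w⁻¹ + (w * th 1 w)⁻¹ ≠ 0 ∧ w * th 1 w + w + w⁻¹ + (w * th 1 w)⁻¹ ≠ 1) := by
  unfold th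
  decide

theorem h8_x7_pow (j : ℕ) :
    x7 ^ j = gD hS ((Units.mk0 H8.h2 (by decide)) ^ j) := by
  unfold x7
  rw [map_pow]

theorem h8_trS_gD (z : Kˣ) :
    trS (gD hS z) = (z : K) * th 1 (z : K) + (z : K) + (z : K)⁻¹ + ((z : K) * th 1 (z : K))⁻¹ := by
  show Matrix.trace (matD 1 (z : K)) = _
  simp [Matrix.trace, Fin.sum_univ_four, matD]

theorem h8_gD_inj : Function.Injective (gD hS : Kˣ →* S) := by
  intro z w e
  exact sD_inj 1 (congrArg Subtype.val e)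

theorem h8_z_pow_seven : (Units.mk0 H8.h2 (by decide) : Kˣ) ^ 7 = 1 := by
  apply Units.ext
  rw [Units.val_pow_eq_pow_val]
  decide

theorem h8_z_ne_one : (Units.mk0 H8.h2 (by decide) : Kˣ) ≠ 1 := by
  intro e
  have := congrArg Units.val e
  revert this
  decide

theorem orderOf_x7 : orderOf x7 = 7 := by
  have h1 : orderOf x7 = orderOf (Units.mk0 H8.h2 (by decide) : Kˣ) := by
    unfold x7
    exact orderOf_injective (gD hS : Kˣ →* S) h8_gD_inj _
  rw [h1]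
  have : Fact (Nat.Prime 7) := ⟨by norm_num⟩
  exact orderOf_eq_prime h8_z_pow_seven h8_z_ne_one

theorem trace_x7_pow (j : ℕ) : x7 ^ j = 1 ∨ (trS (x7 ^ j) ≠ 0 ∧ trS (x7 ^ j) ≠ 1) := by
  rw [h8_x7_pow, h8_trS_gD]
  rcases h8_tr_matD (((Units.mk0 H8.h2 (by decide) : Kˣ) ^ j : Kˣ) : K) (Units.ne_zero _) with h | h
  · left
    have : (Units.mk0 H8.h2 (by decide) : Kˣ) ^ j = 1 := Units.ext h
    rw [this, map_one]
  · right; exact h

end Cfsg.Agent.Lib.helper8.S3664
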