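import Cfsg.Agent.S3335
import Mathlib

set_option autoImplicit false
open Cfsg Cfsg.Agent.S3335

namespace Cfsg.Agent.Lib.helper70.SM

universe u

/-- Transfer: a central element of the commutator subgroup is killed by the index of any
abelian subgroup. -/
theorem h8_pow_index_of_comm {Γ : Type u} [Group Γ] (H : Subgroup Γ) [H.FiniteIndex]
    (hH : ∀ a b : H, a * b = b * a) (g : Γ) (hg : g ∈ Subgroup.center Γ)
    (hg' : g ∈ commutator Γ) : g ^ H.index = 1 := by
  let _ : CommGroup H := { (inferInstance : Group H) with mul_comm := hH }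
  have key : ∀ (k : ℕ) (g₀ : Γ), g₀⁻¹ * g ^ k * g₀ ∈ H → g₀⁻¹ * g ^ k * g₀ = g ^ k := by
    intro k g₀ _
    have hk : g ^ k ∈ Subgroup.center Γ := Subgroup.pow_mem _ hg k
    rw [Subgroup.mem_center_iff] at hk
    rw [mul_assoc, ← hk g₀, inv_mul_cancel_left]
  have h1 := MonoidHom.transfer_eq_pow (MonoidHom.id H) g key
  have h2 : MonoidHom.transfer (MonoidHom.id H) g = 1 :=
    Abelianization.commutator_subset_ker (MonoidHom.transfer (MonoidHom.id H)) hg'
  rw [h2] at h1
  have h3 := congrArg Subtype.val h1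
  simpa using h3.symm

/-- O6 (degree 4, odd kernel), racer copy by helper8 (transfer into the preimage of a Sylow
3-subgroup). -/
theorem h8_odd_ker_trivial_one {Γ : Type u} [Group Γ] [Finite Γ]
    (π : Γ →* PresentedGroup (rels 1)) (hπ : Function.Surjective π)
    (hc : π.ker ≤ Subgroup.center Γ) (hd : π.ker ≤ commutator Γ)
    (hodd : Odd (Nat.card π.ker)) : π.ker = ⊥ := by
  obtain ⟨cs, hcs⟩ := Cfsg.Agent.S2530.result (1 + 2)
  have hP12 : Nat.card (PresentedGroup (rels 1)) = 12 := by
    rw [Nat.card_congr (iso 1 cs hcs).toEquiv, nat_card_alternatingGroup]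
    simp [Nat.factorial]
  have hfin : Finite (PresentedGroup (rels 1)) := Finite.of_surjective π hπ
  have hp3 : Fact (Nat.Prime 3) := ⟨Nat.prime_three⟩
  obtain ⟨Q⟩ : Nonempty (Sylow 3 (PresentedGroup (rels 1))) := inferInstance
  have hQcyc : IsCyclic (Q : Subgroup (PresentedGroup (rels 1))) := by
    obtain ⟨n, hn⟩ := (IsPGroup.iff_card.mp Q.isPGroup')
    have hdvd : Nat.card (Q : Subgroup (PresentedGroup (rels 1))) ∣ 12 :=
      hP12 ▸ Subgroup.card_subgroup_dvd_card _
    rw [hn] at hdvd
    have hn1 : n ≤ 1 := by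
      by_contra hcon
      push Not at hcon
      have : 3 ^ 2 ∣ 12 := (pow_dvd_pow 3 hcon).trans hdvd
      omega
    interval_cases n
    · have : Subsingleton (Q : Subgroup (PresentedGroup (rels 1))) :=
        (Nat.card_eq_one_iff_unique.mp (by simpa using hn)).1
      exact isCyclic_of_subsingleton
    · exact isCyclic_of_prime_card (p := 3) (by simpa using hn)
  have hHcomm : ∀ a b : (Q : Subgroup (PresentedGroup (rels 1))).comap π, a * b = b * a := by
    let f : (Q : Subgroup (PresentedGroup (rels 1))).comap π →*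
        (Q : Subgroup (PresentedGroup (rels 1))) :=
      (π.comp (Subgroup.subtype _)).codRestrict (Q : Subgroup (PresentedGroup (rels 1)))
        (fun h => h.2)
    have hf : f.ker ≤ Subgroup.center _ := by
      intro a ha
      rw [MonoidHom.mem_ker] at ha
      have ha' : (a : Γ) ∈ π.ker := by
        rw [MonoidHom.mem_ker]
        exact congrArg Subtype.val ha
      have hz := hc ha'
      rw [Subgroup.mem_center_iff] at hz ⊢
      intro b
      exact Subtype.ext (hz b)
    exact (MonoidHom.isMulCommutative_of_isCyclic_of_ker_le_center f hf).is_comm.comm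
  have hidx : ((Q : Subgroup (PresentedGroup (rels 1))).comap π).index ∣ 4 := by
    have h1 : ((Q : Subgroup (PresentedGroup (rels 1))).comap π).index =
        (Q : Subgroup (PresentedGroup (rels 1))).index :=
      Subgroup.index_comap_of_surjective _ hπ
    have h2 : (Q : Subgroup (PresentedGroup (rels 1))).index ∣ 12 :=
      hP12 ▸ Subgroup.index_dvd_card _
    have h3 : ¬ 3 ∣ (Q : Subgroup (PresentedGroup (rels 1))).index := Q.not_dvd_index
    rw [h1]
    have hcop : Nat.Coprime (Q : Subgroup (PresentedGroup (rels 1))).index 3 :=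
      Nat.Coprime.symm ((Nat.Prime.coprime_iff_not_dvd Nat.prime_three).mpr h3)
    exact hcop.dvd_of_dvd_mul_right (by simpa using h2)
  rw [eq_bot_iff]
  intro g hg
  rw [Subgroup.mem_bot]
  have h1 : g ^ ((Q : Subgroup (PresentedGroup (rels 1))).comap π).index = 1 :=
    h8_pow_index_of_comm _ hHcomm g (hc hg) (hd hg)
  have h4 : orderOf g ∣ 4 := (orderOf_dvd_of_pow_eq_one h1).trans hidx
  have hK : orderOf g ∣ Nat.card π.ker := Subgroup.orderOf_dvd_natCard _ hg
  have hcop : Nat.Coprime 4 (Nat.card π.ker) := by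
    have : Nat.Coprime 2 (Nat.card π.ker) := Nat.coprime_two_left.mpr hodd
    exact Nat.Coprime.pow_left 2 this
  have : orderOf g = 1 := Nat.eq_one_of_dvd_coprimes hcop h4 hK
  exact orderOf_eq_one_iff.mp this

end Cfsg.Agent.Lib.helper70.SM
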