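import Mathlib
import Cfsg.Agent.Lib.helper69.SNDefs

set_option autoImplicit false
open Cfsg.Agent.Lib.helper69.SNG

namespace Cfsg.Agent.Lib.helper8.SNG

universe u

/-- A subgroup of index 2 is maximal. -/
theorem h8_index_two_max {S : Type u} [Group S] (H K : Subgroup S) (hH : H.index = 2)
    (hHK : H ≤ K) : K = ⊤ ∨ K ≤ H := by
  have h := Subgroup.relIndex_mul_index hHK
  rw [hH] at h
  have hd : K.index ∣ 2 := ⟨H.relIndex K, by rw [mul_comm]; exact h.symm⟩
  rcases (Nat.dvd_prime Nat.prime_two).mp hd with h1 | h2
  · left; exact Subgroup.index_eq_one.mp h1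
  · right
    rw [h2] at h
    have : H.relIndex K = 1 := by omega
    exact Subgroup.relIndex_eq_one.mp this

theorem h8_mem_centralizer_singleton {S : Type u} [Group S] (x g : S) :
    g ∈ Subgroup.centralizer ({x} : Set S) ↔ x * g = g * x := by
  rw [Subgroup.mem_centralizer_iff]
  constructor
  · intro h; exact h x rfl
  · intro h y hy
    rw [Set.mem_singleton_iff] at hy
    rw [hy]; exact h

/-- In a 2-group all of whose proper subgroups are abelian, the centralizer of a non-central
element has index 2. -/
theorem h8_centralizer_index_two {S : Type u} [Group S] [Finite S] (hS : IsPGroup 2 S)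
    (hsub : ∀ H : Subgroup S, H ≠ ⊤ → IsMulCommutative H) (x : S)
    (hx : x ∉ Subgroup.center S) : (Subgroup.centralizer ({x} : Set S)).index = 2 := by
  have hp2 : Fact (Nat.Prime 2) := ⟨Nat.prime_two⟩
  have hCne : Subgroup.centralizer ({x} : Set S) ≠ ⊤ := by
    intro htop
    apply hx
    rw [Subgroup.mem_center_iff]
    intro g
    have hg : g ∈ Subgroup.centralizer ({x} : Set S) := htop ▸ Subgroup.mem_top g
    rw [h8_mem_centralizer_singleton] at hg
    exact hg.symm
  obtain ⟨k, hk⟩ := IsPGroup.iff_card.mp hS
  have hCd : Nat.card (Subgroup.centralizer ({x} : Set S)) ∣ 2 ^ k :=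
    hk ▸ Subgroup.card_subgroup_dvd_card _
  obtain ⟨n, hnk, hn⟩ := (Nat.dvd_prime_pow Nat.prime_two).mp hCd
  have hnk' : n < k := by
    rcases Nat.lt_or_ge n k with h | h
    · exact h
    · exfalso
      have hnk2 : n = k := le_antisymm hnk h
      apply hCne
      apply Subgroup.eq_top_of_card_eq
      rw [hn, hk, hnk2]
  obtain ⟨M, hM, hCM⟩ := Sylow.exists_subgroup_card_pow_prime_le (p := 2) (m := k - 1)
    (by rw [hk]; exact pow_dvd_pow 2 (by omega)) (Subgroup.centralizer ({x} : Set S)) hn
    (by omega)
  have hMne : M ≠ ⊤ := by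
    intro htop
    rw [htop, Subgroup.card_top, hk] at hM
    have : k = k - 1 := Nat.pow_right_injective (le_refl 2) hM
    omega
  have hMc := hsub M hMne
  rw [comm_iff] at hMc
  have hxC : x ∈ Subgroup.centralizer ({x} : Set S) := by
    rw [h8_mem_centralizer_singleton]
  have hMC : M ≤ Subgroup.centralizer ({x} : Set S) := by
    intro m hm
    rw [h8_mem_centralizer_singleton]
    exact hMc x (hCM hxC) m hm
  have hCeq : Subgroup.centralizer ({x} : Set S) = M := le_antisymm hCM hMC
  rw [hCeq]
  have hci := M.card_mul_index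
  rw [hM, hk] at hci
  have h2k : 2 ^ k = 2 ^ (k - 1) * 2 := by
    rw [← pow_succ]; congr 1; omega
  rw [h2k] at hci
  exact Nat.eq_of_mul_eq_mul_left (by positivity) hci

/-- **[TWO-CENTER]** -/
theorem two_group_center_index {S : Type u} [Group S] [Finite S] (hS : IsPGroup 2 S)
    (hna : ¬ IsMulCommutative S) (hsub : ∀ H : Subgroup S, H ≠ ⊤ → IsMulCommutative H) :
    (Subgroup.center S).index = 4 := by
  obtain ⟨x, hx⟩ : ∃ x : S, x ∉ Subgroup.center S := by
    by_contra hcon
    push Not at hcon
    apply hna
    rw [comm_iff_top]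
    intro a b
    exact Subgroup.mem_center_iff.mp (hcon b) a
  have hCi : (Subgroup.centralizer ({x} : Set S)).index = 2 :=
    h8_centralizer_index_two hS hsub x hx
  have hCne : Subgroup.centralizer ({x} : Set S) ≠ ⊤ := by
    intro htop
    rw [htop, Subgroup.index_top] at hCi
    omega
  obtain ⟨y, hy⟩ : ∃ y : S, y ∉ Subgroup.centralizer ({x} : Set S) := by
    by_contra hcon
    push Not at hcon
    exact hCne ((Subgroup.eq_top_iff' _).mpr hcon)
  have hyc : y ∉ Subgroup.center S := by
    intro hyz
    apply hy
    rw [h8_mem_centralizer_singleton]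
    exact Subgroup.mem_center_iff.mp hyz x
  have hC'i : (Subgroup.centralizer ({y} : Set S)).index = 2 :=
    h8_centralizer_index_two hS hsub y hyc
  have hyC' : y ∈ Subgroup.centralizer ({y} : Set S) := by
    rw [h8_mem_centralizer_singleton]
  have hC'ne : Subgroup.centralizer ({y} : Set S) ≠ ⊤ := by
    intro htop
    rw [htop, Subgroup.index_top] at hC'i
    omega
  have hCc := hsub _ hCne
  have hC'c := hsub _ hC'ne
  rw [comm_iff] at hCc hC'c
  have hnle : ¬ Subgroup.centralizer ({y} : Set S) ≤ Subgroup.centralizer ({x} : Set S) :=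
    fun hle => hy (hle hyC')
  have hcen : Subgroup.center S =
      Subgroup.centralizer ({x} : Set S) ⊓ Subgroup.centralizer ({y} : Set S) := by
    apply le_antisymm
    · intro g hg
      rw [Subgroup.mem_center_iff] at hg
      rw [Subgroup.mem_inf]
      refine ⟨?_, ?_⟩
      · rw [h8_mem_centralizer_singleton]; exact hg x
      · rw [h8_mem_centralizer_singleton]; exact hg y
    · intro g hg12
      rw [Subgroup.mem_inf] at hg12
      obtain ⟨hg1, hg2⟩ := hg12
      by_contra hgz
      have hCg_ne : Subgroup.centralizer ({g} : Set S) ≠ ⊤ := by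
        intro htop
        apply hgz
        rw [Subgroup.mem_center_iff]
        intro s
        have hs : s ∈ Subgroup.centralizer ({g} : Set S) := htop ▸ Subgroup.mem_top s
        rw [h8_mem_centralizer_singleton] at hs
        exact hs.symm
      have h1 : Subgroup.centralizer ({x} : Set S) ≤ Subgroup.centralizer ({g} : Set S) := by
        intro c hc
        rw [h8_mem_centralizer_singleton]
        exact hCc g hg1 c hc
      have h2 : Subgroup.centralizer ({y} : Set S) ≤ Subgroup.centralizer ({g} : Set S) := by
        intro c hc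
        rw [h8_mem_centralizer_singleton]
        exact hC'c g hg2 c hc
      rcases h8_index_two_max _ _ hCi h1 with ht | hle
      · exact hCg_ne ht
      · exact hnle (h2.trans hle)
  rw [hcen]
  have hr := Subgroup.relIndex_mul_index
    (inf_le_left : Subgroup.centralizer ({x} : Set S) ⊓ Subgroup.centralizer ({y} : Set S) ≤
      Subgroup.centralizer ({x} : Set S))
  rw [hCi] at hr
  have hle4 : (Subgroup.centralizer ({x} : Set S) ⊓
      Subgroup.centralizer ({y} : Set S)).index ≤ 4 := by
    have := Subgroup.index_inf_le (H := Subgroup.centralizer ({x} : Set S))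
      (K := Subgroup.centralizer ({y} : Set S))
    rw [hCi, hC'i] at this
    exact this
  have hr1 : (Subgroup.centralizer ({x} : Set S) ⊓
      Subgroup.centralizer ({y} : Set S)).relIndex (Subgroup.centralizer ({x} : Set S)) ≠ 1 := by
    intro h1
    have hle : Subgroup.centralizer ({x} : Set S) ≤
        Subgroup.centralizer ({x} : Set S) ⊓ Subgroup.centralizer ({y} : Set S) :=
      Subgroup.relIndex_eq_one.mp h1
    have hCC' : Subgroup.centralizer ({x} : Set S) ≤ Subgroup.centralizer ({y} : Set S) :=
      hle.trans inf_le_right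
    rcases h8_index_two_max _ _ hCi hCC' with ht | hle'
    · exact hC'ne ht
    · exact hnle hle'
  have hpos : (Subgroup.centralizer ({x} : Set S) ⊓
      Subgroup.centralizer ({y} : Set S)).index ≠ 0 := Subgroup.index_ne_zero_of_finite
  omega

end Cfsg.Agent.Lib.helper8.SNG
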