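import Mathlib
import Cfsg.Agent.Lib.helper44.SUWDefs

/-! S2335 split (architect helper44), piece R1COUNT, racing copy (helper8): core with SLTR and
FNORM1 as hypotheses. -/

set_option autoImplicit false

namespace Cfsg.Agent.Lib.helper44.SUW

open Matrix

theorem h8_rank_one_count_core {K : Type*} [Field K] [Fintype K] [DecidableEq K] {q m : ℕ}
    (hK : Fintype.card K = q ^ 2) (σ : K →+* K) (hσ : ∀ x, σ x = x ^ q)
    (hSL : ∀ x y : Fin m → K, x ≠ 0 → y ≠ 0 →
      ∃ B : Matrix (Fin m) (Fin m) K, B.det = 1 ∧ B *ᵥ x = y)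
    (hN1 : Nat.card {z : K // z * σ z = 1} ≤ q + 1)
    (S : Set (Matrix (Fin m) (Fin m) K))
    (hstab : ∀ Y ∈ S, ∀ B : Matrix (Fin m) (Fin m) K, B.det = 1 → (B.map σ)ᵀ * Y * B ∈ S)
    (c : K) (z : Fin m → K) (hc : c ≠ 0) (hz : z ≠ 0)
    (hmem : c • Matrix.vecMulVec z (fun j => σ (z j)) ∈ S) :
    (q ^ (m + m) - 1) / (q + 1) ≤ Nat.card S := by
  classical
  have hσσ : ∀ x, σ (σ x) = x := by
    intro x
    rw [hσ, hσ, ← pow_mul, ← sq, ← hK, FiniteField.pow_card]
  -- step 1: every `c w w†` (`w ≠ 0`) is in `S`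
  have hall : ∀ w : Fin m → K, w ≠ 0 → c • Matrix.vecMulVec w (fun j => σ (w j)) ∈ S := by
    intro w hw
    obtain ⟨B', hdet, hB'⟩ := hSL z w hz hw
    have hdetB : ((B'.map σ)ᵀ).det = 1 := by
      rw [Matrix.det_transpose]
      have : (B'.map σ).det = σ B'.det := (RingHom.map_det σ B').symm
      rw [this, hdet, map_one]
    have h1 := hstab _ hmem _ hdetB
    have hBB : (((B'.map σ)ᵀ).map σ)ᵀ = B' := by
      ext i j
      simp [hσσ]
    have hrow : (fun j => σ (z j)) ᵥ* (B'.map σ)ᵀ = fun j => σ (w j) := by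
      rw [Matrix.vecMul_transpose]
      funext j
      rw [← hB']
      simp only [Matrix.mulVec, dotProduct, Matrix.map_apply, map_sum, map_mul]
    have heq : (((B'.map σ)ᵀ).map σ)ᵀ * (c • Matrix.vecMulVec z (fun j => σ (z j))) * (B'.map σ)ᵀ
        = c • Matrix.vecMulVec w (fun j => σ (w j)) := by
      rw [hBB, Matrix.mul_smul, Matrix.smul_mul, Matrix.mul_vecMulVec, Matrix.vecMulVec_mul,
        hB', hrow]
    rw [heq] at h1
    exact h1
  -- step 2: counting
  let f : (Fin m → K) → Matrix (Fin m) (Fin m) K :=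
    fun w => c • Matrix.vecMulVec w (fun j => σ (w j))
  let V : Finset (Fin m → K) := Finset.univ.filter (fun w => w ≠ 0)
  let Sf : Finset (Matrix (Fin m) (Fin m) K) := Finset.univ.filter (fun Y => Y ∈ S)
  let T : Finset K := Finset.univ.filter (fun ζ => ζ * σ ζ = 1)
  have hT : T.card ≤ q + 1 := by
    have : Nat.card {z : K // z * σ z = 1} = T.card := Nat.subtype_card T (fun x => by simp [T])
    rw [← this]
    exact hN1
  have hSf : Nat.card S = Sf.card := Nat.subtype_card Sf (fun x => by simp [Sf])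
  have hV : V.card = q ^ (m + m) - 1 := by
    have h1 : V = (Finset.univ : Finset (Fin m → K)).erase 0 := by
      ext w
      simp [V]
    rw [h1, Finset.card_erase_of_mem (Finset.mem_univ _), Finset.card_univ, Fintype.card_fun, hK,
      Fintype.card_fin, ← pow_mul, two_mul]
  have hmaps : ∀ w ∈ V, f w ∈ Sf := by
    intro w hw
    have hw' : w ≠ 0 := (Finset.mem_filter.1 hw).2
    exact Finset.mem_filter.2 ⟨Finset.mem_univ _, hall w hw'⟩
  have hfib : ∀ b ∈ Sf, (V.filter (fun w => f w = b)).card ≤ q + 1 := by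
    intro b _
    by_cases hemp : V.filter (fun w => f w = b) = ∅
    · rw [hemp, Finset.card_empty]; exact Nat.zero_le _
    obtain ⟨w0, hw0m⟩ := Finset.nonempty_iff_ne_empty.2 hemp
    have hw0 : w0 ≠ 0 := (Finset.mem_filter.1 (Finset.mem_filter.1 hw0m).1).2
    have hfw0 : f w0 = b := (Finset.mem_filter.1 hw0m).2
    have hsub : V.filter (fun w => f w = b) ⊆ T.image (fun ζ : K => ζ • w0) := by
      intro w hw
      have hfw : f w = f w0 := ((Finset.mem_filter.1 hw).2).trans hfw0.symm
      have hent : ∀ i j, w i * σ (w j) = w0 i * σ (w0 j) := by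
        intro i j
        have := congrFun (congrFun hfw i) j
        simp only [f, Matrix.smul_apply, Matrix.vecMulVec_apply, smul_eq_mul] at this
        exact mul_left_cancel₀ hc this
      obtain ⟨j0, hj0⟩ := Function.ne_iff.1 hw0
      have hj0' : w0 j0 ≠ 0 := hj0
      have hσne : ∀ x : K, x ≠ 0 → σ x ≠ 0 := fun x hx => (map_ne_zero σ).2 hx
      have h00 := hent j0 j0
      have hwj0 : w j0 ≠ 0 := by
        intro h
        rw [h, zero_mul] at h00
        exact mul_ne_zero hj0' (hσne _ hj0') h00.symm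
      have hs1 : σ (w j0) ≠ 0 := hσne _ hwj0
      have hs2 : σ (w0 j0) ≠ 0 := hσne _ hj0'
      refine Finset.mem_image.2 ⟨σ (w0 j0) / σ (w j0), ?_, ?_⟩
      · simp only [T, Finset.mem_filter, Finset.mem_univ, true_and]
        rw [map_div₀, hσσ, hσσ]
        field_simp
        linear_combination (-1 : K) * h00
      · funext i
        simp only [Pi.smul_apply, smul_eq_mul]
        have hi := hent i j0
        field_simp
        linear_combination (-1 : K) * hi
    exact le_trans (Finset.card_le_card hsub) (le_trans Finset.card_image_le hT)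
  have hcount := Finset.card_le_mul_card_image_of_maps_to hmaps (q + 1) hfib
  rw [hSf, ← hV]
  exact Nat.div_le_of_le_mul hcount

end Cfsg.Agent.Lib.helper44.SUW
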