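import Mathlib
import Cfsg.Prelude.Def_Classical
import Cfsg.Prelude.Def_GeometricClasses
import Cfsg.Agent.Lib.helper53.SfoBINREP

/-!
S5977 / S5978 block [A], leaf KAPPA1 (`sfk_kappa_one`), racing copy under a prefixed name.
-/

set_option autoImplicit false

namespace Cfsg.Agent.Lib.helper59.Sfk

open Matrix Cfsg.Geo

/-- KAPPA1 (L): a self-adjoint square root of `δ` commuting with `x`, built on the planes `<e i, e (π i)>`. -/
theorem h8_sfk_kappa_one {F : Type*} [Field F] [Fintype F] {ι : Type} [Fintype ι] [DecidableEq ι]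
    (h2 : (2 : F) ≠ 0) (Q : QuadraticForm F (ι → F))
    (hQ : (QuadraticMap.polarBilin Q).Nondegenerate) (δ : F) (x : GL ι F)
    (e : Fin (Fintype.card ι) → (ι → F)) (ε : Fin (Fintype.card ι) → F)
    (he : LinearIndependent F e)
    (horth : ∀ i j, i ≠ j → QuadraticMap.polar (⇑Q) (e i) (e j) = 0) (hne : ∀ i, Q (e i) ≠ 0)
    (hxe : ∀ i, (x : Matrix ι ι F) *ᵥ e i = ε i • e i)
    (π : Fin (Fintype.card ι) → Fin (Fintype.card ι)) (hπ : ∀ i, π (π i) = i)
    (hπ' : ∀ i, π i ≠ i) (hεπ : ∀ i, ε (π i) = ε i) :
    ∃ κ' : Matrix ι ι F, κ' * κ' = δ • (1 : Matrix ι ι F) ∧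
      (∀ u v : ι → F, QuadraticMap.polar (⇑Q) (κ' *ᵥ u) v = QuadraticMap.polar (⇑Q) u (κ' *ᵥ v)) ∧
      (x : Matrix ι ι F) * κ' = κ' * (x : Matrix ι ι F) := by
  classical
  -- a choice of solutions of `s² + m t² = δ`
  have hG : ∀ m : F, ∃ p : F × F, m ≠ 0 → p.1 ^ 2 + m * p.2 ^ 2 = δ := by
    intro m
    by_cases hm : m = 0
    · exact ⟨(0, 0), fun h => absurd hm h⟩
    · obtain ⟨s, t, hst⟩ := Cfsg.Agent.Lib.helper24.sfo_bin_rep h2 1 m δ one_ne_zero hm
      exact ⟨(s, t), fun _ => by simpa using hst⟩
  choose G hG using hG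
  let a : Fin (Fintype.card ι) → F := fun i => Q (e i)
  let s : Fin (Fintype.card ι) → F := fun i => (G (a i * a (π i))).1
  let lam : Fin (Fintype.card ι) → F := fun i => (G (a i * a (π i))).2
  have hsπ : ∀ i, s (π i) = s i := by
    intro i
    show (G (a (π i) * a (π (π i)))).1 = (G (a i * a (π i))).1
    rw [hπ, mul_comm]
  have hlπ : ∀ i, lam (π i) = lam i := by
    intro i
    show (G (a (π i) * a (π (π i)))).2 = (G (a i * a (π i))).2
    rw [hπ, mul_comm]
  have hsl : ∀ i, s i ^ 2 + (a i * a (π i)) * lam i ^ 2 = δ := fun i =>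
    hG _ (mul_ne_zero (hne i) (hne (π i)))
  let al : Fin (Fintype.card ι) → F := fun i => if i < π i then s i else - s i
  have halπ : ∀ i, al (π i) = - al i := by
    intro i
    show (if π i < π (π i) then s (π i) else - s (π i)) = - (if i < π i then s i else - s i)
    rw [hπ, hsπ]
    rcases lt_or_gt_of_ne (hπ' i) with h | h
    · rw [if_pos h, if_neg (not_lt.mpr h.le)]
      ring
    · rw [if_neg (not_lt.mpr h.le), if_pos h]
  have halsq : ∀ i, al i * al i = s i ^ 2 := by
    intro i
    show (if i < π i then s i else - s i) * (if i < π i then s i else - s i) = s i ^ 2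
    split_ifs <;> ring
  let c : Fin (Fintype.card ι) → F := fun i => lam i * a i
  -- the basis
  have hspan : ⊤ ≤ Submodule.span F (Set.range e) := by
    rw [he.span_eq_top_of_card_eq_finrank' (by simp)]
  let b : Module.Basis (Fin (Fintype.card ι)) F (ι → F) := Module.Basis.mk he hspan
  have hb : ∀ i, b i = e i := fun i => by simp [b]
  let L : (ι → F) →ₗ[F] (ι → F) := b.constr F (fun i => al i • e i + c i • e (π i))
  have hL : ∀ i, L (e i) = al i • e i + c i • e (π i) := by
    intro i
    have h := b.constr_basis F (fun i => al i • e i + c i • e (π i)) i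
    rw [hb i] at h
    exact h
  have hmv : ∀ u, (LinearMap.toMatrix' L) *ᵥ u = L u := by
    intro u
    rw [← Matrix.toLin'_apply, Matrix.toLin'_toMatrix']
  have hkey : ∀ i, al i * al i + c i * c (π i) = δ := by
    intro i
    rw [halsq]
    show s i ^ 2 + lam i * a i * (lam (π i) * a (π i)) = δ
    rw [hlπ, ← hsl i]
    ring
  have hLL : ∀ v, L (L v) = δ • v := by
    intro v
    have h : L ∘ₗ L = δ • LinearMap.id := by
      apply b.ext
      intro i
      rw [hb i]
      simp only [LinearMap.comp_apply, LinearMap.smul_apply, LinearMap.id_apply]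
      rw [hL i, map_add, map_smul, map_smul, hL i, hL (π i), hπ, halπ, ← hkey i]
      module
    have := congrArg (fun f => f v) h
    simpa using this
  refine ⟨LinearMap.toMatrix' L, ?_, ?_, ?_⟩
  · apply Matrix.toLin'.injective
    apply LinearMap.ext
    intro v
    rw [Matrix.toLin'_mul, Matrix.toLin'_toMatrix', LinearMap.comp_apply, hLL v, map_smul,
      Matrix.toLin'_one]
    simp
  · intro u v
    rw [hmv, hmv]
    have h : (QuadraticMap.polarBilin Q).compl₁₂ L LinearMap.id =
        (QuadraticMap.polarBilin Q).compl₁₂ LinearMap.id L := by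
      apply LinearMap.ext_basis b b
      intro i j
      simp only [LinearMap.compl₁₂_apply, LinearMap.id_apply, QuadraticMap.polarBilin_apply_apply]
      rw [hb i, hb j, hL i, hL j, QuadraticMap.polar_add_left, QuadraticMap.polar_smul_left,
        QuadraticMap.polar_smul_left, QuadraticMap.polar_add_right, QuadraticMap.polar_smul_right,
        QuadraticMap.polar_smul_right]
      by_cases hij : j = i
      · subst hij
        rw [horth (π j) j (hπ' j), horth j (π j) (fun h => hπ' j h.symm)]
      · by_cases hij' : j = π i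
        · subst hij'
          rw [horth i (π i) (fun h => hπ' i h.symm), hπ, QuadraticMap.polar_self,
            QuadraticMap.polar_self]
          show al i • (0 : F) + (lam i * a i) • (2 • a (π i)) =
            al (π i) • (0 : F) + (lam (π i) * a (π i)) • (2 • a i)
          rw [hlπ]
          simp only [smul_eq_mul, nsmul_eq_mul]
          push_cast
          ring
        · have h1 : i ≠ j := fun h => hij h.symm
          have h2' : π i ≠ j := fun h => hij' h.symm
          have h3 : i ≠ π j := by
            intro h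
            apply hij'
            rw [h, hπ]
          rw [horth i j h1, horth (π i) j h2', horth i (π j) h3]
          simp
    have := congrArg (fun f => f u v) h
    simpa [LinearMap.compl₁₂_apply] using this
  · apply Matrix.toLin'.injective
    rw [Matrix.toLin'_mul, Matrix.toLin'_mul, Matrix.toLin'_toMatrix']
    apply b.ext
    intro i
    rw [hb i]
    simp only [LinearMap.comp_apply, Matrix.toLin'_apply]
    rw [hxe i, map_smul, hL i, Matrix.mulVec_add, Matrix.mulVec_smul, Matrix.mulVec_smul, hxe i,
      hxe (π i), hεπ i]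
    module

end Cfsg.Agent.Lib.helper59.Sfk
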