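/-
S5982 piece CNTSTD (racing copy, prefixed names): the number of vectors of norm one for the
standard unitary form, by the two-term recursion; with an inline norm-fibre count.
-/
import Mathlib
import Cfsg.Agent.Lib.helper24.SfuDefs

set_option autoImplicit false

namespace Cfsg.Agent.Lib.helper24

open Module Matrix Cfsg.Geo

theorem h8_card_pow_eq_le {F : Type*} [Field F] [Fintype F] [DecidableEq F] (n : ℕ) (hn : 0 < n)
    (c : F) : (Finset.univ.filter (fun x : F => x ^ n = c)).card ≤ n := by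
  have hsub : Finset.univ.filter (fun x : F => x ^ n = c) ⊆
      (Polynomial.nthRoots n c).toFinset := by
    intro x hx
    rw [Multiset.mem_toFinset, Polynomial.mem_nthRoots hn]
    exact (Finset.mem_filter.1 hx).2
  calc (Finset.univ.filter (fun x : F => x ^ n = c)).card
      ≤ (Polynomial.nthRoots n c).toFinset.card := Finset.card_le_card hsub
    _ ≤ Multiset.card (Polynomial.nthRoots n c) := Multiset.toFinset_card_le _
    _ ≤ n := Polynomial.card_nthRoots n c

theorem h8_two_le_of_card {F : Type*} [Field F] [Fintype F] (q₀ : ℕ)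
    (hcard : Fintype.card F = q₀ ^ 2) : 2 ≤ q₀ := by
  have h1 : 1 < Fintype.card F := Fintype.one_lt_card
  rw [hcard] at h1
  by_contra h
  push Not at h
  interval_cases q₀ <;> simp at h1

theorem h8_norm_fixed {F : Type*} [Field F] [Fintype F] (q₀ : ℕ)
    (hcard : Fintype.card F = q₀ ^ 2) (x : F) : (x ^ (q₀ + 1)) ^ q₀ = x ^ (q₀ + 1) := by
  have h1 : x ^ (q₀ ^ 2) = x := by rw [← hcard]; exact FiniteField.pow_card x
  calc (x ^ (q₀ + 1)) ^ q₀ = x ^ (q₀ ^ 2) * x ^ q₀ := by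
        rw [← pow_mul, ← pow_add]; congr 1; ring
    _ = x ^ (q₀ + 1) := by rw [h1, pow_succ']

/-- NORMFIB (verbatim statement, prefixed name). -/
theorem h8_sfu_norm_fiber {F : Type*} [Field F] [Fintype F] [DecidableEq F] (q₀ : ℕ)
    (hcard : Fintype.card F = q₀ ^ 2) (c : F) (hc : c ≠ 0) (hc₀ : c ^ q₀ = c) :
    (Finset.univ.filter (fun x : F => x ^ (q₀ + 1) = c)).card = q₀ + 1 := by
  classical
  have hq2 : 2 ≤ q₀ := h8_two_le_of_card q₀ hcard
  set S : Finset F := Finset.univ.filter (fun a : F => a ≠ 0 ∧ a ^ q₀ = a) with hS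
  have hScard : S.card ≤ q₀ - 1 := by
    have hsub : S ⊆ Finset.univ.filter (fun a : F => a ^ (q₀ - 1) = 1) := by
      intro a ha
      obtain ⟨ha0, haq⟩ := (Finset.mem_filter.1 ha).2
      refine Finset.mem_filter.2 ⟨Finset.mem_univ _, ?_⟩
      have h : a * a ^ (q₀ - 1) = a * 1 := by
        rw [← pow_succ', Nat.sub_add_cancel (by omega), mul_one]; exact haq
      exact mul_left_cancel₀ ha0 h
    exact (Finset.card_le_card hsub).trans (h8_card_pow_eq_le (q₀ - 1) (by omega) 1)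
  have hmaps : ∀ x ∈ Finset.univ.filter (fun x : F => x ≠ 0), x ^ (q₀ + 1) ∈ S := by
    intro x hx
    have hx0 := (Finset.mem_filter.1 hx).2
    exact Finset.mem_filter.2 ⟨Finset.mem_univ _, pow_ne_zero _ hx0, h8_norm_fixed q₀ hcard x⟩
  have hcount := Finset.card_eq_sum_card_fiberwise hmaps
  have hne : (Finset.univ.filter (fun x : F => x ≠ 0)).card = q₀ ^ 2 - 1 := by
    rw [Finset.filter_ne', Finset.card_erase_of_mem (Finset.mem_univ _), Finset.card_univ, hcard]
  have hfib : ∀ b ∈ S, (Finset.filter (fun a => a ^ (q₀ + 1) = b)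
      (Finset.univ.filter (fun x : F => x ≠ 0))).card ≤ q₀ + 1 := by
    intro b hb
    refine (Finset.card_le_card ?_).trans (h8_card_pow_eq_le (q₀ + 1) (by omega) b)
    intro a ha
    exact Finset.mem_filter.2 ⟨Finset.mem_univ _, (Finset.mem_filter.1 ha).2⟩
  have hconst : ∑ b ∈ S, (q₀ + 1) = S.card * (q₀ + 1) := by rw [Finset.sum_const, smul_eq_mul]
  have hfact : (q₀ - 1) * (q₀ + 1) = q₀ ^ 2 - 1 := by
    obtain ⟨k, rfl⟩ : ∃ k, q₀ = k + 1 := ⟨q₀ - 1, by omega⟩
    have h : (k + 1) ^ 2 = k * (k + 1 + 1) + 1 := by ring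
    rw [Nat.add_sub_cancel, h, Nat.add_sub_cancel]
  have heq : ∑ b ∈ S, (Finset.filter (fun a => a ^ (q₀ + 1) = b)
      (Finset.univ.filter (fun x : F => x ≠ 0))).card = ∑ b ∈ S, (q₀ + 1) := by
    apply le_antisymm (Finset.sum_le_sum hfib)
    rw [hconst, ← hcount, hne, ← hfact]
    exact Nat.mul_le_mul_right _ hScard
  have hall := (Finset.sum_eq_sum_iff_of_le hfib).1 heq
  have hcS : c ∈ S := Finset.mem_filter.2 ⟨Finset.mem_univ _, hc, hc₀⟩
  refine Eq.trans ?_ (hall c hcS)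
  congr 1
  ext a
  simp only [Finset.mem_filter, Finset.mem_univ, true_and]
  constructor
  · intro h
    refine ⟨?_, h⟩
    rintro rfl
    rw [zero_pow (by omega)] at h
    exact hc h.symm
  · exact fun h => h.2

theorem h8_sfu_cnt_rec {F : Type*} [Field F] [Fintype F] [DecidableEq F] (q₀ : ℕ) (m : ℕ) (c : F) :
    (Finset.univ.filter (fun v : Fin (m + 1) → F => ∑ k, v k ^ (q₀ + 1) = c)).card =
      ∑ x : F, (Finset.univ.filter
        (fun v : Fin m → F => ∑ k, v k ^ (q₀ + 1) = c - x ^ (q₀ + 1))).card := by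
  rw [Finset.card_filter]
  simp_rw [Finset.card_filter]
  rw [← (Fin.consEquiv (fun _ : Fin (m + 1) => F)).sum_comp, Fintype.sum_prod_type]
  refine Finset.sum_congr rfl (fun x _ => Finset.sum_congr rfl (fun v _ => ?_))
  have h : (∑ k, (Fin.consEquiv (fun _ : Fin (m + 1) => F)) (x, v) k ^ (q₀ + 1)) =
      x ^ (q₀ + 1) + ∑ k, v k ^ (q₀ + 1) := by
    rw [Fin.sum_univ_succ]
    simp [Fin.consEquiv]
  rw [h]
  exact if_congr (eq_sub_iff_add_eq').symm rfl rfl

theorem h8_sfu_cnt_key {F : Type*} [Field F] [Fintype F] [DecidableEq F] (q₀ : ℕ)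
    (hcard : Fintype.card F = q₀ ^ 2) (m : ℕ) : ∀ c : F, c ^ q₀ = c →
      (q₀ : ℤ) * ((Finset.univ.filter
        (fun v : Fin m → F => ∑ k, v k ^ (q₀ + 1) = c)).card : ℤ) =
        if c = 0 then (q₀ : ℤ) ^ (2 * m) + ((q₀ : ℤ) - 1) * (q₀ : ℤ) ^ m * (-1) ^ m
        else (q₀ : ℤ) ^ m * ((q₀ : ℤ) ^ m - (-1) ^ m) := by
  classical
  have hq2 : 2 ≤ q₀ := h8_two_le_of_card q₀ hcard
  have hsub : ∀ a b : F, (a - b) ^ q₀ = a ^ q₀ - b ^ q₀ := by
    obtain ⟨p, hchar⟩ := CharP.exists F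
    obtain ⟨n, hp, hn⟩ := FiniteField.card F p
    have hdvd : q₀ ∣ p ^ (n : ℕ) := by
      rw [← hn, hcard]; exact dvd_pow_self _ (by norm_num)
    obtain ⟨j, -, rfl⟩ := (Nat.dvd_prime_pow hp).1 hdvd
    have : Fact p.Prime := ⟨hp⟩
    intro a b
    exact sub_pow_char_pow a b j
  induction m with
  | zero =>
    intro c hc
    by_cases h0 : c = 0
    · subst h0
      simp
    · have : (Finset.univ.filter (fun v : Fin 0 → F => ∑ k, v k ^ (q₀ + 1) = c)) = ∅ := by
        apply Finset.filter_eq_empty_iff.2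
        intro v _
        simp [eq_comm, h0]
      rw [this]
      simp [h0]
  | succ m ih =>
    intro c hc
    rw [h8_sfu_cnt_rec q₀ m c, Nat.cast_sum, Finset.mul_sum]
    set α : ℤ := (q₀ : ℤ) ^ (2 * m) + ((q₀ : ℤ) - 1) * (q₀ : ℤ) ^ m * (-1) ^ m with hα
    set β : ℤ := (q₀ : ℤ) ^ m * ((q₀ : ℤ) ^ m - (-1) ^ m) with hβ
    have hterm : ∀ x : F, (q₀ : ℤ) * ((Finset.univ.filter
        (fun v : Fin m → F => ∑ k, v k ^ (q₀ + 1) = c - x ^ (q₀ + 1))).card : ℤ) =
        β + (α - β) * (if x ^ (q₀ + 1) = c then 1 else 0) := by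
      intro x
      have hfix : (c - x ^ (q₀ + 1)) ^ q₀ = c - x ^ (q₀ + 1) := by
        rw [hsub, hc, h8_norm_fixed q₀ hcard x]
      rw [ih _ hfix]
      by_cases hx : x ^ (q₀ + 1) = c
      · rw [if_pos (by rw [hx, sub_self]), if_pos hx]; ring
      · rw [if_neg (fun h => hx (sub_eq_zero.1 h).symm), if_neg hx]; ring
    rw [Finset.sum_congr rfl (fun x _ => hterm x), Finset.sum_add_distrib, Finset.sum_const,
      ← Finset.mul_sum, Finset.sum_boole, Finset.card_univ, hcard, nsmul_eq_mul]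
    by_cases h0 : c = 0
    · subst h0
      have hfib : (Finset.univ.filter (fun x : F => x ^ (q₀ + 1) = 0)).card = 1 := by
        have : Finset.univ.filter (fun x : F => x ^ (q₀ + 1) = 0) = {0} := by
          ext x
          simp
        rw [this, Finset.card_singleton]
      rw [hfib, if_pos rfl, hα, hβ]
      push_cast
      ring
    · rw [h8_sfu_norm_fiber q₀ hcard c h0 hc, if_neg h0, hα, hβ]
      push_cast
      ring

/-- CNTSTD (verbatim statement, prefixed name). -/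
theorem h8_sfu_count_std {F : Type*} [Field F] [Fintype F] [DecidableEq F] (q₀ : ℕ)
    (hcard : Fintype.card F = q₀ ^ 2) (m : ℕ) :
    ((Finset.univ.filter (fun v : Fin m → F => ∑ k, v k ^ (q₀ + 1) = 1)).card : ℤ) =
      (q₀ : ℤ) ^ (m - 1) * ((q₀ : ℤ) ^ m - (-1) ^ m) := by
  have hq2 : 2 ≤ q₀ := h8_two_le_of_card q₀ hcard
  have hq0 : (q₀ : ℤ) ≠ 0 := by
    have : (0 : ℤ) < q₀ := by exact_mod_cast (by omega : 0 < q₀)
    exact this.ne'
  have key := h8_sfu_cnt_key q₀ hcard m (1 : F) (one_pow _)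
  rw [if_neg one_ne_zero] at key
  apply mul_left_cancel₀ hq0
  rw [key]
  cases m with
  | zero => simp
  | succ k =>
    rw [Nat.add_sub_cancel]
    ring

end Cfsg.Agent.Lib.helper24
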