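/-
Binary coset actions: group-element formulation, invariance, and non-binarity witnesses.
-/
import Mathlib

set_option autoImplicit false

namespace Cfsg.Agent.Lib.helper8

/-- Group-element form of "the action of `G` on `G ⧸ H` is binary". -/
def BinG {G : Type*} [Group G] (H : Subgroup G) : Prop :=
  ∀ (n : ℕ) (x y : Fin n → G), 2 ≤ n →
    (∀ i j : Fin n, i ≠ j → ∃ g : G, (g * x i)⁻¹ * y i ∈ H ∧ (g * x j)⁻¹ * y j ∈ H) →
    ∃ g : G, ∀ i, (g * x i)⁻¹ * y i ∈ H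

theorem isBin_iff_binG {G : Type*} [Group G] (H : Subgroup G) :
    (∀ (n : ℕ) (I J : Fin n → G ⧸ H), 2 ≤ n →
        (∀ i j : Fin n, i ≠ j → ∃ g : G, g • I i = J i ∧ g • I j = J j) →
        ∃ g : G, ∀ i, g • I i = J i) ↔ BinG H := by
  have key : ∀ (g a b : G), g • (a : G ⧸ H) = (b : G ⧸ H) ↔ (g * a)⁻¹ * b ∈ H := by
    intro g a b
    rw [MulAction.Quotient.smul_mk, smul_eq_mul, QuotientGroup.eq]
  constructor
  · intro h n x y hn hp
    obtain ⟨g, hg⟩ := h n (fun i => (x i : G ⧸ H)) (fun i => (y i : G ⧸ H)) hn (by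
      intro i j hij
      obtain ⟨g, h1, h2⟩ := hp i j hij
      exact ⟨g, (key _ _ _).2 h1, (key _ _ _).2 h2⟩)
    exact ⟨g, fun i => (key _ _ _).1 (hg i)⟩
  · intro h n I J hn hp
    obtain ⟨g, hg⟩ := h n (fun i => (I i).out) (fun i => (J i).out) hn (by
      intro i j hij
      obtain ⟨g, h1, h2⟩ := hp i j hij
      refine ⟨g, (key _ _ _).1 ?_, (key _ _ _).1 ?_⟩
      · rw [QuotientGroup.out_eq', QuotientGroup.out_eq']; exact h1
      · rw [QuotientGroup.out_eq', QuotientGroup.out_eq']; exact h2)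
    refine ⟨g, fun i => ?_⟩
    have := (key _ _ _).2 (hg i)
    rwa [QuotientGroup.out_eq', QuotientGroup.out_eq'] at this

theorem binG_of_equiv {G G' : Type*} [Group G] [Group G'] (e : G ≃* G') {H : Subgroup G}
    {H' : Subgroup G'} (hH : ∀ g, g ∈ H ↔ e g ∈ H') (hB : BinG H) : BinG H' := by
  intro n x y hn hp
  obtain ⟨g, hg⟩ := hB n (fun i => e.symm (x i)) (fun i => e.symm (y i)) hn (by
    intro i j hij
    obtain ⟨g, h1, h2⟩ := hp i j hij
    refine ⟨e.symm g, ?_, ?_⟩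
    · rw [hH]; simpa using h1
    · rw [hH]; simpa using h2)
  refine ⟨e g, fun i => ?_⟩
  have := (hH _).1 (hg i)
  simpa using this

theorem binG_congr {G G' : Type*} [Group G] [Group G'] (e : G ≃* G') {H : Subgroup G}
    {H' : Subgroup G'} (hH : ∀ g, g ∈ H ↔ e g ∈ H') : BinG H ↔ BinG H' :=
  ⟨binG_of_equiv e hH, binG_of_equiv e.symm (fun g => by rw [hH]; simp)⟩

theorem binG_conj {G : Type*} [Group G] (k : G) {H H' : Subgroup G}
    (hH : ∀ g, g ∈ H ↔ k * g * k⁻¹ ∈ H') : BinG H ↔ BinG H' :=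
  binG_congr (MulAut.conj k) (by simpa using hH)

theorem binG_bot {G : Type*} [Group G] : BinG (⊥ : Subgroup G) := by
  intro n x y hn hp
  have h0 : 0 < n := by omega
  refine ⟨y ⟨0, h0⟩ * (x ⟨0, h0⟩)⁻¹, fun i => ?_⟩
  by_cases hi : i = ⟨0, h0⟩
  · subst hi
    rw [Subgroup.mem_bot]; group
  · obtain ⟨g, h1, h2⟩ := hp ⟨0, h0⟩ i (Ne.symm hi)
    rw [Subgroup.mem_bot] at h1
    have hg : g = y ⟨0, h0⟩ * (x ⟨0, h0⟩)⁻¹ := by
      have : g * x ⟨0, h0⟩ = y ⟨0, h0⟩ := inv_mul_eq_one.1 h1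
      rw [← this]; group
    rw [← hg]; exact h2

/-- General witness of non-binarity: a family of fixed points and one moved point. -/
theorem not_binG_of_family {G : Type*} [Group G] (H : Subgroup G) {ι : Type*} [Finite ι]
    [Nonempty ι] (p : ι → G) (c c' : G)
    (h1 : ∀ i, ∃ g : G, (p i)⁻¹ * g * p i ∈ H ∧ c'⁻¹ * g * c ∈ H)
    (h2 : ∀ g : G, (∀ i, (p i)⁻¹ * g * p i ∈ H) → c'⁻¹ * g * c ∉ H) : ¬ BinG H := by
  intro hB
  have e1 : ∀ g q : G, (g * q)⁻¹ * q ∈ H ↔ q⁻¹ * g * q ∈ H := by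
    intro g q
    rw [← H.inv_mem_iff]
    have : ((g * q)⁻¹ * q)⁻¹ = q⁻¹ * g * q := by group
    rw [this]
  have e2 : ∀ g : G, (g * c)⁻¹ * c' ∈ H ↔ c'⁻¹ * g * c ∈ H := by
    intro g
    rw [← H.inv_mem_iff]
    have : ((g * c)⁻¹ * c')⁻¹ = c'⁻¹ * g * c := by group
    rw [this]
  let k := Nat.card ι
  let e : ι ≃ Fin k := Finite.equivFin ι
  have hk : 1 ≤ k := Nat.card_pos
  let x : Fin (k + 1) → G := Fin.snoc (fun i => p (e.symm i)) c
  let y : Fin (k + 1) → G := Fin.snoc (fun i => p (e.symm i)) c'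
  have hxc : ∀ i : Fin k, x i.castSucc = p (e.symm i) := fun i => by simp [x]
  have hyc : ∀ i : Fin k, y i.castSucc = p (e.symm i) := fun i => by simp [y]
  have hxl : x (Fin.last k) = c := by simp [x]
  have hyl : y (Fin.last k) = c' := by simp [y]
  obtain ⟨g, hg⟩ := hB (k + 1) x y (by omega) (by
    intro i j hij
    induction i using Fin.lastCases with
    | last =>
      induction j using Fin.lastCases with
      | last => exact absurd rfl hij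
      | cast j =>
        obtain ⟨g, hg1, hg2⟩ := h1 (e.symm j)
        refine ⟨g, ?_, ?_⟩
        · rw [hxl, hyl, e2]; exact hg2
        · rw [hxc, hyc, e1]; exact hg1
    | cast i =>
      induction j using Fin.lastCases with
      | last =>
        obtain ⟨g, hg1, hg2⟩ := h1 (e.symm i)
        refine ⟨g, ?_, ?_⟩
        · rw [hxc, hyc, e1]; exact hg1
        · rw [hxl, hyl, e2]; exact hg2
      | cast j =>
        refine ⟨1, ?_, ?_⟩
        · rw [hxc, hyc]; simp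
        · rw [hxc, hyc]; simp)
  refine h2 g (fun i => ?_) ?_
  · have := hg (e i).castSucc
    rw [hxc, hyc, e1, Equiv.symm_apply_apply] at this
    exact this
  · have := hg (Fin.last k)
    rw [hxl, hyl, e2] at this
    exact this

/-- Triangle witness. -/
theorem not_binG_of_triangle {G : Type*} [Group G] (H : Subgroup G) (p₁ p₂ p₃ a b : G)
    (ha : p₁⁻¹ * a * p₁ ∈ H) (hb : p₂⁻¹ * b * p₂ ∈ H) (hc : p₃⁻¹ * (a⁻¹ * b) * p₃ ∈ H)
    (hno : ∀ g : G, p₁⁻¹ * g * p₁ ∈ H → p₂⁻¹ * g * p₂ ∈ H → p₃⁻¹ * (a⁻¹ * g) * p₃ ∉ H) :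
    ¬ BinG H := by
  refine not_binG_of_family H (ι := Fin 2) ![p₁, p₂] p₃ (a * p₃) ?_ ?_
  · intro i
    fin_cases i
    · refine ⟨a, by simpa using ha, ?_⟩
      have : (a * p₃)⁻¹ * a * p₃ = 1 := by group
      rw [this]; exact one_mem H
    · refine ⟨b, by simpa using hb, ?_⟩
      have : (a * p₃)⁻¹ * b * p₃ = p₃⁻¹ * (a⁻¹ * b) * p₃ := by group
      rw [this]; exact hc
  · intro g hg
    have h1 := hg 0
    have h2 := hg 1
    have : (a * p₃)⁻¹ * g * p₃ = p₃⁻¹ * (a⁻¹ * g) * p₃ := by group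
    rw [this]
    exact hno g (by simpa using h1) (by simpa using h2)

/-- Quadrangle witness: three fixed points and one moved point. -/
theorem not_binG_of_quad {G : Type*} [Group G] (H : Subgroup G) (p₁ p₂ p₃ c c' : G)
    (h1 : ∃ g : G, p₁⁻¹ * g * p₁ ∈ H ∧ c'⁻¹ * g * c ∈ H)
    (h2 : ∃ g : G, p₂⁻¹ * g * p₂ ∈ H ∧ c'⁻¹ * g * c ∈ H)
    (h3 : ∃ g : G, p₃⁻¹ * g * p₃ ∈ H ∧ c'⁻¹ * g * c ∈ H)
    (hno : ∀ g : G, p₁⁻¹ * g * p₁ ∈ H → p₂⁻¹ * g * p₂ ∈ H → p₃⁻¹ * g * p₃ ∈ H →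
      c'⁻¹ * g * c ∉ H) : ¬ BinG H := by
  refine not_binG_of_family H (ι := Fin 3) ![p₁, p₂, p₃] c c' ?_ ?_
  · intro i
    fin_cases i
    · simpa using h1
    · simpa using h2
    · simpa using h3
  · intro g hg
    exact hno g (by simpa using hg 0) (by simpa using hg 1) (by simpa using hg 2)

/-- A subgroup whose conjugates intersect trivially and whose "triangles" degenerate gives a
binary action. -/
theorem binG_of_TI {G : Type*} [Group G] (H : Subgroup G)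
    (hTI : ∀ p q h : G, h ≠ 1 → p⁻¹ * h * p ∈ H → q⁻¹ * h * q ∈ H →
      ∀ g, p⁻¹ * g * p ∈ H ↔ q⁻¹ * g * q ∈ H)
    (hprod : ∀ p q r a b : G, p⁻¹ * a * p ∈ H → q⁻¹ * b * q ∈ H → r⁻¹ * (a⁻¹ * b) * r ∈ H →
      a ≠ 1 → b ≠ 1 → a ≠ b → ∀ g, p⁻¹ * g * p ∈ H ↔ r⁻¹ * g * r ∈ H) : BinG H := by
  intro n x y hn hp
  -- difference of two solutions at a point lies in the stabiliser
  have diff : ∀ (g g' : G) (i : Fin n), (g * x i)⁻¹ * y i ∈ H → (g' * x i)⁻¹ * y i ∈ H →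
      (x i)⁻¹ * (g⁻¹ * g') * x i ∈ H := by
    intro g g' i h1 h2
    have := H.mul_mem h1 (H.inv_mem h2)
    have e : (g * x i)⁻¹ * y i * ((g' * x i)⁻¹ * y i)⁻¹ = (x i)⁻¹ * (g⁻¹ * g') * x i := by group
    rwa [e] at this
  have move : ∀ (g g' : G) (k : Fin n), (x k)⁻¹ * (g⁻¹ * g') * x k ∈ H →
      (g' * x k)⁻¹ * y k ∈ H → (g * x k)⁻¹ * y k ∈ H := by
    intro g g' k h1 h2
    have := H.mul_mem h1 h2
    have e : (x k)⁻¹ * (g⁻¹ * g') * x k * ((g' * x k)⁻¹ * y k) = (g * x k)⁻¹ * y k := by group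
    rwa [e] at this
  by_cases hA : ∃ i j : Fin n, ¬ ∀ g, (x i)⁻¹ * g * x i ∈ H ↔ (x j)⁻¹ * g * x j ∈ H
  · obtain ⟨i, j, hij⟩ := hA
    have hne : i ≠ j := by
      rintro rfl; exact hij (fun g => Iff.rfl)
    obtain ⟨g₀, h0i, h0j⟩ := hp i j hne
    refine ⟨g₀, fun k => ?_⟩
    by_cases hki : k = i
    · subst hki; exact h0i
    by_cases hkj : k = j
    · subst hkj; exact h0j
    obtain ⟨g₁, h1i, h1k⟩ := hp i k (Ne.symm hki)
    obtain ⟨g₂, h2j, h2k⟩ := hp j k (Ne.symm hkj)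
    have ha := diff g₀ g₁ i h0i h1i
    have hb := diff g₀ g₂ j h0j h2j
    have hc := diff g₁ g₂ k h1k h2k
    have hc' : (x k)⁻¹ * ((g₀⁻¹ * g₁)⁻¹ * (g₀⁻¹ * g₂)) * x k ∈ H := by
      have e : (g₀⁻¹ * g₁)⁻¹ * (g₀⁻¹ * g₂) = g₁⁻¹ * g₂ := by group
      rw [e]; exact hc
    by_cases ha1 : g₀⁻¹ * g₁ = 1
    · have : g₁ = g₀ := by
        have := congrArg (fun t => g₀ * t) ha1
        simpa using this
      rw [← this]; exact h1k
    by_cases hb1 : g₀⁻¹ * g₂ = 1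
    · have : g₂ = g₀ := by
        have := congrArg (fun t => g₀ * t) hb1
        simpa using this
      rw [← this]; exact h2k
    exfalso
    by_cases hab : g₀⁻¹ * g₁ = g₀⁻¹ * g₂
    · rw [← hab] at hb
      exact hij (hTI _ _ _ ha1 ha hb)
    · have hik := hprod _ _ _ _ _ ha hb hc' ha1 hb1 hab
      -- b ∈ S_k = S_i
      have hbk : (x k)⁻¹ * (g₀⁻¹ * g₂) * x k ∈ H := by
        have h1 := (hik _).1 ha
        have := H.mul_mem h1 hc'
        have e : (x k)⁻¹ * (g₀⁻¹ * g₁) * x k *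
            ((x k)⁻¹ * ((g₀⁻¹ * g₁)⁻¹ * (g₀⁻¹ * g₂)) * x k) = (x k)⁻¹ * (g₀⁻¹ * g₂) * x k := by
          group
        rwa [e] at this
      have hbi := (hik _).2 hbk
      exact hij (hTI _ _ _ hb1 hbi hb)
  · push Not at hA
    have h0 : 0 < n := by omega
    have h1 : 1 < n := by omega
    obtain ⟨g₀, h00, h01⟩ := hp ⟨0, h0⟩ ⟨1, h1⟩ (by
      intro h; exact absurd (congrArg Fin.val h) (by simp))
    refine ⟨g₀, fun k => ?_⟩
    by_cases hk0 : k = ⟨0, h0⟩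
    · subst hk0; exact h00
    obtain ⟨g₁, h10, h1k⟩ := hp ⟨0, h0⟩ k (Ne.symm hk0)
    have ha := diff g₀ g₁ ⟨0, h0⟩ h00 h10
    exact move g₀ g₁ k ((hA ⟨0, h0⟩ k _).1 ha) h1k

end Cfsg.Agent.Lib.helper8
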