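/-
Suzuki group: the solubilizer of an involution.
-/
import Cfsg.Agent.Lib.helper8.SzSol4

set_option autoImplicit false

namespace Cfsg.Agent.Lib.helper8

open Matrix
open scoped Pointwise

theorem card_split {α : Type*} [Finite α] (P R : α → Prop) :
    Nat.card {a // P a} = Nat.card {a // P a ∧ R a} + Nat.card {a // P a ∧ ¬ R a} := by
  classical
  have := Fintype.ofFinite α
  rw [Nat.subtype_card (Finset.univ.filter P) (by simp),
    Nat.subtype_card ((Finset.univ.filter P).filter R) (by simp),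
    Nat.subtype_card ((Finset.univ.filter P).filter (fun a => ¬ R a)) (by simp),
    Finset.card_filter_add_card_filter_not]

variable {F : Type*} [Field F] [Fintype F]

/-- Involutions not fixing `∞`. -/
def InvOff (m : ℕ) (x' : ↥(Cfsg.Sz F m)) : Prop :=
  x' ≠ 1 ∧ x' * x' = 1 ∧ x'.1 • (pinf : Projectivization F (Fin 4 → F)) ≠ pinf

theorem conj_invOff {m : ℕ} (hm : 1 ≤ m) (hF : Fintype.card F = 2 ^ (2 * m + 1))
    {u : ↥(Cfsg.Sz F m)} (hu1 : u ≠ 1) (hu2 : u * u = 1)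
    (hfix : u.1 • (pinf : Projectivization F (Fin 4 → F)) = pinf) {y : ↥(Cfsg.Sz F m)}
    (hy : y.1 • (pinf : Projectivization F (Fin 4 → F)) ≠ pinf) : InvOff m (y * u * y⁻¹) := by
  have hx'2 : (y * u * y⁻¹) * (y * u * y⁻¹) = 1 := by
    calc (y * u * y⁻¹) * (y * u * y⁻¹) = y * (u * u) * y⁻¹ := by group
      _ = 1 := by rw [hu2]; group
  have hx'fix : (y * u * y⁻¹).1 • (y.1 • (pinf : Projectivization F (Fin 4 → F))) =
      y.1 • pinf := by
    show (y.1 * u.1 * y.1⁻¹) • (y.1 • (pinf : Projectivization F (Fin 4 → F))) = _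
    rw [mul_smul, mul_smul, inv_smul_smul, hfix]
  have hx'1 : y * u * y⁻¹ ≠ 1 := fun e => hu1 (eq_one_of_conj_eq_one e)
  refine ⟨hx'1, hx'2, ?_⟩
  intro e
  exact hy (invol_fix_unique hm hF (y * u * y⁻¹).2 (fun e' => hx'1 (Subtype.ext e'))
    (congrArg Subtype.val hx'2) (smul_mem_ovoid y.2 (pinf_mem m)) (pinf_mem m) hx'fix e)

/-- Counting the part of the solubilizer of an involution `u` off the stabiliser of its fixed
point, fibred over the conjugates `y u y⁻¹`. -/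
theorem card_solOff_gen {m : ℕ} (hm : 1 ≤ m) (hp : (2 * m + 1).Prime)
    (hF : Fintype.card F = 2 ^ (2 * m + 1)) {u : ↥(Cfsg.Sz F m)} (hu1 : u ≠ 1)
    (hu2 : u * u = 1) (hfix : u.1 • (pinf : Projectivization F (Fin 4 → F)) = pinf)
    (R : ↥(Cfsg.Sz F m) → Prop) (c : ℕ)
    (hc : ∀ x' : ↥(Cfsg.Sz F m), InvOff m x' → R x' →
      Nat.card {t : ↥(Cfsg.Sz F m) // t ∈ Subgroup.normalizer
        ((Subgroup.centralizer ({u * x'} : Set ↥(Cfsg.Sz F m)) : Subgroup ↥(Cfsg.Sz F m)) :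
          Set ↥(Cfsg.Sz F m)) ∧ t * u = u * t} = c) :
    Nat.card {y : ↥(Cfsg.Sz F m) //
        (y.1 • (pinf : Projectivization F (Fin 4 → F)) ≠ pinf ∧
          Group.IsSolvable ↥(Subgroup.closure ({u, y} : Set ↥(Cfsg.Sz F m)))) ∧
        R (y * u * y⁻¹)} =
      c * Nat.card {x' : ↥(Cfsg.Sz F m) // InvOff m x' ∧ R x'} := by
  classical
  have : Fintype ↥(Cfsg.Sz F m) := Fintype.ofFinite _
  rw [Nat.subtype_card (Finset.univ.filter (fun y : ↥(Cfsg.Sz F m) =>
      (y.1 • (pinf : Projectivization F (Fin 4 → F)) ≠ pinf ∧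
        Group.IsSolvable ↥(Subgroup.closure ({u, y} : Set ↥(Cfsg.Sz F m)))) ∧
      R (y * u * y⁻¹))) (by simp),
    Nat.subtype_card (Finset.univ.filter (fun x' : ↥(Cfsg.Sz F m) => InvOff m x' ∧ R x'))
      (by simp)]
  rw [Finset.card_eq_sum_card_fiberwise (f := fun y : ↥(Cfsg.Sz F m) => y * u * y⁻¹)
    (t := Finset.univ.filter (fun x' : ↥(Cfsg.Sz F m) => InvOff m x' ∧ R x'))]
  · rw [Finset.sum_const_nat (m := c)]
    · ring
    · intro x' hx'
      rw [Finset.mem_filter] at hx'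
      obtain ⟨-, hI, hR⟩ := hx'
      rw [← hc x' hI hR, ← card_fib hm hF hu1 hu2 hfix hI.1 hI.2.1 hI.2.2]
      symm
      apply Nat.subtype_card
      intro y
      simp only [Finset.mem_filter, Finset.mem_univ, true_and]
      constructor
      · rintro ⟨⟨⟨hy, hsol⟩, hRy⟩, rfl⟩
        exact ⟨rfl, (sol_off_iff hm hp hF hu1 hu2 hfix y hy).1 hsol⟩
      · rintro ⟨rfl, hyN⟩
        have hy : y.1 • (pinf : Projectivization F (Fin 4 → F)) ≠ pinf := by
          intro e
          apply hI.2.2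
          show (y.1 * u.1 * y.1⁻¹) • (pinf : Projectivization F (Fin 4 → F)) = pinf
          rw [mul_smul, mul_smul, inv_smul_eq_iff.2 e.symm, hfix, e]
        exact ⟨⟨⟨hy, (sol_off_iff hm hp hF hu1 hu2 hfix y hy).2 hyN⟩, hR⟩, rfl⟩
  · intro y hy
    simp only [Finset.coe_filter, Finset.mem_univ, true_and, Set.mem_setOf_eq] at hy ⊢
    exact ⟨conj_invOff hm hF hu1 hu2 hfix hy.1.1, hy.2⟩

omit [Fintype F] in
theorem sWD_sq (m : ℕ) (z : Fˣ) :
    (sW * sD m z) * (sW * sD m z) = (1 : Matrix.SpecialLinearGroup (Fin 4) F) := by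
  have e : sD m z * sW = sW * sD m z⁻¹ := by rw [sW_sD m z⁻¹, inv_inv]
  calc (sW * sD m z) * (sW * sD m z) = sW * (sD m z * sW) * sD m z := by group
    _ = sW * (sW * sD m z⁻¹) * sD m z := by rw [e]
    _ = (sW * sW) * (sD m z⁻¹ * sD m z) := by group
    _ = 1 := by rw [sW_sq, ← sD_mul, inv_mul_cancel, sD_one, one_mul]

/-- The involutions mapping `a` to `b` are parametrised by the torus. -/
theorem card_invol_swap {m : ℕ} (hm : 1 ≤ m) (hF : Fintype.card F = 2 ^ (2 * m + 1))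
    {a b : Projectivization F (Fin 4 → F)} (ha : a ∈ Cfsg.suzukiOvoid F m)
    (hb : b ∈ Cfsg.suzukiOvoid F m) (hab : a ≠ b) :
    Nat.card {x' : ↥(Cfsg.Sz F m) // x' * x' = 1 ∧ x'.1 • a = b} = 2 ^ (2 * m + 1) - 1 := by
  have h := szHyp_of_card hF
  obtain ⟨k, hk, hka, hkb⟩ := exists_to_inf_zero h ha hb hab
  have hkb' : k⁻¹ • paff m (0 : F) 0 = b := by rw [inv_smul_eq_iff]; exact hkb.symm
  have hka' : k⁻¹ • (pinf : Projectivization F (Fin 4 → F)) = a := by
    rw [inv_smul_eq_iff]; exact hka.symm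
  have hbij : Function.Bijective (fun z : Fˣ =>
      (⟨⟨k⁻¹ * (sW * sD m z) * k,
          mul_mem (mul_mem (inv_mem hk) (mul_mem (sW_mem h) (sD_mem h z))) hk⟩, by
        constructor
        · apply Subtype.ext
          show (k⁻¹ * (sW * sD m z) * k) * (k⁻¹ * (sW * sD m z) * k) = 1
          calc (k⁻¹ * (sW * sD m z) * k) * (k⁻¹ * (sW * sD m z) * k)
              = k⁻¹ * ((sW * sD m z) * (sW * sD m z)) * k := by group
            _ = 1 := by rw [sWD_sq]; group
        · show (k⁻¹ * (sW * sD m z) * k) • a = b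
          rw [mul_smul, mul_smul, mul_smul, hka, sD_pinf, sW_pinf m, hkb']⟩ :
        {x' : ↥(Cfsg.Sz F m) // x' * x' = 1 ∧ x'.1 • a = b})) := by
    constructor
    · intro z z' e
      have e1 : k⁻¹ * (sW * sD m z) * k = k⁻¹ * (sW * sD m z') * k :=
        congrArg (fun t : {x' : ↥(Cfsg.Sz F m) // x' * x' = 1 ∧ x'.1 • a = b} => t.1.1) e
      exact sD_inj m (mul_left_cancel (mul_left_cancel (mul_right_cancel e1)))
    · rintro ⟨x', hx'2, hx'a⟩
      have hx'2' : x'.1 * x'.1 = 1 := congrArg Subtype.val hx'2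
      have hx'b : x'.1 • b = a := by
        rw [← hx'a, ← mul_smul, hx'2', one_smul]
      have h1 : (sW * (k * x'.1 * k⁻¹)) • (pinf : Projectivization F (Fin 4 → F)) = pinf := by
        rw [mul_smul, mul_smul, mul_smul, hka', hx'a, hkb, sW_paff_zero m]
      have h2 : (sW * (k * x'.1 * k⁻¹)) • paff m (0 : F) 0 = paff m 0 0 := by
        rw [mul_smul, mul_smul, mul_smul, hkb', hx'b, hka, sW_pinf m]
      obtain ⟨z, hz⟩ := two_point_stab hm hF
        (mul_mem (sW_mem h) (mul_mem (mul_mem hk x'.2) (inv_mem hk))) h1 h2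
      refine ⟨z, Subtype.ext (Subtype.ext ?_)⟩
      show k⁻¹ * (sW * sD m z) * k = x'.1
      rw [← hz]
      calc k⁻¹ * (sW * (sW * (k * x'.1 * k⁻¹))) * k
          = k⁻¹ * ((sW * sW) * (k * x'.1 * k⁻¹)) * k := by group
        _ = x'.1 := by rw [sW_sq]; group
  rw [← Nat.card_congr (Equiv.ofBijective _ hbij), Nat.card_units, Nat.card_eq_fintype_card, hF]

/-- For a point `a ≠ ∞`, the involutions `x'` off `∞` such that `u x'` fixes `a`. -/
theorem card_invOff_fix_pt {m : ℕ} (hm : 1 ≤ m) (hF : Fintype.card F = 2 ^ (2 * m + 1))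
    {u : ↥(Cfsg.Sz F m)} (hu1 : u ≠ 1) (hu2 : u * u = 1)
    (hfix : u.1 • (pinf : Projectivization F (Fin 4 → F)) = pinf) (c d : F) :
    Nat.card {x' : ↥(Cfsg.Sz F m) // InvOff m x' ∧ (u * x').1 • paff m c d = paff m c d} =
      2 ^ (2 * m + 1) - 2 := by
  have h := szHyp_of_card hF
  have huinv : u⁻¹ = u := inv_eq_of_mul_eq_one_right hu2
  have hune : u.1 ≠ 1 := fun e => hu1 (Subtype.ext e)
  have hu2' : u.1 * u.1 = 1 := congrArg Subtype.val hu2
  have ha : paff m c d ∈ Cfsg.suzukiOvoid F m := paff_mem m c d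
  have hb : u.1 • paff m c d ∈ Cfsg.suzukiOvoid F m := smul_mem_ovoid u.2 ha
  have hab : paff m c d ≠ u.1 • paff m c d := by
    intro e
    exact paff_ne_pinf m c d (invol_fix_unique hm hF u.2 hune hu2' ha (pinf_mem m) e.symm hfix)
  have hbinf : u.1 • paff m c d ≠ pinf := by
    intro e
    apply paff_ne_pinf m c d
    have h3 := congrArg (fun p => u.1 • p) e
    simp only [← mul_smul, hu2', one_smul, hfix] at h3
    exact h3
  have hiff : ∀ x' : ↥(Cfsg.Sz F m),
      (InvOff m x' ∧ (u * x').1 • paff m c d = paff m c d) ↔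
      ((x' * x' = 1 ∧ x'.1 • paff m c d = u.1 • paff m c d) ∧ x' ≠ u) := by
    intro x'
    constructor
    · rintro ⟨⟨hx'1, hx'2, hoff⟩, hfixa⟩
      refine ⟨⟨hx'2, ?_⟩, ?_⟩
      · have h3 : u.1 • (x'.1 • paff m c d) = paff m c d := by rw [← mul_smul]; exact hfixa
        have h4 : x'.1 • paff m c d = u.1 • (u.1 • (x'.1 • paff m c d)) := by
          rw [← mul_smul u.1 u.1, hu2', one_smul]
        rw [h4, h3]
      · rintro rfl
        exact hoff hfix
    · rintro ⟨⟨hx'2, hx'a⟩, hne⟩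
      have hx'2' : x'.1 * x'.1 = 1 := congrArg Subtype.val hx'2
      have hva : (u * x').1 • paff m c d = paff m c d := by
        show (u.1 * x'.1) • paff m c d = paff m c d
        rw [mul_smul, hx'a, ← mul_smul, hu2', one_smul]
      refine ⟨⟨?_, hx'2, ?_⟩, hva⟩
      · rintro rfl
        apply hab
        rw [← hx'a]
        exact (one_smul _ _).symm
      · intro hoff
        have hv1 : (u * x').1 ≠ 1 := by
          intro e
          apply hne
          have e' : u * x' = 1 := Subtype.ext e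
          rw [← huinv]
          exact eq_inv_of_mul_eq_one_right e'
        have hvb : (u * x').1 • (u.1 • paff m c d) = u.1 • paff m c d := by
          show (u.1 * x'.1) • (u.1 • paff m c d) = _
          rw [mul_smul, ← hx'a, ← mul_smul x'.1 x'.1, hx'2', one_smul]
          exact hx'a.symm
        have hvinf : (u * x').1 • (pinf : Projectivization F (Fin 4 → F)) = pinf := by
          show (u.1 * x'.1) • (pinf : Projectivization F (Fin 4 → F)) = pinf
          rw [mul_smul, hoff, hfix]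
        rcases fix_two hm hF (u * x').2 hv1 ha hb (pinf_mem m) hab hva hvb hvinf with e | e
        · exact paff_ne_pinf m c d e.symm
        · exact hbinf e.symm
  rw [Nat.card_congr (Equiv.subtypeEquivRight hiff)]
  have hset : Nat.card {x' : ↥(Cfsg.Sz F m) //
      (x' * x' = 1 ∧ x'.1 • paff m c d = u.1 • paff m c d) ∧ x' ≠ u} =
      ({x' : ↥(Cfsg.Sz F m) | x' * x' = 1 ∧ x'.1 • paff m c d = u.1 • paff m c d} \ {u}).ncard := by
    rw [← Nat.card_coe_set_eq]; rfl
  have e5 : ({x' : ↥(Cfsg.Sz F m) |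
      x' * x' = 1 ∧ x'.1 • paff m c d = u.1 • paff m c d}).ncard = 2 ^ (2 * m + 1) - 1 := by
    rw [← Nat.card_coe_set_eq]
    exact card_invol_swap hm hF ha hb hab
  rw [hset, Set.ncard_sdiff_singleton_of_mem (show u ∈ {x' : ↥(Cfsg.Sz F m) |
      x' * x' = 1 ∧ x'.1 • paff m c d = u.1 • paff m c d} from ⟨hu2, rfl⟩), e5]
  omega

/-- If `u x'` has a fixed point, it fixes exactly two affine points. -/
theorem card_fix_pts_nonfpf {m : ℕ} (hm : 1 ≤ m) (hF : Fintype.card F = 2 ^ (2 * m + 1))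
    {u x' : ↥(Cfsg.Sz F m)} (hu1 : u ≠ 1) (hu2 : u * u = 1)
    (hfix : u.1 • (pinf : Projectivization F (Fin 4 → F)) = pinf) (hI : InvOff m x')
    (hnf : ¬ IsFpf m (u * x').1) :
    Nat.card {cd : F × F // (u * x').1 • paff m cd.1 cd.2 = paff m cd.1 cd.2} = 2 := by
  have hv4 := invol_mul_pow_four hm hF hu1 hu2 hfix hI.2.1 hI.2.2
  have hv1 : (u * x').1 ≠ 1 := by
    intro e
    apply hv4
    rw [show u * x' = 1 from Subtype.ext e, one_pow]
  unfold IsFpf at hnf
  push Not at hnf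
  obtain ⟨p, hp, hvp⟩ := hnf
  obtain ⟨a, ha, b, hb, hab, hva, hvb⟩ := exists_two_fix_of_fix hm hF hv4 hp hvp
  have hvinf : (u * x').1 • (pinf : Projectivization F (Fin 4 → F)) ≠ pinf := by
    intro e
    apply hI.2.2
    have e' : u.1 • (x'.1 • (pinf : Projectivization F (Fin 4 → F))) = pinf := by
      rw [← mul_smul]; exact e
    have h3 := congrArg (fun p => u.1⁻¹ • p) e'
    simp only [inv_smul_smul] at h3
    rw [h3, inv_smul_eq_iff]
    exact hfix.symm
  rcases (mem_ovoid_iff' a).1 ha with rfl | ⟨c₁, d₁, rfl⟩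
  · exact absurd hva hvinf
  rcases (mem_ovoid_iff' b).1 hb with rfl | ⟨c₂, d₂, rfl⟩
  · exact absurd hvb hvinf
  have hne : ((c₁, d₁) : F × F) ≠ (c₂, d₂) := by
    intro e
    simp only [Prod.mk.injEq] at e
    obtain ⟨rfl, rfl⟩ := e
    exact hab rfl
  have hset : {cd : F × F | (u * x').1 • paff m cd.1 cd.2 = paff m cd.1 cd.2} =
      {(c₁, d₁), (c₂, d₂)} := by
    ext cd
    simp only [Set.mem_setOf_eq, Set.mem_insert_iff, Set.mem_singleton_iff]
    constructor
    · intro hcd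
      rcases fix_two hm hF (u * x').2 hv1 (paff_mem m c₁ d₁) (paff_mem m c₂ d₂)
        (paff_mem m cd.1 cd.2) hab hva hvb hcd with e | e
      · left; exact Prod.ext (paff_inj.1 e).1 (paff_inj.1 e).2
      · right; exact Prod.ext (paff_inj.1 e).1 (paff_inj.1 e).2
    · rintro (rfl | rfl)
      · exact hva
      · exact hvb
  rw [← Set.ncard_pair hne, ← hset, ← Nat.card_coe_set_eq]
  rfl

/-- Twice the number of involutions `x'` off `∞` with `u x'` not fixed-point-free. -/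
theorem card_invOff_nonfpf {m : ℕ} (hm : 1 ≤ m) (hF : Fintype.card F = 2 ^ (2 * m + 1))
    {u : ↥(Cfsg.Sz F m)} (hu1 : u ≠ 1) (hu2 : u * u = 1)
    (hfix : u.1 • (pinf : Projectivization F (Fin 4 → F)) = pinf) :
    2 * Nat.card {x' : ↥(Cfsg.Sz F m) // InvOff m x' ∧ ¬ IsFpf m (u * x').1} =
      (2 ^ (2 * m + 1)) ^ 2 * (2 ^ (2 * m + 1) - 2) := by
  classical
  have : Fintype ↥(Cfsg.Sz F m) := Fintype.ofFinite _
  have key := Finset.sum_card_bipartiteAbove_eq_sum_card_bipartiteBelow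
    (s := (Finset.univ : Finset (F × F)))
    (t := Finset.univ.filter (fun x' : ↥(Cfsg.Sz F m) => InvOff m x'))
    (r := fun (cd : F × F) (x' : ↥(Cfsg.Sz F m)) =>
      (u * x').1 • paff m cd.1 cd.2 = paff m cd.1 cd.2)
  have hL : ∀ cd ∈ (Finset.univ : Finset (F × F)),
      ((Finset.univ.filter (fun x' : ↥(Cfsg.Sz F m) => InvOff m x')).bipartiteAbove
        (fun (cd : F × F) (x' : ↥(Cfsg.Sz F m)) =>
          (u * x').1 • paff m cd.1 cd.2 = paff m cd.1 cd.2) cd).card = 2 ^ (2 * m + 1) - 2 := by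
    intro cd _
    rw [← card_invOff_fix_pt hm hF hu1 hu2 hfix cd.1 cd.2]
    symm
    apply Nat.subtype_card
    intro x'
    simp only [Finset.bipartiteAbove, Finset.mem_filter, Finset.mem_univ, true_and]
  have hR0 : ∀ x' ∈ (Finset.univ.filter (fun x' : ↥(Cfsg.Sz F m) => InvOff m x')).filter
        (fun x' => IsFpf m (u * x').1),
      ((Finset.univ : Finset (F × F)).bipartiteBelow
        (fun (cd : F × F) (x' : ↥(Cfsg.Sz F m)) =>
          (u * x').1 • paff m cd.1 cd.2 = paff m cd.1 cd.2) x').card = 0 := by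
    intro x' hx'
    rw [Finset.mem_filter] at hx'
    rw [Finset.card_eq_zero, Finset.bipartiteBelow, Finset.filter_eq_empty_iff]
    intro cd _ hcd
    exact hx'.2 _ (paff_mem m cd.1 cd.2) hcd
  have hR2 : ∀ x' ∈ (Finset.univ.filter (fun x' : ↥(Cfsg.Sz F m) => InvOff m x')).filter
        (fun x' => ¬ IsFpf m (u * x').1),
      ((Finset.univ : Finset (F × F)).bipartiteBelow
        (fun (cd : F × F) (x' : ↥(Cfsg.Sz F m)) =>
          (u * x').1 • paff m cd.1 cd.2 = paff m cd.1 cd.2) x').card = 2 := by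
    intro x' hx'
    rw [Finset.mem_filter, Finset.mem_filter] at hx'
    rw [← card_fix_pts_nonfpf hm hF hu1 hu2 hfix hx'.1.2 hx'.2]
    symm
    apply Nat.subtype_card
    intro cd
    simp only [Finset.bipartiteBelow, Finset.mem_filter, Finset.mem_univ, true_and]
  rw [Finset.sum_const_nat hL, ← Finset.sum_filter_add_sum_filter_not
      (Finset.univ.filter (fun x' : ↥(Cfsg.Sz F m) => InvOff m x'))
      (fun x' => IsFpf m (u * x').1),
    Finset.sum_const_nat hR0, Finset.sum_const_nat hR2, Finset.card_univ, Fintype.card_prod,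
    hF] at key
  simp only [Finset.filter_filter] at key
  rw [Nat.subtype_card (Finset.univ.filter (fun x' : ↥(Cfsg.Sz F m) =>
    InvOff m x' ∧ ¬ IsFpf m (u * x').1)) (by simp)]
  rw [mul_zero, zero_add] at key
  rw [mul_comm, ← key]
  ring

/-- The part of the solubilizer of an involution `u` (fixing `∞`) off the stabiliser of `∞`
and of fixed-point-free type. -/
theorem card_solOff_fpf {m : ℕ} (hm : 1 ≤ m) (hp : (2 * m + 1).Prime)
    (hF : Fintype.card F = 2 ^ (2 * m + 1)) {u : ↥(Cfsg.Sz F m)} (hu1 : u ≠ 1)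
    (hu2 : u * u = 1) (hfix : u.1 • (pinf : Projectivization F (Fin 4 → F)) = pinf) :
    Nat.card {y : ↥(Cfsg.Sz F m) //
        (y.1 • (pinf : Projectivization F (Fin 4 → F)) ≠ pinf ∧
          Group.IsSolvable ↥(Subgroup.closure ({u, y} : Set ↥(Cfsg.Sz F m)))) ∧
        IsFpf m (u * (y * u * y⁻¹)).1} = 2 * (2 ^ (2 * m + 1)) ^ 3 := by
  have h4 := card_solOff_gen hm hp hF hu1 hu2 hfix (fun x' => IsFpf m (u * x').1) 4
    (fun x' hI hR => card_fib_fpf hm hF hu1 hu2 hfix hI.1 hI.2.1 hI.2.2 hR)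
  have hI := card_split (fun x' : ↥(Cfsg.Sz F m) => InvOff m x')
    (fun x' => IsFpf m (u * x').1)
  have hItot : Nat.card {x' : ↥(Cfsg.Sz F m) // InvOff m x'} =
      (2 ^ (2 * m + 1)) ^ 2 * (2 ^ (2 * m + 1) - 1) := card_invol_off hm hF
  have hn0 := card_invOff_nonfpf hm hF hu1 hu2 hfix
  rw [h4]
  rw [hItot] at hI
  generalize Nat.card {x' : ↥(Cfsg.Sz F m) // InvOff m x' ∧ IsFpf m (u * x').1} = n₁ at hI ⊢
  generalize Nat.card {x' : ↥(Cfsg.Sz F m) // InvOff m x' ∧ ¬ IsFpf m (u * x').1} = n₀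
    at hI hn0
  obtain ⟨q', hq'⟩ : ∃ q', 2 ^ (2 * m + 1) = q' + 2 := ⟨2 ^ (2 * m + 1) - 2, by
    have : 2 ^ 1 ≤ 2 ^ (2 * m + 1) := Nat.pow_le_pow_right (by norm_num) (by omega)
    omega⟩
  rw [hq'] at hI hn0 ⊢
  have e1 : q' + 2 - 1 = q' + 1 := by omega
  have e2 : q' + 2 - 2 = q' := by omega
  rw [e1] at hI
  rw [e2] at hn0
  nlinarith [hI, hn0]

/-- The solubilizer of an involution fixing `∞`. -/
theorem solCount_invol_inf {m : ℕ} (hm : 1 ≤ m) (hp : (2 * m + 1).Prime)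
    (hF : Fintype.card F = 2 ^ (2 * m + 1)) {u : ↥(Cfsg.Sz F m)} (hu1 : u ≠ 1)
    (hu2 : u * u = 1) (hfix : u.1 • (pinf : Projectivization F (Fin 4 → F)) = pinf) :
    Nat.card {y : ↥(Cfsg.Sz F m) //
        Group.IsSolvable ↥(Subgroup.closure ({u, y} : Set ↥(Cfsg.Sz F m)))} =
      (2 ^ (2 * m + 1)) ^ 2 * (4 * 2 ^ (2 * m + 1) - 3) := by
  have hsplit1 := card_split
    (fun y : ↥(Cfsg.Sz F m) =>
      Group.IsSolvable ↥(Subgroup.closure ({u, y} : Set ↥(Cfsg.Sz F m))))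
    (fun y => y.1 • (pinf : Projectivization F (Fin 4 → F)) = pinf)
  have hA : Nat.card {y : ↥(Cfsg.Sz F m) //
      Group.IsSolvable ↥(Subgroup.closure ({u, y} : Set ↥(Cfsg.Sz F m))) ∧
        y.1 • (pinf : Projectivization F (Fin 4 → F)) = pinf} =
      (2 ^ (2 * m + 1)) ^ 2 * (2 ^ (2 * m + 1) - 1) := by
    rw [← card_stabPt hm hF (pinf_mem m)]
    apply Nat.card_congr
    apply Equiv.subtypeEquivRight
    intro y
    constructor
    · exact fun hy => hy.2
    · intro hy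
      exact ⟨(sol_iff hm hp hF u y).2 (Or.inl ⟨pinf, pinf_mem m, hfix, hy⟩), hy⟩
  have hB0 : Nat.card {y : ↥(Cfsg.Sz F m) //
      Group.IsSolvable ↥(Subgroup.closure ({u, y} : Set ↥(Cfsg.Sz F m))) ∧
        ¬ y.1 • (pinf : Projectivization F (Fin 4 → F)) = pinf} =
      Nat.card {y : ↥(Cfsg.Sz F m) //
        (y.1 • (pinf : Projectivization F (Fin 4 → F)) ≠ pinf ∧
          Group.IsSolvable ↥(Subgroup.closure ({u, y} : Set ↥(Cfsg.Sz F m))))} :=
    Nat.card_congr (Equiv.subtypeEquivRight (fun y => and_comm))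
  have hsplit2 := card_split
    (fun y : ↥(Cfsg.Sz F m) => (y.1 • (pinf : Projectivization F (Fin 4 → F)) ≠ pinf ∧
      Group.IsSolvable ↥(Subgroup.closure ({u, y} : Set ↥(Cfsg.Sz F m)))))
    (fun y => IsFpf m (u * (y * u * y⁻¹)).1)
  have h4 := card_solOff_gen hm hp hF hu1 hu2 hfix (fun x' => IsFpf m (u * x').1) 4
    (fun x' hI hR => card_fib_fpf hm hF hu1 hu2 hfix hI.1 hI.2.1 hI.2.2 hR)
  have h2 := card_solOff_gen hm hp hF hu1 hu2 hfix (fun x' => ¬ IsFpf m (u * x').1) 2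
    (fun x' hI hR => card_fib_nonfpf hm hF hu1 hu2 hfix hI.1 hI.2.1 hI.2.2 hR)
  have hI := card_split (fun x' : ↥(Cfsg.Sz F m) => InvOff m x')
    (fun x' => IsFpf m (u * x').1)
  have hItot : Nat.card {x' : ↥(Cfsg.Sz F m) // InvOff m x'} =
      (2 ^ (2 * m + 1)) ^ 2 * (2 ^ (2 * m + 1) - 1) := card_invol_off hm hF
  have hn0 := card_invOff_nonfpf hm hF hu1 hu2 hfix
  rw [hsplit1, hA, hB0, hsplit2, h4, h2]
  rw [hItot] at hI
  generalize Nat.card {x' : ↥(Cfsg.Sz F m) // InvOff m x' ∧ IsFpf m (u * x').1} = n₁ at hI ⊢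
  generalize Nat.card {x' : ↥(Cfsg.Sz F m) // InvOff m x' ∧ ¬ IsFpf m (u * x').1} = n₀
    at hI hn0 ⊢
  obtain ⟨q', hq'⟩ : ∃ q', 2 ^ (2 * m + 1) = q' + 2 := ⟨2 ^ (2 * m + 1) - 2, by
    have : 2 ^ 1 ≤ 2 ^ (2 * m + 1) := Nat.pow_le_pow_right (by norm_num) (by omega)
    omega⟩
  rw [hq'] at hI hn0 ⊢
  have e1 : q' + 2 - 1 = q' + 1 := by omega
  have e2 : q' + 2 - 2 = q' := by omega
  have e3 : 4 * (q' + 2) - 3 = 4 * q' + 5 := by omega
  rw [e1] at hI ⊢
  rw [e2] at hn0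
  rw [e3]
  nlinarith [hI, hn0]

end Cfsg.Agent.Lib.helper8
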