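/-
Suzuki group: the solubilizer of an element of order `4`.
-/
import Cfsg.Agent.Lib.helper8.SzSol5

set_option autoImplicit false

namespace Cfsg.Agent.Lib.helper8

open Matrix
open scoped Pointwise

variable {F : Type*} [Field F] [Fintype F]

/-- Every element of the field is of the form `θ t + t` or `θ t + t + 1`. -/
theorem exists_th_add {m : ℕ} (hF : Fintype.card F = 2 ^ (2 * m + 1)) (s : F) :
    ∃ t : F, th m t + t = s ∨ th m t + t = s + 1 := by
  classical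
  have h := szHyp_of_card hF
  have h2 := h.two
  let P : F →+ F :=
    { toFun := fun t => th m t + t
      map_zero' := by rw [th_zero, add_zero]
      map_add' := fun a b => by rw [th_add h]; ring }
  have hP : ∀ t : F, P t = th m t + t := fun t => rfl
  have hker : ∀ t : F, t ∈ P.ker ↔ t = 0 ∨ t = 1 := by
    intro t
    rw [AddMonoidHom.mem_ker, hP, add_eq_zero_iff_of_two h2]
    constructor
    · intro e
      have e2 : t ^ 2 = t := by rw [← th_th h, e, e]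
      have e3 : t * (t - 1) = 0 := by linear_combination e2
      rcases mul_eq_zero.1 e3 with h0 | h1
      · exact Or.inl h0
      · exact Or.inr (sub_eq_zero.1 h1)
    · rintro (rfl | rfl)
      · exact th_zero m
      · exact th_one m
  have hkc : Nat.card ↥P.ker = 2 := by
    rw [← Set.ncard_pair (zero_ne_one (α := F)), ← Nat.card_coe_set_eq]
    exact Nat.card_congr (Equiv.subtypeEquivRight (fun t => hker t))
  have hidx : P.range.index = 2 := by
    have h1 := AddSubgroup.card_mul_index P.ker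
    rw [AddSubgroup.index_ker, hkc] at h1
    have h3 := AddSubgroup.card_mul_index P.range
    have hpos : 0 < Nat.card ↥P.range := Nat.card_pos
    rw [← h1] at h3
    exact Nat.eq_of_mul_eq_mul_left hpos (by rw [h3]; ring)
  have h1n : (1 : F) ∉ P.range := by
    rintro ⟨t, ht⟩
    rw [hP] at ht
    have e1 : th m (th m t) + th m t = 1 := by rw [← th_add h, ht, th_one]
    rw [th_th h] at e1
    have e2 : t * (t + 1) = 0 := by linear_combination e1 + ht + (1 - th m t) * h2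
    rcases mul_eq_zero.1 e2 with h0 | h0
    · rw [h0, th_zero, add_zero] at ht
      exact zero_ne_one ht
    · have ht1 : t = 1 := (add_eq_zero_iff_of_two h2).1 h0
      rw [ht1, th_one] at ht
      have : (1 : F) = 0 := by linear_combination ht
      exact one_ne_zero this
  by_cases hs : s ∈ P.range
  · obtain ⟨t, ht⟩ := hs
    exact ⟨t, Or.inl ht⟩
  · have h5 := (AddSubgroup.add_mem_iff_of_index_two hidx (a := s) (b := 1)).2
      ⟨fun h6 => absurd h6 hs, fun h6 => absurd h6 h1n⟩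
    obtain ⟨t, ht⟩ := h5
    exact ⟨t, Or.inr ht⟩

/-- Two elements of order `4` with the same square are conjugate up to inversion. -/
theorem exists_conj_order_four {m : ℕ} (hF : Fintype.card F = 2 ^ (2 * m + 1)) {a₀ : F}
    (ha₀ : a₀ ≠ 0) (b₁ b : F) :
    ∃ c d : F,
      gT (szHyp_of_card hF) c d * gT (szHyp_of_card hF) a₀ b₁ * (gT (szHyp_of_card hF) c d)⁻¹ =
        gT (szHyp_of_card hF) a₀ b ∨
      gT (szHyp_of_card hF) c d * (gT (szHyp_of_card hF) a₀ b₁)⁻¹ *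
        (gT (szHyp_of_card hF) c d)⁻¹ = gT (szHyp_of_card hF) a₀ b := by
  have h := szHyp_of_card hF
  have h2 := h.two
  have hκ : a₀ * th m a₀ ≠ 0 := mul_ne_zero ha₀ (th_ne_zero ha₀)
  obtain ⟨t, ht⟩ := exists_th_add hF ((b + b₁) / (a₀ * th m a₀))
  refine ⟨a₀ * t, 0, ?_⟩
  rcases ht with ht | ht
  · left
    have ht' : (th m t + t) * (a₀ * th m a₀) = b + b₁ := by rw [ht, div_mul_cancel₀ _ hκ]
    apply Subtype.ext
    show sT m (a₀ * t) 0 * sT m a₀ b₁ * (sT m (a₀ * t) 0)⁻¹ = sT m a₀ b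
    rw [sT_conj_sT h]
    congr 1
    rw [th_mul]
    linear_combination ht' + b₁ * h2
  · right
    have ht' : (th m t + t) * (a₀ * th m a₀) = b + b₁ + a₀ * th m a₀ := by
      rw [ht, add_mul, div_mul_cancel₀ _ hκ, one_mul]
    apply Subtype.ext
    show sT m (a₀ * t) 0 * (sT m a₀ b₁)⁻¹ * (sT m (a₀ * t) 0)⁻¹ = sT m a₀ b
    rw [sT_inv h, sT_conj_sT h]
    congr 1
    rw [th_mul]
    linear_combination ht' + (b₁ + a₀ * th m a₀) * h2

/-- The square roots of the square of `gT a₀ b₁`. -/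
theorem sqrt_invol_form {m : ℕ} (hm : 1 ≤ m) (hF : Fintype.card F = 2 ^ (2 * m + 1)) {a₀ : F}
    (ha₀ : a₀ ≠ 0) (b₁ : F) {t : ↥(Cfsg.Sz F m)}
    (ht : t * t = gT (szHyp_of_card hF) a₀ b₁ * gT (szHyp_of_card hF) a₀ b₁) :
    ∃ b : F, t = gT (szHyp_of_card hF) a₀ b := by
  have h := szHyp_of_card hF
  have hκ : th m a₀ * a₀ ≠ 0 := mul_ne_zero (th_ne_zero ha₀) ha₀
  rw [gT_sq h] at ht
  have hu1 : gT h 0 (th m a₀ * a₀) ≠ 1 := gT_zero_ne_one h hκ
  have hu2 : gT h 0 (th m a₀ * a₀) * gT h 0 (th m a₀ * a₀) = 1 := gT_zero_sq h _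
  have hcomm : t * gT h 0 (th m a₀ * a₀) = gT h 0 (th m a₀ * a₀) * t := by
    rw [← ht]; group
  have hfixu : (gT h 0 (th m a₀ * a₀)).1 • (pinf : Projectivization F (Fin 4 → F)) = pinf :=
    sT_pinf m _ _
  have htfix : t.1 • (pinf : Projectivization F (Fin 4 → F)) = pinf :=
    comm_fix hm hF t.2 (gT h 0 (th m a₀ * a₀)).2 (fun e => hu1 (Subtype.ext e))
      (congrArg Subtype.val hu2) (congrArg Subtype.val hcomm) (pinf_mem m) hfixu
  have ht4 : t.1 ^ 4 = 1 := by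
    have e1 : t.1 * t.1 = sT m 0 (th m a₀ * a₀) := congrArg Subtype.val ht
    calc t.1 ^ 4 = (t.1 * t.1) * (t.1 * t.1) := by
          simp only [pow_succ, pow_zero, one_mul, mul_assoc]
      _ = 1 := by rw [e1, sT_zero_sq h]
  obtain ⟨a, b, e⟩ := two_elt_at_inf hm hF t.2 ht4 htfix
  have e1 : sT m a b * sT m a b = sT m 0 (th m a₀ * a₀) := by
    rw [← e]; exact congrArg Subtype.val ht
  rw [sT_mul h] at e1
  obtain ⟨-, e2⟩ := sT_inj h e1
  have e3 : a * th m a = a₀ * th m a₀ := by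
    have h2 := h.two
    linear_combination e2 - b * h2
  have ha : a = a₀ := kappa_injective h e3
  subst ha
  exact ⟨b, Subtype.ext e⟩

theorem card_sqrt_invol {m : ℕ} (hm : 1 ≤ m) (hF : Fintype.card F = 2 ^ (2 * m + 1)) {a₀ : F}
    (ha₀ : a₀ ≠ 0) (b₁ : F) :
    Nat.card {t : ↥(Cfsg.Sz F m) //
        t * t = gT (szHyp_of_card hF) a₀ b₁ * gT (szHyp_of_card hF) a₀ b₁} =
      2 ^ (2 * m + 1) := by
  have h := szHyp_of_card hF
  have hbij : Function.Bijective (fun b : F =>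
      (⟨gT h a₀ b, by rw [gT_sq h, gT_sq h]⟩ :
        {t : ↥(Cfsg.Sz F m) // t * t = gT h a₀ b₁ * gT h a₀ b₁})) := by
    constructor
    · intro b b' e
      have e1 : sT m a₀ b = sT m a₀ b' :=
        congrArg (fun t : {t : ↥(Cfsg.Sz F m) // t * t = gT h a₀ b₁ * gT h a₀ b₁} => t.1.1) e
      exact (sT_inj h e1).2
    · rintro ⟨t, ht⟩
      obtain ⟨b, hb⟩ := sqrt_invol_form hm hF ha₀ b₁ ht
      exact ⟨b, Subtype.ext hb.symm⟩
  rw [← Nat.card_congr (Equiv.ofBijective _ hbij), Nat.card_eq_fintype_card, hF]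

theorem solv_inv {G : Type*} [Group G] (x y : G) :
    Group.IsSolvable ↥(Subgroup.closure ({x⁻¹, y} : Set G)) ↔
      Group.IsSolvable ↥(Subgroup.closure ({x, y} : Set G)) := by
  have e : Subgroup.closure ({x⁻¹, y} : Set G) = Subgroup.closure ({x, y} : Set G) := by
    apply le_antisymm
    · rw [Subgroup.closure_le]
      intro g hg
      rcases Set.mem_insert_iff.1 hg with rfl | hg'
      · exact inv_mem (Subgroup.subset_closure (Set.mem_insert _ _))
      · exact Subgroup.subset_closure (Set.mem_insert_of_mem _ hg')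
    · rw [Subgroup.closure_le]
      intro g hg
      rcases Set.mem_insert_iff.1 hg with rfl | hg'
      · have := inv_mem (Subgroup.subset_closure
          (Set.mem_insert g⁻¹ {y}) : g⁻¹ ∈ Subgroup.closure ({g⁻¹, y} : Set G))
        rwa [inv_inv] at this
      · exact Subgroup.subset_closure (Set.mem_insert_of_mem _ hg')
  rw [e]

omit [Fintype F] in
/-- Conjugating by an element fixing `∞` preserves the size of the part of a solubilizer off
the stabiliser of `∞`. -/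
theorem card_solOff_conj {m : ℕ} (k x₀ : ↥(Cfsg.Sz F m))
    (hk : k.1 • (pinf : Projectivization F (Fin 4 → F)) = pinf) :
    Nat.card {y : ↥(Cfsg.Sz F m) // y.1 • (pinf : Projectivization F (Fin 4 → F)) ≠ pinf ∧
        Group.IsSolvable ↥(Subgroup.closure ({k * x₀ * k⁻¹, y} : Set ↥(Cfsg.Sz F m)))} =
      Nat.card {y : ↥(Cfsg.Sz F m) // y.1 • (pinf : Projectivization F (Fin 4 → F)) ≠ pinf ∧
        Group.IsSolvable ↥(Subgroup.closure ({x₀, y} : Set ↥(Cfsg.Sz F m)))} := by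
  apply Nat.card_congr
  refine (Equiv.subtypeEquiv (MulAut.conj k).toEquiv ?_).symm
  intro y
  have hk' : k.1⁻¹ • (pinf : Projectivization F (Fin 4 → F)) = pinf := by
    rw [inv_smul_eq_iff]; exact hk.symm
  have h1 : ((MulAut.conj k).toEquiv y).1 • (pinf : Projectivization F (Fin 4 → F)) = pinf ↔
      y.1 • (pinf : Projectivization F (Fin 4 → F)) = pinf := by
    show (k.1 * y.1 * k.1⁻¹) • (pinf : Projectivization F (Fin 4 → F)) = pinf ↔ _
    rw [mul_smul, mul_smul, hk']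
    constructor
    · intro e
      have e' := congrArg (fun p => k.1⁻¹ • p) e
      simp only [inv_smul_smul] at e'
      rw [e', hk']
    · intro e
      rw [e, hk]
  have h2 := solv_equiv (MulAut.conj k) x₀ y
  constructor
  · rintro ⟨hy, hs⟩
    exact ⟨fun e => hy (h1.1 e), h2.2 hs⟩
  · rintro ⟨hy, hs⟩
    exact ⟨fun e => hy (h1.2 e), h2.1 hs⟩

/-- All square roots of `x²` have solubilizers of the same size off the stabiliser of `∞`. -/
theorem card_solOff_sqrt_eq {m : ℕ} (hm : 1 ≤ m) (hF : Fintype.card F = 2 ^ (2 * m + 1))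
    {a₀ : F} (ha₀ : a₀ ≠ 0) (b₁ : F) (t : ↥(Cfsg.Sz F m))
    (ht : t * t = gT (szHyp_of_card hF) a₀ b₁ * gT (szHyp_of_card hF) a₀ b₁) :
    Nat.card {y : ↥(Cfsg.Sz F m) // y.1 • (pinf : Projectivization F (Fin 4 → F)) ≠ pinf ∧
        Group.IsSolvable ↥(Subgroup.closure ({t, y} : Set ↥(Cfsg.Sz F m)))} =
      Nat.card {y : ↥(Cfsg.Sz F m) // y.1 • (pinf : Projectivization F (Fin 4 → F)) ≠ pinf ∧
        Group.IsSolvable ↥(Subgroup.closure
          ({gT (szHyp_of_card hF) a₀ b₁, y} : Set ↥(Cfsg.Sz F m)))} := by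
  have h := szHyp_of_card hF
  obtain ⟨b, rfl⟩ := sqrt_invol_form hm hF ha₀ b₁ ht
  obtain ⟨c, d, e | e⟩ := exists_conj_order_four hF ha₀ b₁ b
  · rw [← e]
    exact card_solOff_conj _ _ (sT_pinf m c d)
  · rw [← e, card_solOff_conj _ _ (sT_pinf m c d)]
    exact Nat.card_congr (Equiv.subtypeEquivRight (fun y => and_congr Iff.rfl (solv_inv _ y)))

/-- In the normaliser of a torus on which the centraliser of the involution `u` has order
`4`, exactly two elements square to `u`. -/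
theorem card_sqrt_in_normalizer {m : ℕ} (hm : 1 ≤ m) (hF : Fintype.card F = 2 ^ (2 * m + 1))
    {U : Subgroup ↥(Cfsg.Sz F m)} (hU : IsTorus m U) {u : ↥(Cfsg.Sz F m)}
    (huN : u ∈ Subgroup.normalizer (U : Set ↥(Cfsg.Sz F m))) (hu1 : u ≠ 1) (hu2 : u * u = 1)
    (h4 : Nat.card {t : ↥(Cfsg.Sz F m) // t ∈ Subgroup.normalizer (U : Set ↥(Cfsg.Sz F m)) ∧
      t * u = u * t} = 4) :
    Nat.card {t : ↥(Cfsg.Sz F m) // t * t = u ∧
      t ∈ Subgroup.normalizer (U : Set ↥(Cfsg.Sz F m))} = 2 := by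
  have hH : Nat.card ↥(Subgroup.normalizer (U : Set ↥(Cfsg.Sz F m)) ⊓
      Subgroup.centralizer ({u} : Set ↥(Cfsg.Sz F m))) = 4 := by
    refine Eq.trans ?_ h4
    apply Nat.card_congr
    apply Equiv.subtypeEquivRight
    intro t
    rw [Subgroup.mem_inf, Subgroup.mem_centralizer_iff]
    constructor
    · rintro ⟨h1, h2⟩
      exact ⟨h1, (h2 u rfl).symm⟩
    · rintro ⟨h1, h2⟩
      exact ⟨h1, fun y hy => by rw [Set.mem_singleton_iff.1 hy]; exact h2.symm⟩
  have hinvol : ∀ w : ↥(Cfsg.Sz F m), w ∈ Subgroup.normalizer (U : Set ↥(Cfsg.Sz F m)) →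
      w * u = u * w → w * w = 1 → w = 1 ∨ w = u := by
    intro w hwN hwu hw2
    by_contra hcon
    push Not at hcon
    obtain ⟨hw1, hwne⟩ := hcon
    obtain ⟨h5, h6⟩ := torus_invol_mul hm hF hU huN hu1 hu2 hwN hw1 hw2 (Ne.symm hwne)
    apply h6
    apply torus_sq hm hF hU h5
    calc (u * w) * (u * w) = u * (w * u) * w := by group
      _ = u * (u * w) * w := by rw [hwu]
      _ = (u * u) * (w * w) := by group
      _ = 1 := by rw [hu2, hw2, one_mul]
  have hsq : ∀ t : ↥(Cfsg.Sz F m), t ∈ Subgroup.normalizer (U : Set ↥(Cfsg.Sz F m)) →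
      t * u = u * t → t ≠ 1 → t ≠ u → t * t = u := by
    intro t htN htu ht1 htne
    have htH : t ∈ Subgroup.normalizer (U : Set ↥(Cfsg.Sz F m)) ⊓
        Subgroup.centralizer ({u} : Set ↥(Cfsg.Sz F m)) := by
      rw [Subgroup.mem_inf, Subgroup.mem_centralizer_iff]
      exact ⟨htN, fun y hy => by rw [Set.mem_singleton_iff.1 hy]; exact htu.symm⟩
    have ht4 : t ^ 4 = 1 := by
      have h7 := congrArg Subtype.val (pow_card_eq_one'
        (G := ↥(Subgroup.normalizer (U : Set ↥(Cfsg.Sz F m)) ⊓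
          Subgroup.centralizer ({u} : Set ↥(Cfsg.Sz F m)))) (x := ⟨t, htH⟩))
      rw [hH] at h7
      exact h7
    have hww : (t * t) * (t * t) = 1 := by
      rw [← ht4]; simp only [pow_succ, pow_zero, one_mul, mul_assoc]
    have hwu : (t * t) * u = u * (t * t) := by
      calc (t * t) * u = t * (t * u) := by group
        _ = t * (u * t) := by rw [htu]
        _ = (t * u) * t := by group
        _ = (u * t) * t := by rw [htu]
        _ = u * (t * t) := by group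
    rcases hinvol (t * t) (mul_mem htN htN) hwu hww with h8 | h8
    · rcases hinvol t htN htu h8 with h9 | h9
      · exact absurd h9 ht1
      · exact absurd h9 htne
    · exact h8
  have hset : {t : ↥(Cfsg.Sz F m) | t * t = u ∧
      t ∈ Subgroup.normalizer (U : Set ↥(Cfsg.Sz F m))} =
      ((Subgroup.normalizer (U : Set ↥(Cfsg.Sz F m)) ⊓
        Subgroup.centralizer ({u} : Set ↥(Cfsg.Sz F m)) : Subgroup ↥(Cfsg.Sz F m)) :
          Set ↥(Cfsg.Sz F m)) \ {1, u} := by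
    ext t
    constructor
    · rintro ⟨ht2, htN⟩
      have htu : t * u = u * t := by rw [← ht2]; group
      refine ⟨⟨htN, ?_⟩, ?_⟩
      · exact Subgroup.mem_centralizer_iff.2
          (fun y hy => by rw [Set.mem_singleton_iff.1 hy]; exact htu.symm)
      · intro hmem
        rcases Set.mem_insert_iff.1 hmem with h1 | h1
        · rw [h1, mul_one] at ht2
          exact hu1 ht2.symm
        · rw [Set.mem_singleton_iff.1 h1, hu2] at ht2
          exact hu1 ht2.symm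
    · rintro ⟨⟨htN, htC⟩, hnot⟩
      have htu : t * u = u * t := (Subgroup.mem_centralizer_iff.1 htC u rfl).symm
      have ht1 : t ≠ 1 := fun e => hnot (Set.mem_insert_iff.2 (Or.inl e))
      have htne : t ≠ u := fun e => hnot (Set.mem_insert_of_mem _ e)
      exact ⟨hsq t htN htu ht1 htne, htN⟩
  have hsub : ({1, u} : Set ↥(Cfsg.Sz F m)) ⊆
      ((Subgroup.normalizer (U : Set ↥(Cfsg.Sz F m)) ⊓
        Subgroup.centralizer ({u} : Set ↥(Cfsg.Sz F m)) : Subgroup ↥(Cfsg.Sz F m)) :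
          Set ↥(Cfsg.Sz F m)) := by
    intro t ht
    rcases Set.mem_insert_iff.1 ht with h1 | h1
    · rw [h1]; exact one_mem _
    · rw [Set.mem_singleton_iff.1 h1]
      exact ⟨huN, Subgroup.mem_centralizer_iff.2
        (fun y hy => by rw [Set.mem_singleton_iff.1 hy])⟩
  have hcardset : Nat.card {t : ↥(Cfsg.Sz F m) // t * t = u ∧
      t ∈ Subgroup.normalizer (U : Set ↥(Cfsg.Sz F m))} =
      ({t : ↥(Cfsg.Sz F m) | t * t = u ∧
        t ∈ Subgroup.normalizer (U : Set ↥(Cfsg.Sz F m))}).ncard := by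
    rw [← Nat.card_coe_set_eq]; rfl
  rw [hcardset, hset, Set.ncard_sdiff hsub, Set.ncard_pair (Ne.symm hu1), ← Nat.card_coe_set_eq]
  have hH' : Nat.card ↥((Subgroup.normalizer (U : Set ↥(Cfsg.Sz F m)) ⊓
        Subgroup.centralizer ({u} : Set ↥(Cfsg.Sz F m)) : Subgroup ↥(Cfsg.Sz F m)) :
          Set ↥(Cfsg.Sz F m)) = 4 := hH
  rw [hH']

/-- The square roots `t` of an involution `u` (fixing `∞`) with `⟨t, y⟩` solvable, for `y` not
fixing `∞`. -/
theorem card_sqrt_sol {m : ℕ} (hm : 1 ≤ m) (hp : (2 * m + 1).Prime)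
    (hF : Fintype.card F = 2 ^ (2 * m + 1)) {u : ↥(Cfsg.Sz F m)} (hu1 : u ≠ 1)
    (hu2 : u * u = 1) (hfix : u.1 • (pinf : Projectivization F (Fin 4 → F)) = pinf)
    (y : ↥(Cfsg.Sz F m)) (hy : y.1 • (pinf : Projectivization F (Fin 4 → F)) ≠ pinf) :
    ((Group.IsSolvable ↥(Subgroup.closure ({u, y} : Set ↥(Cfsg.Sz F m))) ∧
        IsFpf m (u * (y * u * y⁻¹)).1) →
      Nat.card {t : ↥(Cfsg.Sz F m) // t * t = u ∧
        Group.IsSolvable ↥(Subgroup.closure ({t, y} : Set ↥(Cfsg.Sz F m)))} = 2) ∧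
    (¬ (Group.IsSolvable ↥(Subgroup.closure ({u, y} : Set ↥(Cfsg.Sz F m))) ∧
        IsFpf m (u * (y * u * y⁻¹)).1) →
      Nat.card {t : ↥(Cfsg.Sz F m) // t * t = u ∧
        Group.IsSolvable ↥(Subgroup.closure ({t, y} : Set ↥(Cfsg.Sz F m)))} = 0) := by
  have hI := conj_invOff hm hF hu1 hu2 hfix hy
  have hv4 := invol_mul_pow_four hm hF hu1 hu2 hfix hI.2.1 hI.2.2
  obtain ⟨huN, -⟩ := invol_normalizes hm hF hu2 hI.2.1 hv4
  have hT := cent_isTorus hm hF _ hv4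
  have hune : u.1 ≠ 1 := fun e => hu1 (Subtype.ext e)
  have hu2' : u.1 * u.1 = 1 := congrArg Subtype.val hu2
  have K : ∀ t : ↥(Cfsg.Sz F m), t * t = u →
      Group.IsSolvable ↥(Subgroup.closure ({t, y} : Set ↥(Cfsg.Sz F m))) →
      Group.IsSolvable ↥(Subgroup.closure ({u, y} : Set ↥(Cfsg.Sz F m))) ∧
        IsFpf m (u * (y * u * y⁻¹)).1 ∧
        t ∈ Subgroup.normalizer
          ((Subgroup.centralizer ({u * (y * u * y⁻¹)} : Set ↥(Cfsg.Sz F m)) :
            Subgroup ↥(Cfsg.Sz F m)) : Set ↥(Cfsg.Sz F m)) := by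
    intro t ht hsol
    rcases (sol_iff hm hp hF t y).1 hsol with ⟨p, hp', htp, hyp⟩ | ⟨U', hU', htU', hyU'⟩
    · exfalso
      have hup : u.1 • p = p := by
        rw [← ht]
        show (t.1 * t.1) • p = p
        rw [mul_smul, htp, htp]
      have hpp : p = pinf := invol_fix_unique hm hF u.2 hune hu2' hp' (pinf_mem m) hup hfix
      rw [hpp] at hyp
      exact hy hyp
    · have huU' : u ∈ Subgroup.normalizer (U' : Set ↥(Cfsg.Sz F m)) := by
        rw [← ht]; exact mul_mem htU' htU'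
      have hx'U : y * u * y⁻¹ ∈ Subgroup.normalizer (U' : Set ↥(Cfsg.Sz F m)) :=
        mul_mem (mul_mem hyU' huU') (inv_mem hyU')
      have hne : u ≠ y * u * y⁻¹ := by
        intro e
        apply hI.2.2
        rw [← e]; exact hfix
      obtain ⟨hvU, hv1⟩ := torus_invol_mul hm hF hU' huU' hu1 hu2 hx'U hI.1 hI.2.1 hne
      have hUeq := (torus_eq_cent hm hF hU' hvU hv1).2
      rw [hUeq] at htU' hyU'
      refine ⟨(sol_iff hm hp hF u y).2 (Or.inr ⟨_, hT, huN, hyU'⟩), ?_, htU'⟩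
      by_contra hnf
      unfold IsFpf at hnf
      push Not at hnf
      obtain ⟨p, hp', hvp⟩ := hnf
      obtain ⟨a, ha, b, hb, hab, hva, hvb⟩ := exists_two_fix_of_fix hm hF hv4 hp' hvp
      have hcases := (normalizer_iff_fix_two hm hF hv1 ha hb hab hva hvb).1 htU'
      have hua : u.1 • a = a := by
        rw [← ht]
        show (t.1 * t.1) • a = a
        rcases hcases with ⟨h1, h2⟩ | ⟨h1, h2⟩
        · rw [mul_smul, h1, h1]
        · rw [mul_smul, h1, h2]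
      have hub : u.1 • b = b := by
        rw [← ht]
        show (t.1 * t.1) • b = b
        rcases hcases with ⟨h1, h2⟩ | ⟨h1, h2⟩
        · rw [mul_smul, h2, h2]
        · rw [mul_smul, h2, h1]
      exact hab (invol_fix_unique hm hF u.2 hune hu2' ha hb hua hub)
  constructor
  · rintro ⟨hsol, hfpf⟩
    have hyN := (sol_off_iff hm hp hF hu1 hu2 hfix y hy).1 hsol
    have h4 := card_fib_fpf hm hF hu1 hu2 hfix hI.1 hI.2.1 hI.2.2 hfpf
    rw [← card_sqrt_in_normalizer hm hF hT huN hu1 hu2 h4]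
    apply Nat.card_congr
    apply Equiv.subtypeEquivRight
    intro t
    constructor
    · rintro ⟨ht, hs⟩
      exact ⟨ht, (K t ht hs).2.2⟩
    · rintro ⟨ht, htN⟩
      exact ⟨ht, (sol_iff hm hp hF t y).2 (Or.inr ⟨_, hT, htN, hyN⟩)⟩
  · intro hcon
    have hempty : IsEmpty {t : ↥(Cfsg.Sz F m) // t * t = u ∧
        Group.IsSolvable ↥(Subgroup.closure ({t, y} : Set ↥(Cfsg.Sz F m)))} :=
      ⟨fun t => hcon ⟨(K t.1 t.2.1 t.2.2).1, (K t.1 t.2.1 t.2.2).2.1⟩⟩
    exact Nat.card_of_isEmpty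

/-- The solubilizer of an element of order `4` fixing `∞`. -/
theorem solCount_four_inf {m : ℕ} (hm : 1 ≤ m) (hp : (2 * m + 1).Prime)
    (hF : Fintype.card F = 2 ^ (2 * m + 1)) {x : ↥(Cfsg.Sz F m)} (hx4 : x ^ 4 = 1)
    (hx2 : x * x ≠ 1) (hfix : x.1 • (pinf : Projectivization F (Fin 4 → F)) = pinf) :
    Nat.card {y : ↥(Cfsg.Sz F m) //
        Group.IsSolvable ↥(Subgroup.closure ({x, y} : Set ↥(Cfsg.Sz F m)))} =
      (2 ^ (2 * m + 1)) ^ 2 * (2 ^ (2 * m + 1) + 3) := by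
  classical
  have h := szHyp_of_card hF
  obtain ⟨a₀, b₁, e⟩ := two_elt_at_inf hm hF x.2 (congrArg Subtype.val hx4 : x.1 ^ 4 = 1) hfix
  have hx : x = gT h a₀ b₁ := Subtype.ext e
  subst hx
  have ha₀ : a₀ ≠ 0 := by
    rintro rfl
    apply hx2
    rw [gT_sq h, th_zero, zero_mul]
    exact Subtype.ext (sT_zero m)
  have hu1 : gT h a₀ b₁ * gT h a₀ b₁ ≠ 1 := hx2
  have hu2 : (gT h a₀ b₁ * gT h a₀ b₁) * (gT h a₀ b₁ * gT h a₀ b₁) = 1 := by
    rw [← hx4]; simp only [pow_succ, pow_zero, one_mul, mul_assoc]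
  have hufix : (gT h a₀ b₁ * gT h a₀ b₁).1 • (pinf : Projectivization F (Fin 4 → F)) = pinf := by
    show (sT m a₀ b₁ * sT m a₀ b₁) • (pinf : Projectivization F (Fin 4 → F)) = pinf
    rw [mul_smul, sT_pinf, sT_pinf]
  have hsplit1 := card_split
    (fun y : ↥(Cfsg.Sz F m) =>
      Group.IsSolvable ↥(Subgroup.closure ({gT h a₀ b₁, y} : Set ↥(Cfsg.Sz F m))))
    (fun y => y.1 • (pinf : Projectivization F (Fin 4 → F)) = pinf)
  have hA : Nat.card {y : ↥(Cfsg.Sz F m) //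
      Group.IsSolvable ↥(Subgroup.closure ({gT h a₀ b₁, y} : Set ↥(Cfsg.Sz F m))) ∧
        y.1 • (pinf : Projectivization F (Fin 4 → F)) = pinf} =
      (2 ^ (2 * m + 1)) ^ 2 * (2 ^ (2 * m + 1) - 1) := by
    rw [← card_stabPt hm hF (pinf_mem m)]
    apply Nat.card_congr
    apply Equiv.subtypeEquivRight
    intro y
    constructor
    · exact fun hy => hy.2
    · intro hy
      exact ⟨(sol_iff hm hp hF _ y).2 (Or.inl ⟨pinf, pinf_mem m, hfix, hy⟩), hy⟩
  have hB0 : Nat.card {y : ↥(Cfsg.Sz F m) //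
      Group.IsSolvable ↥(Subgroup.closure ({gT h a₀ b₁, y} : Set ↥(Cfsg.Sz F m))) ∧
        ¬ y.1 • (pinf : Projectivization F (Fin 4 → F)) = pinf} =
      Nat.card {y : ↥(Cfsg.Sz F m) //
        (y.1 • (pinf : Projectivization F (Fin 4 → F)) ≠ pinf ∧
          Group.IsSolvable ↥(Subgroup.closure ({gT h a₀ b₁, y} : Set ↥(Cfsg.Sz F m))))} :=
    Nat.card_congr (Equiv.subtypeEquivRight (fun y => and_comm))
  have : Fintype ↥(Cfsg.Sz F m) := Fintype.ofFinite _
  have key := Finset.sum_card_bipartiteAbove_eq_sum_card_bipartiteBelow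
    (s := Finset.univ.filter (fun t : ↥(Cfsg.Sz F m) => t * t = gT h a₀ b₁ * gT h a₀ b₁))
    (t := Finset.univ.filter (fun y : ↥(Cfsg.Sz F m) =>
      y.1 • (pinf : Projectivization F (Fin 4 → F)) ≠ pinf))
    (fun (t y : ↥(Cfsg.Sz F m)) =>
      Group.IsSolvable ↥(Subgroup.closure ({t, y} : Set ↥(Cfsg.Sz F m))))
  have hL : ∀ t ∈ Finset.univ.filter
        (fun t : ↥(Cfsg.Sz F m) => t * t = gT h a₀ b₁ * gT h a₀ b₁),
      ((Finset.univ.filter (fun y : ↥(Cfsg.Sz F m) =>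
        y.1 • (pinf : Projectivization F (Fin 4 → F)) ≠ pinf)).bipartiteAbove
        (fun (t y : ↥(Cfsg.Sz F m)) =>
          Group.IsSolvable ↥(Subgroup.closure ({t, y} : Set ↥(Cfsg.Sz F m)))) t).card =
      Nat.card {y : ↥(Cfsg.Sz F m) //
        (y.1 • (pinf : Projectivization F (Fin 4 → F)) ≠ pinf ∧
          Group.IsSolvable ↥(Subgroup.closure ({gT h a₀ b₁, y} : Set ↥(Cfsg.Sz F m))))} := by
    intro t ht
    rw [Finset.mem_filter] at ht
    rw [← card_solOff_sqrt_eq hm hF ha₀ b₁ t ht.2]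
    symm
    apply Nat.subtype_card
    intro y
    simp only [Finset.bipartiteAbove, Finset.mem_filter, Finset.mem_univ, true_and]
  have hR2 : ∀ y ∈ (Finset.univ.filter (fun y : ↥(Cfsg.Sz F m) =>
        y.1 • (pinf : Projectivization F (Fin 4 → F)) ≠ pinf)).filter
        (fun y => Group.IsSolvable ↥(Subgroup.closure
            ({gT h a₀ b₁ * gT h a₀ b₁, y} : Set ↥(Cfsg.Sz F m))) ∧
          IsFpf m (gT h a₀ b₁ * gT h a₀ b₁ * (y * (gT h a₀ b₁ * gT h a₀ b₁) * y⁻¹)).1),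
      ((Finset.univ.filter
        (fun t : ↥(Cfsg.Sz F m) => t * t = gT h a₀ b₁ * gT h a₀ b₁)).bipartiteBelow
        (fun (t y : ↥(Cfsg.Sz F m)) =>
          Group.IsSolvable ↥(Subgroup.closure ({t, y} : Set ↥(Cfsg.Sz F m)))) y).card = 2 := by
    intro y hy
    rw [Finset.mem_filter, Finset.mem_filter] at hy
    rw [← (card_sqrt_sol hm hp hF hu1 hu2 hufix y hy.1.2).1 hy.2]
    symm
    apply Nat.subtype_card
    intro t
    simp only [Finset.bipartiteBelow, Finset.mem_filter, Finset.mem_univ, true_and]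
  have hR0 : ∀ y ∈ (Finset.univ.filter (fun y : ↥(Cfsg.Sz F m) =>
        y.1 • (pinf : Projectivization F (Fin 4 → F)) ≠ pinf)).filter
        (fun y => ¬ (Group.IsSolvable ↥(Subgroup.closure
            ({gT h a₀ b₁ * gT h a₀ b₁, y} : Set ↥(Cfsg.Sz F m))) ∧
          IsFpf m (gT h a₀ b₁ * gT h a₀ b₁ * (y * (gT h a₀ b₁ * gT h a₀ b₁) * y⁻¹)).1)),
      ((Finset.univ.filter
        (fun t : ↥(Cfsg.Sz F m) => t * t = gT h a₀ b₁ * gT h a₀ b₁)).bipartiteBelow
        (fun (t y : ↥(Cfsg.Sz F m)) =>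
          Group.IsSolvable ↥(Subgroup.closure ({t, y} : Set ↥(Cfsg.Sz F m)))) y).card = 0 := by
    intro y hy
    rw [Finset.mem_filter, Finset.mem_filter] at hy
    rw [← (card_sqrt_sol hm hp hF hu1 hu2 hufix y hy.1.2).2 hy.2]
    symm
    apply Nat.subtype_card
    intro t
    simp only [Finset.bipartiteBelow, Finset.mem_filter, Finset.mem_univ, true_and]
  have hs : (Finset.univ.filter
      (fun t : ↥(Cfsg.Sz F m) => t * t = gT h a₀ b₁ * gT h a₀ b₁)).card = 2 ^ (2 * m + 1) := by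
    rw [← card_sqrt_invol hm hF ha₀ b₁]
    symm
    apply Nat.subtype_card
    intro t
    simp only [Finset.mem_filter, Finset.mem_univ, true_and]
  have hP : ((Finset.univ.filter (fun y : ↥(Cfsg.Sz F m) =>
        y.1 • (pinf : Projectivization F (Fin 4 → F)) ≠ pinf)).filter
        (fun y => Group.IsSolvable ↥(Subgroup.closure
            ({gT h a₀ b₁ * gT h a₀ b₁, y} : Set ↥(Cfsg.Sz F m))) ∧
          IsFpf m (gT h a₀ b₁ * gT h a₀ b₁ * (y * (gT h a₀ b₁ * gT h a₀ b₁) * y⁻¹)).1)).card =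
      2 * (2 ^ (2 * m + 1)) ^ 3 := by
    rw [← card_solOff_fpf hm hp hF hu1 hu2 hufix]
    symm
    apply Nat.subtype_card
    intro y
    simp only [Finset.mem_filter, Finset.mem_univ, true_and, and_assoc]
  rw [Finset.sum_const_nat hL, ← Finset.sum_filter_add_sum_filter_not
      (Finset.univ.filter (fun y : ↥(Cfsg.Sz F m) =>
        y.1 • (pinf : Projectivization F (Fin 4 → F)) ≠ pinf))
      (fun y => Group.IsSolvable ↥(Subgroup.closure
            ({gT h a₀ b₁ * gT h a₀ b₁, y} : Set ↥(Cfsg.Sz F m))) ∧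
          IsFpf m (gT h a₀ b₁ * gT h a₀ b₁ * (y * (gT h a₀ b₁ * gT h a₀ b₁) * y⁻¹)).1),
    Finset.sum_const_nat hR2, Finset.sum_const_nat hR0, hs, hP, mul_zero, add_zero] at key
  rw [hsplit1, hA, hB0]
  have hqpos : 0 < 2 ^ (2 * m + 1) := by positivity
  have hN' : Nat.card {y : ↥(Cfsg.Sz F m) //
        (y.1 • (pinf : Projectivization F (Fin 4 → F)) ≠ pinf ∧
          Group.IsSolvable ↥(Subgroup.closure ({gT h a₀ b₁, y} : Set ↥(Cfsg.Sz F m))))} =
      4 * (2 ^ (2 * m + 1)) ^ 2 := by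
    apply Nat.eq_of_mul_eq_mul_left hqpos
    rw [key]
    ring
  rw [hN']
  obtain ⟨q', hq'⟩ : ∃ q', 2 ^ (2 * m + 1) = q' + 1 := ⟨2 ^ (2 * m + 1) - 1, by omega⟩
  rw [hq', Nat.add_sub_cancel]
  ring

/-- The solubilizer of an involution. -/
theorem solCount_invol {m : ℕ} (hm : 1 ≤ m) (hp : (2 * m + 1).Prime)
    (hF : Fintype.card F = 2 ^ (2 * m + 1)) (x : ↥(Cfsg.Sz F m)) (hx1 : x ≠ 1)
    (hx2 : x * x = 1) :
    Nat.card {y : ↥(Cfsg.Sz F m) //
        Group.IsSolvable ↥(Subgroup.closure ({x, y} : Set ↥(Cfsg.Sz F m)))} =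
      (2 ^ (2 * m + 1)) ^ 2 * (4 * 2 ^ (2 * m + 1) - 3) := by
  have h := szHyp_of_card hF
  obtain ⟨p, hp', hxp⟩ := invol_exists_fix hm hF x.2 (congrArg Subtype.val hx2)
  obtain ⟨k, hk, hkp⟩ := exists_to_inf h hp'
  have h1 : (⟨k, hk⟩ : ↥(Cfsg.Sz F m)) * x * (⟨k, hk⟩ : ↥(Cfsg.Sz F m))⁻¹ ≠ 1 :=
    fun e => hx1 (eq_one_of_conj_eq_one e)
  have h2 : ((⟨k, hk⟩ : ↥(Cfsg.Sz F m)) * x * (⟨k, hk⟩ : ↥(Cfsg.Sz F m))⁻¹) *
      ((⟨k, hk⟩ : ↥(Cfsg.Sz F m)) * x * (⟨k, hk⟩ : ↥(Cfsg.Sz F m))⁻¹) = 1 := by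
    calc _ = (⟨k, hk⟩ : ↥(Cfsg.Sz F m)) * (x * x) * (⟨k, hk⟩ : ↥(Cfsg.Sz F m))⁻¹ := by group
      _ = 1 := by rw [hx2]; group
  have h3 : ((⟨k, hk⟩ : ↥(Cfsg.Sz F m)) * x * (⟨k, hk⟩ : ↥(Cfsg.Sz F m))⁻¹).1 •
      (pinf : Projectivization F (Fin 4 → F)) = pinf := by
    show (k * x.1 * k⁻¹) • (pinf : Projectivization F (Fin 4 → F)) = pinf
    rw [mul_smul, mul_smul, ← hkp, inv_smul_smul, hxp]
  rw [← solCount_equiv (MulAut.conj (⟨k, hk⟩ : ↥(Cfsg.Sz F m))) x]
  exact solCount_invol_inf hm hp hF h1 h2 h3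

/-- The solubilizer of an element of order `4`. -/
theorem solCount_four {m : ℕ} (hm : 1 ≤ m) (hp : (2 * m + 1).Prime)
    (hF : Fintype.card F = 2 ^ (2 * m + 1)) (x : ↥(Cfsg.Sz F m)) (hx4 : x ^ 4 = 1)
    (hx2 : x * x ≠ 1) :
    Nat.card {y : ↥(Cfsg.Sz F m) //
        Group.IsSolvable ↥(Subgroup.closure ({x, y} : Set ↥(Cfsg.Sz F m)))} =
      (2 ^ (2 * m + 1)) ^ 2 * (2 ^ (2 * m + 1) + 3) := by
  have h := szHyp_of_card hF
  have hnf : ¬ IsFpf m x.1 := fun hf => fpf_pow_four hm hF hf hx4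
  unfold IsFpf at hnf
  push Not at hnf
  obtain ⟨p, hp', hxp⟩ := hnf
  obtain ⟨k, hk, hkp⟩ := exists_to_inf h hp'
  have h1 : ((⟨k, hk⟩ : ↥(Cfsg.Sz F m)) * x * (⟨k, hk⟩ : ↥(Cfsg.Sz F m))⁻¹) ^ 4 = 1 := by
    rw [conj_pow, hx4]; group
  have h2 : ((⟨k, hk⟩ : ↥(Cfsg.Sz F m)) * x * (⟨k, hk⟩ : ↥(Cfsg.Sz F m))⁻¹) *
      ((⟨k, hk⟩ : ↥(Cfsg.Sz F m)) * x * (⟨k, hk⟩ : ↥(Cfsg.Sz F m))⁻¹) ≠ 1 := by
    intro e
    apply hx2
    have e' : (⟨k, hk⟩ : ↥(Cfsg.Sz F m)) * (x * x) * (⟨k, hk⟩ : ↥(Cfsg.Sz F m))⁻¹ = 1 := by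
      rw [← e]; group
    exact eq_one_of_conj_eq_one e'
  have h3 : ((⟨k, hk⟩ : ↥(Cfsg.Sz F m)) * x * (⟨k, hk⟩ : ↥(Cfsg.Sz F m))⁻¹).1 •
      (pinf : Projectivization F (Fin 4 → F)) = pinf := by
    show (k * x.1 * k⁻¹) • (pinf : Projectivization F (Fin 4 → F)) = pinf
    rw [mul_smul, mul_smul, ← hkp, inv_smul_smul, hxp]
  rw [← solCount_equiv (MulAut.conj (⟨k, hk⟩ : ↥(Cfsg.Sz F m))) x]
  exact solCount_four_inf hm hp hF h1 h2 h3

end Cfsg.Agent.Lib.helper8
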