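/-
Suzuki group: the coset action on the centre of a Sylow 2-subgroup is binary.
-/
import Cfsg.Agent.Lib.helper8.SzBin1
import Cfsg.Agent.Lib.helper8.SzSol6

set_option autoImplicit false

namespace Cfsg.Agent.Lib.helper8

open Matrix
open scoped Pointwise

variable {F : Type*} [Field F] [Fintype F]

/-- The centre of the standard Sylow 2-subgroup. -/
def subZ {m : ℕ} (h : SzHyp F m) : Subgroup ↥(Cfsg.Sz F m) where
  carrier := {g | ∃ b : F, g = gT h 0 b}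
  mul_mem' := by
    rintro x y ⟨b, rfl⟩ ⟨c, rfl⟩
    exact ⟨b + c, (gT_zero_add h b c).symm⟩
  one_mem' := ⟨0, (gT_zero_zero h).symm⟩
  inv_mem' := by
    rintro x ⟨b, rfl⟩
    refine ⟨b, ?_⟩
    exact inv_eq_of_mul_eq_one_left (gT_zero_sq h b)

theorem mem_subZ {m : ℕ} (h : SzHyp F m) (g : ↥(Cfsg.Sz F m)) :
    g ∈ subZ h ↔ ∃ b : F, g = gT h 0 b := Iff.rfl

theorem gT_pinf {m : ℕ} (h : SzHyp F m) (a b : F) :
    (gT h a b).1 • (pinf : Projectivization F (Fin 4 → F)) = pinf := sT_pinf m a b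

theorem coe_mul_smul {m : ℕ} (a b : ↥(Cfsg.Sz F m)) (p : Projectivization F (Fin 4 → F)) :
    (a * b).1 • p = a.1 • (b.1 • p) := by
  rw [Subgroup.coe_mul, mul_smul]

theorem coe_inv_smul_eq {m : ℕ} (a : ↥(Cfsg.Sz F m)) {p q : Projectivization F (Fin 4 → F)}
    (e : a.1 • p = q) : (a⁻¹).1 • q = p := by
  rw [InvMemClass.coe_inv, ← e, inv_smul_smul]

theorem subZ_conj_mem {m : ℕ} (hm : 1 ≤ m) (hF : Fintype.card F = 2 ^ (2 * m + 1))
    (h : SzHyp F m) {n : ↥(Cfsg.Sz F m)}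
    (hn : n.1 • (pinf : Projectivization F (Fin 4 → F)) = pinf) {g : ↥(Cfsg.Sz F m)}
    (hg : g ∈ subZ h) : n * g * n⁻¹ ∈ subZ h := by
  obtain ⟨c, rfl⟩ := hg
  obtain ⟨l, -, hl⟩ := conj_T0_of_fix hm hF n.2 hn
  refine ⟨l * c, Subtype.ext ?_⟩
  rw [Subgroup.coe_mul, Subgroup.coe_mul, InvMemClass.coe_inv]
  exact hl c

theorem subZ_conj_iff {m : ℕ} (hm : 1 ≤ m) (hF : Fintype.card F = 2 ^ (2 * m + 1))
    (h : SzHyp F m) {n : ↥(Cfsg.Sz F m)}
    (hn : n.1 • (pinf : Projectivization F (Fin 4 → F)) = pinf) (g : ↥(Cfsg.Sz F m)) :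
    n * g * n⁻¹ ∈ subZ h ↔ g ∈ subZ h := by
  constructor
  · intro hg
    have hn' : (n⁻¹).1 • (pinf : Projectivization F (Fin 4 → F)) = pinf := coe_inv_smul_eq n hn
    have := subZ_conj_mem hm hF h hn' hg
    have e : n⁻¹ * (n * g * n⁻¹) * n⁻¹⁻¹ = g := by group
    rwa [e] at this
  · exact subZ_conj_mem hm hF h hn

theorem gT_zero_ne_one' {m : ℕ} (h : SzHyp F m) {b : F} (hb : b ≠ 0) : gT h 0 b ≠ 1 := by
  intro e
  rw [← gT_zero_zero h] at e
  exact hb (gT_zero_inj h e)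

/-- Conjugates of `subZ` through a common fixed point coincide. -/
theorem subZ_conj_eq {m : ℕ} (hm : 1 ≤ m) (hF : Fintype.card F = 2 ^ (2 * m + 1))
    (h : SzHyp F m) {p q : ↥(Cfsg.Sz F m)}
    (hpq : p.1 • (pinf : Projectivization F (Fin 4 → F)) = q.1 • pinf) (g : ↥(Cfsg.Sz F m)) :
    p⁻¹ * g * p ∈ subZ h ↔ q⁻¹ * g * q ∈ subZ h := by
  have hn : (p⁻¹ * q).1 • (pinf : Projectivization F (Fin 4 → F)) = pinf := by
    rw [coe_mul_smul, ← hpq]
    exact coe_inv_smul_eq p rfl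
  rw [← subZ_conj_iff hm hF h hn (q⁻¹ * g * q)]
  have e : p⁻¹ * q * (q⁻¹ * g * q) * (p⁻¹ * q)⁻¹ = p⁻¹ * g * p := by group
  rw [e]

theorem binG_subZ {m : ℕ} (hm : 1 ≤ m) (hF : Fintype.card F = 2 ^ (2 * m + 1))
    (h : SzHyp F m) : BinG (subZ h) := by
  apply binG_of_TI
  · intro p q x hx hp hq g
    obtain ⟨b₁, e₁⟩ := hp
    obtain ⟨b₂, e₂⟩ := hq
    have hb₂ : b₂ ≠ 0 := by
      rintro rfl
      rw [gT_zero_zero] at e₂
      apply hx
      have := congrArg (fun t => q * t * q⁻¹) e₂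
      simpa [mul_assoc] using this
    have hconj : (p⁻¹ * q) * gT h 0 b₂ * (p⁻¹ * q)⁻¹ = gT h 0 b₁ := by
      rw [← e₁, ← e₂]; group
    have hn : (p⁻¹ * q).1 • (pinf : Projectivization F (Fin 4 → F)) = pinf := by
      refine fix_of_conj_T h (p⁻¹ * q).2 (a := 0) (b := b₂) (a' := 0) (b' := b₁)
        (fun hh => hb₂ hh.2) ?_
      have := congrArg Subtype.val hconj
      rwa [Subgroup.coe_mul, Subgroup.coe_mul, InvMemClass.coe_inv] at this
    rw [← subZ_conj_iff hm hF h hn (q⁻¹ * g * q)]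
    have e : p⁻¹ * q * (q⁻¹ * g * q) * (p⁻¹ * q)⁻¹ = p⁻¹ * g * p := by group
    rw [e]
  · intro p q r a b ha hb hc ha1 hb1 hab g
    obtain ⟨β₁, e₁⟩ := ha
    obtain ⟨β₂, e₂⟩ := hb
    obtain ⟨β₃, e₃⟩ := hc
    have hfixa : a.1 • (p.1 • (pinf : Projectivization F (Fin 4 → F))) = p.1 • pinf := by
      have ea : a = p * gT h 0 β₁ * p⁻¹ := by rw [← e₁]; group
      rw [ea, coe_mul_smul, coe_mul_smul, coe_inv_smul_eq p rfl, gT_pinf]
    have hfixc : (a⁻¹ * b).1 • (r.1 • (pinf : Projectivization F (Fin 4 → F))) = r.1 • pinf := by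
      have ec : a⁻¹ * b = r * gT h 0 β₃ * r⁻¹ := by rw [← e₃]; group
      rw [ec, coe_mul_smul, coe_mul_smul, coe_inv_smul_eq r rfl, gT_pinf]
    have ha2 : a * a = 1 := by
      have ea : a = p * gT h 0 β₁ * p⁻¹ := by rw [← e₁]; group
      have : p * gT h 0 β₁ * p⁻¹ * (p * gT h 0 β₁ * p⁻¹) = p * (gT h 0 β₁ * gT h 0 β₁) * p⁻¹ := by
        group
      rw [ea, this, gT_zero_sq]; group
    have hb2 : b * b = 1 := by
      have eb : b = q * gT h 0 β₂ * q⁻¹ := by rw [← e₂]; group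
      have : q * gT h 0 β₂ * q⁻¹ * (q * gT h 0 β₂ * q⁻¹) = q * (gT h 0 β₂ * gT h 0 β₂) * q⁻¹ := by
        group
      rw [eb, this, gT_zero_sq]; group
    have hc2 : (a⁻¹ * b) * (a⁻¹ * b) = 1 := by
      have ec : a⁻¹ * b = r * gT h 0 β₃ * r⁻¹ := by rw [← e₃]; group
      have : r * gT h 0 β₃ * r⁻¹ * (r * gT h 0 β₃ * r⁻¹) = r * (gT h 0 β₃ * gT h 0 β₃) * r⁻¹ := by
        group
      rw [ec, this, gT_zero_sq]; group
    have hc1 : a⁻¹ * b ≠ 1 := by
      intro e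
      exact hab (inv_mul_eq_one.1 e)
    have hainv : a⁻¹ = a := inv_eq_of_mul_eq_one_left ha2
    have hcomm : (a⁻¹ * b) * a = a * (a⁻¹ * b) := by
      -- a c a c = b b = 1 with c = a⁻¹ b
      have h1 : a * (a⁻¹ * b) = b := by group
      have h2 : (a⁻¹ * b) * a * (a * (a⁻¹ * b)) = 1 := by
        have : (a⁻¹ * b) * a * (a * (a⁻¹ * b)) = a⁻¹ * b * (a * a) * (a⁻¹ * b) := by group
        rw [this, ha2, mul_one, hc2]
      have h3 : (a⁻¹ * b) * a = (a * (a⁻¹ * b))⁻¹ := eq_inv_of_mul_eq_one_left h2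
      rw [h3, h1]
      have : b⁻¹ = b := inv_eq_of_mul_eq_one_left hb2
      rw [this]
    have hpm : p.1 • (pinf : Projectivization F (Fin 4 → F)) ∈ Cfsg.suzukiOvoid F m :=
      smul_mem_ovoid p.2 (pinf_mem m)
    have hrm : r.1 • (pinf : Projectivization F (Fin 4 → F)) ∈ Cfsg.suzukiOvoid F m :=
      smul_mem_ovoid r.2 (pinf_mem m)
    have hfixc' : (a⁻¹ * b).1 • (p.1 • (pinf : Projectivization F (Fin 4 → F))) = p.1 • pinf := by
      refine comm_fix hm hF (a⁻¹ * b).2 a.2 ?_ ?_ ?_ hpm hfixa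
      · intro e; exact ha1 (Subtype.ext e)
      · have := congrArg Subtype.val ha2
        rwa [Subgroup.coe_mul] at this
      · have := congrArg Subtype.val hcomm
        rwa [Subgroup.coe_mul, Subgroup.coe_mul] at this
    have hpr : p.1 • (pinf : Projectivization F (Fin 4 → F)) = r.1 • pinf := by
      refine invol_fix_unique hm hF (a⁻¹ * b).2 ?_ ?_ hpm hrm hfixc' hfixc
      · intro e; exact hc1 (Subtype.ext e)
      · have := congrArg Subtype.val hc2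
        rwa [Subgroup.coe_mul] at this
    exact subZ_conj_eq hm hF h hpr g

end Cfsg.Agent.Lib.helper8
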