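/-
Suzuki group: coset actions on nontrivial subgroups of odd order are not binary.
-/
import Cfsg.Agent.Lib.helper8.SzBin2

set_option autoImplicit false

namespace Cfsg.Agent.Lib.helper8

open Matrix
open scoped Pointwise

variable {F : Type*} [Field F] [Fintype F]

omit [Fintype F] in
theorem ff_param {m : ℕ} (h : SzHyp F m) {e : F} (he : e ≠ 0) (t : F) :
    ff m (th m e / e) (e * t) = th m e * (th m t + t + 1) ∧
      th m (th m e / e) * (th m e / e) = e := by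
  have hθe : th m e ≠ 0 := th_ne_zero he
  have h1 : th m (th m e / e) = e ^ 2 / th m e := by
    rw [div_eq_mul_inv, th_mul, th_inv, th_th h, div_eq_mul_inv]
  constructor
  · rw [ff_eq, h1, th_mul]; field_simp; ring
  · rw [h1]; field_simp

omit [Fintype F] in
theorem th_add_ne_one {m : ℕ} (h : SzHyp F m) (t : F) : th m t + t + 1 ≠ 0 := by
  intro e
  have h2 := h.two
  have e1 : th m t = t + 1 := by linear_combination e - (t + 1) * h2
  have e2 : t ^ 2 = t := by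
    have := th_th h t
    rw [e1, th_add h, th_one, e1] at this
    linear_combination (-1 : F) * this + h2
  have e3 : th m t = t := by
    unfold th
    have : ∀ k : ℕ, t ^ 2 ^ k = t := by
      intro k
      induction k with
      | zero => simp
      | succ k ih => rw [pow_succ, pow_mul, ih, e2]
    exact this (m + 1)
  rw [e3] at e1
  have : (1 : F) = 0 := by linear_combination (-1 : F) * e1
  exact one_ne_zero this

omit [Fintype F] in
theorem th_ne_self {m : ℕ} (h : SzHyp F m) {t : F} (h0 : t ≠ 0) (h1 : t ≠ 1) : th m t ≠ t := by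
  intro e
  have := th_th h t
  rw [e, e] at this
  have : t * (t - 1) = 0 := by linear_combination (-1 : F) * this
  rcases mul_eq_zero.1 this with h' | h'
  · exact h0 h'
  · exact h1 (sub_eq_zero.1 h')

theorem exists_ff_param {m : ℕ} (hm : 1 ≤ m) (hF : Fintype.card F = 2 ^ (2 * m + 1))
    (h : SzHyp F m) {f₀ : F} (hf₀ : f₀ ≠ 0) (β : F) :
    ∃ a b : F, ff m a b = f₀ ∧ a ≠ 0 ∧ th m a * a ≠ β := by
  obtain ⟨e₀, he₀⟩ := th_surjective h f₀
  have he₀0 : e₀ ≠ 0 := by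
    rintro rfl
    rw [th_zero] at he₀
    exact hf₀ he₀.symm
  by_cases hβ : e₀ = β
  · obtain ⟨z, hz⟩ := exists_unit_ne_one hm hF
    have ht0 : (z : F) ≠ 0 := z.ne_zero
    have ht1 : (z : F) ≠ 1 := fun e => hz (Units.ext e)
    have hw0 : th m (z : F) + z + 1 ≠ 0 := th_add_ne_one h z
    obtain ⟨e₁, he₁⟩ := th_surjective h (f₀ / (th m (z : F) + z + 1))
    have he₁0 : e₁ ≠ 0 := by
      rintro rfl
      rw [th_zero] at he₁
      exact (div_ne_zero hf₀ hw0) he₁.symm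
    obtain ⟨p1, p2⟩ := ff_param h he₁0 (z : F)
    refine ⟨th m e₁ / e₁, e₁ * z, ?_, div_ne_zero (th_ne_zero he₁0) he₁0, ?_⟩
    · rw [p1, he₁]; field_simp
    · rw [p2, ← hβ]
      intro e
      rw [e, he₀] at he₁
      have hw1 : th m (z : F) + z + 1 = 1 := by
        have h3 : f₀ * (th m (z : F) + z + 1) = f₀ * 1 := by
          rw [mul_one]
          exact (eq_div_iff hw0).1 he₁
        exact mul_left_cancel₀ hf₀ h3
      apply th_ne_self h ht0 ht1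
      linear_combination hw1 - (z : F) * h.two
  · obtain ⟨p1, p2⟩ := ff_param h he₀0 0
    refine ⟨th m e₀ / e₀, e₀ * 0, ?_, div_ne_zero (th_ne_zero he₀0) he₀0, ?_⟩
    · rw [p1, th_zero, he₀]; ring
    · rw [p2]; exact hβ

/-- The abstract computation behind the triangle for elements of odd order. -/
theorem odd_core_alg {G : Type*} [Group G] (W A Tz T' Tc Dz g : G) (hW : W * W = 1)
    (hA : A * A = 1) (hTz : Tz * Tz = 1) (hk : W * g * W = T' * W * Tc * Dz)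
    (hD : Dz * Tz * Dz⁻¹ = A) (hcA : Tc * A = A * Tc) (hcZ : T' * Tz = Tz * T')
    (hgA : g * A = A * g) :
    g * (A * (W * Tz * W)) * g⁻¹ =
      A * (W * Tz * W) * ((W * T'⁻¹ * W)⁻¹ * (A * (W * Tz * W))⁻¹ * (W * T'⁻¹ * W)) := by
  have hW' : ∀ t : G, W * (W * t) = t := fun t => by rw [← mul_assoc, hW, one_mul]
  have hA' : ∀ t : G, A * (A * t) = t := fun t => by rw [← mul_assoc, hA, one_mul]
  have hTz' : ∀ t : G, Tz * (Tz * t) = t := fun t => by rw [← mul_assoc, hTz, one_mul]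
  have hWi : W⁻¹ = W := inv_eq_of_mul_eq_one_left hW
  have hAi : A⁻¹ = A := inv_eq_of_mul_eq_one_left hA
  have hTzi : Tz⁻¹ = Tz := inv_eq_of_mul_eq_one_left hTz
  have hg : g = W * (T' * W * Tc * Dz) * W := by
    rw [← hk]
    simp only [mul_assoc, hW', hW, mul_one]
  have hB2 : (W * Tz * W) * (W * Tz * W) = 1 := by
    simp only [mul_assoc, hW', hTz', hW]
  have hBi : (W * Tz * W)⁻¹ = W * Tz * W := inv_eq_of_mul_eq_one_left hB2
  have hyi : (W * T'⁻¹ * W)⁻¹ = W * T' * W := by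
    apply inv_eq_of_mul_eq_one_left
    simp only [mul_assoc, hW', mul_inv_cancel_left, hW]
  have hT'Tz : T'⁻¹ * Tz * T' = Tz := by
    rw [mul_assoc, ← hcZ, inv_mul_cancel_left]
  -- y commutes with B
  have hyB : (W * T'⁻¹ * W) * (W * Tz * W) = (W * Tz * W) * (W * T'⁻¹ * W) := by
    have h1 : T'⁻¹ * Tz = Tz * T'⁻¹ := by
      have := congrArg (fun t => t * T'⁻¹) hT'Tz
      simpa [mul_assoc] using this
    simp only [mul_assoc, hW']
    rw [← mul_assoc T'⁻¹ Tz W, h1, mul_assoc]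
  have hyiB : (W * T' * W) * (W * Tz * W) = (W * Tz * W) * (W * T' * W) := by
    simp only [mul_assoc, hW']
    rw [← mul_assoc T' Tz W, hcZ, mul_assoc]
  -- conjugating B by g
  have hDT : Dz * Tz = A * Dz := by
    rw [← hD]; group
  have hgB : g * (W * Tz * W) = (W * T' * W) * A * (W * T'⁻¹ * W) * g := by
    rw [hg]
    simp only [mul_assoc, hW', inv_mul_cancel_left]
    rw [← mul_assoc Dz Tz W, hDT, mul_assoc, ← mul_assoc Tc A, hcA, mul_assoc]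
  have hgAg : g * A * g⁻¹ = A := by rw [hgA]; group
  have hgBg : g * (W * Tz * W) * g⁻¹ = (W * T' * W) * A * (W * T'⁻¹ * W) := by
    rw [hgB]; group
  calc g * (A * (W * Tz * W)) * g⁻¹ = (g * A * g⁻¹) * (g * (W * Tz * W) * g⁻¹) := by group
    _ = A * ((W * T' * W) * A * (W * T'⁻¹ * W)) := by rw [hgAg, hgBg]
    _ = A * ((W * Tz * W) * (W * Tz * W)) * ((W * T' * W) * A * (W * T'⁻¹ * W)) := by
        rw [hB2, mul_one]
    _ = A * (W * Tz * W) * ((W * Tz * W) * (W * T' * W)) * A * (W * T'⁻¹ * W) := by group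
    _ = A * (W * Tz * W) * ((W * T' * W) * (W * Tz * W)) * A * (W * T'⁻¹ * W) := by rw [hyiB]
    _ = A * (W * Tz * W) * ((W * T'⁻¹ * W)⁻¹ * (A * (W * Tz * W))⁻¹ * (W * T'⁻¹ * W)) := by
        rw [hyi, _root_.mul_inv_rev, hBi, hAi]; group

theorem mem_cent_iff {G : Type*} [Group G] (x y : G) :
    y ∈ Subgroup.centralizer ({x} : Set G) ↔ x * y = y * x := by
  rw [Subgroup.mem_centralizer_iff]
  constructor
  · intro h; exact h x rfl
  · intro h z hz; rw [Set.mem_singleton_iff.1 hz]; exact h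

theorem gW_sq {m : ℕ} (h : SzHyp F m) : gW h * gW h = 1 := Subtype.ext sW_sq

/-- `W · T(0,ζ) · W` moves `∞`. -/
theorem gW_gT_gW_off {m : ℕ} (h : SzHyp F m) {ζ : F} (hζ : ζ ≠ 0) :
    (gW h * gT h 0 ζ * gW h).1 • (pinf : Projectivization F (Fin 4 → F)) ≠ pinf := by
  rw [coe_mul_smul, coe_mul_smul]
  show sW • (sT m 0 ζ • ((sW : Matrix.SpecialLinearGroup (Fin 4) F) • pinf)) ≠ pinf
  rw [sW_pinf m, sT_paff_zero h]
  have hf : ff m 0 ζ ≠ 0 := fun e => hζ (ff_eq_zero h e).2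
  rw [sW_paff h hf]
  exact paff_ne_pinf m _ _

theorem gW_gT_gW_sq {m : ℕ} (h : SzHyp F m) (ζ : F) :
    (gW h * gT h 0 ζ * gW h) * (gW h * gT h 0 ζ * gW h) = 1 := by
  have : (gW h * gT h 0 ζ * gW h) * (gW h * gT h 0 ζ * gW h) =
      gW h * (gT h 0 ζ * (gW h * gW h) * gT h 0 ζ) * gW h := by group
  rw [this, gW_sq, mul_one, gT_zero_sq, mul_one, gW_sq]

/-- The key triangle: for `x = T(0,β) · W T(0,ζ) W` there are `g`, `y` with
`g x g⁻¹ = x · (y⁻¹ x⁻¹ y)` and `g x g⁻¹` not commuting with `x`. -/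
theorem odd_core {m : ℕ} (hm : 1 ≤ m) (hF : Fintype.card F = 2 ^ (2 * m + 1)) (h : SzHyp F m)
    {β ζ : F} (hβ : β ≠ 0) (hζ : ζ ≠ 0) :
    ∃ g y : ↥(Cfsg.Sz F m),
      g * (gT h 0 β * (gW h * gT h 0 ζ * gW h)) * g⁻¹ =
        gT h 0 β * (gW h * gT h 0 ζ * gW h) *
          (y⁻¹ * (gT h 0 β * (gW h * gT h 0 ζ * gW h))⁻¹ * y) ∧
      (g * (gT h 0 β * (gW h * gT h 0 ζ * gW h)) * g⁻¹) *
          (gT h 0 β * (gW h * gT h 0 ζ * gW h)) ≠
        (gT h 0 β * (gW h * gT h 0 ζ * gW h)) *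
          (g * (gT h 0 β * (gW h * gT h 0 ζ * gW h)) * g⁻¹) ∧
      (gT h 0 β * (gW h * gT h 0 ζ * gW h)) ^ 4 ≠ 1 := by
  obtain ⟨z', hz'⟩ := exists_unit_kappa h (div_ne_zero hβ hζ)
  have hf₀ : (z' : F) * th m (z' : F) ≠ 0 := mul_ne_zero z'.ne_zero (th_ne_zero z'.ne_zero)
  obtain ⟨a, b, hff, ha0, hab⟩ := exists_ff_param hm hF h hf₀ β
  have hffne : ff m a b ≠ 0 := by rw [hff]; exact hf₀
  have hkinf : (sW * sT m a b * sW : Matrix.SpecialLinearGroup (Fin 4) F) •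
      (pinf : Projectivization F (Fin 4 → F)) = paff m (b / ff m a b) (a / ff m a b) := by
    rw [mul_smul, mul_smul, sW_pinf m, sT_paff_zero h, sW_paff h hffne]
  have hkmem : (sW * sT m a b * sW : Matrix.SpecialLinearGroup (Fin 4) F) ∈ Cfsg.Sz F m :=
    (gW h * gT h a b * gW h).2
  have hk : ∃ (a' b' c' d' : F),
      gW h * gT h a b * gW h = gT h a' b' * gW h * gT h c' d' * gD h z' := by
    rcases sz_decomp hm hF hkmem with ⟨a', b', z'', e⟩ | ⟨a', b', c', d', z'', e⟩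
    · exfalso
      have : (sW * sT m a b * sW : Matrix.SpecialLinearGroup (Fin 4) F) •
          (pinf : Projectivization F (Fin 4 → F)) = pinf := by
        rw [e, mul_smul, sD_pinf, sT_pinf]
      rw [hkinf] at this
      exact paff_ne_pinf m _ _ this
    · have hv := congrArg
        (fun M : Matrix.SpecialLinearGroup (Fin 4) F => M.1 *ᵥ (vinf : Fin 4 → F)) e
      simp only [Matrix.SpecialLinearGroup.coe_mul] at hv
      have hL : ((sW : Matrix.SpecialLinearGroup (Fin 4) F).1 * (sT m a b).1 *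
          (sW : Matrix.SpecialLinearGroup (Fin 4) F).1) *ᵥ (vinf : Fin 4 → F) =
          ff m a b • vaff m (b / ff m a b) (a / ff m a b) := by
        rw [← Matrix.mulVec_mulVec, ← Matrix.mulVec_mulVec]
        show matW *ᵥ (matT m a b *ᵥ (matW *ᵥ vinf)) = _
        rw [matW_mulVec_vinf m, matT_mulVec_vaff h]
        simp only [zero_add, mul_zero, add_zero]
        rw [matW_mulVec_vaff h hffne]
      have hR : ((sT m a' b').1 * (sW : Matrix.SpecialLinearGroup (Fin 4) F).1 *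
          (sT m c' d').1 * (sD m z'').1) *ᵥ (vinf : Fin 4 → F) =
          ((z'' : F) * th m (z'' : F)) • vaff m a' b' := by
        rw [← Matrix.mulVec_mulVec, ← Matrix.mulVec_mulVec, ← Matrix.mulVec_mulVec]
        show matT m a' b' *ᵥ (matW *ᵥ (matT m c' d' *ᵥ (matD m (z'' : F) *ᵥ vinf))) = _
        rw [matD_mulVec_vinf, Matrix.mulVec_smul, matT_mulVec_vinf, Matrix.mulVec_smul,
          matW_mulVec_vinf m, Matrix.mulVec_smul, matT_mulVec_vaff h]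
        simp only [zero_add, mul_zero, add_zero]
      have hcmp := congrFun (hL.symm.trans (hv.trans hR)) 3
      have h3 : ff m a b = (z'' : F) * th m (z'' : F) := by
        simpa [vaff] using hcmp
      have hzz : z'' = z' := by
        apply Units.ext
        apply kappa_injective h
        show (z'' : F) * th m (z'' : F) = (z' : F) * th m (z' : F)
        rw [← h3, hff]
      subst hzz
      exact ⟨a', b', c', d', Subtype.ext e⟩
  obtain ⟨a', b', c', d', hk⟩ := hk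
  have hD : gD h z' * gT h 0 ζ * (gD h z')⁻¹ = gT h 0 β := by
    rw [gD_conj_gT_zero, hz', div_mul_cancel₀ _ hζ]
  have hcA : gT h c' d' * gT h 0 β = gT h 0 β * gT h c' d' := Subtype.ext (sT_central h c' d' β)
  have hcZ : gT h a' b' * gT h 0 ζ = gT h 0 ζ * gT h a' b' := Subtype.ext (sT_central h a' b' ζ)
  have hgA : gT h a b * gT h 0 β = gT h 0 β * gT h a b := Subtype.ext (sT_central h a b β)
  have hA1 : gT h 0 β ≠ 1 := gT_zero_ne_one' h hβ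
  have hA2 : gT h 0 β * gT h 0 β = 1 := gT_zero_sq h β
  have hB2 := gW_gT_gW_sq h ζ
  have hx4 : (gT h 0 β * (gW h * gT h 0 ζ * gW h)) ^ 4 ≠ 1 :=
    invol_mul_pow_four hm hF hA1 hA2 (gT_pinf h 0 β) hB2 (gW_gT_gW_off h hζ)
  refine ⟨gT h a b, gW h * (gT h a' b')⁻¹ * gW h,
    odd_core_alg (gW h) (gT h 0 β) (gT h 0 ζ) (gT h a' b') (gT h c' d') (gD h z') (gT h a b)
      (gW_sq h) hA2 (gT_zero_sq h ζ) hk hD hcA hcZ hgA, ?_, hx4⟩
  intro hcomm
  obtain ⟨x, hx⟩ : ∃ x, x = gT h 0 β * (gW h * gT h 0 ζ * gW h) := ⟨_, rfl⟩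
  rw [← hx] at hcomm hx4
  have hAi : (gT h 0 β)⁻¹ = gT h 0 β := inv_eq_of_mul_eq_one_left hA2
  have hBi : (gW h * gT h 0 ζ * gW h)⁻¹ = gW h * gT h 0 ζ * gW h := inv_eq_of_mul_eq_one_left hB2
  have hxi : gT h 0 β * x * (gT h 0 β)⁻¹ = x⁻¹ := by
    rw [hx, _root_.mul_inv_rev, hBi, hAi, ← mul_assoc, ← mul_assoc, hA2, one_mul]
  have hU := cent_isTorus hm hF x hx4
  have hxx : x ∈ Subgroup.centralizer ({x} : Set ↥(Cfsg.Sz F m)) := (mem_cent_iff x x).2 rfl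
  have hAN : gT h 0 β ∈ Subgroup.normalizer
      ((Subgroup.centralizer ({x} : Set ↥(Cfsg.Sz F m)) : Subgroup ↥(Cfsg.Sz F m)) :
        Set ↥(Cfsg.Sz F m)) := by
    rw [mem_normalizer_cent_iff hm hF hx4, hxi]
    exact inv_mem hxx
  have hgN : gT h a b ∈ Subgroup.normalizer
      ((Subgroup.centralizer ({x} : Set ↥(Cfsg.Sz F m)) : Subgroup ↥(Cfsg.Sz F m)) :
        Set ↥(Cfsg.Sz F m)) := by
    rw [mem_normalizer_cent_iff hm hF hx4, mem_cent_iff]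
    exact hcomm.symm
  have hg2N := mul_mem hgN hgN
  rw [gT_sq] at hg2N
  have hc0 : th m a * a ≠ 0 := mul_ne_zero (th_ne_zero ha0) ha0
  have hne : gT h 0 (th m a * a) ≠ gT h 0 β := fun e => hab (gT_zero_inj h e)
  obtain ⟨hv, hv1⟩ := torus_invol_mul hm hF hU hg2N (gT_zero_ne_one' h hc0) (gT_zero_sq h _)
    hAN hA1 hA2 hne
  rw [← gT_zero_add] at hv hv1
  exact hv1 (torus_sq hm hF hU hv (gT_zero_sq h _))

/-- The normaliser of a torus contains an involution. -/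
theorem exists_invol_normalizer {m : ℕ} (hm : 1 ≤ m) (hF : Fintype.card F = 2 ^ (2 * m + 1))
    {U : Subgroup ↥(Cfsg.Sz F m)} (hU : IsTorus m U) :
    ∃ u ∈ Subgroup.normalizer (U : Set ↥(Cfsg.Sz F m)), u ≠ 1 ∧ u * u = 1 := by
  obtain ⟨v, hvU, hv1⟩ := torus_exists_ne_one hm hU
  obtain ⟨hv4, hUC⟩ := torus_eq_cent hm hF hU hvU hv1
  have heven : 2 ∣ Nat.card (Subgroup.normalizer (U : Set ↥(Cfsg.Sz F m))) := by
    rw [hUC]
    by_cases hf : IsFpf m v.1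
    · rw [card_normalizer_fpf hm hF v hf]
      exact ⟨2 * Nat.card _, by ring⟩
    · unfold IsFpf at hf
      push Not at hf
      obtain ⟨p, hp, hfix⟩ := hf
      obtain ⟨a, ha, b, hb, hab, hva, hvb⟩ := exists_two_fix_of_fix hm hF hv4 hp hfix
      rw [card_normalizer_two_fix hm hF hv1 ha hb hab hva hvb]
      exact dvd_mul_right 2 _
  have : Fact (Nat.Prime 2) := ⟨Nat.prime_two⟩
  obtain ⟨u, hu⟩ := exists_prime_orderOf_dvd_card' 2 heven
  refine ⟨u.1, u.2, ?_, ?_⟩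
  · intro e
    have : u = 1 := Subtype.ext e
    rw [this, orderOf_one] at hu
    exact absurd hu (by norm_num)
  · have := pow_orderOf_eq_one u
    rw [hu, pow_two] at this
    exact congrArg Subtype.val this

/-- Nontrivial abelian subgroups without 2-elements give non-binary actions. -/
theorem not_binG_of_odd {m : ℕ} (hm : 1 ≤ m) (hF : Fintype.card F = 2 ^ (2 * m + 1))
    (H : Subgroup ↥(Cfsg.Sz F m)) (hne : H ≠ ⊥) (hab : ∀ a ∈ H, ∀ b ∈ H, a * b = b * a)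
    (hodd : ∀ a ∈ H, a ^ 4 = 1 → a = 1) : ¬ BinG H := by
  have h := szHyp_of_card hF
  obtain ⟨⟨x₀, hx₀H⟩, hx₀1'⟩ := (Subgroup.ne_bot_iff_exists_ne_one).1 hne
  have hx₀1 : x₀ ≠ 1 := fun e => hx₀1' (Subtype.ext e)
  have hx4 : x₀ ^ 4 ≠ 1 := fun e => hx₀1 (hodd x₀ hx₀H e)
  have hU := cent_isTorus hm hF x₀ hx4
  obtain ⟨A₀, hA₀N, hA₀1, hA₀2⟩ := exists_invol_normalizer hm hF hU
  have hinv : A₀ * x₀ * A₀⁻¹ = x₀⁻¹ :=
    torus_invol_inv hm hF hU hA₀N hA₀1 hA₀2 ((mem_cent_iff x₀ x₀).2 rfl)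
  have hA₀i : A₀⁻¹ = A₀ := inv_eq_of_mul_eq_one_left hA₀2
  obtain ⟨B₀, hB₀⟩ : ∃ B₀, B₀ = A₀ * x₀ := ⟨_, rfl⟩
  have hB₀2 : B₀ * B₀ = 1 := by
    have : B₀ * B₀ = (A₀ * x₀ * A₀⁻¹) * x₀ := by
      rw [hA₀i, hB₀]; simp only [mul_assoc]
    rw [this, hinv, inv_mul_cancel]
  have hx₀AB : x₀ = A₀ * B₀ := by rw [hB₀, ← mul_assoc, hA₀2, one_mul]
  have hpow4 : ∀ t : ↥(Cfsg.Sz F m), t * t = 1 → t ^ 4 = 1 := by
    intro t ht
    have : t ^ 4 = (t * t) * (t * t) := by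
      simp only [pow_succ, pow_zero, one_mul, mul_assoc]
    rw [this, ht, mul_one]
  have hB₀1 : B₀ ≠ 1 := by
    intro e
    apply hx4
    have : x₀ = A₀ := by rw [hx₀AB, e, mul_one]
    rw [this]; exact hpow4 _ hA₀2
  obtain ⟨pA, hpA, hfA⟩ := invol_exists_fix hm hF A₀.2 (congrArg Subtype.val hA₀2)
  obtain ⟨pB, hpB, hfB⟩ := invol_exists_fix hm hF B₀.2 (congrArg Subtype.val hB₀2)
  have hpAB : pA ≠ pB := by
    rintro rfl
    have hc := invol_comm_of_fix hm hF hA₀1 hA₀2 hB₀1 hB₀2 hpA hfA hfB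
    apply hx4
    apply hpow4
    rw [hx₀AB]
    calc A₀ * B₀ * (A₀ * B₀) = A₀ * (B₀ * A₀) * B₀ := by group
      _ = A₀ * (A₀ * B₀) * B₀ := by rw [hc]
      _ = (A₀ * A₀) * (B₀ * B₀) := by group
      _ = 1 := by rw [hA₀2, hB₀2, mul_one]
  obtain ⟨k, hk, hkA, hkB⟩ := exists_to_inf_zero h hpA hpB hpAB
  obtain ⟨kG, hkG⟩ : ∃ kG : ↥(Cfsg.Sz F m), kG.1 = k := ⟨⟨k, hk⟩, rfl⟩
  have hconj2 : ∀ t : ↥(Cfsg.Sz F m), t * t = 1 → (kG * t * kG⁻¹) * (kG * t * kG⁻¹) = 1 := by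
    intro t ht
    calc (kG * t * kG⁻¹) * (kG * t * kG⁻¹) = kG * (t * t) * kG⁻¹ := by group
      _ = 1 := by rw [ht]; group
  have hA₁f : (kG * A₀ * kG⁻¹).1 • (pinf : Projectivization F (Fin 4 → F)) = pinf := by
    show (kG.1 * A₀.1 * kG.1⁻¹) • (pinf : Projectivization F (Fin 4 → F)) = pinf
    rw [hkG, ← hkA, mul_smul, inv_smul_smul, mul_smul, hfA]
  obtain ⟨β, hβ, (eA : kG * A₀ * kG⁻¹ = gT h 0 β)⟩ := invol_at_inf hm hF
    (fun e => hA₀1 (eq_one_of_conj_eq_one e)) (hconj2 A₀ hA₀2) hA₁f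
  have hB₁f : (kG * B₀ * kG⁻¹).1 • paff m (0 : F) 0 = paff m 0 0 := by
    show (kG.1 * B₀.1 * kG.1⁻¹) • paff m (0 : F) 0 = paff m 0 0
    rw [hkG, ← hkB, mul_smul, inv_smul_smul, mul_smul, hfB]
  have hC1 : gW h * (kG * B₀ * kG⁻¹) * gW h ≠ 1 := by
    intro e
    apply hB₀1
    apply eq_one_of_conj_eq_one (k := kG)
    have : kG * B₀ * kG⁻¹ = gW h * (gW h * (kG * B₀ * kG⁻¹) * gW h) * gW h := by
      have e1 : gW h * (gW h * (kG * B₀ * kG⁻¹) * gW h) * gW h =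
          (gW h * gW h) * (kG * B₀ * kG⁻¹) * (gW h * gW h) := by group
      rw [e1, gW_sq, one_mul, mul_one]
    rw [this, e, mul_one, gW_sq]
  have hC2 : (gW h * (kG * B₀ * kG⁻¹) * gW h) * (gW h * (kG * B₀ * kG⁻¹) * gW h) = 1 := by
    have e1 : (gW h * (kG * B₀ * kG⁻¹) * gW h) * (gW h * (kG * B₀ * kG⁻¹) * gW h) =
        gW h * ((kG * B₀ * kG⁻¹) * (gW h * gW h) * (kG * B₀ * kG⁻¹)) * gW h := by group
    rw [e1, gW_sq, mul_one, hconj2 B₀ hB₀2, mul_one, gW_sq]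
  have hCf : (gW h * (kG * B₀ * kG⁻¹) * gW h).1 • (pinf : Projectivization F (Fin 4 → F)) =
      pinf := by
    rw [coe_mul_smul, coe_mul_smul]
    show (sW : Matrix.SpecialLinearGroup (Fin 4) F) • ((kG * B₀ * kG⁻¹).1 •
      ((sW : Matrix.SpecialLinearGroup (Fin 4) F) • pinf)) = pinf
    rw [sW_pinf m, hB₁f, sW_paff_zero]
  obtain ⟨ζ, hζ, (eC : gW h * (kG * B₀ * kG⁻¹) * gW h = gT h 0 ζ)⟩ :=
    invol_at_inf hm hF hC1 hC2 hCf
  have eB : kG * B₀ * kG⁻¹ = gW h * gT h 0 ζ * gW h := by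
    rw [← eC]
    have e1 : gW h * (gW h * (kG * B₀ * kG⁻¹) * gW h) * gW h =
        (gW h * gW h) * (kG * B₀ * kG⁻¹) * (gW h * gW h) := by group
    rw [e1, gW_sq, one_mul, mul_one]
  obtain ⟨g₁, y₁, E1, E2, -⟩ := odd_core hm hF h hβ hζ
  have hx₁ : gT h 0 β * (gW h * gT h 0 ζ * gW h) = kG * x₀ * kG⁻¹ := by
    rw [← eA, ← eB, hx₀AB]; group
  rw [hx₁] at E1 E2
  have F1 : (kG⁻¹ * g₁ * kG) * x₀ * (kG⁻¹ * g₁ * kG)⁻¹ =
      x₀ * ((kG⁻¹ * y₁ * kG)⁻¹ * x₀⁻¹ * (kG⁻¹ * y₁ * kG)) := by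
    calc (kG⁻¹ * g₁ * kG) * x₀ * (kG⁻¹ * g₁ * kG)⁻¹
        = kG⁻¹ * (g₁ * (kG * x₀ * kG⁻¹) * g₁⁻¹) * kG := by group
      _ = kG⁻¹ * (kG * x₀ * kG⁻¹ * (y₁⁻¹ * (kG * x₀ * kG⁻¹)⁻¹ * y₁)) * kG := by rw [E1]
      _ = x₀ * ((kG⁻¹ * y₁ * kG)⁻¹ * x₀⁻¹ * (kG⁻¹ * y₁ * kG)) := by group
  have F2 : (kG⁻¹ * g₁ * kG) * x₀ * (kG⁻¹ * g₁ * kG)⁻¹ * x₀ ≠
      x₀ * ((kG⁻¹ * g₁ * kG) * x₀ * (kG⁻¹ * g₁ * kG)⁻¹) := by
    intro e
    apply E2
    calc g₁ * (kG * x₀ * kG⁻¹) * g₁⁻¹ * (kG * x₀ * kG⁻¹)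
        = kG * ((kG⁻¹ * g₁ * kG) * x₀ * (kG⁻¹ * g₁ * kG)⁻¹ * x₀) * kG⁻¹ := by group
      _ = kG * (x₀ * ((kG⁻¹ * g₁ * kG) * x₀ * (kG⁻¹ * g₁ * kG)⁻¹)) * kG⁻¹ := by rw [e]
      _ = kG * x₀ * kG⁻¹ * (g₁ * (kG * x₀ * kG⁻¹) * g₁⁻¹) := by group
  obtain ⟨g, hg⟩ : ∃ g, g = kG⁻¹ * g₁ * kG := ⟨_, rfl⟩
  obtain ⟨y, hy⟩ : ∃ y, y = kG⁻¹ * y₁ * kG := ⟨_, rfl⟩
  rw [← hg, ← hy] at F1
  rw [← hg] at F2
  have ha4 : (g * x₀ * g⁻¹) ^ 4 ≠ 1 := by
    rw [conj_pow]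
    exact fun e => hx4 (eq_one_of_conj_eq_one e)
  refine not_binG_of_triangle H g 1 y⁻¹ (g * x₀ * g⁻¹) x₀ ?_ ?_ ?_ ?_
  · have : g⁻¹ * (g * x₀ * g⁻¹) * g = x₀ := by group
    rw [this]; exact hx₀H
  · simpa using hx₀H
  · rw [F1]
    have : y⁻¹⁻¹ * ((x₀ * (y⁻¹ * x₀⁻¹ * y))⁻¹ * x₀) * y⁻¹ = x₀ := by group
    rw [this]; exact hx₀H
  · intro g' h1 h2 h3
    have hg' : g' ∈ H := by simpa using h2
    have c1 : g' * x₀ = x₀ * g' := hab g' hg' x₀ hx₀H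
    have c2 : g' * (g * x₀ * g⁻¹) = (g * x₀ * g⁻¹) * g' := by
      have := hab _ h1 x₀ hx₀H
      calc g' * (g * x₀ * g⁻¹) = g * ((g⁻¹ * g' * g) * x₀) * g⁻¹ := by group
        _ = g * (x₀ * (g⁻¹ * g' * g)) * g⁻¹ := by rw [this]
        _ = (g * x₀ * g⁻¹) * g' := by group
    by_cases hg'1 : g' = 1
    · subst hg'1
      have c3 := hab _ h3 x₀ hx₀H
      obtain ⟨a, ha⟩ : ∃ a, a = g * x₀ * g⁻¹ := ⟨_, rfl⟩
      obtain ⟨c, hc⟩ : ∃ c, c = y⁻¹ * x₀ * y := ⟨_, rfl⟩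
      rw [← ha] at c3 F1 F2
      have k1 : a⁻¹ * c = c * a⁻¹ := by
        rw [hc]
        calc a⁻¹ * (y⁻¹ * x₀ * y) = y⁻¹ * ((y⁻¹⁻¹ * (a⁻¹ * 1) * y⁻¹) * x₀) * y := by group
          _ = y⁻¹ * (x₀ * (y⁻¹⁻¹ * (a⁻¹ * 1) * y⁻¹)) * y := by rw [c3]
          _ = (y⁻¹ * x₀ * y) * a⁻¹ := by group
      have k2 : x₀ = a * c := by
        rw [hc, F1]; group
      have k3 : c * a = a * c := by
        have := congrArg (fun t => a * t * a) k1
        simpa [mul_assoc] using this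
      apply F2
      rw [k2]
      calc a * (a * c) = a * (c * a) := by rw [k3]
        _ = a * c * a := by group
    · have e1 := cent_eq_of_mem hm hF x₀ hx4 ((mem_cent_iff x₀ g').2 c1.symm) hg'1
      have e2 := cent_eq_of_mem hm hF (g * x₀ * g⁻¹) ha4
        ((mem_cent_iff (g * x₀ * g⁻¹) g').2 c2.symm) hg'1
      have : g * x₀ * g⁻¹ ∈ Subgroup.centralizer ({x₀} : Set ↥(Cfsg.Sz F m)) := by
        rw [← e1, e2]; exact (mem_cent_iff _ _).2 rfl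
      exact F2 ((mem_cent_iff _ _).1 this).symm

end Cfsg.Agent.Lib.helper8
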