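/-
A lattice lemma for additive subgroups of a finite field of characteristic 2:
the multiples of a proper nonzero subgroup do not form a distributive family.
-/
import Mathlib

set_option autoImplicit false

namespace Cfsg.Agent.Lib.helper8

variable {F : Type*} [Field F] [Fintype F]

theorem card_ne_sub_one {α : Type*} [Finite α] (a : α) :
    Nat.card {x : α // x ≠ a} = Nat.card α - 1 := by
  classical
  have := Fintype.ofFinite α
  rw [Nat.card_eq_fintype_card, Nat.card_eq_fintype_card]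
  have h1 := Fintype.card_subtype_compl (fun x : α => x = a)
  rw [Fintype.card_subtype_eq] at h1
  exact h1

omit [Fintype F] in
theorem card_pairs_le [Finite F] (V : AddSubgroup F) {S : Type*}
    (f : S → {v : V // v ≠ 0} × {v : V // v ≠ 0}) (hf : Function.Injective f) :
    Nat.card S ≤ (Nat.card V - 1) ^ 2 := by
  have := Nat.card_le_card_of_injective f hf
  rw [Nat.card_prod, card_ne_sub_one] at this
  rw [pow_two]; exact this

/-- Small subgroups: some multiple meets `V` trivially. -/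
theorem exists_disjoint_scalar (V : AddSubgroup F) (hN : Nat.card V ^ 2 ≤ Fintype.card F)
    (hV2 : 2 ≤ Nat.card V) : ∃ l : F, l ≠ 0 ∧ ∀ w ∈ V, l * w ∈ V → w = 0 := by
  by_contra hcon
  push Not at hcon
  choose w hwV hwl hw0 using hcon
  let f : {l : F // l ≠ 0} → {v : V // v ≠ 0} × {v : V // v ≠ 0} := fun l =>
    (⟨⟨w l.1 l.2, hwV l.1 l.2⟩, fun e => hw0 l.1 l.2 (congrArg Subtype.val e)⟩,
     ⟨⟨l.1 * w l.1 l.2, hwl l.1 l.2⟩, fun e =>
        (mul_ne_zero l.2 (hw0 l.1 l.2)) (congrArg Subtype.val e)⟩)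
  have hf : Function.Injective f := by
    intro l l' e
    have e1 : w l.1 l.2 = w l'.1 l'.2 := by
      have := congrArg (fun t => ((t.1 : {v : V // v ≠ 0}) : V).1) e
      exact this
    have e2 : l.1 * w l.1 l.2 = l'.1 * w l'.1 l'.2 := by
      have := congrArg (fun t => ((t.2 : {v : V // v ≠ 0}) : V).1) e
      exact this
    rw [← e1] at e2
    exact Subtype.ext (mul_right_cancel₀ (hw0 l.1 l.2) e2)
  have h1 := card_pairs_le V f hf
  rw [card_ne_sub_one, Nat.card_eq_fintype_card] at h1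
  obtain ⟨A, hA⟩ : ∃ A, Nat.card V = A + 1 := ⟨Nat.card V - 1, by omega⟩
  obtain ⟨Q, hQ⟩ : ∃ Q, Fintype.card F = Q + 1 :=
    ⟨Fintype.card F - 1, by have := Fintype.card_pos (α := F); omega⟩
  rw [hA] at h1 hN hV2
  rw [hQ] at h1 hN
  simp only [Nat.add_sub_cancel] at h1
  nlinarith

/-- Large subgroups: some multiple together with `V` spans `F`. -/
theorem exists_sum_scalar {n d : ℕ} (hq : Fintype.card F = 2 ^ n) (V : AddSubgroup F)
    (hd : Nat.card V = 2 ^ d) (hdn : n < 2 * d) (hVtop : V ≠ ⊤) :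
    ∃ l : F, l ≠ 0 ∧ ∀ x : F, ∃ u ∈ V, ∃ w ∈ V, x = u + l * w := by
  by_contra hcon
  push Not at hcon
  have hd1 : 1 ≤ d := by omega
  -- the homomorphisms
  let φ : F → (V × V →+ F) := fun l =>
    (V.subtype).coprod ((AddMonoidHom.mulLeft l).comp V.subtype)
  have hφ : ∀ (l : F) (p : V × V), φ l p = (p.1 : F) + l * (p.2 : F) := by
    intro l p; simp [φ]
  have hker : ∀ l : F, l ≠ 0 → 2 ^ (2 * d - n + 1) ≤ Nat.card (φ l).ker := by
    intro l hl
    obtain ⟨x, hx⟩ := hcon l hl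
    have hrange : (φ l).range ≠ ⊤ := by
      intro e
      have : x ∈ (φ l).range := by rw [e]; trivial
      obtain ⟨p, hp⟩ := this
      rw [hφ] at hp
      exact hx _ p.1.2 _ p.2.2 hp.symm
    have h1 : Nat.card (φ l).ker * Nat.card (φ l).range = Nat.card (V × V) := by
      rw [← AddSubgroup.index_ker]; exact AddSubgroup.card_mul_index _
    have h2 : Nat.card (φ l).range * (φ l).range.index = Nat.card F :=
      AddSubgroup.card_mul_index _
    have h3 : 1 < (φ l).range.index := AddSubgroup.one_lt_index_of_ne_top hrange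
    rw [Nat.card_prod, hd] at h1
    rw [Nat.card_eq_fintype_card (α := F), hq] at h2
    have h4 : 2 ^ (2 * d - n + 1) * 2 ^ n = 2 * (2 ^ d * 2 ^ d) := by
      rw [← pow_add, ← pow_add, ← pow_succ']
      congr 1; omega
    have h5 : 2 * Nat.card (φ l).range ≤ 2 ^ n := by
      calc 2 * Nat.card (φ l).range ≤ (φ l).range.index * Nat.card (φ l).range :=
            Nat.mul_le_mul_right _ h3
        _ = 2 ^ n := by rw [mul_comm]; exact h2
    have h6 : 2 ^ (2 * d - n + 1) * 2 ^ n ≤ Nat.card (φ l).ker * 2 ^ n := by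
      calc 2 ^ (2 * d - n + 1) * 2 ^ n = 2 * (2 ^ d * 2 ^ d) := h4
        _ = Nat.card (φ l).ker * (2 * Nat.card (φ l).range) := by rw [← h1]; ring
        _ ≤ Nat.card (φ l).ker * 2 ^ n := Nat.mul_le_mul_left _ h5
    exact Nat.le_of_mul_le_mul_right h6 (by positivity)
  -- embeddings into the nonzero kernel elements
  have hemb : ∀ l : F, l ≠ 0 →
      Nonempty (Fin (2 ^ (2 * d - n + 1) - 1) ↪ {p : (φ l).ker // p ≠ 0}) := by
    intro l hl
    classical
    apply Function.Embedding.nonempty_of_card_le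
    rw [Fintype.card_fin, ← Nat.card_eq_fintype_card, card_ne_sub_one]
    exact Nat.sub_le_sub_right (hker l hl) 1
  have ι : ∀ l : {l : F // l ≠ 0},
      Fin (2 ^ (2 * d - n + 1) - 1) ↪ {p : (φ l.1).ker // p ≠ 0} :=
    fun l => Classical.choice (hemb l.1 l.2)
  have hkerprop : ∀ (l : {l : F // l ≠ 0}) (p : {p : (φ l.1).ker // p ≠ 0}),
      ((p.1.1.1 : V) : F) + l.1 * ((p.1.1.2 : V) : F) = 0 ∧ (p.1.1.1 : V) ≠ 0 ∧
        (p.1.1.2 : V) ≠ 0 := by
    intro l p
    have h0 : φ l.1 p.1.1 = 0 := p.1.2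
    rw [hφ] at h0
    have hp : p.1.1 ≠ 0 := fun e => p.2 (Subtype.ext e)
    have hw : (p.1.1.2 : V) ≠ 0 := by
      intro e
      rw [e] at h0
      simp only [ZeroMemClass.coe_zero, mul_zero, add_zero] at h0
      apply hp
      exact Prod.ext (Subtype.ext h0) e
    refine ⟨h0, ?_, hw⟩
    intro e
    rw [e] at h0
    simp only [ZeroMemClass.coe_zero, zero_add] at h0
    rcases mul_eq_zero.1 h0 with h' | h'
    · exact l.2 h'
    · exact hw (Subtype.ext h')
  let g : {l : F // l ≠ 0} × Fin (2 ^ (2 * d - n + 1) - 1) →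
      {v : V // v ≠ 0} × {v : V // v ≠ 0} := fun li =>
    (⟨(ι li.1 li.2).1.1.1, (hkerprop li.1 (ι li.1 li.2)).2.1⟩,
     ⟨(ι li.1 li.2).1.1.2, (hkerprop li.1 (ι li.1 li.2)).2.2⟩)
  have hg : Function.Injective g := by
    rintro ⟨l, i⟩ ⟨l', i'⟩ e
    have e1 : ((ι l i).1.1.1 : V) = (ι l' i').1.1.1 := by
      have := congrArg (fun t => ((t.1 : {v : V // v ≠ 0}) : V)) e
      exact this
    have e2 : ((ι l i).1.1.2 : V) = (ι l' i').1.1.2 := by
      have := congrArg (fun t => ((t.2 : {v : V // v ≠ 0}) : V)) e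
      exact this
    have k1 := hkerprop l (ι l i)
    have k2 := hkerprop l' (ι l' i')
    have hll : l = l' := by
      apply Subtype.ext
      have hw : (((ι l i).1.1.2 : V) : F) ≠ 0 := fun e => k1.2.2 (Subtype.ext e)
      have h1 := k1.1
      have h2 := k2.1
      rw [← e1, ← e2] at h2
      have : l.1 * (((ι l i).1.1.2 : V) : F) = l'.1 * (((ι l i).1.1.2 : V) : F) := by
        linear_combination h1 - h2
      exact mul_right_cancel₀ hw this
    subst hll
    have : ι l i = ι l i' := by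
      apply Subtype.ext
      apply Subtype.ext
      exact Prod.ext e1 e2
    rw [(ι l).injective this]
  have h1 := card_pairs_le V g hg
  rw [Nat.card_prod, card_ne_sub_one, Nat.card_eq_fintype_card, hq, hd, Nat.card_eq_fintype_card,
    Fintype.card_fin] at h1
  -- arithmetic contradiction
  have hVlt : d < n := by
    by_contra hnd
    push Not at hnd
    apply hVtop
    apply AddSubgroup.eq_top_of_card_eq
    have h2 := AddSubgroup.card_addSubgroup_dvd_card V
    rw [hd, Nat.card_eq_fintype_card, hq] at h2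
    have := Nat.le_of_dvd (by positivity) h2
    have h3 : n = d := le_antisymm hnd ((Nat.pow_le_pow_iff_right (by norm_num)).1 this)
    rw [hd, Nat.card_eq_fintype_card, hq, h3]
  obtain ⟨e, he⟩ : ∃ e, 2 * d = n + e := ⟨2 * d - n, by omega⟩
  have he1 : 1 ≤ e := by omega
  have hed : e ≤ d := by omega
  have hE2 : 2 ≤ 2 ^ e := by
    calc 2 = 2 ^ 1 := by norm_num
      _ ≤ 2 ^ e := Nat.pow_le_pow_right (by norm_num) he1
  have hEA : 2 ^ e ≤ 2 ^ d := Nat.pow_le_pow_right (by norm_num) hed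
  have hsq : 2 ^ d * 2 ^ d = 2 ^ e * 2 ^ n := by
    rw [← pow_add, ← pow_add]; congr 1; omega
  have hk : 2 ^ (2 * d - n + 1) = 2 * 2 ^ e := by
    have : 2 * d - n + 1 = e + 1 := by omega
    rw [this, pow_succ']
  rw [hk] at h1
  obtain ⟨A, hA⟩ : ∃ A, 2 ^ d = A + 1 := ⟨2 ^ d - 1, by
    have : 1 ≤ 2 ^ d := Nat.one_le_two_pow; omega⟩
  obtain ⟨Q, hQ⟩ : ∃ Q, 2 ^ n = Q + 1 := ⟨2 ^ n - 1, by
    have : 1 ≤ 2 ^ n := Nat.one_le_two_pow; omega⟩
  obtain ⟨E, hE⟩ : ∃ E, 2 ^ e = E + 2 := ⟨2 ^ e - 2, by omega⟩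
  rw [hA, hQ, hE] at hsq
  rw [hA, hE] at hEA
  rw [hA, hQ, hE] at h1
  simp only [Nat.add_sub_cancel] at h1
  have h7 : 2 * (E + 2) - 1 = 2 * E + 3 := by omega
  rw [h7] at h1
  have hA1 : 1 ≤ A := by
    have : 2 ≤ 2 ^ d := by
      calc 2 = 2 ^ 1 := by norm_num
        _ ≤ 2 ^ d := Nat.pow_le_pow_right (by norm_num) hd1
    omega
  nlinarith [Nat.zero_le (E * Q), Nat.zero_le Q, Nat.zero_le E]

/-- The lattice lemma. -/
theorem lattice_witness {n : ℕ} (hq : Fintype.card F = 2 ^ n) (h2 : (2 : F) = 0)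
    (V : AddSubgroup F) (hbot : V ≠ ⊥) (htop : V ≠ ⊤) :
    ∃ κ₁ κ₂ κ₃ : F, κ₁ ≠ 0 ∧ κ₂ ≠ 0 ∧ κ₃ ≠ 0 ∧ ∃ v₁ ∈ V, ∃ v₂ ∈ V, ∃ v₃ ∈ V,
      κ₁ * v₁ = κ₂ * v₂ + κ₃ * v₃ ∧
      ∀ b : F, κ₁⁻¹ * b ∈ V → κ₂⁻¹ * b ∈ V → κ₃⁻¹ * (κ₁ * v₁ + b) ∈ V → False := by
  have hdvd := AddSubgroup.card_addSubgroup_dvd_card V
  rw [Nat.card_eq_fintype_card (α := F), hq] at hdvd
  obtain ⟨d, hdn, hd⟩ := (Nat.dvd_prime_pow Nat.prime_two).1 hdvd
  have hd1 : 1 ≤ d := by
    by_contra h0
    have : d = 0 := by omega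
    rw [this, pow_zero] at hd
    exact hbot (AddSubgroup.card_eq_one.1 hd)
  obtain ⟨v, hvV, hv0⟩ : ∃ v ∈ V, v ≠ 0 := by
    by_contra hcon
    push Not at hcon
    apply hbot
    rw [AddSubgroup.eq_bot_iff_forall]
    exact hcon
  have h1l : ∀ l : F, l ≠ 1 → 1 + l ≠ 0 := by
    intro l hl e
    apply hl
    linear_combination e - h2
  by_cases hS : 2 * d ≤ n
  · -- small case
    have hN : Nat.card V ^ 2 ≤ Fintype.card F := by
      rw [hd, hq, ← pow_mul]
      exact Nat.pow_le_pow_right (by norm_num) (by omega)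
    have hV2 : 2 ≤ Nat.card V := by
      rw [hd]
      calc 2 = 2 ^ 1 := by norm_num
        _ ≤ 2 ^ d := Nat.pow_le_pow_right (by norm_num) hd1
    obtain ⟨l, hl0, hl⟩ := exists_disjoint_scalar V hN hV2
    have hl1 : l ≠ 1 := by
      rintro rfl
      exact hv0 (hl v hvV (by rwa [one_mul]))
    refine ⟨1 + l, l, 1, h1l l hl1, hl0, one_ne_zero, v, hvV, v, hvV, v, hvV, by ring, ?_⟩
    intro b hb1 hb2 hb3
    obtain ⟨v', hv'⟩ : ∃ v', v' = l⁻¹ * b := ⟨_, rfl⟩
    obtain ⟨v'', hv''⟩ : ∃ v'', v'' = (1 + l)⁻¹ * b := ⟨_, rfl⟩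
    have hl1' := h1l l hl1
    have e1 : b = l * v' := by rw [hv']; field_simp
    have e2 : b = (1 + l) * v'' := by rw [hv'']; field_simp
    rw [← hv''] at hb1
    rw [← hv'] at hb2
    rw [inv_one, one_mul] at hb3
    -- v + v' = 0
    have k1 : v + v' = 0 := by
      apply hl _ (V.add_mem hvV hb2)
      have : l * (v + v') = ((1 + l) * v + b) - v := by
        linear_combination (-1 : F) * e1
      rw [this]
      exact V.sub_mem hb3 hvV
    -- v' + v'' = 0
    have k0 : l * (v' + v'') = v'' := by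
      linear_combination (-1 : F) * e1 + e2 + (l * v'') * h2
    have k2 : v' + v'' = 0 := by
      apply hl _ (V.add_mem hb2 hb1)
      rw [k0]; exact hb1
    have k3 : v'' = 0 := by
      rw [k2, mul_zero] at k0
      exact k0.symm
    apply hv0
    linear_combination k1 - k2 + k3
  · -- large case
    push Not at hS
    obtain ⟨l, hl0, hl⟩ := exists_sum_scalar hq V hd hS htop
    have hl1 : l ≠ 1 := by
      rintro rfl
      apply htop
      rw [AddSubgroup.eq_top_iff']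
      intro x
      obtain ⟨u, hu, w, hw, e⟩ := hl x
      rw [e, one_mul]; exact V.add_mem hu hw
    obtain ⟨v, hvV, hlv⟩ : ∃ v ∈ V, l * v ∉ V := by
      by_contra hcon
      push Not at hcon
      apply htop
      rw [AddSubgroup.eq_top_iff']
      intro x
      obtain ⟨u, hu, w, hw, e⟩ := hl x
      rw [e]; exact V.add_mem hu (hcon w hw)
    obtain ⟨u₁, hu₁, u₂, hu₂, e⟩ := hl (l * (1 + l) * v)
    have h1l' := h1l l hl1
    refine ⟨1, l⁻¹, (1 + l)⁻¹, one_ne_zero, inv_ne_zero hl0, inv_ne_zero h1l',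
      v, hvV, u₁, hu₁, u₁ + u₂, V.add_mem hu₁ hu₂, ?_, ?_⟩
    · apply mul_left_cancel₀ (mul_ne_zero hl0 h1l')
      have hA : l * l⁻¹ = 1 := mul_inv_cancel₀ hl0
      have hB : (1 + l) * (1 + l)⁻¹ = 1 := mul_inv_cancel₀ h1l'
      have r1 : l * (1 + l) * (l⁻¹ * u₁ + (1 + l)⁻¹ * (u₁ + u₂)) =
          (1 + l) * u₁ + l * (u₁ + u₂) := by
        linear_combination ((1 + l) * u₁) * hA + (l * (u₁ + u₂)) * hB
      rw [r1, one_mul, e]
      linear_combination (-(l * u₁)) * h2
    · intro b hb1 hb2 hb3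
      rw [inv_one, one_mul] at hb1
      rw [inv_inv] at hb2 hb3
      apply hlv
      have : l * v = (1 + l) * (1 * v + b) - b - l * b - v := by ring
      rw [this]
      exact V.sub_mem (V.sub_mem (V.sub_mem hb3 hb1) hb2) hvV

end Cfsg.Agent.Lib.helper8
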