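/-
Suzuki group: coset actions on 2-subgroups other than the trivial group and the centre of a
Sylow 2-subgroup are not binary.
-/
import Cfsg.Agent.Lib.helper8.SzBin3
import Cfsg.Agent.Lib.helper8.SzBin4

set_option autoImplicit false

namespace Cfsg.Agent.Lib.helper8

open Matrix
open scoped Pointwise

variable {F : Type*} [Field F] [Fintype F]

theorem gT_inv {m : ℕ} (h : SzHyp F m) (a b : F) : (gT h a b)⁻¹ = gT h a (b + a * th m a) :=
  Subtype.ext (by rw [InvMemClass.coe_inv]; exact sT_inv h a b)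

theorem gT_conj_gT {m : ℕ} (h : SzHyp F m) (c d a b : F) :
    gT h c d * gT h a b * (gT h c d)⁻¹ = gT h a (b + th m c * a + th m a * c) :=
  Subtype.ext (by
    rw [Subgroup.coe_mul, Subgroup.coe_mul, InvMemClass.coe_inv]
    exact sT_conj_sT h c d a b)

theorem gT_inv_conj_gT {m : ℕ} (h : SzHyp F m) (c d a b : F) :
    (gT h c d)⁻¹ * gT h a b * gT h c d = gT h a (b + th m c * a + th m a * c) := by
  have := gT_conj_gT h c (d + c * th m c) a b
  rw [← gT_inv, inv_inv] at this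
  exact this

theorem gD_inv_conj_gT {m : ℕ} (h : SzHyp F m) (z : Fˣ) (a b : F) :
    (gD h z)⁻¹ * gT h a b * gD h z =
      gT h ((th m (z : F))⁻¹ * a) ((th m (z : F) * (z : F) ^ 2)⁻¹ * b) := by
  have hθ : th m (z : F) ≠ 0 := th_ne_zero z.ne_zero
  have hκ : th m (z : F) * (z : F) ^ 2 ≠ 0 := mul_ne_zero hθ (pow_ne_zero 2 z.ne_zero)
  have := gD_conj_gT h z ((th m (z : F))⁻¹ * a) ((th m (z : F) * (z : F) ^ 2)⁻¹ * b)
  rw [mul_inv_cancel_left₀ hθ, mul_inv_cancel_left₀ hκ] at this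
  rw [← this]; group

theorem mem_subT_iff {m : ℕ} (h : SzHyp F m) (g : ↥(Cfsg.Sz F m)) :
    g ∈ subT h ↔ ∃ a b : F, g = gT h a b := by
  constructor
  · rintro ⟨a, b, e⟩; exact ⟨a, b, Subtype.ext e⟩
  · rintro ⟨a, b, rfl⟩; exact ⟨a, b, rfl⟩

/-- Conjugation by `T(c,d) D(z)` on a central element. -/
theorem fam_conj_zero {m : ℕ} (h : SzHyp F m) (c d : F) (z : Fˣ) (b : F) :
    (gT h c d * gD h z)⁻¹ * gT h 0 b * (gT h c d * gD h z) =
      gT h 0 ((th m (z : F) * (z : F) ^ 2)⁻¹ * b) := by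
  have e : (gT h c d * gD h z)⁻¹ * gT h 0 b * (gT h c d * gD h z) =
      (gD h z)⁻¹ * ((gT h c d)⁻¹ * gT h 0 b * gT h c d) * gD h z := by group
  rw [e, gT_inv_conj_gT, gD_inv_conj_gT]; simp [th_zero]

theorem fam_conj {m : ℕ} (h : SzHyp F m) (c d : F) (z : Fˣ) (a b : F) :
    (gT h c d * gD h z)⁻¹ * gT h a b * (gT h c d * gD h z) =
      (gD h z)⁻¹ * gT h a (b + th m c * a + th m a * c) * gD h z := by
  have e : (gT h c d * gD h z)⁻¹ * gT h a b * (gT h c d * gD h z) =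
      (gD h z)⁻¹ * ((gT h c d)⁻¹ * gT h a b * gT h c d) * gD h z := by group
  rw [e, gT_inv_conj_gT]

theorem diff_conj {m : ℕ} (h : SzHyp F m) (z : Fˣ) (a b b' : F) :
    ((gD h z)⁻¹ * gT h a b * gD h z) * ((gD h z)⁻¹ * gT h a b' * gD h z)⁻¹ =
      gT h 0 ((th m (z : F) * (z : F) ^ 2)⁻¹ * (b + b')) := by
  have e : ((gD h z)⁻¹ * gT h a b * gD h z) * ((gD h z)⁻¹ * gT h a b' * gD h z)⁻¹ =
      (gD h z)⁻¹ * (gT h a b * (gT h a b')⁻¹) * gD h z := by group
  have e2 : gT h a b * (gT h a b')⁻¹ = gT h 0 (b + b') := by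
    rw [gT_inv, gT_mul]
    congr 1
    · exact add_self_of_two h.two a
    · linear_combination (a * th m a) * h.two
  rw [e, e2, gD_inv_conj_gT, mul_zero]

/-- Values of the commutator form. -/
theorem exists_omega {m : ℕ} (hF : Fintype.card F = 2 ^ (2 * m + 1)) {a : F} (ha : a ≠ 0)
    (y : F) : ∃ c : F, th m c * a + th m a * c = y ∨
      th m c * a + th m a * c = y + a * th m a := by
  have hth : th m a ≠ 0 := th_ne_zero ha
  have hne : a * th m a ≠ 0 := mul_ne_zero ha hth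
  obtain ⟨t, ht⟩ := exists_th_add hF (y / (a * th m a))
  refine ⟨a * t, ?_⟩
  have e : th m (a * t) * a + th m a * (a * t) = a * th m a * (th m t + t) := by
    rw [th_mul]; ring
  rcases ht with ht | ht
  · left; rw [e, ht]; field_simp
  · right; rw [e, ht]; field_simp

/-- 2-subgroups not containing the centre of the Sylow subgroup. -/
theorem not_binG_subT_small {m : ℕ} (hm : 1 ≤ m) (hF : Fintype.card F = 2 ^ (2 * m + 1))
    (h : SzHyp F m) (H : Subgroup ↥(Cfsg.Sz F m)) (hH : H ≤ subT h) (hne : H ≠ ⊥) {b₀ : F}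
    (hb₀ : gT h 0 b₀ ∉ H) : ¬ BinG H := by
  have h2 := h.two
  have hVbot : subB h H ≠ ⊥ := by
    obtain ⟨⟨x, hxH⟩, hx1'⟩ := (Subgroup.ne_bot_iff_exists_ne_one).1 hne
    have hx1 : x ≠ 1 := fun e => hx1' (Subtype.ext e)
    obtain ⟨a, b, ex⟩ := (mem_subT_iff h x).1 (hH hxH)
    intro hbot
    by_cases ha : a = 0
    · subst ha
      have : b ∈ subB h H := by rw [mem_subB, ← ex]; exact hxH
      rw [hbot, AddSubgroup.mem_bot] at this
      subst this
      exact hx1 (by rw [ex, gT_zero_zero])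
    · have : th m a * a ∈ subB h H := by
        rw [mem_subB, ← gT_sq h a b, ← ex]; exact mul_mem hxH hxH
      rw [hbot, AddSubgroup.mem_bot] at this
      exact (mul_ne_zero (th_ne_zero ha) ha) this
  have hVtop : subB h H ≠ ⊤ := by
    intro e
    apply hb₀
    rw [← mem_subB, e]; trivial
  obtain ⟨κ₁, κ₂, κ₃, hκ₁, hκ₂, hκ₃, v₁, hv₁, v₂, hv₂, v₃, hv₃, hx, hno⟩ :=
    lattice_witness hF h2 (subB h H) hVbot hVtop
  obtain ⟨z₁, hz₁⟩ := exists_unit_kappa h hκ₁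
  obtain ⟨z₂, hz₂⟩ := exists_unit_kappa h hκ₂
  obtain ⟨z₃, hz₃⟩ := exists_unit_kappa h hκ₃
  have hx3 : κ₁ * v₁ + κ₂ * v₂ = κ₃ * v₃ := by
    rw [hx]; linear_combination (κ₂ * v₂) * h2
  refine not_binG_of_family H (ι := Bool × (F × F))
    (fun i => gT h i.2.1 i.2.2 * gD h (if i.1 then z₂ else z₁)) (gD h z₃)
    (gT h 0 (κ₁ * v₁) * gD h z₃) ?_ ?_
  · rintro ⟨i, c, d⟩
    cases i
    · refine ⟨gT h 0 (κ₁ * v₁), ?_, ?_⟩
      · simp only [Bool.false_eq_true, if_false]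
        rw [fam_conj_zero, hz₁, inv_mul_cancel_left₀ hκ₁]
        exact hv₁
      · have : (gT h 0 (κ₁ * v₁) * gD h z₃)⁻¹ * gT h 0 (κ₁ * v₁) * gD h z₃ = 1 := by group
        rw [this]; exact one_mem H
    · refine ⟨gT h 0 (κ₂ * v₂), ?_, ?_⟩
      · simp only [if_true]
        rw [fam_conj_zero, hz₂, inv_mul_cancel_left₀ hκ₂]
        exact hv₂
      · have e : (gT h 0 (κ₁ * v₁) * gD h z₃)⁻¹ * gT h 0 (κ₂ * v₂) * gD h z₃ =
            (gD h z₃)⁻¹ * ((gT h 0 (κ₁ * v₁))⁻¹ * gT h 0 (κ₂ * v₂)) * gD h z₃ := by group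
        have e2 : (gT h 0 (κ₁ * v₁))⁻¹ * gT h 0 (κ₂ * v₂) = gT h 0 (κ₃ * v₃) := by
          rw [inv_eq_of_mul_eq_one_left (gT_zero_sq h _), ← gT_zero_add, hx3]
        rw [e, e2, gD_inv_conj_gT, hz₃, inv_mul_cancel_left₀ hκ₃, mul_zero]
        exact hv₃
  · intro g hall hc
    -- g is a translation
    obtain ⟨a, b, rfl⟩ : ∃ a b : F, g = gT h a b := by
      have h00 := hall (false, 0, 0)
      simp only [Bool.false_eq_true, if_false] at h00
      obtain ⟨a', b', e⟩ := (mem_subT_iff h _).1 (hH h00)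
      refine ⟨th m (z₁ : F) * a', th m (z₁ : F) * (z₁ : F) ^ 2 * b', ?_⟩
      rw [← gD_conj_gT, ← e, gT_zero_zero]; group
    have hc' : (gD h z₃)⁻¹ * ((gT h 0 (κ₁ * v₁))⁻¹ * gT h a b) * gD h z₃ ∈ H := by
      have e : (gT h 0 (κ₁ * v₁) * gD h z₃)⁻¹ * gT h a b * gD h z₃ =
          (gD h z₃)⁻¹ * ((gT h 0 (κ₁ * v₁))⁻¹ * gT h a b) * gD h z₃ := by group
      rw [← e]; exact hc
    by_cases ha : a = 0
    · subst ha
      have k1 := hall (false, 0, 0)
      have k2 := hall (true, 0, 0)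
      simp only [Bool.false_eq_true, if_false, if_true] at k1 k2
      rw [fam_conj_zero, hz₁] at k1
      rw [fam_conj_zero, hz₂] at k2
      rw [inv_eq_of_mul_eq_one_left (gT_zero_sq h _), ← gT_zero_add, gD_inv_conj_gT, hz₃,
        mul_zero] at hc'
      exact hno b k1 k2 hc'
    · have key : ∀ c : F, gT h 0 (κ₁⁻¹ * (th m c * a + th m a * c)) ∈ H ∧
          gT h 0 (κ₂⁻¹ * (th m c * a + th m a * c)) ∈ H := by
        intro c
        have k10 := hall (false, 0, 0)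
        have k1c := hall (false, c, 0)
        have k20 := hall (true, 0, 0)
        have k2c := hall (true, c, 0)
        simp only [Bool.false_eq_true, if_false, if_true] at k10 k1c k20 k2c
        rw [fam_conj] at k10 k1c k20 k2c
        have r1 := H.mul_mem k1c (H.inv_mem k10)
        have r2 := H.mul_mem k2c (H.inv_mem k20)
        rw [diff_conj, hz₁] at r1
        rw [diff_conj, hz₂] at r2
        have e : b + th m c * a + th m a * c + (b + th m 0 * a + th m a * 0) =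
            th m c * a + th m a * c := by
          rw [th_zero]; linear_combination b * h2
        rw [e] at r1 r2
        exact ⟨r1, r2⟩
      have hu : ∀ y : F, gT h 0 (κ₁⁻¹ * y) ∈ H ∨ gT h 0 (κ₁⁻¹ * (y + a * th m a)) ∈ H := by
        intro y
        obtain ⟨c, hc | hc⟩ := exists_omega hF ha y
        · left; rw [← hc]; exact (key c).1
        · right; rw [← hc]; exact (key c).1
      obtain ⟨c, hc | hc⟩ := exists_omega hF ha (κ₁ * v₁)
      · obtain ⟨k1, k2⟩ := key c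
        rw [hc] at k1 k2
        apply hno (κ₁ * v₁) k1 k2
        rw [add_self_of_two h2, mul_zero]
        exact (subB h H).zero_mem
      · have k1 := (key c).1
        rw [hc] at k1
        have hu0 : κ₁⁻¹ * (a * th m a) ∈ subB h H := by
          have e : κ₁⁻¹ * (a * th m a) = κ₁⁻¹ * (κ₁ * v₁ + a * th m a) - v₁ := by
            rw [mul_add, inv_mul_cancel_left₀ hκ₁]; ring
          rw [e]; exact (subB h H).sub_mem k1 hv₁
        apply hb₀
        have : κ₁⁻¹ * (κ₁ * b₀) ∈ subB h H := by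
          rcases hu (κ₁ * b₀) with k | k
          · exact k
          · have e : κ₁⁻¹ * (κ₁ * b₀) = κ₁⁻¹ * (κ₁ * b₀ + a * th m a) - κ₁⁻¹ * (a * th m a) := by
              ring
            rw [e]; exact (subB h H).sub_mem k hu0
        rwa [inv_mul_cancel_left₀ hκ₁] at this

/-- 2-subgroups strictly between the centre and the Sylow subgroup. -/
theorem not_binG_subT_mid {m : ℕ} (hm : 1 ≤ m) (hF : Fintype.card F = 2 ^ (2 * m + 1))
    (h : SzHyp F m) (H : Subgroup ↥(Cfsg.Sz F m)) (hH : H ≤ subT h)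
    (hZ : ∀ b : F, gT h 0 b ∈ H) {a₁ b₁ : F} (ha₁ : a₁ ≠ 0) (h₁ : gT h a₁ b₁ ∈ H)
    {a₀ b₀ : F} (h₀ : gT h a₀ b₀ ∉ H) : ¬ BinG H := by
  have h2 := h.two
  have key : ∀ a b : F, gT h a b ∈ H ↔ gT h a 0 ∈ H := by
    intro a b
    have e : gT h a b = gT h a 0 * gT h 0 b := by
      rw [gT_mul]; congr 1 <;> ring
    rw [e]
    constructor
    · intro hh
      have := H.mul_mem hh (H.inv_mem (hZ b))
      rwa [mul_inv_cancel_right] at this
    · intro hh; exact H.mul_mem hh (hZ b)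
  let U : AddSubgroup F :=
    { carrier := {a | gT h a 0 ∈ H}
      zero_mem' := by
        show gT h 0 0 ∈ H
        rw [gT_zero_zero]; exact one_mem H
      add_mem' := by
        intro a a' ha ha'
        show gT h (a + a') 0 ∈ H
        have := H.mul_mem ha ha'
        rw [gT_mul] at this
        exact (key _ _).1 this
      neg_mem' := by
        intro a ha
        show gT h (-a) 0 ∈ H
        rw [neg_eq_of_two h2]; exact ha }
  have hU : ∀ a : F, a ∈ U ↔ gT h a 0 ∈ H := fun a => Iff.rfl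
  have hUbot : U ≠ ⊥ := by
    intro e
    have : a₁ ∈ U := (key _ _).1 h₁
    rw [e, AddSubgroup.mem_bot] at this
    exact ha₁ this
  have hUtop : U ≠ ⊤ := by
    intro e
    apply h₀
    rw [key, ← hU, e]; trivial
  obtain ⟨κ₁, κ₂, κ₃, hκ₁, hκ₂, hκ₃, v₁, hv₁, v₂, hv₂, v₃, hv₃, hx, hno⟩ :=
    lattice_witness hF h2 U hUbot hUtop
  have hunit : ∀ κ : F, κ ≠ 0 → ∃ z : Fˣ, th m (z : F) = κ := by
    intro κ hκ
    obtain ⟨t, ht⟩ := th_surjective h κ
    have ht0 : t ≠ 0 := by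
      rintro rfl
      rw [th_zero] at ht
      exact hκ ht.symm
    exact ⟨Units.mk0 t ht0, ht⟩
  obtain ⟨z₁, hz₁⟩ := hunit κ₁ hκ₁
  obtain ⟨z₂, hz₂⟩ := hunit κ₂ hκ₂
  obtain ⟨z₃, hz₃⟩ := hunit κ₃ hκ₃
  have hx3 : κ₁ * v₁ + κ₂ * v₂ = κ₃ * v₃ := by
    rw [hx]; linear_combination (κ₂ * v₂) * h2
  refine not_binG_of_triangle H (gD h z₁) (gD h z₂) (gD h z₃) (gT h (κ₁ * v₁) 0)
    (gT h (κ₂ * v₂) 0) ?_ ?_ ?_ ?_
  · rw [gD_inv_conj_gT, key, hz₁, inv_mul_cancel_left₀ hκ₁]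
    exact hv₁
  · rw [gD_inv_conj_gT, key, hz₂, inv_mul_cancel_left₀ hκ₂]
    exact hv₂
  · rw [gT_inv, gT_mul, hx3, gD_inv_conj_gT, key, hz₃, inv_mul_cancel_left₀ hκ₃]
    exact hv₃
  · intro g h1 h2' h3
    obtain ⟨a, b, rfl⟩ : ∃ a b : F, g = gT h a b := by
      obtain ⟨a', b', e⟩ := (mem_subT_iff h _).1 (hH h1)
      refine ⟨th m (z₁ : F) * a', th m (z₁ : F) * (z₁ : F) ^ 2 * b', ?_⟩
      rw [← gD_conj_gT, ← e]; group
    rw [gD_inv_conj_gT, key, hz₁] at h1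
    rw [gD_inv_conj_gT, key, hz₂] at h2'
    rw [gT_inv, gT_mul, gD_inv_conj_gT, key, hz₃] at h3
    exact hno a h1 h2' h3

omit [Fintype F] in
theorem matT_one_zero {m : ℕ} (_h : SzHyp F m) :
    matT m (1 : F) 0 = !![1, 1, 1, 1; 0, 1, 1, 0; 0, 0, 1, 1; 0, 0, 0, 1] := by
  have h0 : (0 : F) ^ 2 ^ (m + 1) = 0 := zero_pow (by positivity)
  simp [matT, ff, th, h0]

omit [Fintype F] in
theorem matT_one_one {m : ℕ} (h : SzHyp F m) :
    matT m (1 : F) 1 = !![1, 1, 0, 1; 0, 1, 1, 1; 0, 0, 1, 1; 0, 0, 0, 1] := by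
  have h2 := h.two
  have e1 : (1 : F) + 1 = 0 := by linear_combination h2
  simp [matT, ff, th, e1]

omit [Fintype F] in
theorem f20_rel_mat {m : ℕ} (h : SzHyp F m) :
    matW * matT m (1 : F) 1 * matW =
      matT m (1 : F) 0 * matW * matT m 1 0 * matW * matT m 1 0 := by
  have h2 := h.two
  have e1 : (1 : F) + 1 = 0 := by linear_combination h2
  rw [matT_one_zero h, matT_one_one h]
  ext i j
  fin_cases i <;> fin_cases j <;>
    simp [matW, Matrix.mul_apply, Fin.sum_univ_four, e1]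

theorem f20_rel {m : ℕ} (h : SzHyp F m) :
    gW h * gT h 1 1 * gW h = gT h 1 0 * gW h * gT h 1 0 * gW h * gT h 1 0 := by
  apply Subtype.ext
  apply Subtype.ext
  show (matW * matT m (1 : F) 1 * matW : Matrix (Fin 4) (Fin 4) F) =
    matT m (1 : F) 0 * matW * matT m 1 0 * matW * matT m 1 0
  exact f20_rel_mat h

theorem fix_of_conj_fix {m : ℕ} {x g : ↥(Cfsg.Sz F m)} {p : Projectivization F (Fin 4 → F)}
    (hfix : (x⁻¹ * g * x).1 • p = p) : g.1 • (x.1 • p) = x.1 • p := by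
  rw [coe_mul_smul, coe_mul_smul] at hfix
  have : x.1 • ((x⁻¹).1 • (g.1 • (x.1 • p))) = x.1 • p := congrArg (fun q => x.1 • q) hfix
  rwa [InvMemClass.coe_inv, smul_inv_smul] at this

/-- The Sylow 2-subgroup itself. -/
theorem not_binG_subT {m : ℕ} (hm : 1 ≤ m) (hF : Fintype.card F = 2 ^ (2 * m + 1))
    (h : SzHyp F m) : ¬ BinG (subT h) := by
  have hW := gW_sq h
  have hfi : gT h 1 0 * gT h 1 0 * gT h 1 0 = gT h (1 : F) 1 := by
    have e1 : (1 : F) + 1 = 0 := by linear_combination h.two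
    rw [gT_mul, e1, gT_mul, th_zero, th_one]
    congr 1 <;> ring
  have hfinv : (gT h (1 : F) 0)⁻¹ = gT h 1 1 := by
    rw [gT_inv, th_one]; congr 1; ring
  have R := f20_rel h
  have hf1 : gT h (1 : F) 0 ≠ 1 := by
    intro e
    have := congrArg Subtype.val e
    have h1 : sT m (1 : F) 0 = 1 := this
    rw [sT_eq_one_iff h] at h1
    exact one_ne_zero h1.1
  have hff : ff m (1 : F) 0 ≠ 0 := fun e => one_ne_zero (ff_eq_zero h e).1
  have hy1 : (gT h (1 : F) 0 * gW h).1 • (pinf : Projectivization F (Fin 4 → F)) = paff m 1 0 := by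
    rw [coe_mul_smul]
    show sT m (1 : F) 0 • ((sW : Matrix.SpecialLinearGroup (Fin 4) F) • pinf) = paff m 1 0
    rw [sW_pinf m, sT_paff_zero h]
  have hy2 : ∃ u v : F, ((gT h (1 : F) 0 * gW h) * (gT h (1 : F) 0 * gW h)).1 •
      (pinf : Projectivization F (Fin 4 → F)) = paff m u v := by
    rw [coe_mul_smul, hy1, coe_mul_smul]
    show ∃ u v : F, sT m (1 : F) 0 • ((sW : Matrix.SpecialLinearGroup (Fin 4) F) • paff m 1 0) =
      paff m u v
    rw [sW_paff h hff, sT_paff h]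
    exact ⟨_, _, rfl⟩
  obtain ⟨u, v, hy2⟩ := hy2
  have hpow4 : ∀ g : ↥(Cfsg.Sz F m), g ∈ subT h → g ^ 4 = 1 := by
    rintro g ⟨a, b, e⟩
    apply Subtype.ext
    rw [SubmonoidClass.coe_pow, e, sT_pow_four h]; rfl
  have hfixinf : ∀ g : ↥(Cfsg.Sz F m), g ∈ subT h →
      g.1 • (pinf : Projectivization F (Fin 4 → F)) = pinf := by
    rintro g ⟨a, b, e⟩
    rw [e]; exact sT_pinf m a b
  refine not_binG_of_triangle (subT h) 1 (gT h 1 0 * gW h)
    ((gT h 1 0 * gW h) * (gT h 1 0 * gW h)) (gT h 1 0)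
    ((gT h 1 0 * gW h) * (gT h 1 0 * gT h 1 0) * (gT h 1 0 * gW h)⁻¹) ?_ ?_ ?_ ?_
  · rw [inv_one, one_mul, mul_one]; exact ⟨1, 0, rfl⟩
  · have e : (gT h (1 : F) 0 * gW h)⁻¹ *
        ((gT h 1 0 * gW h) * (gT h 1 0 * gT h 1 0) * (gT h 1 0 * gW h)⁻¹) * (gT h 1 0 * gW h) =
        gT h 1 0 * gT h 1 0 := by group
    rw [e]; exact mul_mem ⟨1, 0, rfl⟩ ⟨1, 0, rfl⟩
  · have e : ((gT h (1 : F) 0 * gW h) * (gT h 1 0 * gW h))⁻¹ *
        ((gT h 1 0)⁻¹ *
          ((gT h 1 0 * gW h) * (gT h 1 0 * gT h 1 0) * (gT h 1 0 * gW h)⁻¹)) *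
        ((gT h 1 0 * gW h) * (gT h 1 0 * gW h)) =
        ((gT h 1 0 * gW h) * (gT h 1 0 * gW h))⁻¹ *
          (gW h * (gT h 1 0 * gT h 1 0 * gT h 1 0) * gW h) := by group
    rw [e, hfi, R]
    have e2 : ((gT h (1 : F) 0 * gW h) * (gT h 1 0 * gW h))⁻¹ *
        (gT h 1 0 * gW h * gT h 1 0 * gW h * gT h 1 0) = gT h 1 0 := by group
    rw [e2]; exact ⟨1, 0, rfl⟩
  · intro g h1 h2 h3
    rw [inv_one, one_mul, mul_one] at h1
    have hg1 : g = 1 := by
      refine two_elt_fix_two hm hF (hpow4 g h1) (pinf_mem m) (paff_mem m 1 0)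
        (Ne.symm (paff_ne_pinf m 1 0)) (hfixinf g h1) ?_
      rw [← hy1]
      exact fix_of_conj_fix (hfixinf _ h2)
    subst hg1
    rw [mul_one] at h3
    have hfi1 : (gT h (1 : F) 0)⁻¹ = 1 := by
      refine two_elt_fix_two hm hF (hpow4 _ (inv_mem ⟨1, 0, rfl⟩)) (pinf_mem m) (paff_mem m u v)
        (Ne.symm (paff_ne_pinf m u v)) (hfixinf _ (inv_mem ⟨1, 0, rfl⟩)) ?_
      rw [← hy2]
      exact fix_of_conj_fix (hfixinf _ h3)
    exact hf1 (inv_eq_one.1 hfi1)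

end Cfsg.Agent.Lib.helper8
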