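/-
Suzuki group: coset actions that are not binary, for subgroups containing elements of order
greater than four together with involutions (four-point witnesses).
-/
import Cfsg.Agent.Lib.helper8.SzBin5

set_option autoImplicit false

namespace Cfsg.Agent.Lib.helper8

open Matrix
open scoped Pointwise

variable {F : Type*} [Field F] [Fintype F]

/-- Abstract four-point witness. -/
theorem quad_core {G : Type*} [Group G] (H : Subgroup G) (σ b w c₀ : G) (hσ : σ ∈ H)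
    (hw : w⁻¹ * σ * w ∈ H)
    (hid : c₀⁻¹ * σ⁻¹ * (b * (σ * σ) * b⁻¹) * c₀ = σ)
    (h3 : ∀ g ∈ H, w⁻¹ * g * w ∈ H → w⁻¹ * (b⁻¹ * g * b) * w ∈ H → g = 1)
    (hc : w⁻¹ * (c₀⁻¹ * σ⁻¹ * c₀) * w ∉ H) : ¬ BinG H := by
  refine not_binG_of_quad H 1 w (b * w) (c₀ * w) (σ * c₀ * w) ⟨σ, ?_, ?_⟩ ⟨σ, hw, ?_⟩
    ⟨b * (σ * σ) * b⁻¹, ?_, ?_⟩ ?_
  · simpa using hσ
  · have : (σ * c₀ * w)⁻¹ * σ * (c₀ * w) = 1 := by group
    rw [this]; exact one_mem H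
  · have : (σ * c₀ * w)⁻¹ * σ * (c₀ * w) = 1 := by group
    rw [this]; exact one_mem H
  · have : (b * w)⁻¹ * (b * (σ * σ) * b⁻¹) * (b * w) = (w⁻¹ * σ * w) * (w⁻¹ * σ * w) := by group
    rw [this]; exact mul_mem hw hw
  · have : (σ * c₀ * w)⁻¹ * (b * (σ * σ) * b⁻¹) * (c₀ * w) =
        w⁻¹ * (c₀⁻¹ * σ⁻¹ * (b * (σ * σ) * b⁻¹) * c₀) * w := by group
    rw [this, hid]; exact hw
  · intro g h1 h2 h3' h4
    have hg : g ∈ H := by simpa using h1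
    have e3 : (b * w)⁻¹ * g * (b * w) = w⁻¹ * (b⁻¹ * g * b) * w := by group
    rw [e3] at h3'
    have hg1 := h3 g hg h2 h3'
    subst hg1
    apply hc
    have : (σ * c₀ * w)⁻¹ * 1 * (c₀ * w) = w⁻¹ * (c₀⁻¹ * σ⁻¹ * c₀) * w := by group
    rw [← this]; exact h4

theorem fw_id {G : Type*} [Group G] (σ b : G)
    (hcomm : b * (σ⁻¹ * b * σ) = σ⁻¹ * b * σ * b) :
    (σ⁻¹ * b * σ * b)⁻¹ * σ⁻¹ * (b * (σ * σ) * b⁻¹) * (σ⁻¹ * b * σ * b) = σ := by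
  have e1 : (σ⁻¹ * b * σ * b)⁻¹ * σ⁻¹ * (b * (σ * σ) * b⁻¹) * (σ⁻¹ * b * σ * b) =
      b⁻¹ * σ * b⁻¹ * (σ⁻¹ * b * σ * b) := by group
  rw [e1, ← hcomm]; group

theorem four_id {G : Type*} [Group G] (f b : G) (hf4 : f * f * f * f = 1)
    (hE : (f * f) * (b * (f⁻¹ * b⁻¹ * f)) * (f * f)⁻¹ = (b * (f⁻¹ * b⁻¹ * f))⁻¹) :
    (b * (f * b⁻¹ * f⁻¹))⁻¹ * f⁻¹ * (b * (f * f) * b⁻¹) * (b * (f * b⁻¹ * f⁻¹)) = f := by
  have e1 : (b * (f * b⁻¹ * f⁻¹))⁻¹ * f⁻¹ * (b * (f * f) * b⁻¹) * (b * (f * b⁻¹ * f⁻¹)) =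
      f⁻¹ * ((f * f) * (b * (f⁻¹ * b⁻¹ * f)) * (f * f)⁻¹) * (b * (f * f * f) * b⁻¹ * f⁻¹) := by
    group
  rw [e1, hE]
  have e2 : f⁻¹ * (b * (f⁻¹ * b⁻¹ * f))⁻¹ * (b * (f * f * f) * b⁻¹ * f⁻¹) =
      f⁻¹ * f⁻¹ * b * (f * f * f * f) * b⁻¹ * f⁻¹ := by group
  rw [e2, hf4]
  have e3 : f⁻¹ * f⁻¹ * b * 1 * b⁻¹ * f⁻¹ = (f * f * f * f)⁻¹ * f := by group
  rw [e3, hf4]; group

theorem mem_map_conj {G : Type*} [Group G] (K : G) (H : Subgroup G) (g : G) :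
    g ∈ H ↔ K * g * K⁻¹ ∈ H.map (MulAut.conj K).toMonoidHom := by
  constructor
  · intro hg; exact ⟨g, hg, rfl⟩
  · rintro ⟨g', hg', e⟩
    have e' : K * g' * K⁻¹ = K * g * K⁻¹ := e
    have : g' = g := by simpa using e'
    rw [← this]; exact hg'

/-- The four-point witness in the Suzuki group. -/
theorem fw_geom {m : ℕ} (hm : 1 ≤ m) (hF : Fintype.card F = 2 ^ (2 * m + 1)) (h : SzHyp F m)
    (H : Subgroup ↥(Cfsg.Sz F m)) {z : Fˣ} (hz : z ≠ 1) (hσ : gD h z ∈ H) {β₀ : F}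
    (hβ₀ : β₀ ≠ 0) (hb : gT h 0 β₀ ∈ H) (w : ↥(Cfsg.Sz F m)) (hw : w⁻¹ * gD h z * w ∈ H)
    (hX : ∀ g ∈ H, w⁻¹ * g * w ∈ H →
      g.1 • (pinf : Projectivization F (Fin 4 → F)) = pinf ∧
        g.1 • paff m (0 : F) 0 = paff m 0 0) : ¬ BinG H := by
  have hκ0 : th m (z : F) * (z : F) ^ 2 ≠ 0 :=
    mul_ne_zero (th_ne_zero z.ne_zero) (pow_ne_zero 2 z.ne_zero)
  have hκ1 : th m (z : F) * (z : F) ^ 2 ≠ 1 := by
    intro e
    apply hz
    apply kappa2_inj h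
    rw [e]; simp [th_one]
  have hconj : (gD h z)⁻¹ * gT h 0 β₀ * gD h z =
      gT h 0 ((th m (z : F) * (z : F) ^ 2)⁻¹ * β₀) := by
    rw [gD_inv_conj_gT, mul_zero]
  have hc₀ : (gD h z)⁻¹ * gT h 0 β₀ * gD h z * gT h 0 β₀ =
      gT h 0 ((th m (z : F) * (z : F) ^ 2)⁻¹ * β₀ + β₀) := by
    rw [hconj, ← gT_zero_add]
  have hy : (th m (z : F) * (z : F) ^ 2)⁻¹ * β₀ + β₀ ≠ 0 := by
    intro e
    have e2 : ((th m (z : F) * (z : F) ^ 2)⁻¹ + 1) * β₀ = 0 := by rw [← e]; ring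
    rcases mul_eq_zero.1 e2 with h1 | h1
    · apply hκ1
      have h3 : (th m (z : F) * (z : F) ^ 2)⁻¹ = 1 := by linear_combination h1 - h.two
      exact inv_eq_one.1 h3
    · exact hβ₀ h1
  refine quad_core H (gD h z) (gT h 0 β₀) w ((gD h z)⁻¹ * gT h 0 β₀ * gD h z * gT h 0 β₀) hσ hw
    ?_ ?_ ?_
  · apply fw_id
    rw [hconj, ← gT_zero_add, ← gT_zero_add, add_comm]
  · intro g hg h2 h3
    obtain ⟨f1, f2⟩ := hX g hg h2
    have hg' : (gT h 0 β₀)⁻¹ * g * gT h 0 β₀ ∈ H := mul_mem (mul_mem (inv_mem hb) hg) hb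
    obtain ⟨-, f3⟩ := hX _ hg' h3
    have f3' := fix_of_conj_fix f3
    have e : (gT h 0 β₀).1 • paff m (0 : F) 0 = paff m 0 β₀ := sT_paff_zero h 0 β₀
    rw [e] at f3'
    apply Subtype.ext
    exact eq_one_of_three hm hF g.2 f1 f2 (x := 0) (y := β₀) (fun hh => hβ₀ hh.2) f3'
  · intro hmem
    have hc₀H : (gD h z)⁻¹ * gT h 0 β₀ * gD h z * gT h 0 β₀ ∈ H :=
      mul_mem (mul_mem (mul_mem (inv_mem hσ) hb) hσ) hb
    have hg' : ((gD h z)⁻¹ * gT h 0 β₀ * gD h z * gT h 0 β₀)⁻¹ * (gD h z)⁻¹ *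
        ((gD h z)⁻¹ * gT h 0 β₀ * gD h z * gT h 0 β₀) ∈ H :=
      mul_mem (mul_mem (inv_mem hc₀H) (inv_mem hσ)) hc₀H
    obtain ⟨-, f2⟩ := hX _ hg' hmem
    have f2' := fix_of_conj_fix f2
    rw [hc₀] at f2'
    have e : (gT h 0 ((th m (z : F) * (z : F) ^ 2)⁻¹ * β₀ + β₀)).1 • paff m (0 : F) 0 =
        paff m 0 ((th m (z : F) * (z : F) ^ 2)⁻¹ * β₀ + β₀) := sT_paff_zero h 0 _
    rw [e] at f2'
    have f2'' : (gD h z).1 • paff m (0 : F) ((th m (z : F) * (z : F) ^ 2)⁻¹ * β₀ + β₀) =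
        paff m 0 ((th m (z : F) * (z : F) ^ 2)⁻¹ * β₀ + β₀) := by
      have := coe_inv_smul_eq _ f2'
      rwa [inv_inv] at this
    exact hz (sD_fix h f2'' (fun hh => hy hh.2))

/-- Subgroups of a point stabiliser containing a torus element and an involution. -/
theorem not_binG_stabInf {m : ℕ} (hm : 1 ≤ m) (hF : Fintype.card F = 2 ^ (2 * m + 1))
    (h : SzHyp F m) (H : Subgroup ↥(Cfsg.Sz F m))
    (hH : ∀ g ∈ H, g.1 • (pinf : Projectivization F (Fin 4 → F)) = pinf) {z : Fˣ} (hz : z ≠ 1)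
    (hσ : gD h z ∈ H) {β₀ : F} (hβ₀ : β₀ ≠ 0) (hb : gT h 0 β₀ ∈ H) : ¬ BinG H := by
  have hWinv : (gW h)⁻¹ = gW h := inv_eq_of_mul_eq_one_left (gW_sq h)
  refine fw_geom hm hF h H hz hσ hβ₀ hb (gW h) ?_ ?_
  · have e : (gW h)⁻¹ * gD h z * gW h = (gD h z)⁻¹ := by
      have := gW_conj_gD h z
      rw [hWinv] at this ⊢
      rw [this, map_inv]
    rw [e]; exact inv_mem hσ
  · intro g hg hg'
    refine ⟨hH g hg, ?_⟩
    have := fix_of_conj_fix (hH _ hg')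
    have e : (gW h).1 • (pinf : Projectivization F (Fin 4 → F)) = paff m 0 0 := sW_pinf m
    rwa [e] at this

/-- Subgroups fixing a point, with an element of order greater than 4 and an involution. -/
theorem not_binG_fix {m : ℕ} (hm : 1 ≤ m) (hF : Fintype.card F = 2 ^ (2 * m + 1))
    (H : Subgroup ↥(Cfsg.Sz F m)) {p : Projectivization F (Fin 4 → F)}
    (hp : p ∈ Cfsg.suzukiOvoid F m) (hfix : ∀ g ∈ H, g.1 • p = p) {x : ↥(Cfsg.Sz F m)}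
    (hx : x ∈ H) (hx4 : x ^ 4 ≠ 1) {t : ↥(Cfsg.Sz F m)} (ht : t ∈ H) (ht1 : t ≠ 1)
    (ht2 : t * t = 1) : ¬ BinG H := by
  have h := szHyp_of_card hF
  obtain ⟨a, ha, b, hb, hab, hxa, hxb⟩ := exists_two_fix_of_fix hm hF hx4 hp (hfix x hx)
  obtain ⟨q, hq, hqp, hxq⟩ : ∃ q ∈ Cfsg.suzukiOvoid F m, q ≠ p ∧ x.1 • q = q := by
    by_cases e : a = p
    · exact ⟨b, hb, fun e' => hab (e.trans e'.symm), hxb⟩
    · exact ⟨a, ha, e, hxa⟩
  obtain ⟨k, hk, hkp, hkq⟩ := exists_to_inf_zero h hp hq (Ne.symm hqp)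
  have hmem := mem_map_conj (⟨k, hk⟩ : ↥(Cfsg.Sz F m)) H
  rw [binG_conj (⟨k, hk⟩ : ↥(Cfsg.Sz F m)) hmem]
  have hfix' : ∀ g ∈ H.map (MulAut.conj (⟨k, hk⟩ : ↥(Cfsg.Sz F m))).toMonoidHom,
      g.1 • (pinf : Projectivization F (Fin 4 → F)) = pinf := by
    rintro _ ⟨g, hg, rfl⟩
    show ((⟨k, hk⟩ : ↥(Cfsg.Sz F m)) * g * (⟨k, hk⟩ : ↥(Cfsg.Sz F m))⁻¹).1 • pinf = pinf
    rw [coe_mul_smul, coe_mul_smul]
    have e1 : ((⟨k, hk⟩ : ↥(Cfsg.Sz F m))⁻¹).1 • (pinf : Projectivization F (Fin 4 → F)) = p :=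
      coe_inv_smul_eq (⟨k, hk⟩ : ↥(Cfsg.Sz F m)) hkp
    rw [e1, hfix g hg]; exact hkp
  have hx' := (hmem x).1 hx
  have hxo : ((⟨k, hk⟩ : ↥(Cfsg.Sz F m)) * x * (⟨k, hk⟩ : ↥(Cfsg.Sz F m))⁻¹).1 •
      paff m (0 : F) 0 = paff m 0 0 := by
    rw [coe_mul_smul, coe_mul_smul]
    have e1 : ((⟨k, hk⟩ : ↥(Cfsg.Sz F m))⁻¹).1 • paff m (0 : F) 0 = q :=
      coe_inv_smul_eq (⟨k, hk⟩ : ↥(Cfsg.Sz F m)) hkq
    rw [e1, hxq]; exact hkq
  obtain ⟨z, hz⟩ := two_point_stab hm hF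
    ((⟨k, hk⟩ : ↥(Cfsg.Sz F m)) * x * (⟨k, hk⟩ : ↥(Cfsg.Sz F m))⁻¹).2 (hfix' _ hx') hxo
  have hzD : (⟨k, hk⟩ : ↥(Cfsg.Sz F m)) * x * (⟨k, hk⟩ : ↥(Cfsg.Sz F m))⁻¹ = gD h z :=
    Subtype.ext hz
  have hz1 : z ≠ 1 := by
    rintro rfl
    rw [map_one] at hzD
    have : x = 1 := eq_one_of_conj_eq_one hzD
    exact hx4 (by rw [this, one_pow])
  have ht' := (hmem t).1 ht
  have ht'1 : (⟨k, hk⟩ : ↥(Cfsg.Sz F m)) * t * (⟨k, hk⟩ : ↥(Cfsg.Sz F m))⁻¹ ≠ 1 :=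
    fun e => ht1 (eq_one_of_conj_eq_one e)
  have ht'2 : ((⟨k, hk⟩ : ↥(Cfsg.Sz F m)) * t * (⟨k, hk⟩ : ↥(Cfsg.Sz F m))⁻¹) *
      ((⟨k, hk⟩ : ↥(Cfsg.Sz F m)) * t * (⟨k, hk⟩ : ↥(Cfsg.Sz F m))⁻¹) = 1 := by
    have : ((⟨k, hk⟩ : ↥(Cfsg.Sz F m)) * t * (⟨k, hk⟩ : ↥(Cfsg.Sz F m))⁻¹) *
      ((⟨k, hk⟩ : ↥(Cfsg.Sz F m)) * t * (⟨k, hk⟩ : ↥(Cfsg.Sz F m))⁻¹) =
        (⟨k, hk⟩ : ↥(Cfsg.Sz F m)) * (t * t) * (⟨k, hk⟩ : ↥(Cfsg.Sz F m))⁻¹ := by group
    rw [this, ht2]; group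
  obtain ⟨β, hβ, hβe⟩ := invol_at_inf hm hF ht'1 ht'2 (hfix' _ ht')
  rw [hzD] at hx'
  rw [hβe] at ht'
  exact not_binG_stabInf hm hF h _ hfix' hz1 hx' hβ ht'


theorem mem_map_conj' {G : Type*} [Group G] (K : G) (H : Subgroup G) (x : G) :
    x ∈ H.map (MulAut.conj K).toMonoidHom ↔ K⁻¹ * x * K ∈ H := by
  rw [mem_map_conj K H (K⁻¹ * x * K)]
  have : K * (K⁻¹ * x * K) * K⁻¹ = x := by group
  rw [this]

theorem mem_of_th_mem {m : ℕ} (hF : Fintype.card F = 2 ^ (2 * m + 1)) (h : SzHyp F m)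
    (K₀ : Subfield F) {x : F} (hx : th m x ∈ K₀) : x ∈ K₀ := by
  apply sq_mem_subfield hF
  rw [← th_th h]; exact th_mem_subfield K₀ hx

theorem form1_pinf {m : ℕ} (h : SzHyp F m) (a b : F) (z : Fˣ) :
    (gT h a b * gD h z).1 • (pinf : Projectivization F (Fin 4 → F)) = pinf := by
  rw [coe_mul_smul]
  show sT m a b • (sD m z • (pinf : Projectivization F (Fin 4 → F))) = pinf
  rw [sD_pinf, sT_pinf]

theorem form2_pinf {m : ℕ} (h : SzHyp F m) (a b c d : F) (z : Fˣ) :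
    (gT h a b * gW h * gT h c d * gD h z).1 • (pinf : Projectivization F (Fin 4 → F)) =
      paff m a b := by
  rw [coe_mul_smul, coe_mul_smul, coe_mul_smul]
  show sT m a b • ((sW : Matrix.SpecialLinearGroup (Fin 4) F) •
    (sT m c d • (sD m z • (pinf : Projectivization F (Fin 4 → F))))) = paff m a b
  rw [sD_pinf, sT_pinf, sW_pinf m, sT_paff_zero h]

theorem form2_inj {m : ℕ} (h : SzHyp F m) {a b c d a' b' c' d' : F} {z z' : Fˣ}
    (e : gT h a b * gW h * gT h c d * gD h z = gT h a' b' * gW h * gT h c' d' * gD h z') :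
    z = z' := by
  have e1 := congrArg
    (fun g : ↥(Cfsg.Sz F m) => g.1 • (pinf : Projectivization F (Fin 4 → F))) e
  simp only [form2_pinf] at e1
  obtain ⟨rfl, rfl⟩ := paff_inj.1 e1
  have e2 : gT h a b * gW h * (gT h c d * gD h z) = gT h a b * gW h * (gT h c' d' * gD h z') := by
    simpa [mul_assoc] using e
  have e3 := congrArg Subtype.val (mul_left_cancel e2)
  exact (sT_sD_inj h e3).2.2

/-- Subgroups all of whose elements have normal forms over a proper subfield. -/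
theorem not_binG_of_forms {m : ℕ} (hm : 1 ≤ m) (hF : Fintype.card F = 2 ^ (2 * m + 1))
    (h : SzHyp F m) (K₀ : Subfield F) (hK : K₀ ≠ ⊤) (M : Subgroup ↥(Cfsg.Sz F m))
    (hform : ∀ g ∈ M,
      (∃ (a b : F) (z : Fˣ), a ∈ K₀ ∧ b ∈ K₀ ∧ (z : F) ∈ K₀ ∧ g = gT h a b * gD h z) ∨
      (∃ (a b c d : F) (z : Fˣ), a ∈ K₀ ∧ b ∈ K₀ ∧ c ∈ K₀ ∧ d ∈ K₀ ∧ (z : F) ∈ K₀ ∧
        g = gT h a b * gW h * gT h c d * gD h z))
    {z₁ : Fˣ} (hz₁ : z₁ ≠ 1) (hD : gD h z₁ ∈ M) (hT : gT h 0 1 ∈ M) : ¬ BinG M := by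
  obtain ⟨l, hl⟩ : ∃ l : F, l ∉ K₀ := by
    by_contra hall
    push Not at hall
    exact hK (eq_top_iff.2 fun x _ => hall x)
  have hl0 : l ≠ 0 := fun e => hl (e ▸ K₀.zero_mem)
  obtain ⟨ζ, hζ⟩ := exists_unit_kappa h hl0
  have hζK : (ζ : F) ∉ K₀ := fun hh =>
    hl (hζ ▸ mul_mem (th_mem_subfield K₀ hh) (pow_mem hh 2))
  have hζ2 : (ζ : F) ^ 2 ∉ K₀ := fun hh => hζK (sq_mem_subfield hF K₀ hh)
  have hθζ : th m (ζ : F) ∉ K₀ := fun hh => hζK (mem_of_th_mem hF h K₀ hh)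
  have hWD : gW h * gD h ζ = (gD h ζ)⁻¹ * gW h := by
    have := gW_conj_gD h ζ
    rw [map_inv] at this
    rw [← this]; group
  have hcomm : ∀ z : Fˣ, (gD h ζ)⁻¹ * gD h z * gD h ζ = gD h z := by
    intro z
    rw [← map_inv, ← map_mul, ← map_mul, mul_right_comm, inv_mul_cancel, one_mul]
  refine fw_geom hm hF h M hz₁ hD one_ne_zero hT (gD h ζ) ?_ ?_
  · rw [hcomm]; exact hD
  · intro g hg hg'
    rcases hform g hg with ⟨a, b, z, ha, hb, hz, rfl⟩ | ⟨a, b, c, d, z, ha, hb, hc, hd, hz, rfl⟩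
    · have e : (gD h ζ)⁻¹ * (gT h a b * gD h z) * gD h ζ =
          gT h ((th m (ζ : F))⁻¹ * a) (l⁻¹ * b) * gD h z := by
        have e1 : (gD h ζ)⁻¹ * (gT h a b * gD h z) * gD h ζ =
            ((gD h ζ)⁻¹ * gT h a b * gD h ζ) * ((gD h ζ)⁻¹ * gD h z * gD h ζ) := by group
        rw [e1, hcomm, gD_inv_conj_gT, hζ]
      rw [e] at hg'
      rcases hform _ hg' with ⟨a', b', z', ha', hb', hz', e'⟩ |
        ⟨a', b', c', d', z', ha', hb', hc', hd', hz', e'⟩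
      · obtain ⟨e1, e2, -⟩ := sT_sD_inj h (congrArg Subtype.val e')
        have hb0 : b = 0 := by
          by_contra hb0
          apply hl
          have hb'0 : b' ≠ 0 := by
            rw [← e2]; exact mul_ne_zero (inv_ne_zero hl0) hb0
          have : l = b * b'⁻¹ := by
            rw [← e2]; field_simp
          rw [this]; exact mul_mem hb (inv_mem hb')
        have ha0 : a = 0 := by
          by_contra ha0
          apply hθζ
          have hθ0 : th m (ζ : F) ≠ 0 := th_ne_zero ζ.ne_zero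
          have ha'0 : a' ≠ 0 := by
            rw [← e1]; exact mul_ne_zero (inv_ne_zero hθ0) ha0
          have : th m (ζ : F) = a * a'⁻¹ := by
            rw [← e1]; field_simp
          rw [this]; exact mul_mem ha (inv_mem ha')
        subst hb0 ha0
        rw [gT_zero_zero, one_mul]
        exact ⟨sD_pinf m z, sD_paff_zero h z⟩
      · exfalso
        have e1 := congrArg
          (fun g : ↥(Cfsg.Sz F m) => g.1 • (pinf : Projectivization F (Fin 4 → F))) e'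
        simp only [form1_pinf, form2_pinf] at e1
        exact paff_ne_pinf m a' b' e1.symm
    · exfalso
      have e : (gD h ζ)⁻¹ * (gT h a b * gW h * gT h c d * gD h z) * gD h ζ =
          gT h ((th m (ζ : F))⁻¹ * a) (l⁻¹ * b) * gW h * gT h (th m (ζ : F) * c) (l * d) *
            gD h (ζ * z * ζ) := by
        have e1 : (gD h ζ)⁻¹ * (gT h a b * gW h * gT h c d * gD h z) * gD h ζ =
            ((gD h ζ)⁻¹ * gT h a b * gD h ζ) * ((gD h ζ)⁻¹ * gW h * (gD h ζ)⁻¹) *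
              (gD h ζ * gT h c d * (gD h ζ)⁻¹) * (gD h ζ * gD h z * gD h ζ) := by group
        have e2 : (gD h ζ)⁻¹ * gW h * (gD h ζ)⁻¹ = gW h := by
          rw [← hWD]; group
        rw [e1, e2, gD_inv_conj_gT, gD_conj_gT, hζ, ← map_mul, ← map_mul]
      rw [e] at hg'
      rcases hform _ hg' with ⟨a', b', z', ha', hb', hz', e'⟩ |
        ⟨a', b', c', d', z', ha', hb', hc', hd', hz', e'⟩
      · have e1 := congrArg
          (fun g : ↥(Cfsg.Sz F m) => g.1 • (pinf : Projectivization F (Fin 4 → F))) e'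
        simp only [form1_pinf, form2_pinf] at e1
        exact paff_ne_pinf m _ _ e1
      · have e1 := form2_inj h e'
        apply hζ2
        have : (ζ : F) ^ 2 = (z' : F) * (z : F)⁻¹ := by
          rw [← e1, Units.val_mul, Units.val_mul]
          have hz0 : (z : F) ≠ 0 := z.ne_zero
          field_simp
        rw [this]; exact mul_mem hz' (inv_mem hz)

/-- Subfield subgroups are not binary. -/
theorem not_binG_subfield {m : ℕ} (hm : 1 ≤ m) (hF : Fintype.card F = 2 ^ (2 * m + 1))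
    {k : ℕ} (hk : 1 ≤ k) (hkm : k < m) (hdiv : 2 * k + 1 ∣ 2 * m + 1)
    (ι : GaloisField 2 (2 * k + 1) →+* F) :
    ¬ BinG (szEmb hF hk (GaloisField.card 2 (2 * k + 1) (by omega)) hdiv ι).range := by
  have h := szHyp_of_card hF
  have hcard : Nat.card (GaloisField 2 (2 * k + 1)) = 2 ^ (2 * k + 1) :=
    GaloisField.card 2 (2 * k + 1) (by omega)
  have : Fintype (GaloisField 2 (2 * k + 1)) := Fintype.ofFinite _
  have hK' : Fintype.card (GaloisField 2 (2 * k + 1)) = 2 ^ (2 * k + 1) := by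
    rw [← Nat.card_eq_fintype_card]; exact hcard
  have h' := szHyp_of_card hK'
  obtain ⟨z₀, hz₀⟩ := exists_unit_ne_one hk hK'
  refine not_binG_of_forms hm hF h ι.fieldRange ?_ _ ?_
    (z₁ := Units.map (ι : GaloisField 2 (2 * k + 1) →* F) z₀) ?_ ?_ ?_
  · intro htop
    have hsurj : Function.Surjective ι := by
      intro x
      have : x ∈ ι.fieldRange := by rw [htop]; trivial
      exact RingHom.mem_fieldRange.1 this
    have h1 := Fintype.card_le_of_surjective ι hsurj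
    rw [hF, hK'] at h1
    have h2 := (Nat.pow_le_pow_iff_right (by norm_num : 1 < 2)).1 h1
    omega
  · rintro _ ⟨g₀, rfl⟩
    rcases sz_decomp hk hK' g₀.2 with ⟨a, b, z, e⟩ | ⟨a, b, c, d, z, e⟩
    · left
      refine ⟨ι a, ι b, Units.map (ι : GaloisField 2 (2 * k + 1) →* F) z, ⟨a, rfl⟩, ⟨b, rfl⟩,
        ⟨z, rfl⟩, ?_⟩
      have : g₀ = gT h' a b * gD h' z := Subtype.ext e
      rw [this, map_mul, szEmb_gT hF hk hcard hdiv ι h h', szEmb_gD hF hk hcard hdiv ι h h']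
    · right
      refine ⟨ι a, ι b, ι c, ι d, Units.map (ι : GaloisField 2 (2 * k + 1) →* F) z, ⟨a, rfl⟩,
        ⟨b, rfl⟩, ⟨c, rfl⟩, ⟨d, rfl⟩, ⟨z, rfl⟩, ?_⟩
      have : g₀ = gT h' a b * gW h' * gT h' c d * gD h' z := Subtype.ext e
      rw [this, map_mul, map_mul, map_mul, szEmb_gT hF hk hcard hdiv ι h h',
        szEmb_gT hF hk hcard hdiv ι h h', szEmb_gD hF hk hcard hdiv ι h h',
        szEmb_gW hF hk hcard hdiv ι h h']
  · intro e
    apply hz₀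
    apply Units.ext
    have e1 : ι (z₀ : GaloisField 2 (2 * k + 1)) = 1 := congrArg Units.val e
    exact ι.injective (by rw [e1, Units.val_one, map_one])
  · exact ⟨gD h' z₀, szEmb_gD hF hk hcard hdiv ι h h' z₀⟩
  · exact ⟨gT h' 0 1, by rw [szEmb_gT hF hk hcard hdiv ι h h', map_zero, map_one]⟩


/-- Two commuting involutions normalising a torus are equal. -/
theorem invol_eq_of_comm {m : ℕ} (hm : 1 ≤ m) (hF : Fintype.card F = 2 ^ (2 * m + 1))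
    {U : Subgroup ↥(Cfsg.Sz F m)} (hU : IsTorus m U) {u u' : ↥(Cfsg.Sz F m)}
    (hu : u ∈ Subgroup.normalizer (U : Set ↥(Cfsg.Sz F m))) (hu1 : u ≠ 1) (hu2 : u * u = 1)
    (hu' : u' ∈ Subgroup.normalizer (U : Set ↥(Cfsg.Sz F m))) (hu'1 : u' ≠ 1)
    (hu'2 : u' * u' = 1) (hc : u * u' = u' * u) : u = u' := by
  by_contra hne
  obtain ⟨h1, h2⟩ := torus_invol_mul hm hF hU hu hu1 hu2 hu' hu'1 hu'2 hne
  apply h2
  apply torus_sq hm hF hU h1
  calc u * u' * (u * u') = u * (u' * u) * u' := by group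
    _ = u * (u * u') * u' := by rw [hc]
    _ = (u * u) * (u' * u') := by group
    _ = 1 := by rw [hu2, hu'2, one_mul]

/-- Tori are TI. -/
theorem torus_TI_conj {m : ℕ} (hm : 1 ≤ m) (hF : Fintype.card F = 2 ^ (2 * m + 1))
    {U : Subgroup ↥(Cfsg.Sz F m)} (hU : IsTorus m U) {w v : ↥(Cfsg.Sz F m)} (hv : v ∈ U)
    (hv1 : v ≠ 1) (hwv : w⁻¹ * v * w ∈ U) :
    w ∈ Subgroup.normalizer (U : Set ↥(Cfsg.Sz F m)) := by
  have hwv1 : w⁻¹ * v * w ≠ 1 := fun e =>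
    hv1 (eq_one_of_conj_eq_one (k := w⁻¹) (by rwa [inv_inv]))
  have e1 := (torus_eq_cent hm hF hU hv hv1).2
  have e2 := (torus_eq_cent hm hF hU hwv hwv1).2
  rw [Subgroup.mem_normalizer_iff]
  intro n
  constructor
  · intro hn
    have hn' : n ∈ Subgroup.centralizer ({w⁻¹ * v * w} : Set ↥(Cfsg.Sz F m)) := by
      rw [← e2]; exact hn
    rw [mem_cent_iff] at hn'
    have : w * n * w⁻¹ ∈ Subgroup.centralizer ({v} : Set ↥(Cfsg.Sz F m)) := by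
      rw [mem_cent_iff]
      have e3 : v * (w * n * w⁻¹) = w * ((w⁻¹ * v * w) * n) * w⁻¹ := by group
      rw [e3, hn']; group
    rw [e1]; exact this
  · intro hn
    have hn' : w * n * w⁻¹ ∈ Subgroup.centralizer ({v} : Set ↥(Cfsg.Sz F m)) := by
      rw [← e1]; exact hn
    rw [mem_cent_iff] at hn'
    have : n ∈ Subgroup.centralizer ({w⁻¹ * v * w} : Set ↥(Cfsg.Sz F m)) := by
      rw [mem_cent_iff]
      have e3 : w⁻¹ * v * w * n = w⁻¹ * (v * (w * n * w⁻¹)) * w := by group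
      rw [e3, hn']; group
    rw [e2]; exact this

theorem isTorus_map_conj {m : ℕ} {U : Subgroup ↥(Cfsg.Sz F m)} (hU : IsTorus m U)
    (K : ↥(Cfsg.Sz F m)) : IsTorus m (U.map (MulAut.conj K).toMonoidHom) := by
  have e : ↥U ≃* ↥(U.map (MulAut.conj K).toMonoidHom) :=
    U.equivMapOfInjective _ (MulAut.conj K).injective
  refine ⟨?_, ?_⟩
  · haveI := hU.1
    exact isCyclic_of_surjective e e.surjective
  · rw [← Nat.card_congr e.toEquiv]; exact hU.2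

theorem normalizer_map_conj {G : Type*} [Group G] (K : G) {H U : Subgroup G}
    (hHU : H ≤ Subgroup.normalizer (U : Set G)) :
    H.map (MulAut.conj K).toMonoidHom ≤
      Subgroup.normalizer ((U.map (MulAut.conj K).toMonoidHom : Subgroup G) : Set G) := by
  rintro _ ⟨g, hg, rfl⟩
  have hgN := hHU hg
  rw [Subgroup.mem_normalizer_iff] at hgN ⊢
  intro n
  rw [mem_map_conj', mem_map_conj']
  have e : K⁻¹ * ((MulAut.conj K).toMonoidHom g * n * ((MulAut.conj K).toMonoidHom g)⁻¹) * K =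
      g * (K⁻¹ * n * K) * g⁻¹ := by
    show K⁻¹ * (K * g * K⁻¹ * n * (K * g * K⁻¹)⁻¹) * K = _
    group
  rw [e]; exact hgN _

/-- An element of order four commutes with an involution other than its square. -/
theorem exists_comm_invol {m : ℕ} (hm : 1 ≤ m) (hF : Fintype.card F = 2 ^ (2 * m + 1))
    {f : ↥(Cfsg.Sz F m)} (hf4 : f ^ 4 = 1) (hf2 : f * f ≠ 1) :
    ∃ w : ↥(Cfsg.Sz F m), w * f = f * w ∧ w ≠ 1 ∧ w * w = 1 ∧ w ≠ f * f := by
  have h := szHyp_of_card hF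
  have hs2 : (f * f) * (f * f) = 1 := by
    rw [← hf4, pow_succ, pow_succ, pow_succ, pow_one, ← mul_assoc]
  have hs2' : (f * f).1 * (f * f).1 = 1 := congrArg Subtype.val hs2
  have hs1' : (f * f).1 ≠ 1 := fun e => hf2 (Subtype.ext e)
  obtain ⟨p, hp, hsp⟩ := invol_exists_fix hm hF (f * f).2 hs2'
  have hfp : f.1 • p = p := by
    refine comm_fix hm hF f.2 (f * f).2 hs1' hs2' ?_ hp hsp
    exact congrArg Subtype.val (show f * (f * f) = (f * f) * f by group)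
  obtain ⟨k, hk, hkp⟩ := exists_to_inf h hp
  obtain ⟨K, hKp⟩ : ∃ K : ↥(Cfsg.Sz F m), K.1 • p = pinf := ⟨⟨k, hk⟩, hkp⟩
  have hfix : (K * f * K⁻¹).1 • (pinf : Projectivization F (Fin 4 → F)) = pinf := by
    rw [coe_mul_smul, coe_mul_smul, coe_inv_smul_eq K hKp, hfp]; exact hKp
  have hf'4 : (K * f * K⁻¹).1 ^ 4 = 1 := by
    have : (K * f * K⁻¹) ^ 4 = 1 := by rw [conj_pow, hf4]; group
    have := congrArg Subtype.val this
    simpa using this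
  obtain ⟨a₀, b₀, e⟩ := two_elt_at_inf hm hF (K * f * K⁻¹).2 hf'4 hfix
  have hf' : K * f * K⁻¹ = gT h a₀ b₀ := Subtype.ext e
  have hfe : f = K⁻¹ * gT h a₀ b₀ * K := by rw [← hf']; group
  have hff : f * f = K⁻¹ * gT h 0 (th m a₀ * a₀) * K := by
    rw [← gT_sq h a₀ b₀, hfe]; group
  have he : th m a₀ * a₀ ≠ 0 := by
    intro e0
    apply hf2
    rw [hff, e0, gT_zero_zero]; group
  obtain ⟨ξ, hξ⟩ := exists_unit_ne_one hm hF
  have hξ1 : (ξ : F) ≠ 1 := fun e => hξ (Units.ext e)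
  refine ⟨K⁻¹ * gT h 0 ((ξ : F) * (th m a₀ * a₀)) * K, ?_, ?_, ?_, ?_⟩
  · have ec : gT h 0 ((ξ : F) * (th m a₀ * a₀)) * gT h a₀ b₀ =
        gT h a₀ b₀ * gT h 0 ((ξ : F) * (th m a₀ * a₀)) := by
      rw [gT_mul, gT_mul, th_zero]; congr 1 <;> ring
    rw [hfe]
    calc K⁻¹ * gT h 0 ((ξ : F) * (th m a₀ * a₀)) * K * (K⁻¹ * gT h a₀ b₀ * K)
        = K⁻¹ * (gT h 0 ((ξ : F) * (th m a₀ * a₀)) * gT h a₀ b₀) * K := by group
      _ = K⁻¹ * (gT h a₀ b₀ * gT h 0 ((ξ : F) * (th m a₀ * a₀))) * K := by rw [ec]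
      _ = _ := by group
  · intro e1
    have : gT h 0 ((ξ : F) * (th m a₀ * a₀)) = 1 :=
      eq_one_of_conj_eq_one (k := K⁻¹) (by rwa [inv_inv])
    exact gT_zero_ne_one' h (mul_ne_zero ξ.ne_zero he) this
  · have : K⁻¹ * gT h 0 ((ξ : F) * (th m a₀ * a₀)) * K *
        (K⁻¹ * gT h 0 ((ξ : F) * (th m a₀ * a₀)) * K) =
        K⁻¹ * (gT h 0 ((ξ : F) * (th m a₀ * a₀)) * gT h 0 ((ξ : F) * (th m a₀ * a₀))) * K := by
      group
    rw [this, gT_zero_sq]; group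
  · rw [hff]
    intro e1
    have e2 : gT h 0 ((ξ : F) * (th m a₀ * a₀)) = gT h 0 (th m a₀ * a₀) := by
      have := congrArg (fun g => K * g * K⁻¹) e1
      simpa [mul_assoc] using this
    have e3 := gT_zero_inj h e2
    apply hξ1
    exact mul_right_cancel₀ he (by rw [e3, one_mul])

/-- Subgroups of a torus normaliser with an element of order four. -/
theorem not_binG_torus_four {m : ℕ} (hm : 1 ≤ m) (hF : Fintype.card F = 2 ^ (2 * m + 1))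
    (H : Subgroup ↥(Cfsg.Sz F m)) {U : Subgroup ↥(Cfsg.Sz F m)} (hU : IsTorus m U)
    (hHU : H ≤ Subgroup.normalizer (U : Set ↥(Cfsg.Sz F m))) {f : ↥(Cfsg.Sz F m)} (hf : f ∈ H)
    (hf4 : f ^ 4 = 1) (hf2 : f * f ≠ 1) {b : ↥(Cfsg.Sz F m)} (hb : b ∈ H) (hbU : b ∈ U)
    (hb1 : b ≠ 1) : ¬ BinG H := by
  have hfN := hHU hf
  have hbN := hHU hb
  have hff4 : f * f * f * f = 1 := by rw [← hf4, pow_succ, pow_succ, pow_succ, pow_one]
  have hs2 : (f * f) * (f * f) = 1 := by rw [← mul_assoc]; exact hff4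
  have hsN : f * f ∈ Subgroup.normalizer (U : Set ↥(Cfsg.Sz F m)) := mul_mem hfN hfN
  have hfU : f ∉ U := by
    intro hfU
    exact hf2 (torus_sq hm hF hU (mul_mem hfU hfU) hs2)
  have h5 : ∀ v ∈ U, v * f = f * v → v = 1 := by
    intro v hv hvf
    by_contra hv1
    have e := (torus_eq_cent hm hF hU hv hv1).2
    apply hfU
    rw [e, mem_cent_iff]; exact hvf
  obtain ⟨w, hwf, hw1, hw2, hwne⟩ := exists_comm_invol hm hF hf4 hf2
  have hwN : w ∉ Subgroup.normalizer (U : Set ↥(Cfsg.Sz F m)) := by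
    intro hwN
    apply hwne
    refine invol_eq_of_comm hm hF hU hwN hw1 hw2 hsN hf2 hs2 ?_
    calc w * (f * f) = (w * f) * f := by group
      _ = (f * w) * f := by rw [hwf]
      _ = f * (w * f) := by group
      _ = f * (f * w) := by rw [hwf]
      _ = f * f * w := by group
  have hTI : ∀ v ∈ U, w⁻¹ * v * w ∈ U → v = 1 := by
    intro v hv hwv
    by_contra hv1
    exact hwN (torus_TI_conj hm hF hU hv hv1 hwv)
  have hwf' : w⁻¹ * f * w = f := by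
    calc w⁻¹ * f * w = w⁻¹ * (f * w) := by group
      _ = w⁻¹ * (w * f) := by rw [hwf]
      _ = f := by group
  have h3 : ∀ g ∈ H, w⁻¹ * g * w ∈ H → g * f = f * g := by
    intro g hg hg'
    have hv : g⁻¹ * f⁻¹ * g * f ∈ U := torus_comm_mem hm hF hU (hHU hg) hfN
    have hv' : (w⁻¹ * g * w)⁻¹ * f⁻¹ * (w⁻¹ * g * w) * f ∈ U :=
      torus_comm_mem hm hF hU (hHU hg') hfN
    have e : w⁻¹ * (g⁻¹ * f⁻¹ * g * f) * w = (w⁻¹ * g * w)⁻¹ * f⁻¹ * (w⁻¹ * g * w) * f := by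
      calc w⁻¹ * (g⁻¹ * f⁻¹ * g * f) * w
          = (w⁻¹ * g * w)⁻¹ * (w⁻¹ * f * w)⁻¹ * (w⁻¹ * g * w) * (w⁻¹ * f * w) := by group
        _ = _ := by rw [hwf']
    rw [← e] at hv'
    have h1 := hTI _ hv hv'
    calc g * f = f * g * (g⁻¹ * f⁻¹ * g * f) := by group
      _ = f * g := by rw [h1, mul_one]
  have hfinvU : ∀ v ∈ U, f * v * f⁻¹ ∈ U := fun v hv =>
    (Subgroup.mem_normalizer_iff.1 hfN v).1 hv
  have hfinvU' : ∀ v ∈ U, f⁻¹ * v * f ∈ U := by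
    intro v hv
    rw [Subgroup.mem_normalizer_iff.1 hfN]
    have : f * (f⁻¹ * v * f) * f⁻¹ = v := by group
    rw [this]; exact hv
  obtain ⟨c₀, hc₀⟩ : ∃ c₀ : ↥(Cfsg.Sz F m), c₀ = b * (f * b⁻¹ * f⁻¹) := ⟨_, rfl⟩
  have hc₀U : c₀ ∈ U := by rw [hc₀]; exact mul_mem hbU (hfinvU _ (inv_mem hbU))
  have hc₀H : c₀ ∈ H := by
    rw [hc₀]; exact mul_mem hb (mul_mem (mul_mem hf (inv_mem hb)) (inv_mem hf))
  refine quad_core H f b w c₀ hf (by rw [hwf']; exact hf) ?_ ?_ ?_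
  · rw [hc₀]
    apply four_id f b hff4
    exact torus_invol_inv hm hF hU hsN hf2 hs2 (mul_mem hbU (hfinvU' _ (inv_mem hbU)))
  · intro g hg hg' hg''
    have c1 := h3 g hg hg'
    have hgb : b⁻¹ * g * b ∈ H := mul_mem (mul_mem (inv_mem hb) hg) hb
    have c2 := h3 _ hgb hg''
    have c1' : g⁻¹ * f = f * g⁻¹ := by
      have : g⁻¹ * f = g⁻¹ * (f * g) * g⁻¹ := by group
      rw [this, ← c1]; group
    have hv : g⁻¹ * b⁻¹ * g * b ∈ U := torus_comm_mem hm hF hU (hHU hg) hbN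
    have hv1 : g⁻¹ * b⁻¹ * g * b = 1 := by
      apply h5 _ hv
      calc g⁻¹ * b⁻¹ * g * b * f = g⁻¹ * ((b⁻¹ * g * b) * f) := by group
        _ = g⁻¹ * (f * (b⁻¹ * g * b)) := by rw [c2]
        _ = (g⁻¹ * f) * (b⁻¹ * g * b) := by group
        _ = (f * g⁻¹) * (b⁻¹ * g * b) := by rw [c1']
        _ = f * (g⁻¹ * b⁻¹ * g * b) := by group
    have hbg : b * g = g * b := by
      have : b * g = g * b * (g⁻¹ * b⁻¹ * g * b)⁻¹ := by group
      rw [this, hv1, inv_one, mul_one]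
    have hgU : g ∈ U := by
      rw [(torus_eq_cent hm hF hU hbU hb1).2, mem_cent_iff]; exact hbg
    exact h5 g hgU c1
  · intro hmem
    have hg'H : c₀⁻¹ * f⁻¹ * c₀ ∈ H := mul_mem (mul_mem (inv_mem hc₀H) (inv_mem hf)) hc₀H
    have c := h3 _ hg'H hmem
    have hvU : f * c₀⁻¹ * f⁻¹ * c₀ ∈ U := mul_mem (hfinvU _ (inv_mem hc₀U)) hc₀U
    have hv1 : f * c₀⁻¹ * f⁻¹ * c₀ = 1 := by
      apply h5 _ hvU
      calc f * c₀⁻¹ * f⁻¹ * c₀ * f = f * ((c₀⁻¹ * f⁻¹ * c₀) * f) := by group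
        _ = f * (f * (c₀⁻¹ * f⁻¹ * c₀)) := by rw [c]
        _ = f * (f * c₀⁻¹ * f⁻¹ * c₀) := by group
    have hc₀f : c₀ * f = f * c₀ := by
      have : f * c₀ = c₀ * (f * c₀⁻¹ * f⁻¹ * c₀)⁻¹ * f := by group
      rw [this, hv1, inv_one, mul_one]
    have hc₀1 : c₀ = 1 := h5 _ hc₀U hc₀f
    have hbf : b * f = f * b := by
      have : b * f = (b * (f * b⁻¹ * f⁻¹)) * (f * b) := by group
      rw [this, ← hc₀, hc₀1, one_mul]
    exact hb1 (h5 b hbU hbf)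

/-- Subgroups of a torus normaliser with a central-type involution and no element of order
four (the involution in standard position). -/
theorem not_binG_torus_invol_core {m : ℕ} (hm : 1 ≤ m) (hF : Fintype.card F = 2 ^ (2 * m + 1))
    (h : SzHyp F m) (H : Subgroup ↥(Cfsg.Sz F m)) {U : Subgroup ↥(Cfsg.Sz F m)}
    (hU : IsTorus m U) (hHU : H ≤ Subgroup.normalizer (U : Set ↥(Cfsg.Sz F m))) {β₀ : F}
    (hβ₀ : β₀ ≠ 0) (ht : gT h 0 β₀ ∈ H) (hno4 : ∀ g ∈ H, g ^ 4 = 1 → g * g = 1) : ¬ BinG H := by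
  have htN := hHU ht
  have ht1 : gT h 0 β₀ ≠ 1 := gT_zero_ne_one' h hβ₀
  have ht2 : gT h 0 β₀ * gT h 0 β₀ = 1 := gT_zero_sq h β₀
  have hA : ∀ β : F, β ≠ 0 → β ≠ β₀ →
      gT h 0 β ∉ Subgroup.normalizer (U : Set ↥(Cfsg.Sz F m)) := by
    intro β hβ hne hN
    apply hne
    apply gT_zero_inj h
    refine invol_eq_of_comm hm hF hU hN (gT_zero_ne_one' h hβ) (gT_zero_sq h β) htN ht1 ht2 ?_
    rw [← gT_zero_add, ← gT_zero_add, add_comm]
  obtain ⟨ξ, hξ⟩ := exists_unit_ne_one hm hF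
  have hξ1 : (ξ : F) ≠ 1 := fun e => hξ (Units.ext e)
  have hξ0 : (ξ : F) ≠ 0 := ξ.ne_zero
  have hξ' : (1 : F) + ξ ≠ 0 := by
    intro e; apply hξ1; linear_combination e - h.two
  obtain ⟨z₂, hz₂⟩ := exists_unit_kappa h hξ0
  obtain ⟨z₃, hz₃⟩ := exists_unit_kappa h hξ'
  have hpow : ∀ (p g : ↥(Cfsg.Sz F m)), (p⁻¹ * g * p) ^ 4 = p⁻¹ * g ^ 4 * p := by
    intro p g
    have := conj_pow (a := p⁻¹) (b := g) (i := 4)
    rwa [inv_inv] at this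
  have hstep : ∀ (z : Fˣ) (v : ↥(Cfsg.Sz F m)), v ∈ U → v ≠ 1 →
      (gD h z)⁻¹ * v * gD h z ∈ H → th m (z : F) * (z : F) ^ 2 ≠ 1 → False := by
    intro z v hv hv1 hvH hz
    have hv4 := (torus_eq_cent hm hF hU hv hv1).1
    have hv'4 : ((gD h z)⁻¹ * v * gD h z) ^ 4 ≠ 1 := by
      rw [hpow]
      intro e
      exact hv4 (eq_one_of_conj_eq_one (k := (gD h z)⁻¹) (by rwa [inv_inv]))
    have hv'U := mem_torus_of_normalizer hm hF hU (hHU hvH) hv'4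
    have hzN := torus_TI_conj hm hF hU hv hv1 hv'U
    have hmemN : gD h z * gT h 0 β₀ * (gD h z)⁻¹ ∈
        Subgroup.normalizer (U : Set ↥(Cfsg.Sz F m)) :=
      mul_mem (mul_mem hzN htN) (inv_mem hzN)
    rw [gD_conj_gT_zero] at hmemN
    refine hA _ (mul_ne_zero (mul_ne_zero (th_ne_zero z.ne_zero) (pow_ne_zero 2 z.ne_zero)) hβ₀)
      ?_ hmemN
    intro e
    apply hz
    exact mul_right_cancel₀ hβ₀ (by rw [e, one_mul])
  have hξ2 : th m (z₂ : F) * (z₂ : F) ^ 2 ≠ 1 := by rw [hz₂]; exact hξ1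
  have hξ3 : th m (z₃ : F) * (z₃ : F) ^ 2 ≠ 1 := by
    rw [hz₃]; intro e; apply hξ0; linear_combination e
  have hainv : (gT h 0 β₀)⁻¹ = gT h 0 β₀ := inv_eq_of_mul_eq_one_left ht2
  refine not_binG_of_triangle H 1 (gD h z₂) (gD h z₃) (gT h 0 β₀) (gT h 0 ((ξ : F) * β₀))
    ?_ ?_ ?_ ?_
  · simpa using ht
  · rw [gD_inv_conj_gT, mul_zero, hz₂]
    have : (ξ : F)⁻¹ * ((ξ : F) * β₀) = β₀ := by field_simp
    rw [this]; exact ht
  · have e1 : (gT h 0 β₀)⁻¹ * gT h 0 ((ξ : F) * β₀) = gT h 0 ((1 + (ξ : F)) * β₀) := by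
      rw [hainv, ← gT_zero_add]; congr 1; ring
    rw [e1, gD_inv_conj_gT, mul_zero, hz₃]
    have : (1 + (ξ : F))⁻¹ * ((1 + (ξ : F)) * β₀) = β₀ := by field_simp
    rw [this]; exact ht
  · intro g h1 h2 h3
    have hg : g ∈ H := by simpa using h1
    have hgN := hHU hg
    have hg4 : g ^ 4 = 1 := by
      by_contra hg4
      have hgU := mem_torus_of_normalizer hm hF hU hgN hg4
      have hg1 : g ≠ 1 := fun e => hg4 (by rw [e, one_pow])
      exact hstep z₂ g hgU hg1 h2 hξ2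
    have hg2 : g * g = 1 := hno4 g hg hg4
    rw [hainv] at h3
    by_cases hg1 : g = 1
    · subst hg1
      rw [mul_one, gD_inv_conj_gT, mul_zero, hz₃] at h3
      refine hA _ (mul_ne_zero (inv_ne_zero hξ') hβ₀) ?_ (hHU h3)
      intro e
      have e2 : (1 + (ξ : F))⁻¹ = 1 := mul_right_cancel₀ hβ₀ (by rw [e, one_mul])
      have e3 : (1 + (ξ : F)) = 1 := inv_eq_one.1 e2
      apply hξ0; linear_combination e3
    by_cases hgt : g = gT h 0 β₀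
    · subst hgt
      rw [gD_inv_conj_gT, mul_zero, hz₂] at h2
      refine hA _ (mul_ne_zero (inv_ne_zero hξ0) hβ₀) ?_ (hHU h2)
      intro e
      have e2 : (ξ : F)⁻¹ = 1 := mul_right_cancel₀ hβ₀ (by rw [e, one_mul])
      exact hξ1 (inv_eq_one.1 e2)
    · obtain ⟨hvU, hv1⟩ := torus_invol_mul hm hF hU htN ht1 ht2 hgN hg1 hg2 (Ne.symm hgt)
      exact hstep z₃ _ hvU hv1 h3 hξ3

/-- Subgroups of a torus normaliser with an involution and no element of order four. -/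
theorem not_binG_torus_invol {m : ℕ} (hm : 1 ≤ m) (hF : Fintype.card F = 2 ^ (2 * m + 1))
    (H : Subgroup ↥(Cfsg.Sz F m)) {U : Subgroup ↥(Cfsg.Sz F m)} (hU : IsTorus m U)
    (hHU : H ≤ Subgroup.normalizer (U : Set ↥(Cfsg.Sz F m))) {t : ↥(Cfsg.Sz F m)} (ht : t ∈ H)
    (ht1 : t ≠ 1) (ht2 : t * t = 1) (hno4 : ∀ g ∈ H, g ^ 4 = 1 → g * g = 1) : ¬ BinG H := by
  have h := szHyp_of_card hF
  obtain ⟨p, hp, htp⟩ := invol_exists_fix hm hF t.2 (congrArg Subtype.val ht2)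
  obtain ⟨k, hk, hkp⟩ := exists_to_inf h hp
  obtain ⟨K, hKp⟩ : ∃ K : ↥(Cfsg.Sz F m), K.1 • p = pinf := ⟨⟨k, hk⟩, hkp⟩
  have hmem := mem_map_conj K H
  rw [binG_conj K hmem]
  have ht' := (hmem t).1 ht
  have ht'1 : K * t * K⁻¹ ≠ 1 := fun e => ht1 (eq_one_of_conj_eq_one e)
  have ht'2 : (K * t * K⁻¹) * (K * t * K⁻¹) = 1 := by
    have : (K * t * K⁻¹) * (K * t * K⁻¹) = K * (t * t) * K⁻¹ := by group
    rw [this, ht2]; group
  have hfix : (K * t * K⁻¹).1 • (pinf : Projectivization F (Fin 4 → F)) = pinf := by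
    rw [coe_mul_smul, coe_mul_smul, coe_inv_smul_eq K hKp, htp]; exact hKp
  obtain ⟨β, hβ, hβe⟩ := invol_at_inf hm hF ht'1 ht'2 hfix
  rw [hβe] at ht'
  refine not_binG_torus_invol_core hm hF h _ (isTorus_map_conj hU K)
    (normalizer_map_conj K hHU) hβ ht' ?_
  rintro _ ⟨g, hg, rfl⟩ h4
  show K * g * K⁻¹ * (K * g * K⁻¹) = 1
  have e4 : g ^ 4 = 1 := by
    have : (K * g * K⁻¹) ^ 4 = 1 := h4
    rw [conj_pow] at this
    exact eq_one_of_conj_eq_one this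
  have : K * g * K⁻¹ * (K * g * K⁻¹) = K * (g * g) * K⁻¹ := by group
  rw [this, hno4 g hg e4]; group

end Cfsg.Agent.Lib.helper8
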