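/-
Suzuki group: the coset action on a proper subgroup is binary iff the subgroup is trivial or
the centre of a Sylow 2-subgroup.
-/
import Cfsg.Agent.Lib.helper8.SzBin6
import Cfsg.Agent.Lib.helper44.SzIso

set_option autoImplicit false

namespace Cfsg.Agent.Lib.helper8

open Matrix
open scoped Pointwise

variable {F : Type*} [Field F] [Fintype F]

/-- A 2-subgroup is conjugate into the standard Sylow 2-subgroup. -/
theorem two_group_conj {m : ℕ} (hm : 1 ≤ m) (hF : Fintype.card F = 2 ^ (2 * m + 1))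
    (h : SzHyp F m) (H : Subgroup ↥(Cfsg.Sz F m)) (h4 : ∀ g ∈ H, g ^ 4 = 1) :
    ∃ K : ↥(Cfsg.Sz F m), ∀ g ∈ H, K * g * K⁻¹ ∈ subT h := by
  haveI : Fact (Nat.Prime 2) := ⟨Nat.prime_two⟩
  have hP : IsPGroup 2 ↥H := by
    intro g
    refine ⟨2, ?_⟩
    apply Subtype.ext
    rw [SubmonoidClass.coe_pow]
    exact h4 g.1 g.2
  obtain ⟨Q, hQ⟩ := hP.exists_le_sylow
  obtain ⟨k, hk⟩ := sylow_conj hm hF Q
  refine ⟨k⁻¹, fun g hg => ?_⟩
  rw [inv_inv]
  exact (hk g).1 (hQ hg)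

/-- The 2-subgroup case. -/
theorem not_binG_two_group {m : ℕ} (hm : 1 ≤ m) (hF : Fintype.card F = 2 ^ (2 * m + 1))
    (h : SzHyp F m) (H : Subgroup ↥(Cfsg.Sz F m)) (hne : H ≠ ⊥)
    (hnZ : ¬ ∃ k : ↥(Cfsg.Sz F m), ∀ g, g ∈ H ↔ k * g * k⁻¹ ∈ subZ h)
    (h4 : ∀ g ∈ H, g ^ 4 = 1) : ¬ BinG H := by
  obtain ⟨K, hK⟩ := two_group_conj hm hF h H h4
  have hmem := mem_map_conj K H
  rw [binG_conj K hmem]
  have hH' : H.map (MulAut.conj K).toMonoidHom ≤ subT h := by
    rintro _ ⟨g, hg, rfl⟩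
    exact hK g hg
  have hne' : H.map (MulAut.conj K).toMonoidHom ≠ ⊥ := by
    obtain ⟨⟨x, hxH⟩, hx1'⟩ := (Subgroup.ne_bot_iff_exists_ne_one).1 hne
    have hx1 : x ≠ 1 := fun e => hx1' (Subtype.ext e)
    intro hbot
    have hx' := (hmem x).1 hxH
    rw [hbot, Subgroup.mem_bot] at hx'
    exact hx1 (eq_one_of_conj_eq_one hx')
  by_cases hZ : ∀ b : F, gT h 0 b ∈ H.map (MulAut.conj K).toMonoidHom
  · by_cases hbig : ∃ a₁ b₁ : F, a₁ ≠ 0 ∧ gT h a₁ b₁ ∈ H.map (MulAut.conj K).toMonoidHom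
    · obtain ⟨a₁, b₁, ha₁, h₁⟩ := hbig
      by_cases hall : ∀ a₀ b₀ : F, gT h a₀ b₀ ∈ H.map (MulAut.conj K).toMonoidHom
      · have e : H.map (MulAut.conj K).toMonoidHom = subT h := by
          apply le_antisymm hH'
          intro g hg
          obtain ⟨a, b, rfl⟩ := (mem_subT_iff h g).1 hg
          exact hall a b
        rw [e]
        exact not_binG_subT hm hF h
      · push Not at hall
        obtain ⟨a₀, b₀, h₀⟩ := hall
        exact not_binG_subT_mid hm hF h _ hH' hZ ha₁ h₁ h₀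
    · exfalso
      apply hnZ
      refine ⟨K, fun g => ?_⟩
      rw [hmem g]
      constructor
      · intro hg
        obtain ⟨a, b, e⟩ := (mem_subT_iff h _).1 (hH' hg)
        have ha : a = 0 := by
          by_contra ha
          exact hbig ⟨a, b, ha, e ▸ hg⟩
        subst ha
        exact ⟨b, e⟩
      · rintro ⟨b, e⟩
        rw [e]; exact hZ b
  · push Not at hZ
    obtain ⟨b₀, hb₀⟩ := hZ
    exact not_binG_subT_small hm hF h _ hH' hne' hb₀

theorem gT_one_mem_range {m : ℕ} (hF : Fintype.card F = 2 ^ (2 * m + 1)) (h : SzHyp F m)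
    {k : ℕ} (hk : 1 ≤ k) (hdiv : 2 * k + 1 ∣ 2 * m + 1) (ι : GaloisField 2 (2 * k + 1) →+* F) :
    gT h 0 1 ∈ (szEmb hF hk (GaloisField.card 2 (2 * k + 1) (by omega)) hdiv ι).range := by
  have hcard : Nat.card (GaloisField 2 (2 * k + 1)) = 2 ^ (2 * k + 1) :=
    GaloisField.card 2 (2 * k + 1) (by omega)
  have : Fintype (GaloisField 2 (2 * k + 1)) := Fintype.ofFinite _
  have hK' : Fintype.card (GaloisField 2 (2 * k + 1)) = 2 ^ (2 * k + 1) := by
    rw [← Nat.card_eq_fintype_card]; exact hcard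
  have h' := szHyp_of_card hK'
  exact ⟨gT h' 0 1, by rw [szEmb_gT hF hk hcard hdiv ι h h', map_zero, map_one]⟩

theorem comm_mem_ker {G A : Type*} [Group G] [CommGroup A] (φ : G →* A) (x y : G) :
    x⁻¹ * y⁻¹ * x * y ∈ φ.ker := by
  rw [MonoidHom.mem_ker, map_mul, map_mul, map_mul, map_inv, map_inv]
  rw [mul_right_comm (φ x)⁻¹, inv_mul_cancel, one_mul, inv_mul_cancel]

/-- A subgroup fixing a point and without 2-elements is abelian. -/
theorem comm_of_fix_odd {m : ℕ} (hm : 1 ≤ m) (hF : Fintype.card F = 2 ^ (2 * m + 1))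
    (H : Subgroup ↥(Cfsg.Sz F m)) {p : Projectivization F (Fin 4 → F)}
    (hp : p ∈ Cfsg.suzukiOvoid F m) (hfix : ∀ g ∈ H, g.1 • p = p)
    (hodd : ∀ a ∈ H, a ^ 4 = 1 → a = 1) : ∀ a ∈ H, ∀ b ∈ H, a * b = b * a := by
  have h := szHyp_of_card hF
  obtain ⟨k, hk, hkp⟩ := exists_to_inf h hp
  obtain ⟨K, hKp⟩ : ∃ K : ↥(Cfsg.Sz F m), K.1 • p = pinf := ⟨⟨k, hk⟩, hkp⟩
  have hst : ∀ g ∈ H, K * g * K⁻¹ ∈ stabInf F m := by
    intro g hg
    rw [mem_stabInf, coe_mul_smul, coe_mul_smul, coe_inv_smul_eq K hKp, hfix g hg]; exact hKp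
  intro a ha b hb
  have hker : (⟨K * a * K⁻¹, hst a ha⟩ : ↥(stabInf F m))⁻¹ * (⟨K * b * K⁻¹, hst b hb⟩)⁻¹ *
      ⟨K * a * K⁻¹, hst a ha⟩ * ⟨K * b * K⁻¹, hst b hb⟩ ∈ (zpart hm hF).ker :=
    comm_mem_ker _ _ _
  have h4 := zpart_ker_pow hm hF ⟨_, hker⟩
  have h4' : (K * (a⁻¹ * b⁻¹ * a * b) * K⁻¹) ^ 4 = 1 := by
    have e1 := congrArg (fun g : ↥(zpart hm hF).ker => ((g : ↥(stabInf F m)) : ↥(Cfsg.Sz F m))) h4
    have e2 : K * (a⁻¹ * b⁻¹ * a * b) * K⁻¹ =
        (K * a * K⁻¹)⁻¹ * (K * b * K⁻¹)⁻¹ * (K * a * K⁻¹) * (K * b * K⁻¹) := by group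
    rw [e2]
    simpa using e1
  rw [conj_pow] at h4'
  have h4'' : (a⁻¹ * b⁻¹ * a * b) ^ 4 = 1 := eq_one_of_conj_eq_one h4'
  have hc := hodd _ (mul_mem (mul_mem (mul_mem (inv_mem ha) (inv_mem hb)) ha) hb) h4''
  calc a * b = b * a * (a⁻¹ * b⁻¹ * a * b) := by group
    _ = b * a := by rw [hc, mul_one]

/-- The main case analysis: a nontrivial proper subgroup which is not the centre of a Sylow
2-subgroup has a non-binary coset action. -/
theorem not_binG_main {m : ℕ} (hm : 1 ≤ m) (hF : Fintype.card F = 2 ^ (2 * m + 1))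
    (H : Subgroup ↥(Cfsg.Sz F m)) (hH : H ≠ ⊤) (hne : H ≠ ⊥)
    (hnZ : ¬ ∃ k : ↥(Cfsg.Sz F m), ∀ g, g ∈ H ↔ k * g * k⁻¹ ∈ subZ (szHyp_of_card hF)) :
    ¬ BinG H := by
  have h := szHyp_of_card hF
  by_cases h4 : ∀ g ∈ H, g ^ 4 = 1
  · exact not_binG_two_group hm hF h H hne hnZ h4
  push Not at h4
  obtain ⟨x, hx, hx4⟩ := h4
  have hx1 : x ≠ 1 := fun e => hx4 (by rw [e, one_pow])
  by_cases hinv : ∃ t ∈ H, t ≠ 1 ∧ t * t = 1
  · obtain ⟨t, ht, ht1, ht2⟩ := hinv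
    by_cases hfixex : ∃ p ∈ Cfsg.suzukiOvoid F m, ∀ g ∈ H, g.1 • p = p
    · obtain ⟨p, hp, hfix⟩ := hfixex
      exact not_binG_fix hm hF H hp hfix hx hx4 ht ht1 ht2
    rcases sub_main hm hF H with hfix' | hZ | ⟨k, hk, hdiv, c, ι, hc⟩
    · exact absurd hfix' hfixex
    · have := hZ
      have hnofix : ∀ p ∈ Cfsg.suzukiOvoid F m, ∃ g ∈ H, g.1 • p ≠ p := by
        intro p hp
        by_contra hcon
        push Not at hcon
        exact hfixex ⟨p, hp, hcon⟩
      obtain ⟨U, hcyc, hcard, hHU⟩ := le_normalizer_of_isZGroup hm hF H hnofix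
      have hU : IsTorus m U := ⟨hcyc, hcard⟩
      by_cases hf : ∃ f ∈ H, f ^ 4 = 1 ∧ f * f ≠ 1
      · obtain ⟨f, hfH, hf4, hf2⟩ := hf
        exact not_binG_torus_four hm hF H hU hHU hfH hf4 hf2 hx
          (mem_torus_of_normalizer hm hF hU (hHU hx) hx4) hx1
      · refine not_binG_torus_invol hm hF H hU hHU ht ht1 ht2 (fun g hg hg4 => ?_)
        by_contra h2
        exact hf ⟨g, hg, hg4, h2⟩
    · have hkm : k ≤ m := by
        have := Nat.le_of_dvd (by omega) hdiv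
        omega
      rcases Nat.lt_or_eq_of_le hkm with hlt | rfl
      · rw [binG_conj c (mem_map_conj c H), hc]
        exact not_binG_subfield hm hF hk hlt hdiv ι
      · exact absurd (eq_top_of_full hm hF hdiv c ι H hc) hH
  · push Not at hinv
    have hodd : ∀ a ∈ H, a ^ 4 = 1 → a = 1 := by
      intro a ha ha4
      by_contra ha1
      have h2 : (a * a) * (a * a) = 1 := by
        rw [← ha4, pow_succ, pow_succ, pow_succ, pow_one, ← mul_assoc]
      by_cases haa : a * a = 1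
      · exact hinv a ha ha1 haa
      · exact hinv (a * a) (mul_mem ha ha) haa h2
    have hab : ∀ a ∈ H, ∀ b ∈ H, a * b = b * a := by
      by_cases hfixex : ∃ p ∈ Cfsg.suzukiOvoid F m, ∀ g ∈ H, g.1 • p = p
      · obtain ⟨p, hp, hfix⟩ := hfixex
        exact comm_of_fix_odd hm hF H hp hfix hodd
      rcases sub_main hm hF H with hfix' | hZ | ⟨k, hk, hdiv, c, ι, hc⟩
      · exact absurd hfix' hfixex
      · have := hZ
        have hnofix : ∀ p ∈ Cfsg.suzukiOvoid F m, ∃ g ∈ H, g.1 • p ≠ p := by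
          intro p hp
          by_contra hcon
          push Not at hcon
          exact hfixex ⟨p, hp, hcon⟩
        obtain ⟨U, hcyc, hcard, hHU⟩ := le_normalizer_of_isZGroup hm hF H hnofix
        have hU : IsTorus m U := ⟨hcyc, hcard⟩
        have hHU' : ∀ a ∈ H, a ∈ U := by
          intro a ha
          by_cases ha4 : a ^ 4 = 1
          · rw [hodd a ha ha4]; exact one_mem U
          · exact mem_torus_of_normalizer hm hF hU (hHU ha) ha4
        intro a ha b hb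
        have := hcyc
        have := (IsCyclic.isMulCommutative (α := ↥U)).is_comm.comm ⟨a, hHU' a ha⟩ ⟨b, hHU' b hb⟩
        exact congrArg Subtype.val this
      · exfalso
        have h1 : gT h 0 1 ∈ H.map (MulAut.conj c).toMonoidHom := by
          rw [hc]; exact gT_one_mem_range hF h hk hdiv ι
        rw [mem_map_conj'] at h1
        have h2 : (c⁻¹ * gT h 0 1 * c) ^ 4 = 1 := by
          have := conj_pow (a := c⁻¹) (b := gT h 0 1) (i := 4)
          rw [inv_inv] at this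
          rw [this]
          have e : gT h 0 (1 : F) ^ 4 = 1 := by
            rw [pow_succ, pow_succ, pow_succ, pow_one, gT_zero_sq, one_mul, gT_zero_sq]
          rw [e]; group
        have h3 := hodd _ h1 h2
        have h5 : gT h 0 (1 : F) = 1 := eq_one_of_conj_eq_one (k := c⁻¹) (by rwa [inv_inv])
        exact gT_zero_ne_one' h one_ne_zero h5
    exact not_binG_of_odd hm hF H hne hab hodd

/-- Binary coset actions of the Suzuki group (matrix model). -/
theorem binG_iff {m : ℕ} (hm : 1 ≤ m) (hF : Fintype.card F = 2 ^ (2 * m + 1))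
    (H : Subgroup ↥(Cfsg.Sz F m)) (hH : H ≠ ⊤) :
    BinG H ↔ H = ⊥ ∨
      ∃ k : ↥(Cfsg.Sz F m), ∀ g, g ∈ H ↔ k * g * k⁻¹ ∈ subZ (szHyp_of_card hF) := by
  constructor
  · intro hB
    by_contra hcon
    rw [not_or] at hcon
    exact not_binG_main hm hF H hH hcon.1 hcon.2 hB
  · rintro (rfl | ⟨k, hk⟩)
    · exact binG_bot
    · exact (binG_conj k hk).2 (binG_subZ hm hF _)

end Cfsg.Agent.Lib.helper8
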