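/-
Suzuki group: transfer of the binary coset action theorem to the Lie-type model.
-/
import Cfsg.Agent.Lib.helper8.SzBin7

set_option autoImplicit false

namespace Cfsg.Agent.Lib.helper8

open Matrix
open scoped Pointwise
open Cfsg.Agent.Lib.helper44 (szIso)

variable {F : Type*} [Field F] [Fintype F]

theorem mem_cen {G : Type*} [Group G] (S : Subgroup G) (x : G) :
    x ∈ (Subgroup.center ↥S).map S.subtype ↔ x ∈ S ∧ ∀ y ∈ S, y * x = x * y := by
  constructor
  · rintro ⟨⟨x', hx'⟩, hc, rfl⟩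
    refine ⟨hx', fun y hy => ?_⟩
    have := Subgroup.mem_center_iff.1 hc ⟨y, hy⟩
    exact congrArg Subtype.val this
  · rintro ⟨hx, hc⟩
    exact ⟨⟨x, hx⟩, Subgroup.mem_center_iff.2 (fun g => Subtype.ext (hc g.1 g.2)), rfl⟩

/-- The centre of the standard Sylow 2-subgroup. -/
theorem mem_subZ_iff_central {m : ℕ} (hm : 1 ≤ m) (hF : Fintype.card F = 2 ^ (2 * m + 1))
    (h : SzHyp F m) (x : ↥(Cfsg.Sz F m)) :
    x ∈ subZ h ↔ x ∈ subT h ∧ ∀ y ∈ subT h, y * x = x * y := by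
  constructor
  · rintro ⟨b, rfl⟩
    refine ⟨gT_mem_subT h 0 b, fun y hy => ?_⟩
    obtain ⟨c, d, rfl⟩ := (mem_subT_iff h y).1 hy
    rw [gT_mul, gT_mul, th_zero]; congr 1 <;> ring
  · rintro ⟨hx, hc⟩
    obtain ⟨a, b, rfl⟩ := (mem_subT_iff h x).1 hx
    have key : ∀ c : F, th m c * a = th m a * c := by
      intro c
      have h1 := hc (gT h c 0) (gT_mem_subT h c 0)
      rw [gT_mul, gT_mul] at h1
      have h2 := (gT_inj h h1).2
      linear_combination h2
    have h1 : th m a = a := by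
      have h2 := key 1
      rw [th_one, one_mul, mul_one] at h2
      exact h2.symm
    have ha : a = 0 := by
      by_contra ha0
      by_cases ha1 : a = 1
      · subst ha1
        obtain ⟨ξ, hξ⟩ := exists_unit_ne_one hm hF
        have hξ1 : (ξ : F) ≠ 1 := fun e => hξ (Units.ext e)
        have h2 := key (ξ : F)
        rw [th_one, one_mul, mul_one] at h2
        exact th_ne_self h ξ.ne_zero hξ1 h2
      · exact th_ne_self h ha0 ha1 h1
    subst ha
    exact ⟨b, rfl⟩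

/-- Every Sylow 2-subgroup of the Lie-type model corresponds to a conjugate of the standard
one. -/
theorem sylow_lie_conj {m : ℕ} (hm : 1 ≤ m) (hF : Fintype.card F = 2 ^ (2 * m + 1))
    (P : Sylow 2 ↥(Cfsg.Lie.Sz F (2 ^ (m + 1)))) :
    ∃ k : ↥(Cfsg.Sz F m), ∀ g : ↥(Cfsg.Sz F m),
      szIso hm hF g ∈ (P : Subgroup ↥(Cfsg.Lie.Sz F (2 ^ (m + 1)))) ↔
        k * g * k⁻¹ ∈ subT (szHyp_of_card hF) := by
  have hrange : (P : Subgroup ↥(Cfsg.Lie.Sz F (2 ^ (m + 1)))) ≤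
      (szIso hm hF).toMonoidHom.range := by
    intro x _
    exact ⟨(szIso hm hF).symm x, (szIso hm hF).apply_symm_apply x⟩
  obtain ⟨k, hk⟩ := sylow_conj hm hF
    (P.comapOfInjective (szIso hm hF).toMonoidHom (szIso hm hF).injective hrange)
  refine ⟨k⁻¹, fun g => ?_⟩
  rw [inv_inv]
  have h1 := hk g
  exact h1

theorem exists_sylow_lie {m : ℕ} (hm : 1 ≤ m) (hF : Fintype.card F = 2 ^ (2 * m + 1))
    (k : ↥(Cfsg.Sz F m)) :
    ∃ P : Sylow 2 ↥(Cfsg.Lie.Sz F (2 ^ (m + 1))), ∀ g : ↥(Cfsg.Sz F m),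
      szIso hm hF g ∈ (P : Subgroup ↥(Cfsg.Lie.Sz F (2 ^ (m + 1)))) ↔
        k * g * k⁻¹ ∈ subT (szHyp_of_card hF) := by
  have : Fact (Nat.Prime 2) := ⟨Nat.prime_two⟩
  have : Finite ↥(Cfsg.Lie.Sz F (2 ^ (m + 1))) := Finite.of_equiv _ (szIso hm hF).toEquiv
  obtain ⟨S, hSdef⟩ : ∃ S : Subgroup ↥(Cfsg.Sz F m),
      S = (subT (szHyp_of_card hF)).map (MulAut.conj k⁻¹).toMonoidHom := ⟨_, rfl⟩
  have hS : ∀ g, g ∈ S ↔ k * g * k⁻¹ ∈ subT (szHyp_of_card hF) := by
    intro g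
    rw [hSdef, mem_map_conj', inv_inv]
  have hcardS : Nat.card ↥(S.map (szIso hm hF).toMonoidHom) =
      2 ^ (Nat.card ↥(Cfsg.Lie.Sz F (2 ^ (m + 1)))).factorization 2 := by
    rw [← Nat.card_congr (szIso hm hF).toEquiv, factorization_card_Sz hm hF,
      ← Nat.card_congr (S.equivMapOfInjective (szIso hm hF).toMonoidHom
        (szIso hm hF).injective).toEquiv, hSdef,
      ← Nat.card_congr ((subT (szHyp_of_card hF)).equivMapOfInjective
        (MulAut.conj k⁻¹).toMonoidHom (MulAut.conj k⁻¹).injective).toEquiv,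
      card_subT hm hF, ← pow_mul]
    congr 1; ring
  refine ⟨Sylow.ofCard _ hcardS, fun g => ?_⟩
  rw [Sylow.coe_ofCard, ← hS]
  exact Subgroup.mem_map_iff_mem (f := (szIso hm hF).toMonoidHom) (szIso hm hF).injective

theorem cen_corr {m : ℕ} (hm : 1 ≤ m) (hF : Fintype.card F = 2 ^ (2 * m + 1))
    (P : Subgroup ↥(Cfsg.Lie.Sz F (2 ^ (m + 1)))) (k : ↥(Cfsg.Sz F m))
    (hPk : ∀ g : ↥(Cfsg.Sz F m), szIso hm hF g ∈ P ↔ k * g * k⁻¹ ∈ subT (szHyp_of_card hF))
    (g : ↥(Cfsg.Sz F m)) :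
    szIso hm hF g ∈ (Subgroup.center ↥P).map P.subtype ↔
      k * g * k⁻¹ ∈ subZ (szHyp_of_card hF) := by
  rw [mem_cen, mem_subZ_iff_central hm hF, hPk]
  refine and_congr_right (fun _ => ?_)
  constructor
  · intro hc y hy
    have hy' : szIso hm hF (k⁻¹ * y * k) ∈ P := by
      rw [hPk]
      have : k * (k⁻¹ * y * k) * k⁻¹ = y := by group
      rw [this]; exact hy
    have h1 := hc _ hy'
    rw [← map_mul, ← map_mul] at h1
    have h2 := (szIso hm hF).injective h1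
    calc y * (k * g * k⁻¹) = k * (k⁻¹ * y * k * g) * k⁻¹ := by group
      _ = k * (g * (k⁻¹ * y * k)) * k⁻¹ := by rw [h2]
      _ = k * g * k⁻¹ * y := by group
  · intro hc y hy
    obtain ⟨y', rfl⟩ := (szIso hm hF).surjective y
    have h1 := hc _ ((hPk y').1 hy)
    rw [← map_mul, ← map_mul]
    congr 1
    calc y' * g = k⁻¹ * (k * y' * k⁻¹ * (k * g * k⁻¹)) * k := by group
      _ = k⁻¹ * (k * g * k⁻¹ * (k * y' * k⁻¹)) * k := by rw [h1]
      _ = g * y' := by group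

/-- Binary coset actions of the Suzuki group (Lie-type model). -/
theorem binary_lie {a : ℕ} (ha : 1 ≤ a) (hF : Fintype.card F = 2 ^ (2 * a + 1))
    (H : Subgroup ↥(Cfsg.Lie.Sz F (2 ^ (a + 1)))) (hH : H ≠ ⊤) :
    BinG H ↔ (H = ⊥ ∨ ∃ P : Sylow 2 ↥(Cfsg.Lie.Sz F (2 ^ (a + 1))),
      H = (Subgroup.center ↥(P : Subgroup ↥(Cfsg.Lie.Sz F (2 ^ (a + 1))))).map
        (P : Subgroup ↥(Cfsg.Lie.Sz F (2 ^ (a + 1)))).subtype) := by
  have hmemH : ∀ g, g ∈ H.comap (szIso ha hF).toMonoidHom ↔ szIso ha hF g ∈ H :=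
    fun g => Iff.rfl
  rw [← binG_congr (szIso ha hF) hmemH]
  have hH₁ : H.comap (szIso ha hF).toMonoidHom ≠ ⊤ := by
    intro htop
    apply hH
    rw [eq_top_iff]
    intro x _
    have h1 : (szIso ha hF).symm x ∈ H.comap (szIso ha hF).toMonoidHom := by
      rw [htop]; trivial
    rw [hmemH, MulEquiv.apply_symm_apply] at h1
    exact h1
  rw [binG_iff ha hF _ hH₁]
  refine or_congr ?_ ?_
  · constructor
    · intro hbot
      rw [eq_bot_iff]
      intro x hx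
      have h1 : (szIso ha hF).symm x ∈ H.comap (szIso ha hF).toMonoidHom := by
        rw [hmemH, MulEquiv.apply_symm_apply]; exact hx
      rw [hbot, Subgroup.mem_bot] at h1
      rw [Subgroup.mem_bot]
      have h2 := congrArg (szIso ha hF) h1
      rwa [MulEquiv.apply_symm_apply, map_one] at h2
    · intro hbot
      rw [eq_bot_iff]
      intro g hg
      rw [hmemH, hbot, Subgroup.mem_bot] at hg
      rw [Subgroup.mem_bot]
      exact (szIso ha hF).injective (by rw [hg, map_one])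
  · constructor
    · rintro ⟨k, hk⟩
      obtain ⟨P, hP⟩ := exists_sylow_lie ha hF k
      refine ⟨P, ?_⟩
      ext x
      obtain ⟨g, rfl⟩ := (szIso ha hF).surjective x
      rw [cen_corr ha hF _ k hP g, ← hk, hmemH]
    · rintro ⟨P, hP⟩
      obtain ⟨k, hk⟩ := sylow_lie_conj ha hF P
      refine ⟨k, fun g => ?_⟩
      rw [← cen_corr ha hF _ k hk g, hmemH, ← hP]

end Cfsg.Agent.Lib.helper8
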