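/-
Suzuki group: fixed points of a field automorphism with fixed field `F₂`
(the subgroup `Sz(2)` of order 20), and a generic "no element of order `3p`" lemma.
-/
import Cfsg.Agent.Lib.helper8.SzAut1

set_option autoImplicit false

namespace Cfsg.Agent.Lib.helper8

open Matrix
open scoped Pointwise

variable {F : Type*} [Field F] [Fintype F]

/-- The subgroup of `Sz` fixed by the automorphism induced by a field automorphism. -/
noncomputable def szFix {m : ℕ} (hm : 1 ≤ m) (hF : Fintype.card F = 2 ^ (2 * m + 1))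
    (φ : F ≃+* F) : Subgroup ↥(Cfsg.Sz F m) where
  carrier := {g | szAut hm hF φ g = g}
  mul_mem' := by
    intro a b ha hb
    simp only [Set.mem_ofPred_eq] at *
    rw [map_mul, ha, hb]
  one_mem' := map_one _
  inv_mem' := by
    intro a ha
    simp only [Set.mem_ofPred_eq] at *
    rw [map_inv, ha]

theorem mem_szFix {m : ℕ} (hm : 1 ≤ m) (hF : Fintype.card F = 2 ^ (2 * m + 1))
    (φ : F ≃+* F) (g : ↥(Cfsg.Sz F m)) : g ∈ szFix hm hF φ ↔ szAut hm hF φ g = g := Iff.rfl

omit [Fintype F] in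
/-- Uniqueness of the Borel normal form, in the form needed for fixed points. -/
theorem szFix_borel_aux {m : ℕ} (h : SzHyp F m) {a b a' b' : F} {z z' : Fˣ}
    (e : sT m a' b' * sD m z' = sT m a b * sD m z) : a' = a ∧ b' = b ∧ z' = z := by
  have e1 := congrArg (fun g : Matrix.SpecialLinearGroup (Fin 4) F => g • paff m (0 : F) 0) e
  simp only [mul_smul, sD_paff_zero h, sT_paff_zero h] at e1
  obtain ⟨ha, hb⟩ := paff_inj.1 e1
  subst ha; subst hb
  exact ⟨rfl, rfl, sD_inj m (mul_left_cancel e)⟩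

/-- A fixed point of a field automorphism with fixed field `F₂` is `sT a b` or
`sT a b * sW * sT c d` with all parameters in `{0, 1}`. -/
theorem szFix_form {m : ℕ} (hm : 1 ≤ m) (hF : Fintype.card F = 2 ^ (2 * m + 1)) (φ : F ≃+* F)
    (hfix : ∀ t : F, φ t = t → t = 0 ∨ t = 1) (g : ↥(Cfsg.Sz F m))
    (hg : szAut hm hF φ g = g) :
    (∃ a b : F, (a = 0 ∨ a = 1) ∧ (b = 0 ∨ b = 1) ∧ g.1 = sT m a b) ∨
    (∃ a b c d : F, (a = 0 ∨ a = 1) ∧ (b = 0 ∨ b = 1) ∧ (c = 0 ∨ c = 1) ∧ (d = 0 ∨ d = 1) ∧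
      g.1 = sT m a b * sW * sT m c d) := by
  have h := szHyp_of_card hF
  have hg1 : Matrix.SpecialLinearGroup.map (φ : F →+* F) g.1 = g.1 := by
    have := congrArg Subtype.val hg
    rwa [szAut_coe] at this
  have hunit : ∀ z : Fˣ, Units.map ((φ : F →+* F) : F →* F) z = z → z = 1 := by
    intro z hz
    have hz' : φ (z : F) = (z : F) := congrArg Units.val hz
    rcases hfix _ hz' with h0 | h1
    · exact absurd h0 z.ne_zero
    · exact Units.ext h1
  rcases sz_decomp hm hF g.2 with ⟨a, b, z, e⟩ | ⟨a, b, c, d, z, e⟩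
  · left
    rw [e, map_mul, map_sT, map_sD] at hg1
    obtain ⟨ha, hb, hz⟩ := szFix_borel_aux h hg1
    have hz1 := hunit z hz
    refine ⟨a, b, hfix a ha, hfix b hb, ?_⟩
    rw [e, hz1, sD_one, mul_one]
  · right
    rw [e, map_mul, map_mul, map_mul, map_sT, map_sT, map_sD, map_sW] at hg1
    have e1 := congrArg (fun g : Matrix.SpecialLinearGroup (Fin 4) F =>
      g • (pinf : Projectivization F (Fin 4 → F))) hg1
    simp only [mul_smul, sD_pinf, sT_pinf, sW_pinf m, sT_paff_zero h] at e1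
    obtain ⟨ha, hb⟩ := paff_inj.1 e1
    have ha' : (φ : F →+* F) a = a := ha
    have hb' : (φ : F →+* F) b = b := hb
    rw [ha', hb'] at hg1
    have e2 : sT m ((φ : F →+* F) c) ((φ : F →+* F) d) *
        sD m (Units.map ((φ : F →+* F) : F →* F) z) = sT m c d * sD m z := by
      have := hg1
      rw [mul_assoc, mul_assoc, mul_assoc, mul_assoc] at this
      exact mul_left_cancel (mul_left_cancel this)
    obtain ⟨hc, hd, hz⟩ := szFix_borel_aux h e2
    have hz1 := hunit z hz
    refine ⟨a, b, c, d, hfix a ha, hfix b hb, hfix c hc, hfix d hd, ?_⟩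
    rw [e, hz1, sD_one, mul_one]

/-- The fixed-point subgroup has at most `20` elements. -/
theorem card_szFix_le {m : ℕ} (hm : 1 ≤ m) (hF : Fintype.card F = 2 ^ (2 * m + 1)) (φ : F ≃+* F)
    (hfix : ∀ t : F, φ t = t → t = 0 ∨ t = 1) : Nat.card ↥(szFix hm hF φ) ≤ 20 := by
  classical
  let ι : Bool → F := fun i => if i then 1 else 0
  let f : (Bool × Bool) ⊕ (Bool × Bool × Bool × Bool) → Matrix.SpecialLinearGroup (Fin 4) F :=
    fun x => match x with
      | Sum.inl (a, b) => sT m (ι a) (ι b)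
      | Sum.inr (a, b, c, d) => sT m (ι a) (ι b) * sW * sT m (ι c) (ι d)
  have hι : ∀ t : F, (t = 0 ∨ t = 1) → ∃ i : Bool, ι i = t := by
    rintro t (rfl | rfl)
    · exact ⟨false, rfl⟩
    · exact ⟨true, rfl⟩
  have hsub : (fun g : ↥(szFix hm hF φ) => (g.1.1 : Matrix.SpecialLinearGroup (Fin 4) F)) '' Set.univ ⊆
      Set.range f := by
    rintro _ ⟨g, -, rfl⟩
    rcases szFix_form hm hF φ hfix g.1 g.2 with ⟨a, b, ha, hb, e⟩ | ⟨a, b, c, d, ha, hb, hc, hd, e⟩
    · obtain ⟨i, rfl⟩ := hι a ha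
      obtain ⟨j, rfl⟩ := hι b hb
      exact ⟨Sum.inl (i, j), e.symm⟩
    · obtain ⟨i, rfl⟩ := hι a ha
      obtain ⟨j, rfl⟩ := hι b hb
      obtain ⟨k, rfl⟩ := hι c hc
      obtain ⟨l, rfl⟩ := hι d hd
      exact ⟨Sum.inr (i, j, k, l), e.symm⟩
  have hinj : Function.Injective
      (fun g : ↥(szFix hm hF φ) => (g.1.1 : Matrix.SpecialLinearGroup (Fin 4) F)) :=
    fun g g' e => Subtype.ext (Subtype.ext e)
  have h1 : Nat.card ↥(szFix hm hF φ) =
      ((fun g : ↥(szFix hm hF φ) => (g.1.1 : Matrix.SpecialLinearGroup (Fin 4) F)) ''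
        Set.univ).ncard := by
    rw [Set.ncard_image_of_injective _ hinj, Set.ncard_univ]
  have h2 := Set.ncard_le_ncard hsub (Set.finite_range f)
  have h3 : (Set.range f).ncard ≤ 20 := by
    rw [← Set.image_univ]
    refine (Set.ncard_image_le Set.finite_univ).trans ?_
    rw [Set.ncard_univ, Nat.card_eq_fintype_card]
    decide
  omega

/-- `gT 1 0` is a fixed point of order `4`. -/
theorem four_dvd_card_szFix {m : ℕ} (hm : 1 ≤ m) (hF : Fintype.card F = 2 ^ (2 * m + 1))
    (φ : F ≃+* F) : 4 ∣ Nat.card ↥(szFix hm hF φ) := by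
  have h := szHyp_of_card hF
  have hmem : gT h 1 0 ∈ szFix hm hF φ := by
    rw [mem_szFix, szAut_gT, map_one, map_zero]
  have hth1 : th m (1 : F) = 1 := by unfold th; exact one_pow _
  have hsq : (gT h (1 : F) 0) ^ 2 = gT h 0 1 := by
    apply Subtype.ext
    show sT m (1 : F) 0 ^ 2 = sT m 0 1
    rw [pow_two, sT_mul h, hth1]
    congr 1
    · linear_combination h.two
    · ring
  have hsq2 : (gT h (0 : F) 1) ^ 2 = 1 := by
    apply Subtype.ext
    show sT m (0 : F) 1 ^ 2 = 1
    rw [pow_two, sT_mul h, ← sT_zero m]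
    congr 1
    · ring
    · have : th m (0 : F) = 0 := by unfold th; exact zero_pow (by positivity)
      rw [this]; linear_combination h.two
  have hne : (gT h (0 : F) 1) ≠ 1 := by
    intro e
    have e1 : sT m (0 : F) 1 = 1 := congrArg Subtype.val e
    have e2 := congrArg (fun g : Matrix.SpecialLinearGroup (Fin 4) F => g • paff m (0 : F) 0) e1
    simp only [sT_paff_zero h, one_smul] at e2
    exact one_ne_zero (paff_inj.1 e2).2
  have hord : orderOf (gT h (1 : F) 0) = 2 ^ (1 + 1) := by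
    have : Fact (Nat.Prime 2) := ⟨Nat.prime_two⟩
    apply orderOf_eq_prime_pow
    · rw [pow_one, hsq]; exact hne
    · rw [pow_succ, pow_mul, pow_one, hsq, hsq2]
  have hord' : orderOf (⟨gT h (1 : F) 0, hmem⟩ : ↥(szFix hm hF φ)) = 4 := by
    rw [← Subgroup.orderOf_coe]; exact hord
  have hdvd := orderOf_dvd_natCard (⟨gT h (1 : F) 0, hmem⟩ : ↥(szFix hm hF φ))
  rwa [hord'] at hdvd

/-- A fixed point of a field automorphism with fixed field `F₂` has no prime order `≥ 7`
(in particular not `7` or `13`). -/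
theorem szFix_orderOf_ne {m : ℕ} (hm : 1 ≤ m) (hF : Fintype.card F = 2 ^ (2 * m + 1)) (φ : F ≃+* F)
    (hfix : ∀ t : F, φ t = t → t = 0 ∨ t = 1) (g : ↥(Cfsg.Sz F m))
    (hg : szAut hm hF φ g = g) (p : ℕ) (hp : p.Prime) (hp7 : 7 ≤ p) : orderOf g ≠ p := by
  intro e
  have h4 := four_dvd_card_szFix hm hF φ
  have hle := card_szFix_le hm hF φ hfix
  have hpd : p ∣ Nat.card ↥(szFix hm hF φ) := by
    have : orderOf (⟨g, hg⟩ : ↥(szFix hm hF φ)) = p := by
      rw [← Subgroup.orderOf_coe]; exact e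
    rw [← this]
    exact orderOf_dvd_natCard _
  have hcop : Nat.Coprime 4 p := by
    have : Nat.Coprime 2 p := by
      rw [Nat.coprime_primes Nat.prime_two hp]; omega
    exact Nat.Coprime.pow_left 2 this
  have hd : 4 * p ∣ Nat.card ↥(szFix hm hF φ) := hcop.mul_dvd_of_dvd_of_dvd h4 hpd
  have hpos : 0 < Nat.card ↥(szFix hm hF φ) := Nat.card_pos
  have := Nat.le_of_dvd hpos hd
  omega

omit [Fintype F] in
/-- The Frobenius `t ↦ t ^ 2` has fixed field `{0, 1}`. -/
theorem frob_fix {φ : F ≃+* F} (hφ : ∀ t : F, φ t = t ^ 2) (t : F) (ht : φ t = t) :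
    t = 0 ∨ t = 1 := by
  rw [hφ] at ht
  have : t * (t - 1) = 0 := by linear_combination ht
  rcases mul_eq_zero.1 this with h0 | h1
  · exact Or.inl h0
  · exact Or.inr (sub_eq_zero.1 h1)

/-- Generic: if `N` is normal of index `3` in `H` with `3 ∤ |N|`, `τ` has order `3`, and no element of
`N` of order `p` commutes with `τ`, then `H` has no element of order `3 * p`. -/
theorem no_order_three_mul {H : Type*} [Group H] [Finite H] (N : Subgroup H) [N.Normal]
    (hidx : N.index = 3) (h3 : ¬ 3 ∣ Nat.card N) (τ : H) (hτ : orderOf τ = 3) (p : ℕ)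
    (hp : p.Prime) (hno : ∀ y ∈ N, orderOf y = p → τ * y ≠ y * τ) (x : H) :
    orderOf x ≠ 3 * p := by
  intro hx
  have : Fact (Nat.Prime 3) := ⟨Nat.prime_three⟩
  have hppos : 0 < p := hp.pos
  have ht : orderOf (x ^ p) = 3 := by
    rw [orderOf_pow' x hppos.ne', hx, Nat.gcd_mul_left_left, Nat.mul_div_cancel _ hppos]
  have hy : orderOf (x ^ 3) = p := by
    rw [orderOf_pow' x (by norm_num), hx, Nat.gcd_mul_right_left, Nat.mul_div_cancel_left _ (by norm_num)]
  have hyN : x ^ 3 ∈ N := by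
    have := Subgroup.pow_index_mem N x
    rwa [hidx] at this
  have hcardH : Nat.card H = 3 * Nat.card N := by
    rw [← Subgroup.card_mul_index N, hidx, mul_comm]
  -- Sylow 3-subgroups generated by elements of order 3
  have hsyl : ∀ s : H, orderOf s = 3 → ¬ 3 ∣ (Subgroup.zpowers s).index := by
    intro s hs
    have h1 := Subgroup.card_mul_index (Subgroup.zpowers s)
    rw [Nat.card_zpowers, hs, hcardH] at h1
    have : (Subgroup.zpowers s).index = Nat.card N := Nat.eq_of_mul_eq_mul_left (by norm_num) h1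
    rw [this]; exact h3
  have hpg : ∀ s : H, orderOf s = 3 → IsPGroup 3 ↥(Subgroup.zpowers s) := by
    intro s hs
    refine IsPGroup.of_card (n := 1) ?_
    rw [Nat.card_zpowers, hs, pow_one]
  let P : Sylow 3 H := (hpg τ hτ).toSylow (hsyl τ hτ)
  let Q : Sylow 3 H := (hpg (x ^ p) ht).toSylow (hsyl (x ^ p) ht)
  obtain ⟨h, hh⟩ := MulAction.exists_smul_eq H Q P
  have hPc : (P : Subgroup H) = Subgroup.zpowers τ := rfl
  have hQc : (Q : Subgroup H) = Subgroup.zpowers (x ^ p) := rfl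
  have hs : h * x ^ p * h⁻¹ ∈ Subgroup.zpowers τ := by
    rw [← hPc, ← hh, Sylow.coe_subgroup_smul, hQc]
    have : x ^ p ∈ Subgroup.zpowers (x ^ p) := Subgroup.mem_zpowers _
    have := Subgroup.smul_mem_pointwise_smul (x ^ p) (MulAut.conj h) _ this
    simpa [MulAut.smul_def] using this
  set s := h * x ^ p * h⁻¹ with hsdef
  have hsord : orderOf s = 3 := by
    have : s = MulAut.conj h (x ^ p) := by simp [hsdef]
    rw [this, MulEquiv.orderOf_eq, ht]
  have hzeq : Subgroup.zpowers s = Subgroup.zpowers τ := by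
    apply Subgroup.eq_of_le_of_card_ge (Subgroup.zpowers_le.2 hs)
    rw [Nat.card_zpowers, Nat.card_zpowers, hsord, hτ]
  have hτs : τ ∈ Subgroup.zpowers s := by rw [hzeq]; exact Subgroup.mem_zpowers _
  obtain ⟨k, hk⟩ := Subgroup.mem_zpowers_iff.1 hτs
  set y := h * x ^ 3 * h⁻¹ with hydef
  have hyN' : y ∈ N := ‹N.Normal›.conj_mem _ hyN h
  have hyord : orderOf y = p := by
    have : y = MulAut.conj h (x ^ 3) := by simp [hydef]
    rw [this, MulEquiv.orderOf_eq, hy]
  have hcomm : Commute s y := by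
    have hc : Commute (x ^ p) (x ^ 3) := (Commute.refl x).pow_pow p 3
    show s * y = y * s
    have e : x ^ p * x ^ 3 = x ^ 3 * x ^ p := hc
    calc s * y = h * (x ^ p * x ^ 3) * h⁻¹ := by rw [hsdef, hydef]; group
      _ = h * (x ^ 3 * x ^ p) * h⁻¹ := by rw [e]
      _ = y * s := by rw [hsdef, hydef]; group
  have hcomm2 : Commute τ y := by
    rw [← hk]; exact hcomm.zpow_left k
  exact hno y hyN' hyord hcomm2

end Cfsg.Agent.Lib.helper8
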