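/-
Suzuki 2-groups: additive maps compatible with the squaring map `a ↦ a θ(a)` are semilinear.
-/
import Cfsg.Agent.Lib.helper8.SzBin3

set_option autoImplicit false

namespace Cfsg.Agent.Lib.helper8

variable {F : Type*} [Field F] [Fintype F]

/-- The hyperplane `W = {u + θ(u)}`. -/
def wSet (m : ℕ) (x : F) : Prop := ∃ u : F, x = u + th m u

omit [Fintype F] in
theorem wSet_zero (m : ℕ) : wSet m (0 : F) := ⟨0, by rw [th_zero, add_zero]⟩

omit [Fintype F] in
theorem wSet_add {m : ℕ} (h : SzHyp F m) {x y : F} (hx : wSet m x) (hy : wSet m y) :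
    wSet m (x + y) := by
  obtain ⟨u, rfl⟩ := hx
  obtain ⟨v, rfl⟩ := hy
  exact ⟨u + v, by rw [th_add h]; ring⟩

omit [Fintype F] in
theorem wSet_one {m : ℕ} (h : SzHyp F m) : ¬ wSet m (1 : F) := by
  rintro ⟨u, e⟩
  apply th_add_ne_one h u
  linear_combination h.two - e

theorem wSet_dich {m : ℕ} (hF : Fintype.card F = 2 ^ (2 * m + 1)) (y : F) :
    wSet m y ∨ wSet m (y + 1) := by
  obtain ⟨t, ht | ht⟩ := exists_th_add hF y
  · left; exact ⟨t, by rw [← ht]; ring⟩
  · right; exact ⟨t, by rw [← ht]; ring⟩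

theorem wSet_compl_add {m : ℕ} (hF : Fintype.card F = 2 ^ (2 * m + 1)) (h : SzHyp F m) {x y : F}
    (hx : ¬ wSet m x) (hy : ¬ wSet m y) : wSet m (x + y) := by
  have hx' := (wSet_dich hF x).resolve_left hx
  have hy' := (wSet_dich hF y).resolve_left hy
  have h3 := wSet_add h hx' hy'
  have e : x + 1 + (y + 1) = x + y := by linear_combination h.two
  rwa [e] at h3

theorem wSet_add_iff {m : ℕ} (hF : Fintype.card F = 2 ^ (2 * m + 1)) (h : SzHyp F m) (x y : F) :
    wSet m (x + y) ↔ (wSet m x ↔ wSet m y) := by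
  constructor
  · intro hxy
    constructor
    · intro hx
      have h3 := wSet_add h hxy hx
      have e : x + y + x = y := by linear_combination x * h.two
      rwa [e] at h3
    · intro hy
      have h3 := wSet_add h hxy hy
      have e : x + y + y = x := by linear_combination y * h.two
      rwa [e] at h3
  · intro hiff
    by_cases hx : wSet m x
    · exact wSet_add h hx (hiff.1 hx)
    · exact wSet_compl_add hF h hx (fun hy => hx (hiff.2 hy))

omit [Fintype F] in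
/-- Hua's identity in characteristic two. -/
theorem hua_char_two (h2 : (2 : F) = 0) {a b : F} (ha : a ≠ 0) (hb : b ≠ 0)
    (hab : b⁻¹ + a ≠ 0) : a + (a⁻¹ + (b⁻¹ + a)⁻¹)⁻¹ = a ^ 2 * b := by
  have e0 : a + a ^ 2 * b = a * b * (b⁻¹ + a) := by
    rw [mul_add, mul_assoc a b b⁻¹, mul_inv_cancel₀ hb]; ring
  have e1 : (a⁻¹ + (b⁻¹ + a)⁻¹) * (a * b * (b⁻¹ + a)) = b * (b⁻¹ + a) + a * b := by
    have e2 : a⁻¹ * (a * b * (b⁻¹ + a)) = b * (b⁻¹ + a) := by
      rw [← mul_assoc, ← mul_assoc, inv_mul_cancel₀ ha, one_mul]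
    have e3 : (b⁻¹ + a)⁻¹ * (a * b * (b⁻¹ + a)) = a * b := by
      rw [mul_comm (a * b) (b⁻¹ + a), ← mul_assoc, inv_mul_cancel₀ hab, one_mul]
    rw [add_mul, e2, e3]
  have key : (a⁻¹ + (b⁻¹ + a)⁻¹) * (a + a ^ 2 * b) = 1 := by
    rw [e0, e1, mul_add, mul_inv_cancel₀ hb]
    linear_combination (a * b) * h2
  rw [inv_eq_of_mul_eq_one_right key]
  linear_combination a * h2

/-- Compatible pairs map the hyperplanes `y W` to `β(y) W`. -/
theorem compat_W {m : ℕ} (h : SzHyp F m) (α β : F → F) (hα : ∀ a b, α (a + b) = α a + α b)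
    (hβ : ∀ a b, β (a + b) = β a + β b) (hinj : Function.Injective α)
    (hc : ∀ a, β (a * th m a) = α a * th m (α a)) :
    ∀ y : F, y ≠ 0 → ∀ u : F, ∃ u' : F, β (y * (u + th m u)) = β y * (u' + th m u') := by
  have h2 := h.two
  have hκinj := kappa_injective h
  have hκsurj : Function.Surjective (fun c : F => c * th m c) :=
    Finite.injective_iff_surjective.1 hκinj
  have hα0 : α 0 = 0 := by
    have h1 := hα 0 0
    rw [add_zero] at h1
    exact left_eq_add.1 h1
  have hB : ∀ a c : F,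
      β (th m a * c + a * th m c) = th m (α a) * α c + α a * th m (α c) := by
    intro a c
    have e1 : th m a * c + a * th m c = (a + c) * th m (a + c) + a * th m a + c * th m c := by
      rw [th_add h]; linear_combination (-(a * th m a) - c * th m c) * h2
    rw [e1, hβ, hβ, hc, hc, hc, hα, th_add h]
    linear_combination (α a * th m (α a) + α c * th m (α c)) * h2
  intro y hy u
  obtain ⟨a, ha⟩ := hκsurj y
  have ha' : a * th m a = y := ha
  have ha0 : a ≠ 0 := by rintro rfl; exact hy (by rw [← ha', zero_mul])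
  have hαa : α a ≠ 0 := fun e => ha0 (hinj (e.trans hα0.symm))
  refine ⟨α (a * u) / α a, ?_⟩
  have e1 : y * (u + th m u) = th m a * (a * u) + a * th m (a * u) := by
    rw [← ha', th_mul]; ring
  have hth : th m (α (a * u) / α a) = th m (α (a * u)) / th m (α a) := by
    unfold th; rw [div_pow]
  have h1 : th m (α a) ≠ 0 := th_ne_zero hαa
  rw [e1, hB, ← ha', hc, hth]
  field_simp

/-- Additive maps compatible with `a ↦ a θ(a)` are semilinear. -/
theorem semilinear_of_compat {m : ℕ} (hF : Fintype.card F = 2 ^ (2 * m + 1)) (h : SzHyp F m)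
    (α β : F → F) (hα : ∀ a b, α (a + b) = α a + α b) (hβ : ∀ a b, β (a + b) = β a + β b)
    (hinj : Function.Injective α) (hc : ∀ a, β (a * th m a) = α a * th m (α a)) :
    ∃ (μ : Fˣ) (σ : F ≃+* F), ∀ a, α a = μ * σ a := by
  classical
  have h2 := h.two
  have hκinj := kappa_injective h
  have hκsurj : Function.Surjective (fun c : F => c * th m c) :=
    Finite.injective_iff_surjective.1 hκinj
  have hα0 : α 0 = 0 := by
    have h1 := hα 0 0
    rw [add_zero] at h1
    exact left_eq_add.1 h1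
  have hβ0 : β 0 = 0 := by
    have h1 := hβ 0 0
    rw [add_zero] at h1
    exact left_eq_add.1 h1
  have hαsurj : Function.Surjective α := Finite.injective_iff_surjective.1 hinj
  have hβinj : Function.Injective β := by
    intro x y hxy
    obtain ⟨a, ha⟩ := hκsurj x
    obtain ⟨b, hb⟩ := hκsurj y
    have ha' : a * th m a = x := ha
    have hb' : b * th m b = y := hb
    rw [← ha', ← hb', hc, hc] at hxy
    have h1 : a = b := hinj (hκinj hxy)
    rw [← ha', ← hb', h1]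
  have hβsurj : Function.Surjective β := Finite.injective_iff_surjective.1 hβinj
  have hβne : ∀ x : F, x ≠ 0 → β x ≠ 0 := fun x hx e => hx (hβinj (e.trans hβ0.symm))
  -- inverses
  obtain ⟨αi, hαl, hαr⟩ := Function.bijective_iff_has_inverse.1 ⟨hinj, hαsurj⟩
  obtain ⟨βi, hβl, hβr⟩ := Function.bijective_iff_has_inverse.1 ⟨hβinj, hβsurj⟩
  have hαi : ∀ a b, αi (a + b) = αi a + αi b := by
    intro a b
    apply hinj
    rw [hα, hαr (a + b), hαr a, hαr b]
  have hβi : ∀ a b, βi (a + b) = βi a + βi b := by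
    intro a b
    apply hβinj
    rw [hβ, hβr (a + b), hβr a, hβr b]
  have hαiinj : Function.Injective αi := hαr.injective
  have hci : ∀ a, βi (a * th m a) = αi a * th m (αi a) := by
    intro a
    apply hβinj
    rw [hβr, hc, hαr a]
  have L1 := compat_W h α β hα hβ hinj hc
  have L2 := compat_W h αi βi hαi hβi hαiinj hci
  -- the pairing is preserved
  have hP : ∀ x y : F, y ≠ 0 → (wSet m (x / y) ↔ wSet m (β x / β y)) := by
    intro x y hy
    have hβy := hβne y hy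
    constructor
    · rintro ⟨u, hu⟩
      obtain ⟨u', hu'⟩ := L1 y hy u
      refine ⟨u', ?_⟩
      have e1 : x = y * (u + th m u) := by rw [← hu]; field_simp
      rw [e1, hu']; field_simp
    · rintro ⟨v, hv⟩
      obtain ⟨v', hv'⟩ := L2 (β y) hβy v
      refine ⟨v', ?_⟩
      have e1 : β x = β y * (v + th m v) := by rw [← hv]; field_simp
      rw [← e1, hβl x, hβl y] at hv'
      rw [hv']; field_simp
  have hPP : ∀ x w : F, wSet m (x * w) ↔ wSet m (β x * (β w⁻¹)⁻¹) := by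
    intro x w
    by_cases hw : w = 0
    · subst hw
      rw [mul_zero, inv_zero, hβ0, inv_zero, mul_zero]
    · have h1 := hP x w⁻¹ (inv_ne_zero hw)
      rw [div_inv_eq_mul, div_eq_mul_inv] at h1
      exact h1
  -- the dual map is additive
  have hbt : ∀ w w' : F, (β (w + w')⁻¹)⁻¹ = (β w⁻¹)⁻¹ + (β w'⁻¹)⁻¹ := by
    intro w w'
    by_contra hne
    have hd : (β (w + w')⁻¹)⁻¹ + ((β w⁻¹)⁻¹ + (β w'⁻¹)⁻¹) ≠ 0 := by
      intro e
      apply hne
      linear_combination e - ((β w⁻¹)⁻¹ + (β w'⁻¹)⁻¹) * h2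
    obtain ⟨x, hx⟩ := hβsurj ((β (w + w')⁻¹)⁻¹ + ((β w⁻¹)⁻¹ + (β w'⁻¹)⁻¹))⁻¹
    have h1 : wSet m (β x * (β (w + w')⁻¹)⁻¹ + (β x * (β w⁻¹)⁻¹ + β x * (β w'⁻¹)⁻¹)) := by
      rw [wSet_add_iff hF h, wSet_add_iff hF h, ← hPP, ← hPP, ← hPP, mul_add,
        wSet_add_iff hF h]
    have e1 : β x * (β (w + w')⁻¹)⁻¹ + (β x * (β w⁻¹)⁻¹ + β x * (β w'⁻¹)⁻¹) = 1 := by
      rw [← mul_add, ← mul_add, hx, inv_mul_cancel₀ hd]
    rw [e1] at h1
    exact wSet_one h h1
  -- Hua
  have hH : ∀ a b : F, a ≠ 0 → b ≠ 0 → a * b ≠ 1 →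
      β (a ^ 2 * b) = (β a) ^ 2 * (β b⁻¹)⁻¹ := by
    intro a b ha hb hab
    have hc₁ : b⁻¹ + a ≠ 0 := by
      intro e
      apply hab
      have e2 : a = b⁻¹ := by linear_combination e - b⁻¹ * h2
      rw [e2, inv_mul_cancel₀ hb]
    have hA : β a ≠ 0 := hβne a ha
    have hB : (β b⁻¹)⁻¹ ≠ 0 := inv_ne_zero (hβne _ (inv_ne_zero hb))
    have e3 : β (b⁻¹ + a) = ((β b⁻¹)⁻¹)⁻¹ + β a := by rw [hβ, inv_inv]
    have hC : ((β b⁻¹)⁻¹)⁻¹ + β a ≠ 0 := by rw [← e3]; exact hβne _ hc₁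
    have e4 : β ((a⁻¹ + (b⁻¹ + a)⁻¹)⁻¹) = ((β a)⁻¹ + (((β b⁻¹)⁻¹)⁻¹ + β a)⁻¹)⁻¹ := by
      have e5 := hbt a⁻¹ (b⁻¹ + a)⁻¹
      rw [inv_inv, inv_inv, e3] at e5
      rw [← e5, inv_inv]
    rw [← hua_char_two h2 ha hb hc₁, hβ, e4, hua_char_two h2 hA hB hC]
  -- normalisation
  have he : β 1 ≠ 0 := hβne 1 one_ne_zero
  have hbt1 : ∀ b : F, (β b⁻¹)⁻¹ = β b / (β 1) ^ 2 := by
    intro b
    by_cases hb0 : b = 0
    · subst hb0; rw [inv_zero, hβ0, inv_zero, zero_div]
    by_cases hb1 : b = 1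
    · subst hb1; rw [inv_one]; field_simp
    · have h1 := hH 1 b one_ne_zero hb0 (by rwa [one_mul])
      rw [one_pow, one_mul] at h1
      rw [h1]; field_simp
  have hσadd : ∀ a b : F, β (a + b) / β 1 = β a / β 1 + β b / β 1 := by
    intro a b; rw [hβ, add_div]
  have hinvmul : ∀ a : F, a ≠ 0 → β a * β a⁻¹ = (β 1) ^ 2 := by
    intro a ha
    have h1 := hbt1 a
    have h3 : β a⁻¹ ≠ 0 := hβne _ (inv_ne_zero ha)
    calc β a * β a⁻¹ = (β a / (β 1) ^ 2) * β a⁻¹ * (β 1) ^ 2 := by field_simp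
      _ = (β a⁻¹)⁻¹ * β a⁻¹ * (β 1) ^ 2 := by rw [h1]
      _ = (β 1) ^ 2 := by rw [inv_mul_cancel₀ h3, one_mul]
  have hσmul2 : ∀ a b : F, β (a ^ 2 * b) / β 1 = (β a / β 1) ^ 2 * (β b / β 1) := by
    intro a b
    by_cases ha : a = 0
    · subst ha; simp [hβ0]
    by_cases hb : b = 0
    · subst hb; simp [hβ0]
    by_cases hab : a * b = 1
    · have hb' : b = a⁻¹ := eq_inv_of_mul_eq_one_right hab
      subst hb'
      have e1 : a ^ 2 * a⁻¹ = a := by field_simp
      have h1 := hinvmul a ha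
      rw [e1]
      have e2 : (β a / β 1) ^ 2 * (β a⁻¹ / β 1) = β a * (β a * β a⁻¹) / (β 1) ^ 3 := by
        field_simp
      rw [e2, h1]; field_simp
    · rw [hH a b ha hb hab, hbt1]; field_simp
  have hσone : β 1 / β 1 = 1 := div_self he
  have hσsq : ∀ a : F, β (a ^ 2) / β 1 = (β a / β 1) ^ 2 := by
    intro a
    have h1 := hσmul2 a 1
    rw [mul_one, hσone, mul_one] at h1
    exact h1
  have hσmul : ∀ x b : F, β (x * b) / β 1 = β x / β 1 * (β b / β 1) := by
    intro x b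
    have e1 : x = (x ^ 2 ^ (2 * m)) ^ 2 := by
      rw [← pow_mul, ← pow_succ, ← hF, FiniteField.pow_card]
    rw [e1, hσmul2, hσsq]
  -- the field automorphism
  obtain ⟨σr, hσr⟩ : ∃ σr : F →+* F, ∀ x, σr x = β x / β 1 :=
    ⟨{ toFun := fun x => β x / β 1
       map_one' := hσone
       map_mul' := hσmul
       map_zero' := by rw [hβ0, zero_div]
       map_add' := hσadd }, fun _ => rfl⟩
  have hσbij : Function.Bijective σr :=
    ⟨σr.injective, Finite.injective_iff_surjective.1 σr.injective⟩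
  obtain ⟨μ0, hμ0⟩ := hκsurj (β 1)
  have hμ0' : μ0 * th m μ0 = β 1 := hμ0
  have hμ0ne : μ0 ≠ 0 := by rintro rfl; exact he (by rw [← hμ0', zero_mul])
  refine ⟨Units.mk0 μ0 hμ0ne, RingEquiv.ofBijective σr hσbij, fun a => ?_⟩
  apply hκinj
  show α a * th m (α a) = Units.mk0 μ0 hμ0ne * (RingEquiv.ofBijective σr hσbij) a *
    th m (Units.mk0 μ0 hμ0ne * (RingEquiv.ofBijective σr hσbij) a)
  rw [Units.val_mk0, RingEquiv.ofBijective_apply, ← hc, th_mul]
  have e1 : β (a * th m a) = β 1 * σr (a * th m a) := by rw [hσr]; field_simp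
  have e2 : σr (th m a) = th m (σr a) := by unfold th; rw [map_pow]
  rw [e1, map_mul, e2, ← hμ0']; ring

end Cfsg.Agent.Lib.helper8
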