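/-
Automorphisms of the Sylow 2-subgroup of a Suzuki group, in an abstract parametrised form.
-/
import Cfsg.Agent.Lib.helper8.SzSylAut1
import Cfsg.Agent.Lib.helper8.OutCard
import Cfsg.Prelude.Def_Solvable
import Cfsg.Prelude.Def_Transfer

set_option autoImplicit false

namespace Cfsg.Agent.Lib.helper8

variable {F : Type*} [Field F] [Fintype F]

/-- A parametrisation of a group by pairs `(a, b)` of field elements with the multiplication
of the Sylow 2-subgroup of the Suzuki group. -/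
structure SuzPar (F : Type*) [Field F] (m : ℕ) (P : Type*) [Group P] where
  /-- the parametrisation -/
  T : F → F → P
  mul : ∀ a b c d : F, T a b * T c d = T (a + c) (b + d + th m a * c)
  inj : ∀ a b c d : F, T a b = T c d → a = c ∧ b = d
  surj : ∀ x : P, ∃ a b : F, x = T a b

namespace SuzPar

variable {m : ℕ} {P : Type*} [Group P] (S : SuzPar F m P)

/-- first coordinate -/
noncomputable def fst (x : P) : F := Classical.choose (S.surj x)

/-- second coordinate -/
noncomputable def snd (x : P) : F := Classical.choose (Classical.choose_spec (S.surj x))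

omit [Fintype F] in
theorem eq_T (x : P) : x = S.T (S.fst x) (S.snd x) :=
  Classical.choose_spec (Classical.choose_spec (S.surj x))

omit [Fintype F] in
theorem fst_T (a b : F) : S.fst (S.T a b) = a := ((S.inj _ _ _ _ (S.eq_T (S.T a b))).1).symm

omit [Fintype F] in
theorem snd_T (a b : F) : S.snd (S.T a b) = b := ((S.inj _ _ _ _ (S.eq_T (S.T a b))).2).symm

omit [Fintype F] in
theorem T_zero_zero : S.T 0 0 = 1 := by
  have h1 := S.mul 0 0 0 0
  rw [th_zero, zero_mul, add_zero, add_zero] at h1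
  exact mul_left_cancel (h1.trans (mul_one _).symm)

omit [Fintype F] in
theorem mul_center (b c : F) : S.T 0 b * S.T 0 c = S.T 0 (b + c) := by
  rw [S.mul, th_zero, zero_mul, add_zero, add_zero]

omit [Fintype F] in
theorem T_split (a b : F) : S.T a b = S.T a 0 * S.T 0 b := by
  rw [S.mul, mul_zero, add_zero, add_zero, zero_add]

omit [Fintype F] in
theorem T_sq (h : SzHyp F m) (a b : F) : S.T a b * S.T a b = S.T 0 (th m a * a) := by
  rw [S.mul]
  congr 1
  · linear_combination a * h.two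
  · linear_combination b * h.two

omit [Fintype F] in
theorem sq_eq_one_iff (h : SzHyp F m) (a b : F) : S.T a b * S.T a b = 1 ↔ a = 0 := by
  rw [S.T_sq h, ← S.T_zero_zero]
  constructor
  · intro e
    have h1 := (S.inj _ _ _ _ e).2
    by_contra ha
    exact mul_ne_zero (th_ne_zero ha) ha h1
  · rintro rfl
    rw [mul_zero]

/-- The action of an automorphism on `P / Z(P)`. -/
noncomputable def alphaF (φ : MulAut P) (a : F) : F := S.fst (φ (S.T a 0))

/-- The action of an automorphism on `Z(P)`. -/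
noncomputable def betaF (φ : MulAut P) (b : F) : F := S.snd (φ (S.T 0 b))

/-- The off-diagonal part of an automorphism. -/
noncomputable def deltaF (φ : MulAut P) (a : F) : F := S.snd (φ (S.T a 0))

omit [Fintype F] in
theorem phi_center (h : SzHyp F m) (φ : MulAut P) (b : F) :
    φ (S.T 0 b) = S.T 0 (S.betaF φ b) := by
  have h1 : φ (S.T 0 b) * φ (S.T 0 b) = 1 := by
    rw [← map_mul, S.mul_center]
    have e : b + b = 0 := by linear_combination b * h.two
    rw [e, S.T_zero_zero, map_one]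
  have h2 := S.eq_T (φ (S.T 0 b))
  rw [h2] at h1
  have h3 := (S.sq_eq_one_iff h _ _).1 h1
  rw [h3] at h2
  exact h2

omit [Fintype F] in
theorem phi_T (h : SzHyp F m) (φ : MulAut P) (a b : F) :
    φ (S.T a b) = S.T (S.alphaF φ a) (S.deltaF φ a + S.betaF φ b) := by
  rw [S.T_split a b, map_mul, S.phi_center h, S.eq_T (φ (S.T a 0)), S.mul, mul_zero, add_zero,
    add_zero]
  rfl

omit [Fintype F] in
theorem betaF_zero (h : SzHyp F m) (φ : MulAut P) : S.betaF φ 0 = 0 := by
  have h1 := S.phi_center h φ 0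
  rw [S.T_zero_zero, map_one, ← S.T_zero_zero] at h1
  exact ((S.inj _ _ _ _ h1).2).symm

omit [Fintype F] in
theorem phi_T_zero (h : SzHyp F m) (φ : MulAut P) (a : F) :
    φ (S.T a 0) = S.T (S.alphaF φ a) (S.deltaF φ a) := by
  rw [S.phi_T h, S.betaF_zero h, add_zero]

omit [Fintype F] in
theorem phi_mul_eq (h : SzHyp F m) (φ : MulAut P) (a c : F) :
    S.alphaF φ (a + c) = S.alphaF φ a + S.alphaF φ c ∧
      S.deltaF φ (a + c) + S.betaF φ (th m a * c) =
        S.deltaF φ a + S.deltaF φ c + th m (S.alphaF φ a) * S.alphaF φ c := by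
  have h1 : φ (S.T a 0 * S.T c 0) = φ (S.T a 0) * φ (S.T c 0) := map_mul φ _ _
  rw [S.mul, S.phi_T h, S.phi_T_zero h, S.phi_T_zero h, S.mul, add_zero, zero_add] at h1
  exact S.inj _ _ _ _ h1

omit [Fintype F] in
theorem alphaF_add (h : SzHyp F m) (φ : MulAut P) (a c : F) :
    S.alphaF φ (a + c) = S.alphaF φ a + S.alphaF φ c := (S.phi_mul_eq h φ a c).1

omit [Fintype F] in
theorem betaF_add (h : SzHyp F m) (φ : MulAut P) (b c : F) :
    S.betaF φ (b + c) = S.betaF φ b + S.betaF φ c := by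
  have h1 : φ (S.T 0 b * S.T 0 c) = φ (S.T 0 b) * φ (S.T 0 c) := map_mul φ _ _
  rw [S.mul_center, S.phi_center h, S.phi_center h, S.phi_center h, S.mul_center] at h1
  exact (S.inj _ _ _ _ h1).2

omit [Fintype F] in
theorem betaF_kappa (h : SzHyp F m) (φ : MulAut P) (a : F) :
    S.betaF φ (a * th m a) = S.alphaF φ a * th m (S.alphaF φ a) := by
  have h1 : φ (S.T a 0 * S.T a 0) = φ (S.T a 0) * φ (S.T a 0) := map_mul φ _ _
  rw [S.T_sq h, S.phi_center h, S.phi_T_zero h, S.T_sq h] at h1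
  have h2 := (S.inj _ _ _ _ h1).2
  rw [mul_comm a, h2, mul_comm]

omit [Fintype F] in
theorem alphaF_zero (h : SzHyp F m) (φ : MulAut P) : S.alphaF φ 0 = 0 := by
  have h1 := S.alphaF_add h φ 0 0
  rw [add_zero] at h1
  exact left_eq_add.1 h1

omit [Fintype F] in
theorem alphaF_injective (h : SzHyp F m) (φ : MulAut P) : Function.Injective (S.alphaF φ) := by
  intro a c hac
  have h1 : S.alphaF φ (a + c) = 0 := by
    rw [S.alphaF_add h, hac]; linear_combination S.alphaF φ c * h.two
  have h2 : φ (S.T (a + c) 0 * S.T (a + c) 0) = 1 := by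
    rw [map_mul, S.phi_T_zero h, h1, (S.sq_eq_one_iff h _ _).2 rfl]
  have h3 : S.T (a + c) 0 * S.T (a + c) 0 = 1 := by
    apply φ.injective
    rw [h2, map_one]
  have h4 := (S.sq_eq_one_iff h _ _).1 h3
  linear_combination h4 - c * h.two

omit [Fintype F] in
theorem alphaF_mul (h : SzHyp F m) (φ ψ : MulAut P) (a : F) :
    S.alphaF (φ * ψ) a = S.alphaF φ (S.alphaF ψ a) := by
  show S.fst ((φ * ψ) (S.T a 0)) = S.alphaF φ (S.alphaF ψ a)
  rw [MulAut.mul_apply, S.phi_T_zero h ψ, S.phi_T h φ, S.fst_T]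

omit [Fintype F] in
theorem alphaF_one (a : F) : S.alphaF (1 : MulAut P) a = a := by
  unfold alphaF
  rw [MulAut.one_apply, S.fst_T]

/-- The action on `P / Z(P)` as a homomorphism. -/
noncomputable def Alpha (h : SzHyp F m) : MulAut P →* Equiv.Perm F where
  toFun φ :=
    { toFun := S.alphaF φ
      invFun := S.alphaF φ⁻¹
      left_inv := fun a => by rw [← S.alphaF_mul h, inv_mul_cancel, S.alphaF_one]
      right_inv := fun a => by rw [← S.alphaF_mul h, mul_inv_cancel, S.alphaF_one] }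
  map_one' := by
    ext a
    exact S.alphaF_one a
  map_mul' φ ψ := by
    ext a
    exact S.alphaF_mul h φ ψ a

omit [Fintype F] in
theorem Alpha_apply (h : SzHyp F m) (φ : MulAut P) (a : F) : S.Alpha h φ a = S.alphaF φ a := rfl

omit [Fintype F] in
theorem mem_ker_Alpha (h : SzHyp F m) (φ : MulAut P) :
    φ ∈ (S.Alpha h).ker ↔ ∀ a, S.alphaF φ a = a := by
  rw [MonoidHom.mem_ker]
  constructor
  · intro e a
    rw [← S.Alpha_apply h, e]; rfl
  · intro e
    ext a
    rw [S.Alpha_apply h, e]; rfl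

/-- Every automorphism acts semilinearly on `P / Z(P)`. -/
theorem alphaF_semilinear (hF : Fintype.card F = 2 ^ (2 * m + 1)) (h : SzHyp F m)
    (φ : MulAut P) : ∃ (μ : Fˣ) (σ : F ≃+* F), ∀ a, S.alphaF φ a = μ * σ a :=
  semilinear_of_compat hF h (S.alphaF φ) (S.betaF φ) (S.alphaF_add h φ) (S.betaF_add h φ)
    (S.alphaF_injective h φ) (S.betaF_kappa h φ)


/-- The automorphism attached to a scalar and a field automorphism. -/
noncomputable def psi [Finite P] (μ : Fˣ) (σ : F ≃+* F) : MulAut P :=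
  MulEquiv.ofBijective
    (MonoidHom.mk' (fun x => S.T (μ * σ (S.fst x)) ((μ * th m (μ : F)) * σ (S.snd x))) (by
      intro x y
      obtain ⟨a, b, rfl⟩ := S.surj x
      obtain ⟨c, d, rfl⟩ := S.surj y
      rw [S.mul, S.fst_T, S.snd_T, S.fst_T, S.snd_T, S.fst_T, S.snd_T, S.mul]
      have e : σ (th m a) = th m (σ a) := by unfold th; rw [map_pow]
      congr 1
      · rw [map_add]; ring
      · rw [map_add, map_add, map_mul, e, th_mul]; ring))
    (by
      have hinj : Function.Injective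
          (fun x => S.T (μ * σ (S.fst x)) ((μ * th m (μ : F)) * σ (S.snd x))) := by
        intro x y hxy
        obtain ⟨e1, e2⟩ := S.inj _ _ _ _ hxy
        have hμ : (μ : F) ≠ 0 := μ.ne_zero
        have hκ : (μ : F) * th m (μ : F) ≠ 0 := mul_ne_zero hμ (th_ne_zero hμ)
        have f1 : S.fst x = S.fst y := σ.injective (mul_left_cancel₀ hμ e1)
        have f2 : S.snd x = S.snd y := σ.injective (mul_left_cancel₀ hκ e2)
        calc x = S.T (S.fst x) (S.snd x) := S.eq_T x
          _ = S.T (S.fst y) (S.snd y) := by rw [f1, f2]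
          _ = y := (S.eq_T y).symm
      exact ⟨hinj, Finite.injective_iff_surjective.1 hinj⟩)

omit [Fintype F] in
theorem psi_apply [Finite P] (μ : Fˣ) (σ : F ≃+* F) (a b : F) :
    S.psi μ σ (S.T a b) = S.T (μ * σ a) ((μ * th m (μ : F)) * σ b) := by
  show S.T (μ * σ (S.fst (S.T a b))) ((μ * th m (μ : F)) * σ (S.snd (S.T a b))) = _
  rw [S.fst_T, S.snd_T]

omit [Fintype F] in
theorem alphaF_psi [Finite P] (μ : Fˣ) (σ : F ≃+* F) (a : F) :
    S.alphaF (S.psi μ σ) a = μ * σ a := by
  unfold alphaF; rw [S.psi_apply, S.fst_T]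

/-- Central automorphisms. -/
noncomputable def cen [Finite P] (δ : F →+ F) : MulAut P :=
  MulEquiv.ofBijective
    (MonoidHom.mk' (fun x => S.T (S.fst x) (S.snd x + δ (S.fst x))) (by
      intro x y
      obtain ⟨a, b, rfl⟩ := S.surj x
      obtain ⟨c, d, rfl⟩ := S.surj y
      rw [S.mul, S.fst_T, S.snd_T, S.fst_T, S.snd_T, S.fst_T, S.snd_T, S.mul]
      congr 1
      rw [map_add]; ring))
    (by
      have hinj : Function.Injective (fun x => S.T (S.fst x) (S.snd x + δ (S.fst x))) := by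
        intro x y hxy
        obtain ⟨e1, e2⟩ := S.inj _ _ _ _ hxy
        rw [e1] at e2
        have f2 : S.snd x = S.snd y := add_right_cancel e2
        calc x = S.T (S.fst x) (S.snd x) := S.eq_T x
          _ = S.T (S.fst y) (S.snd y) := by rw [e1, f2]
          _ = y := (S.eq_T y).symm
      exact ⟨hinj, Finite.injective_iff_surjective.1 hinj⟩)

omit [Fintype F] in
theorem cen_apply [Finite P] (δ : F →+ F) (a b : F) :
    S.cen δ (S.T a b) = S.T a (b + δ a) := by
  show S.T (S.fst (S.T a b)) (S.snd (S.T a b) + δ (S.fst (S.T a b))) = _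
  rw [S.fst_T, S.snd_T]

omit [Fintype F] in
theorem alphaF_cen [Finite P] (δ : F →+ F) (a : F) : S.alphaF (S.cen δ) a = a := by
  unfold alphaF; rw [S.cen_apply, S.fst_T]

omit [Fintype F] in
theorem cen_mem_ker [Finite P] (h : SzHyp F m) (δ : F →+ F) : S.cen δ ∈ (S.Alpha h).ker :=
  (S.mem_ker_Alpha h _).2 (S.alphaF_cen δ)

omit [Fintype F] in
theorem cen_injective [Finite P] {δ δ' : F →+ F} (e : S.cen δ = S.cen δ') : δ = δ' := by
  ext a
  have h1 := congrArg (fun φ : MulAut P => φ (S.T a 0)) e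
  simp only [S.cen_apply] at h1
  have h2 := (S.inj _ _ _ _ h1).2
  exact add_left_cancel h2

omit [Fintype F] in
theorem cen_sq [Finite P] (h : SzHyp F m) (δ : F →+ F) : S.cen δ * S.cen δ = 1 := by
  ext x
  obtain ⟨a, b, rfl⟩ := S.surj x
  rw [MulAut.mul_apply, S.cen_apply, S.cen_apply, MulAut.one_apply]
  congr 1
  linear_combination δ a * h.two

omit [Fintype F] in
theorem cen_comm [Finite P] (δ δ' : F →+ F) : S.cen δ * S.cen δ' = S.cen δ' * S.cen δ := by
  ext x
  obtain ⟨a, b, rfl⟩ := S.surj x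
  rw [MulAut.mul_apply, S.cen_apply, S.cen_apply, MulAut.mul_apply, S.cen_apply, S.cen_apply]
  congr 1
  ring

theorem exists_cen_of_mem_ker [Finite P] (h : SzHyp F m) {φ : MulAut P}
    (hφ : φ ∈ (S.Alpha h).ker) : ∃ δ : F →+ F, φ = S.cen δ := by
  have hα := (S.mem_ker_Alpha h φ).1 hφ
  have hκsurj : Function.Surjective (fun c : F => c * th m c) :=
    Finite.injective_iff_surjective.1 (kappa_injective h)
  have hβ : ∀ b, S.betaF φ b = b := by
    intro b
    obtain ⟨a, ha⟩ := hκsurj b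
    have ha' : a * th m a = b := ha
    rw [← ha', S.betaF_kappa h, hα]
  have hδ : ∀ a c, S.deltaF φ (a + c) = S.deltaF φ a + S.deltaF φ c := by
    intro a c
    have h1 := (S.phi_mul_eq h φ a c).2
    rw [hβ, hα, hα] at h1
    exact add_right_cancel h1
  refine ⟨AddMonoidHom.mk' (S.deltaF φ) hδ, ?_⟩
  ext x
  obtain ⟨a, b, rfl⟩ := S.surj x
  rw [S.cen_apply, S.phi_T h, hα, hβ, add_comm]
  rfl

theorem card_ker [Finite P] (h : SzHyp F m) :
    Nat.card (S.Alpha h).ker = Nat.card (F →+ F) := by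
  symm
  apply Nat.card_eq_of_bijective
    (fun δ : F →+ F => (⟨S.cen δ, S.cen_mem_ker h δ⟩ : (S.Alpha h).ker))
  constructor
  · intro δ δ' e
    exact S.cen_injective (congrArg Subtype.val e)
  · rintro ⟨φ, hφ⟩
    obtain ⟨δ, rfl⟩ := S.exists_cen_of_mem_ker h hφ
    exact ⟨δ, rfl⟩

theorem card_range [Finite P] (hF : Fintype.card F = 2 ^ (2 * m + 1)) (h : SzHyp F m) :
    Nat.card (S.Alpha h).range = (2 ^ (2 * m + 1) - 1) * (2 * m + 1) := by
  have e1 : Nat.card (Fˣ × (F ≃+* F)) = Nat.card (S.Alpha h).range := by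
    apply Nat.card_eq_of_bijective
      (fun p : Fˣ × (F ≃+* F) =>
        (⟨S.Alpha h (S.psi p.1 p.2), ⟨_, rfl⟩⟩ : (S.Alpha h).range))
    constructor
    · rintro ⟨μ, σ⟩ ⟨μ', σ'⟩ e
      have e' : S.Alpha h (S.psi μ σ) = S.Alpha h (S.psi μ' σ') := congrArg Subtype.val e
      have key : ∀ a : F, (μ : F) * σ a = μ' * σ' a := by
        intro a
        have h1 := congrArg (fun f : Equiv.Perm F => f a) e'
        simp only [S.Alpha_apply h, S.alphaF_psi] at h1
        exact h1
      have hμ : μ = μ' := by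
        apply Units.ext
        have h1 := key 1
        rwa [map_one, map_one, mul_one, mul_one] at h1
      subst hμ
      have hσ : σ = σ' := by
        ext a
        exact mul_left_cancel₀ μ.ne_zero (key a)
      rw [hσ]
    · rintro ⟨_, ⟨φ, rfl⟩⟩
      obtain ⟨μ, σ, hμσ⟩ := S.alphaF_semilinear hF h φ
      refine ⟨(μ, σ), Subtype.ext (Equiv.ext fun a => ?_)⟩
      show S.alphaF (S.psi μ σ) a = S.alphaF φ a
      rw [S.alphaF_psi, hμσ]
  rw [← e1, Nat.card_prod, Nat.card_units, Nat.card_eq_fintype_card, hF,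
    card_ringAut_of_card hF (by omega)]

end SuzPar

theorem card_addHom_field {n : ℕ} (hF : Fintype.card F = 2 ^ n) (h2 : (2 : F) = 0) :
    Nat.card (F →+ F) = 2 ^ (n ^ 2) := by
  have hchar : CharP F 2 := CharTwo.of_one_ne_zero_of_two_eq_zero one_ne_zero h2
  let _ : Algebra (ZMod 2) F := ZMod.algebra F 2
  have hfin : Module.finrank (ZMod 2) F = n := by
    have h1 := Module.card_eq_pow_finrank (K := ZMod 2) (V := F)
    rw [hF, ZMod.card] at h1
    exact (Nat.pow_right_injective (le_refl 2) h1).symm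
  have e1 : Nat.card (F →+ F) = Nat.card (F →ₗ[ZMod 2] F) :=
    Nat.card_congr (AddMonoidHom.toZModLinearMapEquiv 2).toEquiv
  have e2 : Nat.card (Fin (Module.finrank (ZMod 2) F) → F) = Nat.card (F →ₗ[ZMod 2] F) :=
    Nat.card_congr ((Module.finBasis (ZMod 2) F).constr (ZMod 2)).toEquiv
  rw [e1, ← e2, Nat.card_fun, Nat.card_eq_fintype_card, hF, Nat.card_fin, hfin, ← pow_mul,
    pow_two]

/-- The automorphism group of a group parametrised like the Sylow 2-subgroup of `Sz(q)`. -/
theorem aut_structure {m : ℕ} {P : Type*} [Group P] [Finite P] (S : SuzPar F m P)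
    (hF : Fintype.card F = 2 ^ (2 * m + 1)) (h : SzHyp F m) :
    Cfsg.IsElementaryAbelian 2 (Cfsg.pCore 2 (MulAut P)) ∧
      Nat.card ↥(Cfsg.pCore 2 (MulAut P)) = 2 ^ ((2 * m + 1) ^ 2) ∧
      Nat.card (MulAut P) = 2 ^ ((2 * m + 1) ^ 2) * ((2 * m + 1) * (2 ^ (2 * m + 1) - 1)) := by
  have hker_card : Nat.card (S.Alpha h).ker = 2 ^ ((2 * m + 1) ^ 2) := by
    rw [S.card_ker h, card_addHom_field hF h.two]
  have hrange_card := S.card_range hF h
  have hodd : Odd ((2 ^ (2 * m + 1) - 1) * (2 * m + 1)) := by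
    refine Odd.mul ?_ ⟨m, rfl⟩
    exact Nat.Even.sub_odd Nat.one_le_two_pow ((Nat.even_pow.2 ⟨even_two, by omega⟩)) odd_one
  have hcore : Cfsg.pCore 2 (MulAut P) = (S.Alpha h).ker := by
    unfold Cfsg.pCore
    apply le_antisymm
    · apply sSup_le
      rintro N ⟨-, hNp⟩ φ hφ
      obtain ⟨k, hk⟩ := hNp ⟨φ, hφ⟩
      have hk' : φ ^ 2 ^ k = 1 := by
        have h1 := congrArg Subtype.val hk
        simpa using h1
      rw [MonoidHom.mem_ker]
      have hr : (⟨S.Alpha h φ, ⟨φ, rfl⟩⟩ : (S.Alpha h).range) ^ 2 ^ k = 1 := by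
        apply Subtype.ext
        rw [SubmonoidClass.coe_pow]
        show (S.Alpha h φ) ^ 2 ^ k = 1
        rw [← map_pow, hk', map_one]
      have hfin : Finite (S.Alpha h).range :=
        Nat.finite_of_card_ne_zero (by rw [hrange_card]; exact hodd.pos.ne')
      have h1 : orderOf (⟨S.Alpha h φ, ⟨φ, rfl⟩⟩ : (S.Alpha h).range) ∣ 2 ^ k :=
        orderOf_dvd_of_pow_eq_one hr
      have h2 : orderOf (⟨S.Alpha h φ, ⟨φ, rfl⟩⟩ : (S.Alpha h).range) ∣
          Nat.card (S.Alpha h).range := orderOf_dvd_natCard _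
      rw [hrange_card] at h2
      have hcop : Nat.Coprime (2 ^ k) ((2 ^ (2 * m + 1) - 1) * (2 * m + 1)) :=
        Nat.Coprime.pow_left k (Nat.coprime_two_left.2 hodd)
      have h3 : orderOf (⟨S.Alpha h φ, ⟨φ, rfl⟩⟩ : (S.Alpha h).range) = 1 :=
        Nat.dvd_one.1 (hcop ▸ Nat.dvd_gcd h1 h2)
      exact congrArg Subtype.val (orderOf_eq_one_iff.1 h3)
    · apply le_sSup
      refine ⟨inferInstance, ?_⟩
      rintro ⟨φ, hφ⟩
      refine ⟨1, ?_⟩
      obtain ⟨δ, rfl⟩ := S.exists_cen_of_mem_ker h hφ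
      apply Subtype.ext
      rw [pow_one, SubmonoidClass.coe_pow, pow_two]
      exact S.cen_sq h δ
  refine ⟨?_, ?_, ?_⟩
  · rw [hcore]
    refine ⟨⟨⟨fun a b => Subtype.ext ?_⟩⟩, fun a ha => ?_⟩
    · obtain ⟨δ, hδ⟩ := S.exists_cen_of_mem_ker h a.2
      obtain ⟨δ', hδ'⟩ := S.exists_cen_of_mem_ker h b.2
      show (a : MulAut P) * (b : MulAut P) = (b : MulAut P) * (a : MulAut P)
      rw [hδ, hδ']
      exact S.cen_comm δ δ'
    · obtain ⟨δ, rfl⟩ := S.exists_cen_of_mem_ker h ha
      rw [pow_two]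
      exact S.cen_sq h δ
  · rw [hcore, hker_card]
  · rw [Subgroup.card_eq_card_quotient_mul_card_subgroup (S.Alpha h).ker,
      Nat.card_congr (QuotientGroup.quotientKerEquivRange (S.Alpha h)).toEquiv, hrange_card,
      hker_card]
    ring

end Cfsg.Agent.Lib.helper8
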