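/-
A Sylow 2-subgroup of the Suzuki group (Lie-type model) carries the standard parametrisation.
-/
import Cfsg.Agent.Lib.helper8.SzSylAut2
import Cfsg.Agent.Lib.helper8.SzBin8

set_option autoImplicit false

namespace Cfsg.Agent.Lib.helper8

open Cfsg.Agent.Lib.helper44 (szIso)

variable {F : Type*} [Field F] [Fintype F]

theorem nonempty_suzPar_of_sylow {S : Type*} [Group S] {m : ℕ} (hm : 1 ≤ m)
    (hF : Fintype.card F = 2 ^ (2 * m + 1)) (P : Sylow 2 ↥(Cfsg.Lie.Sz F (2 ^ (m + 1))))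
    (e : S ≃* ↥(P : Subgroup ↥(Cfsg.Lie.Sz F (2 ^ (m + 1))))) : Nonempty (SuzPar F m S) := by
  have h := szHyp_of_card hF
  obtain ⟨k, hk⟩ := sylow_lie_conj hm hF P
  have hmem : ∀ a b : F, szIso hm hF (k⁻¹ * gT h a b * k) ∈
      (P : Subgroup ↥(Cfsg.Lie.Sz F (2 ^ (m + 1)))) := by
    intro a b
    rw [hk]
    have e1 : k * (k⁻¹ * gT h a b * k) * k⁻¹ = gT h a b := by group
    rw [e1]; exact gT_mem_subT h a b
  refine ⟨{ T := fun a b => e.symm ⟨szIso hm hF (k⁻¹ * gT h a b * k), hmem a b⟩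
            mul := ?_
            inj := ?_
            surj := ?_ }⟩
  · intro a b c d
    rw [← map_mul]
    congr 1
    apply Subtype.ext
    show szIso hm hF (k⁻¹ * gT h a b * k) * szIso hm hF (k⁻¹ * gT h c d * k) =
      szIso hm hF (k⁻¹ * gT h (a + c) (b + d + th m a * c) * k)
    rw [← map_mul, ← gT_mul]
    congr 1
    group
  · intro a b c d hab
    have h1 := e.symm.injective hab
    have h2 : szIso hm hF (k⁻¹ * gT h a b * k) = szIso hm hF (k⁻¹ * gT h c d * k) :=
      congrArg Subtype.val h1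
    have h3 : k⁻¹ * gT h a b * k = k⁻¹ * gT h c d * k := (szIso hm hF).injective h2
    have h4 : gT h a b = gT h c d := by
      have h5 := congrArg (fun g => k * g * k⁻¹) h3
      simpa [mul_assoc] using h5
    exact gT_inj h h4
  · intro x
    obtain ⟨g, hg⟩ := (szIso hm hF).surjective (e x).1
    have hgP : szIso hm hF g ∈ (P : Subgroup ↥(Cfsg.Lie.Sz F (2 ^ (m + 1)))) := by
      rw [hg]; exact (e x).2
    rw [hk] at hgP
    obtain ⟨a, b, hab⟩ := (mem_subT_iff h _).1 hgP
    refine ⟨a, b, ?_⟩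
    apply e.injective
    rw [MulEquiv.apply_symm_apply]
    apply Subtype.ext
    show (e x).1 = szIso hm hF (k⁻¹ * gT h a b * k)
    rw [← hg, ← hab]
    congr 1
    group

end Cfsg.Agent.Lib.helper8
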