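import Mathlib
import Cfsg.Prelude.Def_OddOrderLocal
import Cfsg.Agent.S1350
import Cfsg.Agent.S1418
import Cfsg.Agent.S1420
import Cfsg.Agent.Lib.helper28.Layer
import Cfsg.Agent.Lib.helper71.BGTenB
import Cfsg.Agent.Lib.helper87.BG1425Main
import Cfsg.Agent.Lib.helper88.BG1376AB

/-!
# S1383 split, piece B2 (`cent_noncyclic`) -- helper8

`E` a complement of `N_σ` in the maximal subgroup `N`, `Q ≤ E` abelian and not cyclic.  Then every
`p`-subgroup of `G` centralizing `Q` is abelian.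
-/

set_option autoImplicit false

namespace Cfsg.Agent.Lib.helper8.TV

open Cfsg Subgroup

variable {G : Type*} [Group G]

/-- An abelian non-cyclic subgroup of a finite group of odd order contains an elementary abelian
subgroup of order `r ^ 2` for some prime `r`. -/
theorem exists_elemAb_of_not_cyclic [Finite G] (hodd : Odd (Nat.card G)) (Q : Subgroup G)
    (hQa : IsMulCommutative ↥Q) (hQc : ¬ IsCyclic ↥Q) :
    ∃ (r : ℕ) (A : Subgroup G), r.Prime ∧ A ≤ Q ∧ IsElementaryAbelian r A ∧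
      Nat.card A = r ^ 2 := by
  have hZ : ¬ IsZGroup ↥Q := by
    intro hZ
    have hnil : Group.IsNilpotent ↥Q := Cfsg.Agent.Lib.helper28.isNilpotent_of_isMulCommutative ↥Q
    exact hQc inferInstance
  rw [isZGroup_iff] at hZ
  push Not at hZ
  obtain ⟨r, hr, S, hS⟩ := hZ
  have hrF : Fact r.Prime := ⟨hr⟩
  have hr2 : r ≠ 2 := by
    rintro rfl
    apply hS
    have hcard : Nat.card (S : Subgroup ↥Q) = 1 := by
      obtain ⟨n, hn⟩ := IsPGroup.iff_card.mp S.isPGroup'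
      have hdvd : Nat.card (S : Subgroup ↥Q) ∣ Nat.card G :=
        (Subgroup.card_subgroup_dvd_card _).trans (Subgroup.card_subgroup_dvd_card Q)
      rcases Nat.eq_zero_or_pos n with h0 | hpos
      · rw [hn, h0, pow_zero]
      · exfalso
        have h2 : 2 ∣ Nat.card G := (dvd_pow_self 2 hpos.ne').trans (hn ▸ hdvd)
        exact (Nat.not_even_iff_odd.mpr hodd) (even_iff_two_dvd.mpr h2)
    have hsub : Subsingleton ↥(S : Subgroup ↥Q) := (Nat.card_eq_one_iff_unique.mp hcard).1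
    exact isCyclic_of_subsingleton
  have hpr : ¬ PRankLE r 1 ↥(S : Subgroup ↥Q) := fun h =>
    hS (Cfsg.Agent.Lib.helper71.BGA.isCyclic_of_prankLE_one r hr2 S.isPGroup' h)
  unfold PRankLE at hpr
  push Not at hpr
  obtain ⟨A₀, hA₀c, hA₀e, hA₀card⟩ := hpr
  have hA₀p : IsPGroup r ↥A₀ := S.isPGroup'.to_subgroup A₀
  obtain ⟨n, hn⟩ := IsPGroup.iff_card.mp hA₀p
  have hn2 : 2 ≤ n := by
    by_contra hlt
    push Not at hlt
    have : r ^ n ≤ r ^ 1 := Nat.pow_le_pow_right hr.pos (by omega)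
    omega
  obtain ⟨K, hK⟩ := Sylow.exists_subgroup_card_pow_prime (G := ↥A₀) r (n := 2)
    (by rw [hn]; exact pow_dvd_pow r hn2)
  obtain ⟨f, hf⟩ : ∃ f : ↥A₀ →* G, f = Q.subtype.comp ((S : Subgroup ↥Q).subtype.comp A₀.subtype) :=
    ⟨_, rfl⟩
  have hfinj : Function.Injective f := by
    rw [hf]
    intro a b hab
    have h1 : ((a : ↥(S : Subgroup ↥Q)) : G) = ((b : ↥(S : Subgroup ↥Q)) : G) := hab
    exact Subtype.ext (Subtype.ext (Subtype.ext h1))
  refine ⟨r, K.map f, hr, ?_, ⟨⟨⟨?_⟩⟩, ?_⟩, ?_⟩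
  · rintro x ⟨k, -, rfl⟩
    rw [hf]
    exact ((k : ↥(S : Subgroup ↥Q)) : ↥Q).2
  · rintro ⟨x, k, hk, rfl⟩ ⟨y, l, hl, rfl⟩
    apply Subtype.ext
    show f k * f l = f l * f k
    rw [← map_mul, ← map_mul]
    congr 1
    have := hA₀c
    exact mul_comm' k l
  · rintro x ⟨k, -, rfl⟩
    rw [← map_pow]
    have h1 : (k : ↥(S : Subgroup ↥Q)) ^ r = 1 := hA₀e _ k.2
    have h2 : k ^ r = 1 := Subtype.ext (by simpa using h1)
    rw [h2, map_one]
  · rw [Subgroup.card_map_of_injective hfinj, hK]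

/-- **B2** -/
theorem cent_noncyclic [Finite G] (hG : IsMinSimpleOddOrder G) (N : Subgroup G) (hN : IsCoatom N)
    (E : Subgroup G) (hE : IsComplIn E (sigmaCore N) N) (Q : Subgroup G) (hQE : Q ≤ E)
    (hQa : IsMulCommutative ↥Q) (hQc : ¬ IsCyclic ↥Q) (p : ℕ) [Fact p.Prime] (P : Subgroup G)
    (hP : IsPGroup p ↥P) (hPQ : ∀ a ∈ P, ∀ b ∈ Q, a * b = b * a) : IsMulCommutative ↥P := by
  obtain ⟨hodd, -, -, -⟩ := id hG
  obtain ⟨r, A, hr, hAQ, hAel, hAcard⟩ := exists_elemAb_of_not_cyclic hodd Q hQa hQc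
  have hrF : Fact r.Prime := ⟨hr⟩
  have hAE : A ≤ E := hAQ.trans hQE
  obtain ⟨a, haA, ha1⟩ : ∃ a ∈ A, a ≠ 1 := by
    by_contra hcon
    push Not at hcon
    have hbot : A = ⊥ := (Subgroup.eq_bot_iff_forall A).mpr hcon
    rw [hbot, Subgroup.card_bot] at hAcard
    have := hr.one_lt
    have h2 : 1 < r ^ 2 := Nat.one_lt_pow (by norm_num) this
    omega
  have hao : orderOf a = r := orderOf_eq_prime (hAel.2 a haA) ha1
  have hrσ : r ∉ sigma N :=
    Cfsg.Agent.Lib.helper88.BG1376.compl_prime_not_sigma hG N hN E hE a (hAE haA) r hr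
      (by rw [hao])
  have hτ : r ∈ tau2 N :=
    Cfsg.Agent.Lib.helper87.BG133.mem_tau2_of hG N hN hr hrσ (hAE.trans hE.1) hAel hAcard
  obtain ⟨-, ⟨hcent, hNE, -⟩, -⟩ :=
    Cfsg.Agent.S1418.result hG N hN E hE r hτ A ⟨hAE, hAel, hAcard⟩
  have hPE : P ≤ E := by
    intro x hx
    rw [← hNE]
    apply hcent
    rw [mem_centralizer_iff]
    intro y hy
    exact (hPQ x hx y (hAQ hy)).symm
  obtain ⟨h1, -⟩ := Cfsg.Agent.S1420.result hG N hN E hE
  apply h1 P (hPE.trans hE.1) hP.isNilpotent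
  intro q hq hqd
  have hqF : Fact q.Prime := ⟨hq⟩
  obtain ⟨x, hx⟩ := exists_prime_orderOf_dvd_card' (G := ↥P) q hqd
  have hxo : orderOf (x : G) = q := by rw [Subgroup.orderOf_coe, hx]
  exact Cfsg.Agent.Lib.helper88.BG1376.compl_prime_not_sigma hG N hN E hE (x : G) (hPE x.2) q hq
    (by rw [hxo])

end Cfsg.Agent.Lib.helper8.TV
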