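/-
Even-degree Zassenhaus set-up with an abelian regular normal 2-subgroup `U` of a point stabiliser:
basic facts (involutions have one fixed point, two-point stabiliser inverted by `v`, ...).
-/
import Mathlib

set_option autoImplicit false

namespace Cfsg.Agent.Lib.helper8

open MulAction

variable {G Ω : Type*} [Group G] [MulAction G Ω]

/-- In a group where only `1` fixes three points, acting on a finite set of odd size, every
involution has exactly one fixed point. -/
theorem zev_invol_fix [Finite Ω]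
    (h3 : ∀ g : G, ∀ x y z : Ω, x ≠ y → y ≠ z → x ≠ z → g • x = x → g • y = y → g • z = z → g = 1)
    (hodd : Odd (Nat.card Ω)) {s : G} (hs1 : s ≠ 1) (hs2 : s * s = 1) :
    ∃ p : Ω, s • p = p ∧ ∀ p', s • p' = p' → p' = p := by
  have : Fact (Nat.Prime 2) := ⟨Nat.prime_two⟩
  have hord : orderOf s = 2 := by
    refine orderOf_eq_prime ?_ hs1
    rw [pow_two, hs2]
  have hp : IsPGroup 2 (Subgroup.zpowers s) :=
    IsPGroup.of_card (n := 1) (by rw [Nat.card_zpowers, hord, pow_one])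
  have hmod := hp.card_modEq_card_fixedPoints Ω
  have heq : fixedPoints (Subgroup.zpowers s) Ω = fixedBy Ω s := by
    ext x
    simp only [mem_fixedPoints, mem_fixedBy]
    constructor
    · intro h; exact h ⟨s, Subgroup.mem_zpowers s⟩
    · rintro h ⟨_, ⟨j, rfl⟩⟩
      exact mem_fixedBy_zpow h j
  rw [heq] at hmod
  have hoddF : Odd (Nat.card (fixedBy Ω s)) := by
    rw [Nat.odd_iff] at hodd ⊢
    have := hmod
    unfold Nat.ModEq at this
    omega
  have hne : (fixedBy Ω s).Nonempty := by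
    by_contra hcon
    rw [Set.not_nonempty_iff_eq_empty] at hcon
    rw [hcon] at hoddF
    simp at hoddF
  obtain ⟨p, hp⟩ := hne
  refine ⟨p, hp, ?_⟩
  intro p' hp'
  by_contra hne'
  have h2 : 2 < (fixedBy Ω s).ncard := by
    have h1 : 1 < (fixedBy Ω s).ncard := by
      rw [Set.one_lt_ncard_iff]
      exact ⟨p', p, hp', hp, hne'⟩
    rw [Nat.card_coe_set_eq] at hoddF
    rcases hoddF with ⟨m, hm⟩
    omega
  rw [Set.two_lt_ncard_iff] at h2
  obtain ⟨x, y, z, hx, hy, hz, hxy, hxz, hyz⟩ := h2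
  exact hs1 (h3 s x y z hxy hyz hxz hx hy hz)

/-- Two involutions whose product has odd order are conjugate (explicit conjugator). -/
theorem zev_conj_of_odd {s t : G} (hs : s * s = 1) (ht : t * t = 1) {l : ℕ}
    (hl : (s * t) ^ (2 * l + 1) = 1) :
    (s * t) ^ (l + 1) * t * ((s * t) ^ (l + 1))⁻¹ = s := by
  have hti : t⁻¹ = t := inv_eq_of_mul_eq_one_right ht
  have hsi : s⁻¹ = s := inv_eq_of_mul_eq_one_right hs
  have h1 : ∀ n : ℕ, t * ((s * t) ^ n)⁻¹ = (s * t) ^ n * t := by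
    intro n
    induction n with
    | zero => simp
    | succ n ih =>
      rw [pow_succ, mul_inv_rev, ← mul_assoc, mul_inv_rev, hti, hsi, ← mul_assoc, ht, one_mul]
      have : s * ((s * t) ^ n)⁻¹ = (s * t) ^ n * (s * t) * t := by
        have h2 : s * ((s * t) ^ n)⁻¹ = s * t * (t * ((s * t) ^ n)⁻¹) := by
          rw [mul_assoc s t, ← mul_assoc t t, ht, one_mul]
        rw [h2, ih, ← mul_assoc, ← pow_succ', pow_succ]
      exact this
  rw [mul_assoc, h1, ← mul_assoc, ← pow_add]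
  have : l + 1 + (l + 1) = (2 * l + 1) + 1 := by ring
  rw [this, pow_succ, hl, one_mul, mul_assoc, ht, mul_one]


/-- The two-point stabiliser of `a` and `v • a`. -/
def zevH (G : Type*) {Ω : Type*} [Group G] [MulAction G Ω] (a : Ω) (v : G) : Subgroup G :=
  stabilizer G a ⊓ stabilizer G (v • a)

theorem mem_zevH {a : Ω} {v g : G} : g ∈ zevH G a v ↔ g • a = a ∧ g • (v • a) = v • a := by
  simp [zevH, Subgroup.mem_inf, mem_stabilizer_iff]

/-- Hypotheses of the even abelian Zassenhaus set-up. -/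
structure ZEv (U : Subgroup G) (a : Ω) (v : G) : Prop where
  h3 : ∀ g : G, ∀ x y z : Ω, x ≠ y → y ≠ z → x ≠ z → g • x = x → g • y = y → g • z = z → g = 1
  fixU : ∀ u ∈ U, u • a = a
  nU : ∀ h : G, h • a = a → ∀ u ∈ U, h * u * h⁻¹ ∈ U
  reg : ∀ c d : Ω, c ≠ a → d ≠ a → ∃ u ∈ U, u • c = d
  regu : ∀ u ∈ U, ∀ c : Ω, c ≠ a → u • c = c → u = 1
  ab : ∀ u ∈ U, ∀ u' ∈ U, u * u' = u' * u
  v2 : v * v = 1
  va : v • a ≠ a
  inv1 : ∀ g : G, g * g = 1 → g ≠ 1 → ∃ p : Ω, g • p = p ∧ ∀ p', g • p' = p' → p' = p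

namespace ZEv

variable {U : Subgroup G} {a : Ω} {v : G}

theorem vb (hz : ZEv U a v) : v • v • a = a := by
  rw [← mul_smul, hz.v2, one_smul]

theorem v_inv (hz : ZEv U a v) : v⁻¹ = v := inv_eq_of_mul_eq_one_right hz.v2

theorem v1 (hz : ZEv U a v) : v ≠ 1 := by
  rintro rfl
  exact hz.va (one_smul _ _)

theorem vvx (hz : ZEv U a v) (x : Ω) : v • v • x = x := by
  rw [← mul_smul, hz.v2, one_smul]

/-- The unique fixed point of `v`. -/
theorem exists_c (hz : ZEv U a v) :
    ∃ c : Ω, v • c = c ∧ (∀ p, v • p = p → p = c) ∧ c ≠ a ∧ c ≠ v • a := by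
  obtain ⟨c, hc, hu⟩ := hz.inv1 v hz.v2 hz.v1
  refine ⟨c, hc, hu, ?_, ?_⟩
  · rintro rfl
    exact hz.va hc
  · intro h
    rw [h, hz.vb] at hc
    exact hz.va hc.symm

theorem v_conj_mem (hz : ZEv U a v) {k : G} (hk : k ∈ zevH G a v) : v * k * v ∈ zevH G a v := by
  rw [mem_zevH] at hk ⊢
  constructor
  · rw [mul_smul, mul_smul, hk.2, hz.vb]
  · rw [mul_smul, mul_smul, hz.vb, hk.1]

theorem H_cent (hz : ZEv U a v) {k : G} (hk : k ∈ zevH G a v) (hkv : k * v = v * k) : k = 1 := by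
  obtain ⟨c, hc, hu, hca, hcb⟩ := hz.exists_c
  rw [mem_zevH] at hk
  have h1 : k • c = c := by
    apply hu
    rw [← mul_smul, ← hkv, mul_smul, hc]
  exact hz.h3 k a (v • a) c (Ne.symm hz.va) (Ne.symm hcb) (Ne.symm hca) hk.1 hk.2 h1

/-- `v` inverts the two-point stabiliser. -/
theorem v_inv_H [Finite G] (hz : ZEv U a v) {h : G} (hh : h ∈ zevH G a v) : v * h * v = h⁻¹ := by
  let φ : zevH G a v → zevH G a v := fun k =>
    ⟨v * k * v * (k : G)⁻¹, Subgroup.mul_mem _ (hz.v_conj_mem k.2) (Subgroup.inv_mem _ k.2)⟩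
  have hinj : Function.Injective φ := by
    intro k k' hkk
    have h1 : v * (k : G) * v * (k : G)⁻¹ = v * (k' : G) * v * (k' : G)⁻¹ := congrArg Subtype.val hkk
    have h2 : (k : G) * v * (k : G)⁻¹ = (k' : G) * v * (k' : G)⁻¹ := by
      have := congrArg (fun x => v⁻¹ * x) h1
      simpa [mul_assoc] using this
    have h3 : ((k' : G)⁻¹ * (k : G)) * v = v * ((k' : G)⁻¹ * (k : G)) := by
      have := congrArg (fun x => (k' : G)⁻¹ * x * (k : G)) h2
      simp only [mul_assoc, inv_mul_cancel, mul_one, inv_mul_cancel_left] at this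
      rw [mul_assoc, this]
    have h4 := hz.H_cent (Subgroup.mul_mem _ (Subgroup.inv_mem _ k'.2) k.2) h3
    apply Subtype.ext
    exact (inv_mul_eq_one.mp h4).symm
  have hsurj : Function.Surjective φ := Finite.injective_iff_surjective.mp hinj
  obtain ⟨k, hk⟩ := hsurj ⟨h, hh⟩
  have hk' : v * (k : G) * v * (k : G)⁻¹ = h := congrArg Subtype.val hk
  rw [← hk']
  have e1 : v * (v * (k : G) * v * (k : G)⁻¹) * v = (v * v) * (k : G) * v * (k : G)⁻¹ * v := by
    group
  have e2 : (v * (k : G) * v * (k : G)⁻¹)⁻¹ = (k : G) * v⁻¹ * (k : G)⁻¹ * v⁻¹ := by group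
  rw [e1, e2, hz.v2, one_mul, hz.v_inv]

theorem v_mul_H [Finite G] (hz : ZEv U a v) {h : G} (hh : h ∈ zevH G a v) : v * h = h⁻¹ * v := by
  have h1 := hz.v_inv_H hh
  have : v * h * v * v = h⁻¹ * v := by rw [h1]
  rwa [mul_assoc, hz.v2, mul_one] at this

theorem v_smul_H [Finite G] (hz : ZEv U a v) {h : G} (hh : h ∈ zevH G a v) (x : Ω) :
    v • h • x = h⁻¹ • v • x := by
  rw [← mul_smul, hz.v_mul_H hh, mul_smul]

theorem H_comm [Finite G] (hz : ZEv U a v) {h k : G} (hh : h ∈ zevH G a v)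
    (hk : k ∈ zevH G a v) : h * k = k * h := by
  have h1 := hz.v_inv_H (Subgroup.mul_mem _ hh hk)
  have h2 := hz.v_inv_H hh
  have h3 := hz.v_inv_H hk
  have h4 : v * (h * k) * v = (v * h * v) * (v * k * v) := by
    have : (v * h * v) * (v * k * v) = v * h * (v * v) * k * v := by group
    rw [this, hz.v2, mul_one]
    group
  rw [h1, h2, h3, mul_inv_rev] at h4
  have := congrArg (fun x => x⁻¹) h4
  simpa using this

theorem decomp (hz : ZEv U a v) {g : G} (hg : g • a = a) :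
    ∃ u ∈ U, ∃ k ∈ zevH G a v, g = u * k := by
  have hgb : g • (v • a) ≠ a := by
    intro h
    have : g • (v • a) = g • a := h.trans hg.symm
    exact hz.va ((smul_left_cancel_iff g).mp this)
  obtain ⟨u, hu, hub⟩ := hz.reg (v • a) (g • (v • a)) hz.va hgb
  refine ⟨u, hu, u⁻¹ * g, ?_, by group⟩
  rw [mem_zevH]
  constructor
  · rw [mul_smul, hg, inv_smul_eq_iff, hz.fixU u hu]
  · rw [mul_smul, inv_smul_eq_iff, hub]

theorem U_inter_H (hz : ZEv U a v) {u : G} (hu : u ∈ U) (huH : u ∈ zevH G a v) : u = 1 :=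
  hz.regu u hu (v • a) hz.va (mem_zevH.mp huH).2

theorem H_no_invol (hz : ZEv U a v) {k : G} (hk : k ∈ zevH G a v) (hk2 : k * k = 1) : k = 1 := by
  by_contra hne
  obtain ⟨p, -, hu⟩ := hz.inv1 k hk2 hne
  rw [mem_zevH] at hk
  exact hz.va ((hu _ hk.2).trans (hu _ hk.1).symm)

theorem invol_mem_U (hz : ZEv U a v) {g : G} (hg : g • a = a) (hg2 : g * g = 1) : g ∈ U := by
  obtain ⟨u, hu, k, hk, rfl⟩ := hz.decomp hg
  have hka : k • a = a := (mem_zevH.mp hk).1
  have h1 : k * k = (u * (k * u * k⁻¹))⁻¹ := by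
    have : u * k * (u * k) = u * (k * u * k⁻¹) * (k * k) := by group
    rw [this] at hg2
    exact eq_inv_of_mul_eq_one_right hg2
  have h2 : k * k ∈ U := by
    rw [h1]
    exact Subgroup.inv_mem _ (Subgroup.mul_mem _ hu (hz.nU k hka u hu))
  have h3 : k * k = 1 := hz.U_inter_H h2 (Subgroup.mul_mem _ hk hk)
  have h4 : k = 1 := hz.H_no_invol hk h3
  rw [h4, mul_one]
  exact hu

theorem H_free (hz : ZEv U a v) {k u : G} (hk : k ∈ zevH G a v) (hu : u ∈ U) (hu1 : u ≠ 1)
    (hku : k * u * k⁻¹ = u) : k = 1 := by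
  rw [mem_zevH] at hk
  have hku' : k * u = u * k := by
    have := congrArg (fun x => x * k) hku
    simpa [mul_assoc] using this
  have h1 : k • (u • (v • a)) = u • (v • a) := by
    rw [← mul_smul, hku', mul_smul, hk.2]
  have h2 : u • (v • a) ≠ a := by
    intro h
    have : u • (v • a) = u • a := h.trans (hz.fixU u hu).symm
    exact hz.va ((smul_left_cancel_iff u).mp this)
  have h3 : u • (v • a) ≠ v • a := fun h => hu1 (hz.regu u hu (v • a) hz.va h)
  exact hz.h3 k a (v • a) (u • (v • a)) (Ne.symm hz.va) (Ne.symm h3) (Ne.symm h2) hk.1 hk.2 h1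

end ZEv

end Cfsg.Agent.Lib.helper8
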