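/-
Even-degree Zassenhaus set-up with abelian `U`: the element `A ∈ U` carrying `v • a` to the
fixed point of `v`, the involution `B = v A⁻¹ v A v`, and conjugacy of involutions of `U`.
-/
import Cfsg.Agent.Lib.helper8.ZassEven1

set_option autoImplicit false

namespace Cfsg.Agent.Lib.helper8

open MulAction

variable {G Ω : Type*} [Group G] [MulAction G Ω]

/-- The involution `B = v A⁻¹ v A v`. -/
def zevB (v A : G) : G := v * A⁻¹ * v * A * v

namespace ZEv

variable {U : Subgroup G} {a : Ω} {v : G}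

theorem conj_mem' (hz : ZEv U a v) {h u : G} (hh : h • a = a) (hu : u ∈ U) :
    h⁻¹ * u * h ∈ U := by
  have h1 : h⁻¹ • a = a := by rw [inv_smul_eq_iff, hh]
  have := hz.nU h⁻¹ h1 u hu
  rwa [inv_inv] at this

theorem cj_mem (hz : ZEv U a v) {h u : G} (hh : h ∈ zevH G a v) (hu : u ∈ U) :
    MulAut.conj h u ∈ U := by
  rw [MulAut.conj_apply]
  exact hz.nU h (mem_zevH.mp hh).1 u hu

theorem U_eq_of_smul (hz : ZEv U a v) {X Y : G} (hX : X ∈ U) (hY : Y ∈ U)
    (h : X • (v • a) = Y • (v • a)) : X = Y := by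
  have h1 : (Y⁻¹ * X) • (v • a) = v • a := by rw [mul_smul, h, inv_smul_smul]
  have h2 := hz.regu _ (Subgroup.mul_mem _ (Subgroup.inv_mem _ hY) hX) (v • a) hz.va h1
  exact (inv_mul_eq_one.mp h2).symm

theorem zevB_sq (hz : ZEv U a v) (A : G) : zevB v A * zevB v A = 1 := by
  have h1 : zevB v A * zevB v A = v * A⁻¹ * v * A * (v * v) * A⁻¹ * v * A * v := by
    unfold zevB; group
  rw [h1, hz.v2, mul_one]
  have h2 : v * A⁻¹ * v * A * A⁻¹ * v * A * v = v * A⁻¹ * (v * v) * A * v := by group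
  rw [h2, hz.v2, mul_one]
  have h3 : v * A⁻¹ * A * v = v * v := by group
  rw [h3, hz.v2]

theorem zevB_ne_one (hz : ZEv U a v) (A : G) : zevB v A ≠ 1 := by
  intro h
  have h1 : zevB v A = (v * A⁻¹) * v * (v * A⁻¹)⁻¹ := by
    unfold zevB
    rw [mul_inv_rev, inv_inv, hz.v_inv]
    group
  rw [h1] at h
  have h2 : v = 1 := by
    have := congrArg (fun x => (v * A⁻¹)⁻¹ * x * (v * A⁻¹)) h
    simpa [mul_assoc] using this
  exact hz.v1 h2

theorem zevB_fix (hz : ZEv U a v) {c : Ω} {A : G} (hvc : v • c = c) (hAb : A • (v • a) = c) :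
    zevB v A • a = a := by
  unfold zevB
  rw [mul_smul, mul_smul, mul_smul, mul_smul, hAb, hvc, inv_smul_eq_iff.mpr hAb.symm, hz.vb]

theorem zevB_mem (hz : ZEv U a v) {c : Ω} {A : G} (hvc : v • c = c) (hAb : A • (v • a) = c) :
    zevB v A ∈ U :=
  hz.invol_mem_U (hz.zevB_fix hvc hAb) (hz.zevB_sq A)

theorem I1 (hz : ZEv U a v) (A : G) : v * A * v = A * v * zevB v A := by
  have h1 : A * v * zevB v A = A * (v * v) * A⁻¹ * v * A * v := by unfold zevB; group
  rw [h1, hz.v2, mul_one]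
  group

theorem I3 (hz : ZEv U a v) (A : G) : v * A⁻¹ * v = zevB v A * v * A⁻¹ := by
  have h1 : zevB v A * v * A⁻¹ = v * A⁻¹ * v * A * (v * v) * A⁻¹ := by unfold zevB; group
  rw [h1, hz.v2, mul_one]
  group

/-- Every involution of `U` is conjugate to `B` under the two-point stabiliser. -/
theorem conj_invol [Finite G] (hz : ZEv U a v) {c : Ω} {A : G} (hcu : ∀ p, v • p = p → p = c)
    (hca : c ≠ a) (hAb : A • (v • a) = c) {B' : G} (hB' : B' ∈ U)
    (hB1 : B' ≠ 1) (hB2 : B' * B' = 1) : ∃ k ∈ zevH G a v, B' = MulAut.conj k (zevB v A) := by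
  have hB'i : B'⁻¹ = B' := inv_eq_of_mul_eq_one_right hB2
  have hodd : Odd (orderOf (v * B')) := by
    by_contra hev
    rw [Nat.not_odd_iff_even] at hev
    obtain ⟨t, ht⟩ := hev
    have hpos : 0 < orderOf (v * B') := orderOf_pos _
    have ht0 : 0 < t := by omega
    have hz2 : (v * B') ^ t * (v * B') ^ t = 1 := by
      rw [← pow_add, ← ht, pow_orderOf_eq_one]
    have hz1 : (v * B') ^ t ≠ 1 := pow_ne_one_of_lt_orderOf ht0.ne' (by omega)
    have hzi : ((v * B') ^ t)⁻¹ = (v * B') ^ t := inv_eq_of_mul_eq_one_right hz2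
    have hvr : v * (v * B') * v⁻¹ = (v * B')⁻¹ := by
      have : v * (v * B') * v⁻¹ = (v * v) * B' * v⁻¹ := by group
      rw [this, hz.v2, one_mul, mul_inv_rev, hB'i]
    have hBr : B' * (v * B') * B'⁻¹ = (v * B')⁻¹ := by
      have : B' * (v * B') * B'⁻¹ = B' * v := by group
      rw [this, mul_inv_rev, hB'i, hz.v_inv]
    have hvz : v * (v * B') ^ t * v⁻¹ = (v * B') ^ t := by
      rw [← conj_pow, hvr, inv_pow, hzi]
    have hBz : B' * (v * B') ^ t * B'⁻¹ = (v * B') ^ t := by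
      rw [← conj_pow, hBr, inv_pow, hzi]
    have hvz' : v * (v * B') ^ t = (v * B') ^ t * v := mul_inv_eq_iff_eq_mul.mp hvz
    have hBz' : B' * (v * B') ^ t = (v * B') ^ t * B' := mul_inv_eq_iff_eq_mul.mp hBz
    obtain ⟨p, hp, hpu⟩ := hz.inv1 _ hz2 hz1
    have h1 : v • p = p := hpu _ (by rw [← mul_smul, ← hvz', mul_smul, hp])
    have h2 : B' • p = p := hpu _ (by rw [← mul_smul, ← hBz', mul_smul, hp])
    have hpc : p = c := hcu p h1
    have hpa : p = a := by
      by_contra hne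
      exact hB1 (hz.regu B' hB' p hne h2)
    exact hca (hpc.symm.trans hpa)
  obtain ⟨l, hl⟩ := hodd
  have hrl : (v * B') ^ (2 * l + 1) = 1 := by rw [← hl]; exact pow_orderOf_eq_one _
  have hconj := zev_conj_of_odd hz.v2 hB2 hrl
  set d := (v * B') ^ (l + 1) with hd
  have hda : d • a = c := by
    apply hcu
    have : v • d • a = (d * B' * d⁻¹) • d • a := by rw [hconj]
    rw [this, mul_smul, mul_smul, inv_smul_smul, hz.fixU B' hB']
  have hya : (A * v) • a = c := by rw [mul_smul, hAb]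
  have hg0 : ((A * v)⁻¹ * d) • a = a := by rw [mul_smul, hda, inv_smul_eq_iff, hya]
  obtain ⟨u, hu, k, hk, huk⟩ := hz.decomp hg0
  have hka := (mem_zevH.mp hk).1
  have hB : zevB v A = (A * v)⁻¹ * v * (A * v) := by
    unfold zevB
    rw [mul_inv_rev, hz.v_inv]
    group
  have hB3 : zevB v A = (u * k) * B' * (u * k)⁻¹ := by
    calc zevB v A = (A * v)⁻¹ * v * (A * v) := hB
      _ = (A * v)⁻¹ * (d * B' * d⁻¹) * (A * v) := by rw [hconj]
      _ = ((A * v)⁻¹ * d) * B' * ((A * v)⁻¹ * d)⁻¹ := by group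
      _ = (u * k) * B' * (u * k)⁻¹ := by rw [huk]
  have hkB : k * B' * k⁻¹ ∈ U := hz.nU k hka B' hB'
  have hB4 : zevB v A = k * B' * k⁻¹ := by
    rw [hB3]
    have e : (u * k) * B' * (u * k)⁻¹ = u * (k * B' * k⁻¹) * u⁻¹ := by group
    rw [e, hz.ab u hu _ hkB, mul_assoc, mul_inv_cancel, mul_one]
  refine ⟨k⁻¹, Subgroup.inv_mem _ hk, ?_⟩
  rw [MulAut.conj_apply, hB4]
  group

end ZEv

end Cfsg.Agent.Lib.helper8
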