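/-
Even-degree Zassenhaus set-up with abelian `U`: evaluating the structure equation
`v A v = A v B` at points, and the key identity in `U`.
-/
import Cfsg.Agent.Lib.helper8.ZassEven2

set_option autoImplicit false

namespace Cfsg.Agent.Lib.helper8

open MulAction

variable {G Ω : Type*} [Group G] [MulAction G Ω]

namespace ZEv

variable {U : Subgroup G} {a : Ω} {v : G}

theorem H_smul_b {g : G} (hg : g ∈ zevH G a v) : g • (v • a) = v • a := (mem_zevH.mp hg).2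

theorem H_inv_smul_b {g : G} (hg : g ∈ zevH G a v) : g⁻¹ • (v • a) = v • a := by
  rw [inv_smul_eq_iff, H_smul_b hg]

theorem E1 (hz : ZEv U a v) {A : G} (hAU : A ∈ U) :
    v • zevB v A • (v • a) = A⁻¹ • (v • a) := by
  have h1 : zevB v A • (v • a) = v • A⁻¹ • (v • a) := by
    unfold zevB
    rw [mul_smul, mul_smul, mul_smul, mul_smul, hz.vb, hz.fixU A hAU]
  rw [h1, hz.vvx]

theorem E1g [Finite G] (hz : ZEv U a v) {A : G} (hAU : A ∈ U) {g : G} (hg : g ∈ zevH G a v) :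
    v • (MulAut.conj g (zevB v A)) • (v • a) = (MulAut.conj g⁻¹ A⁻¹) • (v • a) := by
  rw [MulAut.conj_apply, MulAut.conj_apply, inv_inv, mul_smul, mul_smul, mul_smul, mul_smul,
    H_inv_smul_b hg, H_smul_b hg, hz.v_smul_H hg, hz.E1 hAU]

theorem C1 [Finite G] (hz : ZEv U a v) {A : G} (hAU : A ∈ U) {g gh : G}
    (hg : g ∈ zevH G a v) (hgh : gh ∈ zevH G a v)
    (hhat : zevB v A * MulAut.conj g (zevB v A) = MulAut.conj gh (zevB v A)) :
    v • (A * MulAut.conj g⁻¹ A⁻¹) • (v • a) = (A * MulAut.conj gh⁻¹ A⁻¹) • (v • a) := by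
  calc v • (A * MulAut.conj g⁻¹ A⁻¹) • (v • a)
      = v • A • ((MulAut.conj g⁻¹ A⁻¹) • (v • a)) := by rw [mul_smul]
    _ = v • A • v • (MulAut.conj g (zevB v A)) • (v • a) := by rw [hz.E1g hAU hg]
    _ = (v * A * v) • (MulAut.conj g (zevB v A)) • (v • a) := by rw [mul_smul, mul_smul]
    _ = (A * v * zevB v A) • (MulAut.conj g (zevB v A)) • (v • a) := by rw [hz.I1]
    _ = A • v • (zevB v A * MulAut.conj g (zevB v A)) • (v • a) := by
        rw [mul_smul, mul_smul, mul_smul]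
    _ = A • v • (MulAut.conj gh (zevB v A)) • (v • a) := by rw [hhat]
    _ = A • (MulAut.conj gh⁻¹ A⁻¹) • (v • a) := by rw [hz.E1g hAU hgh]
    _ = (A * MulAut.conj gh⁻¹ A⁻¹) • (v • a) := by rw [mul_smul]

theorem C2 [Finite G] (hz : ZEv U a v) {c : Ω} {A : G} (hvc : v • c = c)
    (hAb : A • (v • a) = c) {k : G} (hk : k ∈ zevH G a v) :
    v • (A⁻¹ * MulAut.conj k⁻¹ A) • (v • a)
      = zevB v A • v • (A⁻¹ * MulAut.conj k A) • (v • a) := by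
  have h1 : (A⁻¹ * MulAut.conj k A) • (v • a) = A⁻¹ • k • c := by
    rw [MulAut.conj_apply, mul_smul, mul_smul, mul_smul, H_inv_smul_b hk, hAb]
  have h2 : (A⁻¹ * MulAut.conj k⁻¹ A) • (v • a) = A⁻¹ • k⁻¹ • c := by
    rw [MulAut.conj_apply, inv_inv, mul_smul, mul_smul, mul_smul, H_smul_b hk, hAb]
  rw [h1, h2]
  calc v • A⁻¹ • k⁻¹ • c = v • A⁻¹ • k⁻¹ • v • c := by rw [hvc]
    _ = v • A⁻¹ • v • k • c := by rw [hz.v_smul_H hk]
    _ = (v * A⁻¹ * v) • k • c := by rw [mul_smul, mul_smul]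
    _ = (zevB v A * v * A⁻¹) • k • c := by rw [hz.I3]
    _ = zevB v A • v • A⁻¹ • k • c := by rw [mul_smul, mul_smul]

/-- The key identity in `U`. -/
theorem key [Finite G] (hz : ZEv U a v) {c : Ω} {A : G} (hvc : v • c = c) (hAU : A ∈ U)
    (hAb : A • (v • a) = c) {k kh : G} (hk : k ∈ zevH G a v) (hkh : kh ∈ zevH G a v)
    (hhat : zevB v A * MulAut.conj k (zevB v A) = MulAut.conj kh (zevB v A)) :
    MulAut.conj k (A * MulAut.conj (k⁻¹ * kh)⁻¹ A⁻¹)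
      = zevB v A * MulAut.conj k⁻¹ (A * MulAut.conj kh⁻¹ A⁻¹) := by
  have hBU : zevB v A ∈ U := hz.zevB_mem hvc hAb
  have hki : k⁻¹ ∈ zevH G a v := Subgroup.inv_mem _ hk
  have hkhi : kh⁻¹ ∈ zevH G a v := Subgroup.inv_mem _ hkh
  have hkk : k⁻¹ * kh ∈ zevH G a v := Subgroup.mul_mem _ hki hkh
  have hkki : (k⁻¹ * kh)⁻¹ ∈ zevH G a v := Subgroup.inv_mem _ hkk
  have hAi : A⁻¹ ∈ U := Subgroup.inv_mem _ hAU
  -- (iii)
  have hhat' : zevB v A * MulAut.conj k⁻¹ (zevB v A) = MulAut.conj (k⁻¹ * kh) (zevB v A) := by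
    rw [map_mul, MulAut.mul_apply, ← hhat, map_mul, ← MulAut.mul_apply, ← map_mul,
      inv_mul_cancel, map_one, MulAut.one_apply]
    exact hz.ab _ hBU _ (hz.cj_mem hki hBU)
  have h3 := hz.C1 hAU hki hkk hhat'
  rw [inv_inv] at h3
  -- (ii)
  have h2 := hz.C1 hAU hk hkh hhat
  have e2 : (A * MulAut.conj k⁻¹ A⁻¹) • (v • a) = k⁻¹ • (A⁻¹ * MulAut.conj k A) • (v • a) := by
    rw [hz.ab A hAU _ (hz.cj_mem hki hAi)]
    rw [MulAut.conj_apply, MulAut.conj_apply, inv_inv]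
    simp only [mul_smul]
    rw [H_inv_smul_b hk]
  rw [e2, hz.v_smul_H hki, inv_inv] at h2
  -- (i)
  have h1 := hz.C2 hvc hAb hk
  have e1 : (A⁻¹ * MulAut.conj k⁻¹ A) • (v • a) = k⁻¹ • (A * MulAut.conj k A⁻¹) • (v • a) := by
    rw [hz.ab A⁻¹ hAi _ (hz.cj_mem hki hAU)]
    rw [MulAut.conj_apply, MulAut.conj_apply, inv_inv]
    simp only [mul_smul]
    rw [H_inv_smul_b hk]
  rw [e1, hz.v_smul_H hki, inv_inv] at h1
  -- combine
  have hX : MulAut.conj k (A * MulAut.conj (k⁻¹ * kh)⁻¹ A⁻¹) ∈ U :=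
    hz.cj_mem hk (Subgroup.mul_mem _ hAU (hz.cj_mem hkki hAi))
  have hY : zevB v A * MulAut.conj k⁻¹ (A * MulAut.conj kh⁻¹ A⁻¹) ∈ U :=
    Subgroup.mul_mem _ hBU (hz.cj_mem hki (Subgroup.mul_mem _ hAU (hz.cj_mem hkhi hAi)))
  apply hz.U_eq_of_smul hX hY
  have p2 : v • (A⁻¹ * MulAut.conj k A) • (v • a)
      = k⁻¹ • (A * MulAut.conj kh⁻¹ A⁻¹) • (v • a) := by
    rw [← h2, inv_smul_smul]
  calc (MulAut.conj k (A * MulAut.conj (k⁻¹ * kh)⁻¹ A⁻¹)) • (v • a)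
      = k • (A * MulAut.conj (k⁻¹ * kh)⁻¹ A⁻¹) • (v • a) := by
        rw [MulAut.conj_apply, mul_smul, mul_smul, H_inv_smul_b hk]
    _ = k • v • (A * MulAut.conj k A⁻¹) • (v • a) := by rw [h3]
    _ = zevB v A • v • (A⁻¹ * MulAut.conj k A) • (v • a) := h1
    _ = zevB v A • k⁻¹ • (A * MulAut.conj kh⁻¹ A⁻¹) • (v • a) := by rw [p2]
    _ = (zevB v A * MulAut.conj k⁻¹ (A * MulAut.conj kh⁻¹ A⁻¹)) • (v • a) := by
        generalize (A * MulAut.conj kh⁻¹ A⁻¹) = X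
        rw [MulAut.conj_apply, inv_inv, mul_smul, mul_smul, mul_smul, H_smul_b hk]

end ZEv

end Cfsg.Agent.Lib.helper8
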