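/-
Even-degree Zassenhaus set-up with abelian `U`: `A` is an involution, and the structure
equation `v u₀ v = u₀ v u₀` has a unique solution.
-/
import Cfsg.Agent.Lib.helper8.ZassEven3

set_option autoImplicit false

namespace Cfsg.Agent.Lib.helper8

open MulAction

variable {G Ω : Type*} [Group G] [MulAction G Ω]

namespace ZEv

variable {U : Subgroup G} {a : Ω} {v : G}

/-- The element of `U` carrying `v • a` to the fixed point of `v` is an involution. -/
theorem A_sq [Finite G] (hz : ZEv U a v) (h2 : ∀ u ∈ U, ∃ n : ℕ, u ^ 2 ^ n = 1)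
    {c : Ω} {A : G} (hvc : v • c = c) (hcu : ∀ p, v • p = p → p = c) (hca : c ≠ a)
    (hAU : A ∈ U) (hAb : A • (v • a) = c) {k : G} (hk : k ∈ zevH G a v) (hk1 : k ≠ 1) :
    A * A = 1 := by
  have hBU : zevB v A ∈ U := hz.zevB_mem hvc hAb
  have hB2 : zevB v A * zevB v A = 1 := hz.zevB_sq A
  have hB1 : zevB v A ≠ 1 := hz.zevB_ne_one A
  have hBi : (zevB v A)⁻¹ = zevB v A := inv_eq_of_mul_eq_one_right hB2
  have hkB : MulAut.conj k (zevB v A) ∈ U := hz.cj_mem hk hBU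
  have hB1U : zevB v A * MulAut.conj k (zevB v A) ∈ U := Subgroup.mul_mem _ hBU hkB
  have hcomm : Commute (zevB v A) (MulAut.conj k (zevB v A)) := hz.ab _ hBU _ hkB
  have hB1sq : (zevB v A * MulAut.conj k (zevB v A)) * (zevB v A * MulAut.conj k (zevB v A))
      = 1 := by
    rw [← pow_two, hcomm.mul_pow, ← map_pow, pow_two, hB2, map_one, mul_one]
  have hB1ne : zevB v A * MulAut.conj k (zevB v A) ≠ 1 := by
    intro h
    have h' : MulAut.conj k (zevB v A) = zevB v A := by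
      have h0 := eq_inv_of_mul_eq_one_right h
      rw [h0, hBi]
    rw [MulAut.conj_apply] at h'
    exact hk1 (hz.H_free hk hBU hB1 h')
  obtain ⟨kh, hkh, hhat⟩ := hz.conj_invol hcu hca hAb hB1U hB1ne hB1sq
  have hkey := hz.key hvc hAU hAb hk hkh hhat
  have hki : k⁻¹ ∈ zevH G a v := Subgroup.inv_mem _ hk
  have hkhi : kh⁻¹ ∈ zevH G a v := Subgroup.inv_mem _ hkh
  have hkki : (k⁻¹ * kh)⁻¹ ∈ zevH G a v :=
    Subgroup.inv_mem _ (Subgroup.mul_mem _ hki hkh)
  have hAi : A⁻¹ ∈ U := Subgroup.inv_mem _ hAU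
  by_contra hA2
  obtain ⟨n, hn⟩ := h2 A hAU
  obtain ⟨e, -, heq⟩ := (Nat.dvd_prime_pow Nat.prime_two).mp (orderOf_dvd_of_pow_eq_one hn)
  have he2 : 2 ≤ e := by
    by_contra hlt
    have hle : e = 0 ∨ e = 1 := by omega
    rcases hle with rfl | rfl
    · rw [pow_zero, orderOf_eq_one_iff] at heq
      exact hA2 (by rw [heq, one_mul])
    · apply hA2
      rw [← pow_two]
      have := pow_orderOf_eq_one A
      rwa [heq, pow_one] at this
  have hNN : 2 ^ (e - 1) + 2 ^ (e - 1) = orderOf A := by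
    rw [heq, ← two_mul, ← pow_succ']
    congr 1
    omega
  have hi2 : A ^ 2 ^ (e - 1) * A ^ 2 ^ (e - 1) = 1 := by
    rw [← pow_add, hNN, pow_orderOf_eq_one]
  have hNpos : 0 < 2 ^ (e - 1) := by positivity
  have hi1 : A ^ 2 ^ (e - 1) ≠ 1 := pow_ne_one_of_lt_orderOf hNpos.ne' (by omega)
  have hiU : A ^ 2 ^ (e - 1) ∈ U := Subgroup.pow_mem _ hAU _
  have hii : (A ^ 2 ^ (e - 1))⁻¹ = A ^ 2 ^ (e - 1) := inv_eq_of_mul_eq_one_right hi2
  have hBN : zevB v A ^ 2 ^ (e - 1) = 1 := by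
    have : 2 ^ (e - 1) = 2 * 2 ^ (e - 2) := by
      rw [← pow_succ']
      congr 1
      omega
    rw [this, pow_mul, pow_two, hB2, one_pow]
  generalize hi : A ^ 2 ^ (e - 1) = i at hi2 hi1 hiU hii
  have hL : (MulAut.conj k (A * MulAut.conj (k⁻¹ * kh)⁻¹ A⁻¹)) ^ 2 ^ (e - 1)
      = MulAut.conj k (i * MulAut.conj (k⁻¹ * kh)⁻¹ i) := by
    have hc : Commute A (MulAut.conj (k⁻¹ * kh)⁻¹ A⁻¹) := hz.ab A hAU _ (hz.cj_mem hkki hAi)
    rw [← map_pow, hc.mul_pow, ← map_pow, inv_pow, hi, hii]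
  have hR : (zevB v A * MulAut.conj k⁻¹ (A * MulAut.conj kh⁻¹ A⁻¹)) ^ 2 ^ (e - 1)
      = MulAut.conj k⁻¹ (i * MulAut.conj kh⁻¹ i) := by
    have hc1 : Commute (zevB v A) (MulAut.conj k⁻¹ (A * MulAut.conj kh⁻¹ A⁻¹)) :=
      hz.ab _ hBU _ (hz.cj_mem hki (Subgroup.mul_mem _ hAU (hz.cj_mem hkhi hAi)))
    have hc2 : Commute A (MulAut.conj kh⁻¹ A⁻¹) := hz.ab A hAU _ (hz.cj_mem hkhi hAi)
    rw [hc1.mul_pow, hBN, one_mul, ← map_pow, hc2.mul_pow, ← map_pow, inv_pow, hi, hii]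
  have hpow : MulAut.conj k (i * MulAut.conj (k⁻¹ * kh)⁻¹ i)
      = MulAut.conj k⁻¹ (i * MulAut.conj kh⁻¹ i) := by
    rw [← hL, ← hR, hkey]
  -- `i * σ i = τ i`
  obtain ⟨k3, hk3, hik3⟩ := hz.conj_invol hcu hca hAb hiU hi1 hi2
  have hR' : i * MulAut.conj k i = MulAut.conj kh i := by
    have c1 : MulAut.conj k (MulAut.conj k3 (zevB v A))
        = MulAut.conj k3 (MulAut.conj k (zevB v A)) := by
      rw [← MulAut.mul_apply, ← MulAut.mul_apply, ← map_mul, ← map_mul, hz.H_comm hk hk3]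
    have c2 : MulAut.conj kh (MulAut.conj k3 (zevB v A))
        = MulAut.conj k3 (MulAut.conj kh (zevB v A)) := by
      rw [← MulAut.mul_apply, ← MulAut.mul_apply, ← map_mul, ← map_mul, hz.H_comm hkh hk3]
    rw [hik3, c1, c2, ← map_mul, hhat]
  have hst : ∀ x : G, MulAut.conj kh (MulAut.conj k x) = MulAut.conj k (MulAut.conj kh x) := by
    intro x
    rw [← MulAut.mul_apply, ← MulAut.mul_apply, ← map_mul, ← map_mul, hz.H_comm hkh hk]
  have hkinv : ∀ x : G, MulAut.conj k (MulAut.conj k⁻¹ x) = x := by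
    intro x
    rw [← MulAut.mul_apply, ← map_mul, mul_inv_cancel, map_one, MulAut.one_apply]
  have hkhinv : ∀ x : G, MulAut.conj kh (MulAut.conj kh⁻¹ x) = x := by
    intro x
    rw [← MulAut.mul_apply, ← map_mul, mul_inv_cancel, map_one, MulAut.one_apply]
  have hrho : ∀ x : G, MulAut.conj (k⁻¹ * kh)⁻¹ x = MulAut.conj kh⁻¹ (MulAut.conj k x) := by
    intro x
    rw [← MulAut.mul_apply, ← map_mul, mul_inv_rev, inv_inv]
  rw [hrho, map_mul, map_mul] at hpow
  have hpow2 := congrArg (fun x => MulAut.conj kh (MulAut.conj k x)) hpow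
  simp only [map_mul, hkinv] at hpow2
  rw [hkhinv] at hpow2
  -- simplify the left side
  have e1 : MulAut.conj kh (MulAut.conj k (MulAut.conj k (MulAut.conj kh⁻¹ (MulAut.conj k i))))
      = MulAut.conj k (MulAut.conj k (MulAut.conj k i)) := by
    rw [hst, hst, hkhinv]
  have e2 : MulAut.conj kh (MulAut.conj k (MulAut.conj k i))
      = MulAut.conj k (MulAut.conj k i) * MulAut.conj k (MulAut.conj k (MulAut.conj k i)) := by
    rw [hst, hst, ← hR', map_mul, map_mul]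
  rw [e1, e2, ← hR'] at hpow2
  have e3 : MulAut.conj k (MulAut.conj k (MulAut.conj k i))
      * MulAut.conj k (MulAut.conj k (MulAut.conj k i)) = 1 := by
    rw [← map_mul, ← map_mul, ← map_mul, hi2, map_one, map_one, map_one]
  have hci : Commute i (MulAut.conj k i) := hz.ab i hiU _ (hz.cj_mem hk hiU)
  have e4 : i * MulAut.conj k i * i = MulAut.conj k i := by
    rw [hci.eq, mul_assoc, hi2, mul_one]
  rw [mul_assoc, e3, mul_one, e4] at hpow2
  have e5 : MulAut.conj k i = i := (MulAut.conj k).injective hpow2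
  rw [MulAut.conj_apply] at e5
  exact hk1 (hz.H_free hk hiU hi1 e5)

/-- The structure equation `v u₀ v = u₀ v u₀` has exactly one non-trivial solution in `U`. -/
theorem main [Finite G] (hz : ZEv U a v) (h2 : ∀ u ∈ U, ∃ n : ℕ, u ^ 2 ^ n = 1)
    (hH : ∃ k ∈ zevH G a v, k ≠ 1) :
    ∃! u₀ : G, u₀ ∈ U ∧ u₀ ≠ 1 ∧ v * u₀ * v = u₀ * v * u₀ := by
  obtain ⟨c, hvc, hcu, hca, hcb⟩ := hz.exists_c
  obtain ⟨A, hAU, hAb⟩ := hz.reg (v • a) c hz.va hca
  obtain ⟨k, hk, hk1⟩ := hH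
  have hA2 : A * A = 1 := hz.A_sq h2 hvc hcu hca hAU hAb hk hk1
  have hAi : A⁻¹ = A := inv_eq_of_mul_eq_one_right hA2
  have hA1 : A ≠ 1 := by
    rintro rfl
    rw [one_smul] at hAb
    exact hcb hAb.symm
  have hBU : zevB v A ∈ U := hz.zevB_mem hvc hAb
  have hBA : zevB v A = A := by
    apply hz.U_eq_of_smul hBU hAU
    have h1 := hz.E1 hAU
    rw [hAi, hAb] at h1
    have h3 : zevB v A • (v • a) = v • c := by
      rw [← h1, hz.vvx]
    rw [h3, hvc, hAb]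
  refine ⟨A, ⟨hAU, hA1, ?_⟩, ?_⟩
  · have := hz.I1 A
    rwa [hBA] at this
  · rintro u ⟨huU, hu1, hu⟩
    apply hz.U_eq_of_smul huU hAU
    rw [hAb]
    apply hcu
    have h1 : (v * u * v) • a = v • u • (v • a) := by rw [mul_smul, mul_smul]
    have h2' : (u * v * u) • a = u • (v • a) := by rw [mul_smul, mul_smul, hz.fixU u huU]
    rw [← h1, hu, h2']

end ZEv

end Cfsg.Agent.Lib.helper8
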